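import Cfsg.Agent.Lib.HN.Elem

/-! A chain checked level by level, and a level by ranges of its representatives. -/

set_option autoImplicit false
set_option maxRecDepth 100000

namespace Cfsg.Agent.HN

noncomputable section

theorem allLo_of_forall {f : ℕ → Bool} : ∀ {n : ℕ}, (∀ i < n, f i = true) → allLo f n = true := by
  intro n
  induction n with
  | zero => intro _; rfl
  | succ n ih =>
    intro h
    show Bool.rec false (allLo f n) (f n) = true
    rw [h n (Nat.lt_succ_self n)]
    exact ih fun i hi => h i (hi.trans (Nat.lt_succ_self n))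

/-- The checks on a range of representatives of a level. -/
def okRows (L : SLev) (rest : List SLev) (base len : ℕ) : Bool :=
  allLo (fun i => L.okTree (Nat.add base i) &&
    allLo (fun g => codeOK (L :: rest) (L.hint (Nat.add base i) g) &&
      eqH (L.rep' (Nat.add base i) ++ L.gen g) (prodW (L :: rest) (L.hint (Nat.add base i) g)))
      L.gens.length &&
    letOK 5 (L.rep' (Nat.add base i))) len

/-- The checks on a level other than those on its representatives. -/
def okHead (L : SLev) (rest : List SLev) : Bool :=
  Nat.blt 0 L.len && Nat.blt L.len 4096 && Nat.blt L.pt 1408 && Nat.beq (popc L.ptBits 1408) L.len &&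
    Nat.beq L.src.length (topGens rest).length &&
    allLo (fun s =>
      let ig := L.src.getD s (0, 0)
      let g' := unp ((topGens rest).getD s 0)
      Nat.blt ig.1 L.len && Nat.blt ig.2 L.gens.length && letOK 5 g' &&
        Nat.beq (lact g' L.pt) L.pt &&
        eqH g' (L.rep' ig.1 ++ L.gen ig.2 ++ winv iv5 (L.rep' (Nat.land (L.hint ig.1 ig.2) 4095))))
      L.src.length

theorem schainOK_cons {L : SLev} {rest : List SLev} (h : okHead L rest = true)
    (hr : ∀ i < L.len, ∃ b n, okRows L rest b n = true ∧ b ≤ i ∧ i < b + n)
    (ht : schainOK rest = true) : schainOK (L :: rest) = true := by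
  simp only [okHead, Bool.and_eq_true] at h
  show (_ && schainOK rest) = true
  simp only [Bool.and_eq_true]
  refine ⟨⟨⟨⟨⟨⟨⟨h.1.1.1.1.1, h.1.1.1.1.2⟩, h.1.1.1.2⟩, ?_⟩, h.1.1.2⟩, h.1.2⟩, h.2⟩, ht⟩
  refine allLo_of_forall fun i hi => ?_
  obtain ⟨b, n, ho, h1, h2⟩ := hr i hi
  have := allLo_spec ho (i := i - b) (by omega)
  simp only [Bool.and_eq_true] at this
  rw [show Nat.add b (i - b) = i from by show b + (i - b) = i; omega] at this
  simpa only [Bool.and_eq_true] using this

end

end Cfsg.Agent.HN
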