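import Cfsg.Agent.Lib.HN.Theory
import Cfsg.Agent.Lib.HN.ChainSplit
import Cfsg.Agent.Lib.BoundedPres.Kappa

/-!
Ten elements of the presented group obeying Carmichael's relations, each relation tested on seven cosets,
give a subgroup alternating of degree twelve and the action on its 1140000 cosets.
-/

set_option autoImplicit false
set_option maxRecDepth 100000

namespace Cfsg.Agent.HN

noncomputable section

/-- The atoms are in range. -/
def okAtoms (W : List ℕ) : Bool := W.all fun a => Nat.blt a 6

/-- The word for a cube. -/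
def altW3 (S : List (List ℕ)) (i : ℕ) : List ℕ := S.getD i [] ++ S.getD i [] ++ S.getD i []

/-- The word for a pair. -/
def altW2 (S : List (List ℕ)) (i j : ℕ) : List ℕ :=
  (S.getD i [] ++ S.getD j []) ++ (S.getD i [] ++ S.getD j [])

/-- The node of a starting coset. -/
def startK (j : ℕ) : ℕ := bif Nat.beq j 0 then 0 else 1

/-- The element of a starting coset. -/
def startU (U : List ℕ) (j : ℕ) : List ℕ := bif Nat.beq j 0 then [] else unp (U.getD (j - 1) 0)

/-- The starting elements lead from base points. -/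
def okU (U : List ℕ) : Bool :=
  Nat.beq base6.length 6 && allLo (fun j => letOK 5 (winv iv5 (unp (U.getD j 0))) &&
    Nat.beq (lact (winv iv5 (unp (U.getD j 0))) 0) (base6.getD j 0)) 6

/-- One loop. -/
def XData.okStart (X : XData) (U W : List ℕ) (L : List (List Hint × ℕ)) (j : ℕ) : Bool :=
  X.O.okLoop W (L.getD j ([], 0)).1 (L.getD j ([], 0)).2 (startK j) (startU U j)

/-- All loops of a word. -/
def XData.okWord (X : XData) (U W : List ℕ) (L : List (List Hint × ℕ)) : Bool :=
  allLo (X.okStart U W L) 7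

/-- The run leaves the first node. -/
def XData.okMoved (X : XData) (W : List ℕ) (hs : List Hint) : Bool :=
  match X.O.runH W hs 0 [] with
  | some (k', _) => !(Nat.beq k' 0)
  | none => false

theorem okWord_intro {X : XData} {U W : List ℕ} {L : List (List Hint × ℕ)}
    (h0 : X.okStart U W L 0 = true) (h1 : X.okStart U W L 1 = true) (h2 : X.okStart U W L 2 = true)
    (h3 : X.okStart U W L 3 = true) (h4 : X.okStart U W L 4 = true) (h5 : X.okStart U W L 5 = true)
    (h6 : X.okStart U W L 6 = true) : X.okWord U W L = true := by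
  refine allLo_of_forall fun i hi => ?_
  interval_cases i <;> assumption

variable {X : XData} (hX : XOK X)

/-- The value of an atom in the presented group. -/
abbrev hnG : ℕ → Cfsg.Spor.HN := atomG psiHN tHN

include hX

theorem act_eq : ∀ (W : List ℕ), okAtoms W = true → ∀ p : X.O.Pt,
    hX.omega.act W p = (modelHom hX (wv hnG W))⁻¹ p := by
  intro W
  induction W with
  | nil => intro _ p; simp [OOK.act, wv]
  | cons a W ih =>
    intro h p
    simp only [okAtoms, List.all_cons, Bool.and_eq_true, Nat.blt_eq] at h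
    rw [OOK.act, ih h.2, wv_cons, map_mul, mul_inv_rev, Equiv.Perm.mul_apply]
    congr 1
    by_cases ha : a < 5
    · rw [atom_rho hX ha, hnG, atomG, if_pos ha, modelHom_psi, map_inv]
    · obtain rfl : a = 5 := by omega
      rw [atom_five hX, hnG, atomG, if_neg ha,
        show modelHom hX tHN = (stepPerm hX)⁻¹ from (outHN_gen (model_rules hX)).1, inv_inv]
      rfl

/-- An element fixing the first coset lies in the group of `x, y, z`. -/
theorem stab_base {g : Cfsg.Spor.HN} (h : modelHom hX g (basePt hX) = basePt hX) : g ∈ psiHN.range := by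
  have := finite_HN hX
  set f : Cfsg.Spor.HN ⧸ psiHN.range → X.O.Pt := fun c => modelHom hX c.out (basePt hX) with hf
  have key : ∀ a : Cfsg.Spor.HN, f (QuotientGroup.mk a) = modelHom hX a (basePt hX) := by
    intro a
    obtain ⟨⟨_, b, rfl⟩, hb⟩ := QuotientGroup.mk_out_eq_mul psiHN.range a
    rw [hf]
    show modelHom hX (QuotientGroup.mk a : Cfsg.Spor.HN ⧸ psiHN.range).out (basePt hX) = _
    rw [hb, map_mul, Equiv.Perm.mul_apply, psi_fix hX]
  have hsurj : Function.Surjective f := fun p => by
    obtain ⟨a, rfl⟩ := orbit_full hX p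
    exact ⟨_, key a⟩
  have hbij := hsurj.bijective_of_nat_card_le (by
    rw [OData.card_pt hX.omega, hX.sizes]; exact le_of_eq (index_eq hX))
  have e : f (QuotientGroup.mk g) = f (QuotientGroup.mk 1) := by
    rw [key, key, h, map_one, Equiv.Perm.one_apply]
  have e2 := QuotientGroup.eq.1 (hbij.1 e).symm
  simpa using e2

theorem word_one {U W : List ℕ} {L : List (List Hint × ℕ)} (hU : okU U = true) (hW : okAtoms W = true)
    (h : X.okWord U W L = true) : wv hnG W = 1 := by
  obtain ⟨hn1, hg⟩ := hX.node1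
  simp only [List.all_eq_true, Bool.and_eq_true, Nat.beq_eq] at hg
  have hle : X.O.sgrp 1 ≤ stab0 := by
    rw [OData.sgrp, grp, Subgroup.closure_le]
    rintro a ⟨g, hgm, rfl⟩
    exact mem_stab0.2 (Fin.ext (by rw [pi_el (hg g hgm).2, (hg g hgm).1]; simp [pi]))
  have hk : ∀ j, startK j < X.O.nodes.length := fun j => by
    rw [startK]; cases Nat.beq j 0
    · exact hn1
    · exact hX.node0.1
  have hfix : ∀ j < 7, modelHom hX (wv hnG W) (X.O.pt _ (hk j) (el (startU U j))) =
      X.O.pt _ (hk j) (el (startU U j)) := fun j hj => by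
    have e := okLoop_spec hX.omega (hk j) (allLo_spec h hj)
    rw [act_eq hX W hW, Equiv.Perm.inv_eq_iff_eq] at e
    exact e.symm
  obtain ⟨b, hb⟩ := stab_base hX (hfix 0 (by norm_num))
  rw [← hb]
  suffices b = 1 by rw [this, map_one]
  refine fix_trivial fun q hq => ?_
  rw [chain_pts] at hq
  simp only [okU, Bool.and_eq_true, Nat.beq_eq] at hU
  obtain ⟨i, hi, hiq⟩ := List.mem_iff_getElem.1 hq
  have hu := allLo_spec hU.2 (hU.1 ▸ hi)
  simp only [Bool.and_eq_true, Nat.beq_eq, List.getD_eq_getElem _ _ hi, hiq] at hu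
  set u := unp (U.getD i 0) with hudef
  have e : X.O.rho b (X.O.pt 1 hn1 (el u)) = X.O.pt 1 hn1 (el u) := by
    have := hfix (i + 1) (by have := hU.1; omega)
    rw [← hb, modelHom_psi] at this
    exact this
  have e' := OData.rho_pt (O := X.O) hn1 b⁻¹ (el u)
  rw [inv_inv, e] at e'
  have hm := hle (OData.pt_mem hn1 e')
  have e2 : pi ((el u)⁻¹) = pi (b * (el u)⁻¹) := pi_eq_iff.2 (by convert hm using 1; group)
  have hq' : pi ((el u)⁻¹) = q := Fin.ext (by rw [← el_winv, pi_el hu.1]; exact hu.2)
  rw [pi_mul, hq'] at e2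
  exact e2.symm

variable {Es : List MaxE} (hd : X.okDefs = true) (hm : X.okMax Es [1] = true) {U : List ℕ}
  (hU : okU U = true) {S : List (List ℕ)} (hS : S.all okAtoms = true)
  {C : List (List (List Hint × ℕ))} {P : List (List (List (List Hint × ℕ)))}
  (hC : ∀ i < 10, X.okWord U (altW3 S i) (C.getD i []) = true)
  (hP : ∀ i < 10, ∀ j < 10, i < j → X.okWord U (altW2 S i j) ((P.getD i []).getD j []) = true)
  {m : ℕ} (hm10 : m < 10) {hs : List Hint} (hrun : X.okMoved (S.getD m []) hs = true)

include hd hm hU hS hC hP hm10 hrun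

/-- **The action on 1140000 points.** -/
theorem alt_action : ∃ H : Subgroup (Equiv.Perm (Fin 1140000)), Cfsg.IsHN H ∧
    MulAction.IsPretransitive H (Fin 1140000) ∧
      Nonempty (MulAction.stabilizer H (0 : Fin 1140000) ≃* alternatingGroup (Fin 12)) := by
  classical
  have := finite_HN hX
  haveI hsimp : IsSimpleGroup Cfsg.Spor.HN := isSimple hX hd hm
  have hat : ∀ i, okAtoms (S.getD i []) = true := fun i => by
    rcases Nat.lt_or_ge i S.length with h | h
    · rw [List.getD_eq_getElem _ _ h]; exact List.all_eq_true.1 hS _ (List.getElem_mem h)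
    · rw [List.getD_eq_default _ _ h]; rfl
  have hcat : ∀ {u v : List ℕ}, okAtoms u = true → okAtoms v = true → okAtoms (u ++ v) = true := by
    intro u v hu hv
    simp only [okAtoms, List.all_append, Bool.and_eq_true]; exact ⟨hu, hv⟩
  set y : ℕ → Cfsg.Spor.HN := fun i => wv hnG (S.getD i []) with hy
  have hcube : ∀ i < 10, y i * y i * y i = 1 := fun i hi => by
    have := word_one hX hU (hcat (hcat (hat i) (hat i)) (hat i)) (hC i hi)
    rwa [wv_append, wv_append] at this
  have hpair : ∀ i < 10, ∀ j < 10, i < j → (y i * y j) ^ 2 = 1 := fun i hi j hj hij => by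
    have := word_one hX hU (hcat (hcat (hat i) (hat j)) (hcat (hat i) (hat j))) (hP i hi j hj hij)
    rw [wv_append, wv_append] at this
    rw [sq]; exact this
  set s : Finset (Fin 12) := Finset.univ.filter fun i => 2 ≤ i.1
  have hgood : BoundedPres.Good (0 : Fin 12) 1 s := ⟨by decide, by simp [s], by simp [s]⟩
  have hfull : ∀ x : Fin 12, x ≠ 0 → x ≠ 1 → x ∈ s := fun x h0 h1 => by
    simp only [s, Finset.mem_filter, Finset.mem_univ, true_and]
    simp only [ne_eq, Fin.ext_iff, Fin.val_zero, Fin.val_one] at h0 h1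
    omega
  have hrel : BoundedPres.CarRel (fun i : Fin 12 => y (i.1 - 2)) s := by
    refine ⟨fun i hi => ?_, fun i hi j hj hij => ?_⟩
    · have : i.1 - 2 < 10 := by have := i.2; omega
      rw [pow_succ, pow_two]; exact hcube _ this
    · have h2i : 2 ≤ i.1 := (Finset.mem_filter.1 hi).2
      have h2j : 2 ≤ j.1 := (Finset.mem_filter.1 hj).2
      have := i.2; have := j.2
      have hne : i.1 ≠ j.1 := fun e => hij (Fin.ext e)
      rcases Nat.lt_or_ge (i.1 - 2) (j.1 - 2) with h | h
      · exact hpair _ (by omega) _ (by omega) h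
      · exact BoundedPres.pair_symm (hpair _ (by omega) _ (by omega) (by omega))
  obtain ⟨f, hf⟩ := BoundedPres.car_hom hgood _ hrel
  have hCs := BoundedPres.Cs_eq_alternating hgood hfull
  haveI hA : IsSimpleGroup (alternatingGroup (Fin 12)) := alternatingGroup.isSimpleGroup (by simp)
  let ψ : alternatingGroup (Fin 12) →* Cfsg.Spor.HN := f.comp (MulEquiv.subgroupCongr hCs).symm.toMonoidHom
  have hmoved : y m ≠ 1 := by
    intro e
    simp only [XData.okMoved] at hrun
    split at hrun
    · rename_i k' u' hr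
      obtain ⟨hk', e1⟩ := runH_spec hX.omega _ hs 0 hX.node0.1 [] k' u' hr
      rw [act_eq hX _ (hat m), show wv hnG (S.getD m []) = 1 from e, map_one, inv_one,
        Equiv.Perm.one_apply] at e1
      have hh := congrArg (fun p : X.O.Pt => (p.1 : ℕ)) e1
      change 0 = k' at hh
      rw [← hh] at hrun
      exact Bool.false_ne_true hrun
    · exact Bool.false_ne_true hrun
  have hψinj : Function.Injective ψ := by
    rcases Subgroup.Normal.eq_bot_or_eq_top (inferInstance : ψ.ker.Normal) with hk | hk
    · exact (MonoidHom.ker_eq_bot_iff ψ).1 hk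
    · exfalso
      have hm2 : (⟨m + 2, by omega⟩ : Fin 12) ∈ s := by simp [s]
      refine hmoved ?_
      have h1 := hf _ hm2
      rw [show y (((⟨m + 2, by omega⟩ : Fin 12) : ℕ) - 2) = y m by simp] at h1
      rw [← h1]
      have h2 : ψ ((MulEquiv.subgroupCongr hCs) ⟨_, BoundedPres.cyc_mem hm2⟩) = 1 :=
        MonoidHom.mem_ker.1 (hk ▸ Subgroup.mem_top _)
      simpa [ψ] using h2
  set M := ψ.range
  have hM : Nat.card M = 239500800 := by
    rw [← Nat.card_congr (MonoidHom.ofInjective hψinj).toEquiv]
    have h := two_mul_nat_card_alternatingGroup (α := Fin 12)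
    rw [Nat.card_perm, Nat.card_fin, show Nat.factorial 12 = 479001600 by decide +kernel] at h
    omega
  have hidx : Nat.card (Cfsg.Spor.HN ⧸ M) = 1140000 := by
    have h := Subgroup.card_eq_card_quotient_mul_card_subgroup M
    rw [card_HN hX, hM] at h
    omega
  let e₀ : Cfsg.Spor.HN ⧸ M ≃ Fin 1140000 := Finite.equivFinOfCardEq hidx
  let e : Cfsg.Spor.HN ⧸ M ≃ Fin 1140000 :=
    e₀.trans (Equiv.swap (e₀ (QuotientGroup.mk 1)) 0)
  have he : e (QuotientGroup.mk 1) = 0 := by simp [e]
  let φ : Cfsg.Spor.HN →* Equiv.Perm (Fin 1140000) :=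
    (Equiv.permCongrHom e).toMonoidHom.comp (MulAction.toPermHom Cfsg.Spor.HN (Cfsg.Spor.HN ⧸ M))
  have happ : ∀ g c, φ g (e c) = e (g • c) := fun g c => by
    simp [φ, Equiv.permCongr_apply]
  have hφinj : Function.Injective φ := by
    rcases Subgroup.Normal.eq_bot_or_eq_top (inferInstance : φ.ker.Normal) with hk | hk
    · exact (MonoidHom.ker_eq_bot_iff φ).1 hk
    · exfalso
      have hall : ∀ g : Cfsg.Spor.HN, g ∈ M := fun g => by
        have h1 := happ g (QuotientGroup.mk 1)
        rw [MonoidHom.mem_ker.1 (hk ▸ Subgroup.mem_top g : g ∈ φ.ker), Equiv.Perm.one_apply] at h1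
        have h2 := e.injective h1
        rw [MulAction.Quotient.smul_mk, smul_eq_mul, mul_one, QuotientGroup.eq] at h2
        simpa using h2
      have : M = ⊤ := eq_top_iff.2 fun g _ => hall g
      rw [this, Subgroup.card_top, card_HN hX] at hM
      omega
  let i := MonoidHom.ofInjective hφinj
  refine ⟨φ.range, ⟨?_, ?_⟩, ⟨fun a b => ?_⟩, ⟨?_⟩⟩
  · haveI : Nontrivial φ.range := i.symm.toEquiv.nontrivial
    exact IsSimpleGroup.isSimpleGroup_of_surjective i.toMonoidHom i.surjective
  · rw [← Nat.card_congr i.toEquiv, card_HN hX]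
  · obtain ⟨g, hg⟩ := MulAction.exists_smul_eq Cfsg.Spor.HN (e.symm a) (e.symm b)
    refine ⟨⟨φ g, g, rfl⟩, ?_⟩
    show φ g a = b
    rw [← e.apply_symm_apply a, happ, hg, e.apply_symm_apply]
  · let θ : alternatingGroup (Fin 12) →* MulAction.stabilizer φ.range (0 : Fin 1140000) :=
      (φ.rangeRestrict.comp ψ).codRestrict _ fun a => by
        show φ (ψ a) (0 : Fin 1140000) = 0
        rw [← he, happ, MulAction.Quotient.smul_mk, smul_eq_mul, mul_one]
        congr 1
        refine QuotientGroup.eq.2 ?_
        simp only [mul_one]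
        exact inv_mem ⟨a, rfl⟩
    refine (MulEquiv.ofBijective θ ⟨?_, ?_⟩).symm
    · intro a b hab
      exact hψinj (hφinj (congrArg Subtype.val (congrArg Subtype.val hab)))
    · rintro ⟨⟨_, g, rfl⟩, hg⟩
      change φ g (0 : Fin 1140000) = 0 at hg
      rw [← he, happ] at hg
      have h2 := e.injective hg
      rw [MulAction.Quotient.smul_mk, smul_eq_mul, mul_one, QuotientGroup.eq, mul_one, inv_mem_iff] at h2
      obtain ⟨a, ha⟩ := h2
      exact ⟨a, Subtype.ext (Subtype.ext (by show φ (ψ a) = φ g; rw [ha]))⟩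

end

end Cfsg.Agent.HN
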