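import Cfsg.Agent.Lib.HN.Omega

/-! The nodes with their subgroups and forests. -/

set_option autoImplicit false
set_option maxRecDepth 100000
set_option maxHeartbeats 4000000
set_option Elab.async false

namespace Cfsg.Agent.HN.Dat

noncomputable section

/-- part of a tree -/
def node0L0tree0 : Trie :=
  (.node (.node (.node (.node (.node (.node (.node (.leaf 0x0) (.leaf 0x28c)) (.node (.leaf 0x100113) (.leaf 0))) (.node (.node (.leaf 0x100082) (.leaf 0x1003ee)) (.node (.leaf 0x1b0) (.leaf 0)))) (.node (.node (.node (.leaf 0x10003f) (.leaf 0x100329)) (.node (.leaf 0x20015d) (.leaf 0))) (.node (.node (.leaf 0xc9) (.leaf 0)) (.node (.leaf 0x20020c) (.leaf 0))))) (.node (.node (.node (.node (.leaf 0x100020) (.leaf 0x1002e1)) (.node (.leaf 0x100135) (.leaf 0))) (.node (.node (.leaf 0x1000a5) (.leaf 0x200477)) (.node (.leaf 0x1001e1) (.leaf 0)))) (.node (.node (.node (.leaf 0x20005f) (.leaf 0x200390)) (.node (.leaf 0x100185) (.leaf 0))) (.node (.node (.leaf 0xed) (.leaf 0)) (.node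 (.leaf 0x200240) (.leaf 0)))))) (.node (.node (.node (.node (.node (.leaf 0x20000f) (.leaf 0x2002ab)) (.node (.leaf 0x200124) (.leaf 0))) (.node (.node (.leaf 0x93) (.leaf 0x429)) (.node (.leaf 0x1001cc) (.leaf 0)))) (.node (.node (.node (.leaf 0x20004e) (.leaf 0x10035d)) (.node (.leaf 0x10016f) (.leaf 0))) (.node (.node (.leaf 0x2000da) (.leaf 0)) (.node (.leaf 0x100225) (.leaf 0))))) (.node (.node (.node (.node (.leaf 0x100030) (.leaf 0x200303)) (.node (.leaf 0x10014a) (.leaf 0))) (.node (.node (.leaf 0xb8) (.leaf 0x1004e2)) (.node (.leaf 0x1001f3) (.leaf 0)))) (.node (.node (.node (.leaf 0x100070) (.leaf 0x1003ba)) (.node (.leaf 0x200195) (.leaf 0))) (.node (.node (.leaf 0x100101) (.leaf 0)) (.node (.leaf 0x10025e) (.leaf 0))))))) (.node (.node (.node (.node (.node (.node (.leaf 0x100009) (.leaf 0x10029c)) (.node (.leaf 0x20011b) (.leaf 0))) (.node (.node (.leaf 0x100089) (.leaf 0x100417)) (.node (.leaf 0x1bf) (.leaf 0)))) (.node (.node (.node (.leaf 0x47) (.leaf 0x34c)) (.node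 (.leaf 0x168) (.leaf 0))) (.node (.node (.leaf 0xd3) (.leaf 0)) (.node (.leaf 0x214) (.leaf 0))))) (.node (.node (.node (.node (.leaf 0x100028) (.leaf 0x2002f4)) (.node (.leaf 0x100140) (.leaf 0))) (.node (.node (.leaf 0x2000af) (.leaf 0x2004a8)) (.node (.leaf 0x1eb) (.leaf 0)))) (.node (.node (.node (.leaf 0x100068) (.leaf 0x2003a9)) (.node (.leaf 0x10018d) (.leaf 0))) (.node (.node (.leaf 0x1000f7) (.leaf 0)) (.node (.leaf 0x100253) (.leaf 0)))))) (.node (.node (.node (.node (.node (.leaf 0x18) (.leaf 0x2d0)) (.node (.leaf 0x10012c) (.leaf 0))) (.node (.node (.leaf 0x9b) (.leaf 0x44a)) (.node (.leaf 0x1d6) (.leaf 0)))) (.node (.node (.node (.leaf 0x200058) (.leaf 0x10036e)) (.node (.leaf 0x179) (.leaf 0))) (.node (.node (.leaf 0x2000e3) (.leaf 0)) (.node (.leaf 0x200231) (.leaf 0))))) (.node (.node (.node (.node (.leaf 0x100037) (.leaf 0x200318)) (.node (.leaf 0x100154) (.leaf 0))) (.node (.node (.leaf 0x1000c0) (.leaf 0x50a)) (.node (.leaf 0x1fe) (.leaf 0)))) (.node (.node (.node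 (.leaf 0x100079) (.leaf 0x1003d5)) (.node (.leaf 0x1001a4) (.leaf 0))) (.node (.node (.leaf 0x10010a) (.leaf 0)) (.node (.leaf 0x20026b) (.leaf 0))))))))

/-- part of a tree -/
def node0L0tree8 : Trie :=
  (.node (.node (.node (.node (.node (.node (.node (.leaf 0x200003) (.leaf 0x100296)) (.node (.leaf 0x200116) (.leaf 0))) (.node (.node (.leaf 0x200085) (.leaf 0x1003f9)) (.node (.leaf 0x1b7) (.leaf 0)))) (.node (.node (.node (.leaf 0x100043) (.leaf 0x100339)) (.node (.leaf 0x162) (.leaf 0))) (.node (.node (.leaf 0x1000cd) (.leaf 0)) (.node (.leaf 0x100210) (.leaf 0))))) (.node (.node (.node (.node (.leaf 0x100024) (.leaf 0x1002ec)) (.node (.leaf 0x13a) (.leaf 0))) (.node (.node (.leaf 0x1000aa) (.leaf 0x100486)) (.node (.leaf 0x2001e5) (.leaf 0)))) (.node (.node (.node (.leaf 0x100064) (.leaf 0x39c)) (.node (.leaf 0x200189) (.leaf 0))) (.node (.node (.leaf 0xf3) (.leaf 0)) (.node (.leaf 0x10024b) (.leaf 0)))))) (.node (.node (.node (.node (.node (.leaf 0x100013) (.leaf 0x1002bd))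 (.node (.leaf 0x200127) (.leaf 0))) (.node (.node (.leaf 0x100097) (.leaf 0x200437)) (.node (.leaf 0x2001d0) (.leaf 0)))) (.node (.node (.node (.leaf 0x54) (.leaf 0x100367)) (.node (.leaf 0x174) (.leaf 0))) (.node (.node (.leaf 0x1000df) (.leaf 0)) (.node (.leaf 0x20022b) (.leaf 0))))) (.node (.node (.node (.node (.leaf 0x34) (.leaf 0x10030c)) (.node (.leaf 0x10014f) (.leaf 0))) (.node (.node (.leaf 0x1000bc) (.leaf 0x2004f5)) (.node (.leaf 0x2001f8) (.leaf 0)))) (.node (.node (.node (.leaf 0x200074) (.leaf 0x3c6)) (.node (.leaf 0x19f) (.leaf 0))) (.node (.node (.leaf 0x100105) (.leaf 0)) (.node (.leaf 0x100267) (.leaf 0))))))) (.node (.node (.node (.node (.node (.node (.leaf 0x10000c) (.leaf 0x1002a6)) (.node (.leaf 0x100120) (.leaf 0))) (.node (.node (.leaf 0x8f) (.leaf 0x423)) (.node (.leaf 0x1001c6) (.leaf 0)))) (.node (.node (.node (.leaf 0x10004a) (.leaf 0x200356)) (.node (.leaf 0x10016b) (.leaf 0))) (.node (.node (.leaf 0x2000d6) (.leaf 0)) (.node (.leaf 0x20021e) (.leaf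 0))))) (.node (.node (.node (.node (.leaf 0x10002c) (.leaf 0x2fc)) (.node (.leaf 0x100145) (.leaf 0))) (.node (.node (.leaf 0x1000b4) (.leaf 0x2004b8)) (.node (.leaf 0x1f0) (.leaf 0)))) (.node (.node (.node (.leaf 0x10006c) (.leaf 0x1003b2)) (.node (.leaf 0x191) (.leaf 0))) (.node (.node (.leaf 0x2000fd) (.leaf 0)) (.node (.leaf 0x200258) (.leaf 0)))))) (.node (.node (.node (.node (.node (.leaf 0x20001b) (.leaf 0x2002d8)) (.node (.leaf 0x131) (.leaf 0))) (.node (.node (.leaf 0x1000a0) (.leaf 0x10045f)) (.node (.leaf 0x1001db) (.leaf 0)))) (.node (.node (.node (.leaf 0x10005c) (.leaf 0x100387)) (.node (.leaf 0x10017e) (.leaf 0))) (.node (.node (.leaf 0xe7) (.leaf 0)) (.node (.leaf 0x239) (.leaf 0))))) (.node (.node (.node (.node (.leaf 0x10003b) (.leaf 0x20031f)) (.node (.leaf 0x159) (.leaf 0))) (.node (.node (.leaf 0x1000c4) (.leaf 0x532)) (.node (.leaf 0x200205) (.leaf 0)))) (.node (.node (.node (.leaf 0x20007e) (.leaf 0x2003e8)) (.node (.leaf 0x1001ac) (.leaf 0))) (.node (.node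 (.leaf 0x10e) (.leaf 0)) (.node (.leaf 0x10027c) (.leaf 0))))))))

/-- part of a tree -/
def node0L0tree4 : Trie :=
  (.node (.node (.node (.node (.node (.node (.node (.leaf 0x200001) (.leaf 0x100292)) (.node (.leaf 0x115) (.leaf 0))) (.node (.node (.leaf 0x100084) (.leaf 0x3f2)) (.node (.leaf 0x1001b3) (.leaf 0)))) (.node (.node (.node (.leaf 0x41) (.leaf 0x20032f)) (.node (.leaf 0x10015f) (.leaf 0))) (.node (.node (.leaf 0x2000ca) (.leaf 0)) (.node (.leaf 0x20020e) (.leaf 0))))) (.node (.node (.node (.node (.leaf 0x100022) (.leaf 0x1002e6)) (.node (.leaf 0x138) (.leaf 0))) (.node (.node (.leaf 0x2000a7) (.leaf 0x100483)) (.node (.leaf 0x2001e3) (.leaf 0)))) (.node (.node (.node (.leaf 0x100061) (.leaf 0x397)) (.node (.leaf 0x188) (.leaf 0))) (.node (.node (.leaf 0xf0) (.leaf 0)) (.node (.leaf 0x100245) (.leaf 0)))))) (.node (.node (.node (.node (.node (.leaf 0x11) (.leaf 0x1002b5)) (.node (.leaf 0x126) (.leaf 0))) (.node (.node (.leaf 0x95) (.leaf 0x10042e)) (.node (.leaf 0x1001ce)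 (.leaf 0)))) (.node (.node (.node (.leaf 0x100051) (.leaf 0x200362)) (.node (.leaf 0x100171) (.leaf 0))) (.node (.node (.leaf 0x1000dc) (.leaf 0)) (.node (.leaf 0x228) (.leaf 0))))) (.node (.node (.node (.node (.leaf 0x200031) (.leaf 0x100308)) (.node (.leaf 0x20014c) (.leaf 0))) (.node (.node (.leaf 0x2000ba) (.leaf 0x2004e9)) (.node (.leaf 0x2001f5) (.leaf 0)))) (.node (.node (.node (.leaf 0x100072) (.leaf 0x1003c3)) (.node (.leaf 0x10019a) (.leaf 0))) (.node (.node (.leaf 0x200103) (.leaf 0)) (.node (.leaf 0x100262) (.leaf 0))))))) (.node (.node (.node (.node (.node (.node (.leaf 0x20000a) (.leaf 0x2002a1)) (.node (.leaf 0x10011e) (.leaf 0))) (.node (.node (.leaf 0x10008c) (.leaf 0x20041f)) (.node (.leaf 0x1c1) (.leaf 0)))) (.node (.node (.node (.leaf 0x200048) (.leaf 0x100350)) (.node (.leaf 0x200169) (.leaf 0))) (.node (.node (.leaf 0x2000d4) (.leaf 0)) (.node (.leaf 0x200216) (.leaf 0))))) (.node (.node (.node (.node (.leaf 0x10002a) (.leaf 0x2002f8)) (.node (.leaf 0x143)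 (.leaf 0))) (.node (.node (.leaf 0x1000b2) (.leaf 0x4b3)) (.node (.leaf 0x1001ee) (.leaf 0)))) (.node (.node (.node (.leaf 0x10006a) (.leaf 0x3ae)) (.node (.leaf 0x18f) (.leaf 0))) (.node (.node (.leaf 0x2000fa) (.leaf 0)) (.node (.leaf 0x257) (.leaf 0)))))) (.node (.node (.node (.node (.node (.leaf 0x100019) (.leaf 0x2d5)) (.node (.leaf 0x12f) (.leaf 0))) (.node (.node (.leaf 0x20009d) (.leaf 0x100455)) (.node (.leaf 0x1d9) (.leaf 0)))) (.node (.node (.node (.leaf 0x10005a) (.leaf 0x100384)) (.node (.leaf 0x17c) (.leaf 0))) (.node (.node (.leaf 0x2000e5) (.leaf 0)) (.node (.leaf 0x100233) (.leaf 0))))) (.node (.node (.node (.node (.leaf 0x100039) (.leaf 0x10031b)) (.node (.leaf 0x200155) (.leaf 0))) (.node (.node (.leaf 0x2000c2) (.leaf 0x20051a)) (.node (.leaf 0x200) (.leaf 0)))) (.node (.node (.node (.leaf 0x7c) (.leaf 0x1003df)) (.node (.leaf 0x1001a8) (.leaf 0))) (.node (.node (.leaf 0x10c) (.leaf 0)) (.node (.leaf 0x100276) (.leaf 0))))))))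

/-- part of a tree -/
def node0L0tree12 : Trie :=
  (.node (.node (.node (.node (.node (.node (.node (.leaf 0x100006) (.leaf 0x200298)) (.node (.leaf 0x100119) (.leaf 0))) (.node (.node (.leaf 0x200087) (.leaf 0x20040a)) (.node (.leaf 0x1bc) (.leaf 0)))) (.node (.node (.node (.leaf 0x200044) (.leaf 0x100346)) (.node (.leaf 0x100165) (.leaf 0))) (.node (.node (.leaf 0x1000d0) (.leaf 0)) (.node (.leaf 0x212) (.leaf 0))))) (.node (.node (.node (.node (.leaf 0x100026) (.leaf 0x1002ef)) (.node (.leaf 0x10013c) (.leaf 0))) (.node (.node (.leaf 0x1000ac) (.leaf 0x100496)) (.node (.leaf 0x1001e8) (.leaf 0)))) (.node (.node (.node (.leaf 0x200066) (.leaf 0x2003a5)) (.node (.leaf 0x20018b) (.leaf 0))) (.node (.node (.leaf 0x1000f5) (.leaf 0)) (.node (.leaf 0x100251) (.leaf 0)))))) (.node (.node (.node (.node (.node (.leaf 0x200015) (.leaf 0x2002cd)) (.node (.leaf 0x20012a) (.leaf 0))) (.node (.node (.leaf 0x200098) (.leaf 0x10043f)) (.node (.leaf 0x1001d3) (.leaf 0)))) (.node (.node (.node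 (.leaf 0x200056) (.leaf 0x10036a)) (.node (.leaf 0x100177) (.leaf 0))) (.node (.node (.leaf 0xe1) (.leaf 0)) (.node (.leaf 0x230) (.leaf 0))))) (.node (.node (.node (.node (.leaf 0x200035) (.leaf 0x100311)) (.node (.leaf 0x100151) (.leaf 0))) (.node (.node (.leaf 0x2000be) (.leaf 0x1004ff)) (.node (.leaf 0x1001fb) (.leaf 0)))) (.node (.node (.node (.leaf 0x200076) (.leaf 0x1003cc)) (.node (.leaf 0x1a2) (.leaf 0))) (.node (.node (.leaf 0x108) (.leaf 0)) (.node (.leaf 0x100269) (.leaf 0))))))) (.node (.node (.node (.node (.node (.node (.leaf 0xe) (.leaf 0x2a9)) (.node (.leaf 0x100122) (.leaf 0))) (.node (.node (.leaf 0x200090) (.leaf 0x200426)) (.node (.leaf 0x1001c9) (.leaf 0)))) (.node (.node (.node (.leaf 0x20004c) (.leaf 0x200359)) (.node (.leaf 0x16d) (.leaf 0))) (.node (.node (.leaf 0x2000d8) (.leaf 0)) (.node (.leaf 0x100222) (.leaf 0))))) (.node (.node (.node (.node (.leaf 0x2e) (.leaf 0x100300)) (.node (.leaf 0x148) (.leaf 0))) (.node (.node (.leaf 0x1000b6) (.leaf 0x1004cf))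 (.node (.leaf 0x1001f1) (.leaf 0)))) (.node (.node (.node (.leaf 0x10006e) (.leaf 0x2003b6)) (.node (.leaf 0x100192) (.leaf 0))) (.node (.node (.leaf 0x100) (.leaf 0)) (.node (.leaf 0x20025b) (.leaf 0)))))) (.node (.node (.node (.node (.node (.leaf 0x20001d) (.leaf 0x1002da)) (.node (.leaf 0x100132) (.leaf 0))) (.node (.node (.leaf 0x1000a3) (.leaf 0x20046e)) (.node (.leaf 0x1001de) (.leaf 0)))) (.node (.node (.node (.leaf 0x20005d) (.leaf 0x20038a)) (.node (.leaf 0x200181) (.leaf 0))) (.node (.node (.leaf 0x1000ea) (.leaf 0)) (.node (.leaf 0x10023c) (.leaf 0))))) (.node (.node (.node (.node (.leaf 0x10003d) (.leaf 0x100324)) (.node (.leaf 0x15c) (.leaf 0))) (.node (.node (.leaf 0x1000c7) (.leaf 0x200542)) (.node (.leaf 0x20b) (.leaf 0)))) (.node (.node (.node (.leaf 0x200080) (.leaf 0x3ec)) (.node (.leaf 0x1001ae) (.leaf 0))) (.node (.node (.leaf 0x110) (.leaf 0)) (.node (.leaf 0x100289) (.leaf 0))))))))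

/-- part of a tree -/
def node0L0tree2 : Trie :=
  (.node (.node (.node (.node (.node (.node (.node (.leaf 0x200000) (.leaf 0x10028d)) (.node (.leaf 0x100114) (.leaf 0))) (.node (.node (.leaf 0x83) (.leaf 0x1003f0)) (.node (.leaf 0x1b2) (.leaf 0)))) (.node (.node (.node (.leaf 0x100040) (.leaf 0x10032e)) (.node (.leaf 0x20015e) (.leaf 0))) (.node (.node (.leaf 0x2000c9) (.leaf 0)) (.node (.leaf 0x10020d) (.leaf 0))))) (.node (.node (.node (.node (.leaf 0x200021) (.leaf 0x2e3)) (.node (.leaf 0x137) (.leaf 0))) (.node (.node (.leaf 0xa7) (.leaf 0x100480)) (.node (.leaf 0x2001e2) (.leaf 0)))) (.node (.node (.node (.leaf 0x100060) (.leaf 0x100395)) (.node (.leaf 0x187) (.leaf 0))) (.node (.node (.leaf 0x1000ee) (.leaf 0)) (.node (.leaf 0x100244) (.leaf 0)))))) (.node (.node (.node (.node (.node (.leaf 0x100010) (.leaf 0x1002af)) (.node (.leaf 0x100125) (.leaf 0))) (.node (.node (.leaf 0x200093) (.leaf 0x20042a)) (.node (.leaf 0x1001cd) (.leaf 0)))) (.node (.node (.node (.leaf 0x50)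 (.leaf 0x20035e)) (.node (.leaf 0x100170) (.leaf 0))) (.node (.node (.leaf 0x1000db) (.leaf 0)) (.node (.leaf 0x227) (.leaf 0))))) (.node (.node (.node (.node (.leaf 0x31) (.leaf 0x200306)) (.node (.leaf 0x10014b) (.leaf 0))) (.node (.node (.leaf 0x2000b8) (.leaf 0x1004e3)) (.node (.leaf 0x1f5) (.leaf 0)))) (.node (.node (.node (.leaf 0x71) (.leaf 0x1003bc)) (.node (.leaf 0x100198) (.leaf 0))) (.node (.node (.leaf 0x103) (.leaf 0)) (.node (.leaf 0x200260) (.leaf 0))))))) (.node (.node (.node (.node (.node (.node (.leaf 0xa) (.leaf 0x20029d)) (.node (.leaf 0x10011d) (.leaf 0))) (.node (.node (.leaf 0x20008a) (.leaf 0x200418)) (.node (.leaf 0x2001bf) (.leaf 0)))) (.node (.node (.node (.leaf 0x48) (.leaf 0x10034e)) (.node (.leaf 0x169) (.leaf 0))) (.node (.node (.leaf 0x2000d3) (.leaf 0)) (.node (.leaf 0x215) (.leaf 0))))) (.node (.node (.node (.node (.leaf 0x100029) (.leaf 0x2002f6)) (.node (.leaf 0x100141) (.leaf 0))) (.node (.node (.leaf 0x1000b1) (.leaf 0x1004b1)) (.node (.leaf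 0x2001ed) (.leaf 0)))) (.node (.node (.node (.leaf 0x69) (.leaf 0x1003ac)) (.node (.leaf 0x10018e) (.leaf 0))) (.node (.node (.leaf 0x1000f8) (.leaf 0)) (.node (.leaf 0x100255) (.leaf 0)))))) (.node (.node (.node (.node (.node (.leaf 0x200018) (.leaf 0x2d2)) (.node (.leaf 0x10012e) (.leaf 0))) (.node (.node (.leaf 0x20009b) (.leaf 0x20044a)) (.node (.leaf 0x1d7) (.leaf 0)))) (.node (.node (.node (.leaf 0x200059) (.leaf 0x100371)) (.node (.leaf 0x17b) (.leaf 0))) (.node (.node (.leaf 0x1000e4) (.leaf 0)) (.node (.leaf 0x200232) (.leaf 0))))) (.node (.node (.node (.node (.leaf 0x38) (.leaf 0x31a)) (.node (.leaf 0x155) (.leaf 0))) (.node (.node (.leaf 0x2000c1) (.leaf 0x200515)) (.node (.leaf 0x1ff) (.leaf 0)))) (.node (.node (.node (.leaf 0x20007a) (.leaf 0x2003d7)) (.node (.leaf 0x1001a6) (.leaf 0))) (.node (.node (.leaf 0x10010b) (.leaf 0)) (.node (.leaf 0x10026c) (.leaf 0))))))))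

/-- part of a tree -/
def node0L0tree10 : Trie :=
  (.node (.node (.node (.node (.node (.node (.node (.leaf 0x100005) (.leaf 0x298)) (.node (.leaf 0x100117) (.leaf 0))) (.node (.node (.leaf 0x100086) (.leaf 0x100405)) (.node (.leaf 0x1001b9) (.leaf 0)))) (.node (.node (.node (.leaf 0x44) (.leaf 0x33e)) (.node (.leaf 0x100163) (.leaf 0))) (.node (.node (.leaf 0x1000cf) (.leaf 0)) (.node (.leaf 0x100211) (.leaf 0))))) (.node (.node (.node (.node (.leaf 0x100025) (.leaf 0x1002ed)) (.node (.leaf 0x20013b) (.leaf 0))) (.node (.node (.leaf 0x1000ab) (.leaf 0x10048c)) (.node (.leaf 0x1e7) (.leaf 0)))) (.node (.node (.node (.leaf 0x66) (.leaf 0x2003a0)) (.node (.leaf 0x10018a) (.leaf 0))) (.node (.node (.leaf 0x2000f3) (.leaf 0)) (.node (.leaf 0x250) (.leaf 0)))))) (.node (.node (.node (.node (.node (.leaf 0x100014) (.leaf 0x1002c0)) (.node (.leaf 0x100129) (.leaf 0))) (.node (.node (.leaf 0x98) (.leaf 0x20043e)) (.node (.leaf 0x1001d2) (.leaf 0)))) (.node (.node (.node (.leaf 0x200054)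 (.leaf 0x100368)) (.node (.leaf 0x100175) (.leaf 0))) (.node (.node (.leaf 0x1000e0) (.leaf 0)) (.node (.leaf 0x20022d) (.leaf 0))))) (.node (.node (.node (.node (.leaf 0x35) (.leaf 0x10030f)) (.node (.leaf 0x150) (.leaf 0))) (.node (.node (.leaf 0xbe) (.leaf 0x1004f9)) (.node (.leaf 0x1001f9) (.leaf 0)))) (.node (.node (.node (.leaf 0x76) (.leaf 0x2003c7)) (.node (.leaf 0x1a0) (.leaf 0))) (.node (.node (.leaf 0x107) (.leaf 0)) (.node (.leaf 0x100268) (.leaf 0))))))) (.node (.node (.node (.node (.node (.node (.leaf 0xd) (.leaf 0x1002a7)) (.node (.leaf 0x100121) (.leaf 0))) (.node (.node (.leaf 0x20008f) (.leaf 0x100425)) (.node (.leaf 0x1001c7) (.leaf 0)))) (.node (.node (.node (.leaf 0x4b) (.leaf 0x100358)) (.node (.leaf 0x16c) (.leaf 0))) (.node (.node (.leaf 0xd8) (.leaf 0)) (.node (.leaf 0x200221) (.leaf 0))))) (.node (.node (.node (.node (.leaf 0x10002d) (.leaf 0x1002fd)) (.node (.leaf 0x200146) (.leaf 0))) (.node (.node (.leaf 0xb5) (.leaf 0x1004c4)) (.node (.leaf 0x2001f0)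 (.leaf 0)))) (.node (.node (.node (.leaf 0x10006d) (.leaf 0x2003b4)) (.node (.leaf 0x200191) (.leaf 0))) (.node (.node (.leaf 0x1000ff) (.leaf 0)) (.node (.leaf 0x25b) (.leaf 0)))))) (.node (.node (.node (.node (.node (.leaf 0x1d) (.leaf 0x2002d9)) (.node (.leaf 0x200131) (.leaf 0))) (.node (.node (.leaf 0x1000a1) (.leaf 0x200466)) (.node (.leaf 0x2001dc) (.leaf 0)))) (.node (.node (.node (.leaf 0x5d) (.leaf 0x100388)) (.node (.leaf 0x10017f) (.leaf 0))) (.node (.node (.leaf 0x1000e9) (.leaf 0)) (.node (.leaf 0x23a) (.leaf 0))))) (.node (.node (.node (.node (.leaf 0x10003c) (.leaf 0x100322)) (.node (.leaf 0x10015a) (.leaf 0))) (.node (.node (.leaf 0x2000c5) (.leaf 0x20053e)) (.node (.leaf 0x100208) (.leaf 0)))) (.node (.node (.node (.leaf 0x80) (.leaf 0x3eb)) (.node (.leaf 0x1001ad) (.leaf 0))) (.node (.node (.leaf 0x10f) (.leaf 0)) (.node (.leaf 0x200285) (.leaf 0))))))))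

/-- part of a tree -/
def node0L0tree6 : Trie :=
  (.node (.node (.node (.node (.node (.node (.node (.leaf 0x100002) (.leaf 0x295)) (.node (.leaf 0x200115) (.leaf 0))) (.node (.node (.leaf 0x85) (.leaf 0x1003f3)) (.node (.leaf 0x1b6) (.leaf 0)))) (.node (.node (.node (.leaf 0x200041) (.leaf 0x331)) (.node (.leaf 0x200160) (.leaf 0))) (.node (.node (.leaf 0xcc) (.leaf 0)) (.node (.leaf 0x20020f) (.leaf 0))))) (.node (.node (.node (.node (.leaf 0x23) (.leaf 0x2002e8)) (.node (.leaf 0x200138) (.leaf 0))) (.node (.node (.leaf 0x1000a9) (.leaf 0x485)) (.node (.leaf 0x1001e4) (.leaf 0)))) (.node (.node (.node (.leaf 0x200062) (.leaf 0x100399)) (.node (.leaf 0x200188) (.leaf 0))) (.node (.node (.leaf 0x1000f1) (.leaf 0)) (.node (.leaf 0x100246) (.leaf 0)))))) (.node (.node (.node (.node (.node (.leaf 0x100012) (.leaf 0x1002ba)) (.node (.leaf 0x127) (.leaf 0))) (.node (.node (.leaf 0x200095) (.leaf 0x20042f)) (.node (.leaf 0x1d0) (.leaf 0)))) (.node (.node (.node (.leaf 0x200052) (.leaf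 0x100366)) (.node (.leaf 0x100173) (.leaf 0))) (.node (.node (.leaf 0x1000dd) (.leaf 0)) (.node (.leaf 0x22b) (.leaf 0))))) (.node (.node (.node (.node (.leaf 0x100032) (.leaf 0x10030a)) (.node (.leaf 0x20014d) (.leaf 0))) (.node (.node (.leaf 0x2000bb) (.leaf 0x2004f0)) (.node (.leaf 0x1001f7) (.leaf 0)))) (.node (.node (.node (.leaf 0x100073) (.leaf 0x2003c4)) (.node (.leaf 0x10019c) (.leaf 0))) (.node (.node (.leaf 0x100104) (.leaf 0)) (.node (.leaf 0x100263) (.leaf 0))))))) (.node (.node (.node (.node (.node (.node (.leaf 0x20000b) (.leaf 0x1002a5)) (.node (.leaf 0x10011f) (.leaf 0))) (.node (.node (.leaf 0x8e) (.leaf 0x422)) (.node (.leaf 0x1001c3) (.leaf 0)))) (.node (.node (.node (.leaf 0x200049) (.leaf 0x354)) (.node (.leaf 0x20016a) (.leaf 0))) (.node (.node (.leaf 0xd6) (.leaf 0)) (.node (.leaf 0x10021b) (.leaf 0))))) (.node (.node (.node (.node (.leaf 0x2b) (.leaf 0x2002f9)) (.node (.leaf 0x200143) (.leaf 0))) (.node (.node (.leaf 0x2000b3) (.leaf 0x2004b4)) (.node (.leaf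 0x1001ef) (.leaf 0)))) (.node (.node (.node (.leaf 0x10006b) (.leaf 0x1003af)) (.node (.leaf 0x20018f) (.leaf 0))) (.node (.node (.leaf 0x2000fb) (.leaf 0)) (.node (.leaf 0x258) (.leaf 0)))))) (.node (.node (.node (.node (.node (.leaf 0x1b) (.leaf 0x1002d7)) (.node (.leaf 0x20012f) (.leaf 0))) (.node (.node (.leaf 0x9f) (.leaf 0x20045a)) (.node (.leaf 0x2001d9) (.leaf 0)))) (.node (.node (.node (.leaf 0x5b) (.leaf 0x386)) (.node (.leaf 0x10017d) (.leaf 0))) (.node (.node (.leaf 0x1000e6) (.leaf 0)) (.node (.leaf 0x100235) (.leaf 0))))) (.node (.node (.node (.node (.leaf 0x10003a) (.leaf 0x31f)) (.node (.leaf 0x100157) (.leaf 0))) (.node (.node (.leaf 0x1000c3) (.leaf 0x523)) (.node (.leaf 0x100201) (.leaf 0)))) (.node (.node (.node (.leaf 0x20007c) (.leaf 0x1003e7)) (.node (.leaf 0x1001a9) (.leaf 0))) (.node (.node (.leaf 0x10010d) (.leaf 0)) (.node (.leaf 0x27b) (.leaf 0))))))))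

/-- part of a tree -/
def node0L0tree14 : Trie :=
  (.node (.node (.node (.node (.node (.node (.node (.leaf 0x100008) (.leaf 0x100299)) (.node (.leaf 0x11b) (.leaf 0))) (.node (.node (.leaf 0x100088) (.leaf 0x10040e)) (.node (.leaf 0x2001bc) (.leaf 0)))) (.node (.node (.node (.leaf 0x100045) (.leaf 0x349)) (.node (.leaf 0x166) (.leaf 0))) (.node (.node (.leaf 0x1000d1) (.leaf 0)) (.node (.leaf 0x200212) (.leaf 0))))) (.node (.node (.node (.node (.leaf 0x100027) (.leaf 0x2002f2)) (.node (.leaf 0x10013f) (.leaf 0))) (.node (.node (.leaf 0x2000ae) (.leaf 0x1004a7)) (.node (.leaf 0x1001ea) (.leaf 0)))) (.node (.node (.node (.leaf 0x100067) (.leaf 0x2003a7)) (.node (.leaf 0x20018c) (.leaf 0))) (.node (.node (.leaf 0x1000f6) (.leaf 0)) (.node (.leaf 0x100252) (.leaf 0)))))) (.node (.node (.node (.node (.node (.leaf 0x100017) (.leaf 0x1002ce)) (.node (.leaf 0x20012b) (.leaf 0))) (.node (.node (.leaf 0x100099) (.leaf 0x100442)) (.node (.leaf 0x1001d4) (.leaf 0)))) (.node (.node (.node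 (.leaf 0x58) (.leaf 0x10036c)) (.node (.leaf 0x178) (.leaf 0))) (.node (.node (.leaf 0xe3) (.leaf 0)) (.node (.leaf 0x200230) (.leaf 0))))) (.node (.node (.node (.node (.leaf 0x200036) (.leaf 0x100314)) (.node (.leaf 0x200152) (.leaf 0))) (.node (.node (.leaf 0x2000bf) (.leaf 0x200507)) (.node (.leaf 0x1fd) (.leaf 0)))) (.node (.node (.node (.leaf 0x78) (.leaf 0x1003cf)) (.node (.leaf 0x2001a3) (.leaf 0))) (.node (.node (.leaf 0x100109) (.leaf 0)) (.node (.leaf 0x26b) (.leaf 0))))))) (.node (.node (.node (.node (.node (.node (.leaf 0x20000e) (.leaf 0x1002aa)) (.node (.leaf 0x100123) (.leaf 0))) (.node (.node (.leaf 0x100091) (.leaf 0x428)) (.node (.leaf 0x1001ca) (.leaf 0)))) (.node (.node (.node (.leaf 0x4e) (.leaf 0x10035a)) (.node (.leaf 0x20016d) (.leaf 0))) (.node (.node (.leaf 0xda) (.leaf 0)) (.node (.leaf 0x100223) (.leaf 0))))) (.node (.node (.node (.node (.leaf 0x20002e) (.leaf 0x100302)) (.node (.leaf 0x200148) (.leaf 0))) (.node (.node (.leaf 0x1000b7) (.leaf 0x2004d7))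 (.node (.leaf 0x1001f2) (.leaf 0)))) (.node (.node (.node (.leaf 0x20006f) (.leaf 0x2003b8)) (.node (.leaf 0x200193) (.leaf 0))) (.node (.node (.leaf 0x200100) (.leaf 0)) (.node (.leaf 0x10025d) (.leaf 0)))))) (.node (.node (.node (.node (.node (.leaf 0x10001f) (.leaf 0x2dc)) (.node (.leaf 0x200133) (.leaf 0))) (.node (.node (.leaf 0x1000a4) (.leaf 0x100471)) (.node (.leaf 0x1001e0) (.leaf 0)))) (.node (.node (.node (.leaf 0x10005e) (.leaf 0x20038d)) (.node (.leaf 0x100183) (.leaf 0))) (.node (.node (.leaf 0x1000eb) (.leaf 0)) (.node (.leaf 0x10023e) (.leaf 0))))) (.node (.node (.node (.node (.leaf 0x3e) (.leaf 0x100325)) (.node (.leaf 0x20015c) (.leaf 0))) (.node (.node (.leaf 0x1000c8) (.leaf 0x10054a)) (.node (.leaf 0x20020b) (.leaf 0)))) (.node (.node (.node (.leaf 0x200081) (.leaf 0x3ed)) (.node (.leaf 0x1001af) (.leaf 0))) (.node (.node (.leaf 0x200110) (.leaf 0)) (.node (.leaf 0x28a) (.leaf 0))))))))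

/-- part of a tree -/
def node0L0tree1 : Trie :=
  (.node (.node (.node (.node (.node (.node (.node (.leaf 0x0) (.leaf 0x10028c)) (.node (.leaf 0x114) (.leaf 0))) (.node (.node (.leaf 0x200082) (.leaf 0x3f0)) (.node (.leaf 0x1001b0) (.leaf 0)))) (.node (.node (.node (.leaf 0x40) (.leaf 0x32e)) (.node (.leaf 0x15e) (.leaf 0))) (.node (.node (.leaf 0x1000c9) (.leaf 0)) (.node (.leaf 0x20d) (.leaf 0))))) (.node (.node (.node (.node (.leaf 0x100021) (.leaf 0x2002e2)) (.node (.leaf 0x200135) (.leaf 0))) (.node (.node (.leaf 0x1000a6) (.leaf 0x10047d)) (.node (.leaf 0x2001e1) (.leaf 0)))) (.node (.node (.node (.leaf 0x60) (.leaf 0x100392)) (.node (.leaf 0x100186) (.leaf 0))) (.node (.node (.leaf 0x1000ed) (.leaf 0)) (.node (.leaf 0x100242) (.leaf 0)))))) (.node (.node (.node (.node (.node (.leaf 0x10) (.leaf 0x1002ae)) (.node (.leaf 0x125) (.leaf 0))) (.node (.node (.leaf 0x100093) (.leaf 0x42a)) (.node (.leaf 0x2001cc) (.leaf 0)))) (.node (.node (.node (.leaf 0x10004f) (.leaf 0x20035d))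 (.node (.leaf 0x170) (.leaf 0))) (.node (.node (.leaf 0xdb) (.leaf 0)) (.node (.leaf 0x200226) (.leaf 0))))) (.node (.node (.node (.node (.leaf 0x200030) (.leaf 0x100305)) (.node (.leaf 0x20014a) (.leaf 0))) (.node (.node (.leaf 0x1000b8) (.leaf 0x2004e2)) (.node (.leaf 0x1001f4) (.leaf 0)))) (.node (.node (.node (.leaf 0x200070) (.leaf 0x2003bb)) (.node (.leaf 0x100196) (.leaf 0))) (.node (.node (.leaf 0x100102) (.leaf 0)) (.node (.leaf 0x260) (.leaf 0))))))) (.node (.node (.node (.node (.node (.node (.leaf 0x200009) (.leaf 0x20029c)) (.node (.leaf 0x10011c) (.leaf 0))) (.node (.node (.leaf 0x10008a) (.leaf 0x200417)) (.node (.leaf 0x1001bf) (.leaf 0)))) (.node (.node (.node (.leaf 0x200047) (.leaf 0x34e)) (.node (.leaf 0x200168) (.leaf 0))) (.node (.node (.leaf 0x1000d3) (.leaf 0)) (.node (.leaf 0x100214) (.leaf 0))))) (.node (.node (.node (.node (.leaf 0x200028) (.leaf 0x1002f5)) (.node (.leaf 0x200140) (.leaf 0))) (.node (.node (.leaf 0xb0) (.leaf 0x1004b0)) (.node (.leaf 0x1ed)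 (.leaf 0)))) (.node (.node (.node (.leaf 0x200068) (.leaf 0x2003ab)) (.node (.leaf 0x18e) (.leaf 0))) (.node (.node (.leaf 0x2000f7) (.leaf 0)) (.node (.leaf 0x255) (.leaf 0)))))) (.node (.node (.node (.node (.node (.leaf 0x100018) (.leaf 0x1002d0)) (.node (.leaf 0x12e) (.leaf 0))) (.node (.node (.leaf 0x10009b) (.leaf 0x10044a)) (.node (.leaf 0x1001d6) (.leaf 0)))) (.node (.node (.node (.leaf 0x100059) (.leaf 0x10036f)) (.node (.leaf 0x100179) (.leaf 0))) (.node (.node (.leaf 0xe4) (.leaf 0)) (.node (.leaf 0x100232) (.leaf 0))))) (.node (.node (.node (.node (.leaf 0x200037) (.leaf 0x100319)) (.node (.leaf 0x200154) (.leaf 0))) (.node (.node (.leaf 0x1000c1) (.leaf 0x200510)) (.node (.leaf 0x1001fe) (.leaf 0)))) (.node (.node (.node (.leaf 0x7a) (.leaf 0x2003d5)) (.node (.leaf 0x1a5) (.leaf 0))) (.node (.node (.leaf 0x20010a) (.leaf 0)) (.node (.leaf 0x26c) (.leaf 0))))))))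

/-- part of a tree -/
def node0L0tree9 : Trie :=
  (.node (.node (.node (.node (.node (.node (.node (.leaf 0x100004) (.leaf 0x100297)) (.node (.leaf 0x117) (.leaf 0))) (.node (.node (.leaf 0x86) (.leaf 0x1003fe)) (.node (.leaf 0x1b9) (.leaf 0)))) (.node (.node (.node (.leaf 0x200043) (.leaf 0x20033c)) (.node (.leaf 0x163) (.leaf 0))) (.node (.node (.leaf 0x1000ce) (.leaf 0)) (.node (.leaf 0x211) (.leaf 0))))) (.node (.node (.node (.node (.leaf 0x25) (.leaf 0x2002ec)) (.node (.leaf 0x20013a) (.leaf 0))) (.node (.node (.leaf 0xab) (.leaf 0x100487)) (.node (.leaf 0x2001e6) (.leaf 0)))) (.node (.node (.node (.leaf 0x100065) (.leaf 0x1003a0)) (.node (.leaf 0x18a) (.leaf 0))) (.node (.node (.leaf 0x1000f3) (.leaf 0)) (.node (.leaf 0x20024c) (.leaf 0)))))) (.node (.node (.node (.node (.node (.leaf 0x200013) (.leaf 0x1002be)) (.node (.leaf 0x100128) (.leaf 0))) (.node (.node (.leaf 0x200097) (.leaf 0x43c)) (.node (.leaf 0x1001d1) (.leaf 0)))) (.node (.node (.node (.leaf 0x100054) (.leaf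 0x200367)) (.node (.leaf 0x100174) (.leaf 0))) (.node (.node (.leaf 0x2000df) (.leaf 0)) (.node (.leaf 0x10022c) (.leaf 0))))) (.node (.node (.node (.node (.leaf 0x200034) (.leaf 0x20030d)) (.node (.leaf 0x20014f) (.leaf 0))) (.node (.node (.leaf 0x1000bd) (.leaf 0x2004f6)) (.node (.leaf 0x1f9) (.leaf 0)))) (.node (.node (.node (.leaf 0x100075) (.leaf 0x1003c7)) (.node (.leaf 0x10019f) (.leaf 0))) (.node (.node (.leaf 0x200106) (.leaf 0)) (.node (.leaf 0x268) (.leaf 0))))))) (.node (.node (.node (.node (.node (.node (.leaf 0x20000c) (.leaf 0x2002a6)) (.node (.leaf 0x121) (.leaf 0))) (.node (.node (.leaf 0x10008f) (.leaf 0x200423)) (.node (.leaf 0x2001c6) (.leaf 0)))) (.node (.node (.node (.leaf 0x20004a) (.leaf 0x100357)) (.node (.leaf 0x20016b) (.leaf 0))) (.node (.node (.leaf 0x1000d7) (.leaf 0)) (.node (.leaf 0x10021f) (.leaf 0))))) (.node (.node (.node (.node (.leaf 0x2d) (.leaf 0x1002fc)) (.node (.leaf 0x100146) (.leaf 0))) (.node (.node (.leaf 0x2000b4) (.leaf 0x2004ba))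 (.node (.leaf 0x1001f0) (.leaf 0)))) (.node (.node (.node (.leaf 0x6d) (.leaf 0x1003b3)) (.node (.leaf 0x100191) (.leaf 0))) (.node (.node (.leaf 0x1000fe) (.leaf 0)) (.node (.leaf 0x200259) (.leaf 0)))))) (.node (.node (.node (.node (.node (.leaf 0x10001c) (.leaf 0x2d9)) (.node (.leaf 0x100131) (.leaf 0))) (.node (.node (.leaf 0xa1) (.leaf 0x100466)) (.node (.leaf 0x1001dc) (.leaf 0)))) (.node (.node (.node (.leaf 0x20005c) (.leaf 0x388)) (.node (.leaf 0x20017e) (.leaf 0))) (.node (.node (.leaf 0x1000e7) (.leaf 0)) (.node (.leaf 0x200239) (.leaf 0))))) (.node (.node (.node (.node (.leaf 0x20003b) (.leaf 0x322)) (.node (.leaf 0x100159) (.leaf 0))) (.node (.node (.leaf 0x2000c4) (.leaf 0x20053b)) (.node (.leaf 0x100206) (.leaf 0)))) (.node (.node (.node (.leaf 0x7f) (.leaf 0x1003e9)) (.node (.leaf 0x1ad) (.leaf 0))) (.node (.node (.leaf 0x20010e) (.leaf 0)) (.node (.leaf 0x100284) (.leaf 0))))))))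

/-- part of a tree -/
def node0L0tree5 : Trie :=
  (.node (.node (.node (.node (.node (.node (.node (.leaf 0x2) (.leaf 0x293)) (.node (.leaf 0x100115) (.leaf 0))) (.node (.node (.leaf 0x200084) (.leaf 0x2003f2)) (.node (.leaf 0x2001b5) (.leaf 0)))) (.node (.node (.node (.leaf 0x100041) (.leaf 0x100330)) (.node (.leaf 0x100160) (.leaf 0))) (.node (.node (.leaf 0x2000cb) (.leaf 0)) (.node (.leaf 0x20f) (.leaf 0))))) (.node (.node (.node (.node (.leaf 0x200022) (.leaf 0x1002e8)) (.node (.leaf 0x100138) (.leaf 0))) (.node (.node (.leaf 0xa9) (.leaf 0x100484)) (.node (.leaf 0x1e4) (.leaf 0)))) (.node (.node (.node (.leaf 0x100062) (.leaf 0x200397)) (.node (.leaf 0x100188) (.leaf 0))) (.node (.node (.leaf 0x2000f0) (.leaf 0)) (.node (.leaf 0x200245) (.leaf 0)))))) (.node (.node (.node (.node (.node (.leaf 0x100011) (.leaf 0x2002b6)) (.node (.leaf 0x100126) (.leaf 0))) (.node (.node (.leaf 0x100095) (.leaf 0x42f)) (.node (.leaf 0x2001ce) (.leaf 0)))) (.node (.node (.node (.leaf 0x52)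 (.leaf 0x100363)) (.node (.leaf 0x100172) (.leaf 0))) (.node (.node (.leaf 0x2000dc) (.leaf 0)) (.node (.leaf 0x100229) (.leaf 0))))) (.node (.node (.node (.node (.leaf 0x32) (.leaf 0x200309)) (.node (.leaf 0x10014d) (.leaf 0))) (.node (.node (.leaf 0xbb) (.leaf 0x2004ec)) (.node (.leaf 0x1001f6) (.leaf 0)))) (.node (.node (.node (.leaf 0x73) (.leaf 0x3c4)) (.node (.leaf 0x20019b) (.leaf 0))) (.node (.node (.leaf 0x104) (.leaf 0)) (.node (.leaf 0x263) (.leaf 0))))))) (.node (.node (.node (.node (.node (.node (.leaf 0x10000b) (.leaf 0x1002a2)) (.node (.leaf 0x20011e) (.leaf 0))) (.node (.node (.leaf 0x10008d) (.leaf 0x100421)) (.node (.leaf 0x2001c1) (.leaf 0)))) (.node (.node (.node (.leaf 0x100049) (.leaf 0x100353)) (.node (.leaf 0x10016a) (.leaf 0))) (.node (.node (.leaf 0x1000d5) (.leaf 0)) (.node (.leaf 0x100219) (.leaf 0))))) (.node (.node (.node (.node (.leaf 0x20002a) (.leaf 0x1002f9)) (.node (.leaf 0x100143) (.leaf 0))) (.node (.node (.leaf 0x1000b3) (.leaf 0x2004b3)) (.node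 (.leaf 0x2001ee) (.leaf 0)))) (.node (.node (.node (.leaf 0x6b) (.leaf 0x3af)) (.node (.leaf 0x10018f) (.leaf 0))) (.node (.node (.leaf 0xfb) (.leaf 0)) (.node (.leaf 0x100257) (.leaf 0)))))) (.node (.node (.node (.node (.node (.leaf 0x10001a) (.leaf 0x2002d5)) (.node (.leaf 0x10012f) (.leaf 0))) (.node (.node (.leaf 0x10009e) (.leaf 0x459)) (.node (.leaf 0x1001d9) (.leaf 0)))) (.node (.node (.node (.leaf 0x20005a) (.leaf 0x200385)) (.node (.leaf 0x20017c) (.leaf 0))) (.node (.node (.leaf 0xe6) (.leaf 0)) (.node (.leaf 0x235) (.leaf 0))))) (.node (.node (.node (.node (.leaf 0x200039) (.leaf 0x10031c)) (.node (.leaf 0x100156) (.leaf 0))) (.node (.node (.leaf 0xc3) (.leaf 0x10051c)) (.node (.leaf 0x200200) (.leaf 0)))) (.node (.node (.node (.leaf 0x10007c) (.leaf 0x1003e4)) (.node (.leaf 0x2001a8) (.leaf 0))) (.node (.node (.leaf 0x10010c) (.leaf 0)) (.node (.leaf 0x200279) (.leaf 0))))))))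

/-- part of a tree -/
def node0L0tree13 : Trie :=
  (.node (.node (.node (.node (.node (.node (.node (.leaf 0x200006) (.leaf 0x299)) (.node (.leaf 0x10011a) (.leaf 0))) (.node (.node (.leaf 0x88) (.leaf 0x10040c)) (.node (.leaf 0x1001bc) (.leaf 0)))) (.node (.node (.node (.leaf 0x45) (.leaf 0x200347)) (.node (.leaf 0x200165) (.leaf 0))) (.node (.node (.leaf 0x2000d0) (.leaf 0)) (.node (.leaf 0x100212) (.leaf 0))))) (.node (.node (.node (.node (.leaf 0x200026) (.leaf 0x1002f2)) (.node (.leaf 0x20013c) (.leaf 0))) (.node (.node (.leaf 0x1000ad) (.leaf 0x10049c)) (.node (.leaf 0x2001e8) (.leaf 0)))) (.node (.node (.node (.leaf 0x67) (.leaf 0x2003a6)) (.node (.leaf 0x18c) (.leaf 0))) (.node (.node (.leaf 0x2000f5) (.leaf 0)) (.node (.leaf 0x252) (.leaf 0)))))) (.node (.node (.node (.node (.node (.leaf 0x100016) (.leaf 0x2ce)) (.node (.leaf 0x10012b) (.leaf 0))) (.node (.node (.leaf 0x99) (.leaf 0x100440)) (.node (.leaf 0x2001d3) (.leaf 0)))) (.node (.node (.node (.leaf 0x57) (.leaf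 0x10036b)) (.node (.leaf 0x200177) (.leaf 0))) (.node (.node (.leaf 0x1000e1) (.leaf 0)) (.node (.leaf 0x100230) (.leaf 0))))) (.node (.node (.node (.node (.leaf 0x100036) (.leaf 0x100312)) (.node (.leaf 0x152) (.leaf 0))) (.node (.node (.leaf 0x1000bf) (.leaf 0x200503)) (.node (.leaf 0x2001fc) (.leaf 0)))) (.node (.node (.node (.leaf 0x100077) (.leaf 0x1003cd)) (.node (.leaf 0x1001a2) (.leaf 0))) (.node (.node (.leaf 0x100108) (.leaf 0)) (.node (.leaf 0x10026a) (.leaf 0))))))) (.node (.node (.node (.node (.node (.node (.leaf 0x10000e) (.leaf 0x1002a9)) (.node (.leaf 0x123) (.leaf 0))) (.node (.node (.leaf 0x91) (.leaf 0x100427)) (.node (.leaf 0x2001c9) (.leaf 0)))) (.node (.node (.node (.leaf 0x10004d) (.leaf 0x35a)) (.node (.leaf 0x10016d) (.leaf 0))) (.node (.node (.leaf 0x2000d9) (.leaf 0)) (.node (.leaf 0x223) (.leaf 0))))) (.node (.node (.node (.node (.leaf 0x10002e) (.leaf 0x200301)) (.node (.leaf 0x100148) (.leaf 0))) (.node (.node (.leaf 0xb7) (.leaf 0x1004d2)) (.node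 (.leaf 0x1f2) (.leaf 0)))) (.node (.node (.node (.leaf 0x10006f) (.leaf 0x1003b7)) (.node (.leaf 0x193) (.leaf 0))) (.node (.node (.leaf 0x100100) (.leaf 0)) (.node (.leaf 0x10025c) (.leaf 0)))))) (.node (.node (.node (.node (.node (.leaf 0x10001e) (.leaf 0x1002db)) (.node (.leaf 0x133) (.leaf 0))) (.node (.node (.leaf 0xa4) (.leaf 0x471)) (.node (.leaf 0x1001df) (.leaf 0)))) (.node (.node (.node (.leaf 0x5e) (.leaf 0x38d)) (.node (.leaf 0x100182) (.leaf 0))) (.node (.node (.leaf 0xeb) (.leaf 0)) (.node (.leaf 0x10023d) (.leaf 0))))) (.node (.node (.node (.node (.leaf 0x20003d) (.leaf 0x200324)) (.node (.leaf 0x10015c) (.leaf 0))) (.node (.node (.leaf 0xc8) (.leaf 0x100547)) (.node (.leaf 0x10020b) (.leaf 0)))) (.node (.node (.node (.leaf 0x100081) (.leaf 0x2003ec)) (.node (.leaf 0x2001ae) (.leaf 0))) (.node (.node (.leaf 0x100110) (.leaf 0)) (.node (.leaf 0x200289) (.leaf 0))))))))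

/-- part of a tree -/
def node0L0tree3 : Trie :=
  (.node (.node (.node (.node (.node (.node (.node (.leaf 0x1) (.leaf 0x10028e)) (.node (.leaf 0x200114) (.leaf 0))) (.node (.node (.leaf 0x100083) (.leaf 0x1003f1)) (.node (.leaf 0x1001b2) (.leaf 0)))) (.node (.node (.node (.leaf 0x200040) (.leaf 0x32f)) (.node (.leaf 0x15f) (.leaf 0))) (.node (.node (.leaf 0x1000ca) (.leaf 0)) (.node (.leaf 0x20020d) (.leaf 0))))) (.node (.node (.node (.node (.leaf 0x22) (.leaf 0x2002e3)) (.node (.leaf 0x200137) (.leaf 0))) (.node (.node (.leaf 0x1000a7) (.leaf 0x482)) (.node (.leaf 0x1e3) (.leaf 0)))) (.node (.node (.node (.leaf 0x200060) (.leaf 0x200396)) (.node (.leaf 0x200187) (.leaf 0))) (.node (.node (.leaf 0x1000ef) (.leaf 0)) (.node (.leaf 0x245) (.leaf 0)))))) (.node (.node (.node (.node (.node (.leaf 0x200010) (.leaf 0x1002b1)) (.node (.leaf 0x200125) (.leaf 0))) (.node (.node (.leaf 0x100094) (.leaf 0x20042b)) (.node (.leaf 0x1ce) (.leaf 0)))) (.node (.node (.node (.leaf 0x200050) (.leaf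 0x35f)) (.node (.leaf 0x200170) (.leaf 0))) (.node (.node (.leaf 0xdc) (.leaf 0)) (.node (.leaf 0x100227) (.leaf 0))))) (.node (.node (.node (.node (.leaf 0x100031) (.leaf 0x307)) (.node (.leaf 0x10014c) (.leaf 0))) (.node (.node (.leaf 0x1000b9) (.leaf 0x1004e6)) (.node (.leaf 0x1001f5) (.leaf 0)))) (.node (.node (.node (.leaf 0x100071) (.leaf 0x3bd)) (.node (.leaf 0x100199) (.leaf 0))) (.node (.node (.leaf 0x100103) (.leaf 0)) (.node (.leaf 0x262) (.leaf 0))))))) (.node (.node (.node (.node (.node (.node (.leaf 0x10000a) (.leaf 0x29e)) (.node (.leaf 0x11e) (.leaf 0))) (.node (.node (.leaf 0x8c) (.leaf 0x41d)) (.node (.leaf 0x1001c0) (.leaf 0)))) (.node (.node (.node (.leaf 0x100048) (.leaf 0x10034f)) (.node (.leaf 0x100169) (.leaf 0))) (.node (.node (.leaf 0x1000d4) (.leaf 0)) (.node (.leaf 0x100215) (.leaf 0))))) (.node (.node (.node (.node (.leaf 0x2a) (.leaf 0x1002f8)) (.node (.leaf 0x200141) (.leaf 0))) (.node (.node (.leaf 0x2000b1) (.leaf 0x2004b2)) (.node (.leaf 0x1ee)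 (.leaf 0)))) (.node (.node (.node (.leaf 0x100069) (.leaf 0x2003ac)) (.node (.leaf 0x20018e) (.leaf 0))) (.node (.node (.leaf 0x1000f9) (.leaf 0)) (.node (.leaf 0x100256) (.leaf 0)))))) (.node (.node (.node (.node (.node (.leaf 0x19) (.leaf 0x2002d2)) (.node (.leaf 0x20012e) (.leaf 0))) (.node (.node (.leaf 0x10009d) (.leaf 0x100451)) (.node (.leaf 0x2001d7) (.leaf 0)))) (.node (.node (.node (.leaf 0x5a) (.leaf 0x100379)) (.node (.leaf 0x20017b) (.leaf 0))) (.node (.node (.leaf 0x2000e4) (.leaf 0)) (.node (.leaf 0x233) (.leaf 0))))) (.node (.node (.node (.node (.leaf 0x100038) (.leaf 0x10031a)) (.node (.leaf 0x100155) (.leaf 0))) (.node (.node (.leaf 0xc2) (.leaf 0x100519)) (.node (.leaf 0x2001ff) (.leaf 0)))) (.node (.node (.node (.leaf 0x10007b) (.leaf 0x1003dd)) (.node (.leaf 0x1a8) (.leaf 0))) (.node (.node (.leaf 0x20010b) (.leaf 0)) (.node (.leaf 0x100273) (.leaf 0))))))))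

/-- part of a tree -/
def node0L0tree11 : Trie :=
  (.node (.node (.node (.node (.node (.node (.node (.leaf 0x6) (.leaf 0x100298)) (.node (.leaf 0x100118) (.leaf 0))) (.node (.node (.leaf 0x87) (.leaf 0x100409)) (.node (.leaf 0x2001ba) (.leaf 0)))) (.node (.node (.node (.leaf 0x100044) (.leaf 0x20033e)) (.node (.leaf 0x200163) (.leaf 0))) (.node (.node (.leaf 0xd0) (.leaf 0)) (.node (.leaf 0x200211) (.leaf 0))))) (.node (.node (.node (.node (.leaf 0x200025) (.leaf 0x2002ed)) (.node (.leaf 0x13c) (.leaf 0))) (.node (.node (.leaf 0x2000ab) (.leaf 0x100490)) (.node (.leaf 0x1e8) (.leaf 0)))) (.node (.node (.node (.leaf 0x100066) (.leaf 0x1003a2)) (.node (.leaf 0x20018a) (.leaf 0))) (.node (.node (.leaf 0xf5) (.leaf 0)) (.node (.leaf 0x200250) (.leaf 0)))))) (.node (.node (.node (.node (.node (.leaf 0x100015) (.leaf 0x1002cc)) (.node (.leaf 0x10012a) (.leaf 0))) (.node (.node (.leaf 0x100098) (.leaf 0x43f)) (.node (.leaf 0x2001d2) (.leaf 0)))) (.node (.node (.node (.leaf 0x100055)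 (.leaf 0x100369)) (.node (.leaf 0x100176) (.leaf 0))) (.node (.node (.leaf 0x2000e0) (.leaf 0)) (.node (.leaf 0x10022f) (.leaf 0))))) (.node (.node (.node (.node (.leaf 0x100035) (.leaf 0x100310)) (.node (.leaf 0x100150) (.leaf 0))) (.node (.node (.leaf 0x1000be) (.leaf 0x1004fd)) (.node (.leaf 0x1001fa) (.leaf 0)))) (.node (.node (.node (.leaf 0x100076) (.leaf 0x3cc)) (.node (.leaf 0x1001a0) (.leaf 0))) (.node (.node (.leaf 0x200107) (.leaf 0)) (.node (.leaf 0x200268) (.leaf 0))))))) (.node (.node (.node (.node (.node (.node (.leaf 0x10000d) (.leaf 0x1002a8)) (.node (.leaf 0x200121) (.leaf 0))) (.node (.node (.leaf 0x100090) (.leaf 0x426)) (.node (.leaf 0x2001c7) (.leaf 0)))) (.node (.node (.node (.leaf 0x10004b) (.leaf 0x359)) (.node (.leaf 0x10016c) (.leaf 0))) (.node (.node (.leaf 0x1000d8) (.leaf 0)) (.node (.leaf 0x222) (.leaf 0))))) (.node (.node (.node (.node (.leaf 0x20002d) (.leaf 0x1002ff)) (.node (.leaf 0x100147) (.leaf 0))) (.node (.node (.leaf 0x1000b5) (.leaf 0x2004c9))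 (.node (.leaf 0x1f1) (.leaf 0)))) (.node (.node (.node (.leaf 0x20006d) (.leaf 0x1003b5)) (.node (.leaf 0x192) (.leaf 0))) (.node (.node (.leaf 0x2000ff) (.leaf 0)) (.node (.leaf 0x10025b) (.leaf 0)))))) (.node (.node (.node (.node (.node (.leaf 0x10001d) (.leaf 0x2da)) (.node (.leaf 0x132) (.leaf 0))) (.node (.node (.leaf 0x1000a2) (.leaf 0x10046e)) (.node (.leaf 0x1de) (.leaf 0)))) (.node (.node (.node (.leaf 0x10005d) (.leaf 0x38a)) (.node (.leaf 0x100180) (.leaf 0))) (.node (.node (.leaf 0x2000e9) (.leaf 0)) (.node (.leaf 0x23c) (.leaf 0))))) (.node (.node (.node (.node (.leaf 0x3d) (.leaf 0x100323)) (.node (.leaf 0x10015b) (.leaf 0))) (.node (.node (.leaf 0x1000c6) (.leaf 0x100542)) (.node (.leaf 0x100209) (.leaf 0)))) (.node (.node (.node (.leaf 0x100080) (.leaf 0x1003eb)) (.node (.leaf 0x2001ad) (.leaf 0))) (.node (.node (.leaf 0x10010f) (.leaf 0)) (.node (.leaf 0x287) (.leaf 0))))))))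

/-- part of a tree -/
def node0L0tree7 : Trie :=
  (.node (.node (.node (.node (.node (.node (.node (.leaf 0x3) (.leaf 0x200295)) (.node (.leaf 0x100116) (.leaf 0))) (.node (.node (.leaf 0x100085) (.leaf 0x1003f6)) (.node (.leaf 0x2001b6) (.leaf 0)))) (.node (.node (.node (.leaf 0x100042) (.leaf 0x100337)) (.node (.leaf 0x200161) (.leaf 0))) (.node (.node (.leaf 0x1000cc) (.leaf 0)) (.node (.leaf 0x210) (.leaf 0))))) (.node (.node (.node (.node (.leaf 0x100023) (.leaf 0x2e9)) (.node (.leaf 0x100139) (.leaf 0))) (.node (.node (.leaf 0x2000a9) (.leaf 0x200485)) (.node (.leaf 0x1001e5) (.leaf 0)))) (.node (.node (.node (.leaf 0x64) (.leaf 0x10039b)) (.node (.leaf 0x189) (.leaf 0))) (.node (.node (.leaf 0x1000f2) (.leaf 0)) (.node (.leaf 0x100248) (.leaf 0)))))) (.node (.node (.node (.node (.node (.leaf 0x13) (.leaf 0x1002bc)) (.node (.leaf 0x100127) (.leaf 0))) (.node (.node (.leaf 0x100096) (.leaf 0x200431)) (.node (.leaf 0x1001d0) (.leaf 0)))) (.node (.node (.node (.leaf 0x100053)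 (.leaf 0x367)) (.node (.leaf 0x200173) (.leaf 0))) (.node (.node (.leaf 0x1000de) (.leaf 0)) (.node (.leaf 0x10022b) (.leaf 0))))) (.node (.node (.node (.node (.leaf 0x100033) (.leaf 0x10030b)) (.node (.leaf 0x10014e) (.leaf 0))) (.node (.node (.leaf 0xbc) (.leaf 0x1004f5)) (.node (.leaf 0x1001f8) (.leaf 0)))) (.node (.node (.node (.leaf 0x200073) (.leaf 0x1003c5)) (.node (.leaf 0x20019e) (.leaf 0))) (.node (.node (.leaf 0x200104) (.leaf 0)) (.node (.leaf 0x267) (.leaf 0))))))) (.node (.node (.node (.node (.node (.node (.leaf 0xc) (.leaf 0x2a6)) (.node (.leaf 0x20011f) (.leaf 0))) (.node (.node (.leaf 0x20008e) (.leaf 0x100422)) (.node (.leaf 0x1c6) (.leaf 0)))) (.node (.node (.node (.leaf 0x4a) (.leaf 0x356)) (.node (.leaf 0x16b) (.leaf 0))) (.node (.node (.leaf 0x1000d6) (.leaf 0)) (.node (.leaf 0x10021c) (.leaf 0))))) (.node (.node (.node (.node (.leaf 0x20002b) (.leaf 0x2fb)) (.node (.leaf 0x100144) (.leaf 0))) (.node (.node (.leaf 0xb4) (.leaf 0x1004b7)) (.node (.leaf 0x2001ef)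 (.leaf 0)))) (.node (.node (.node (.leaf 0x20006b) (.leaf 0x1003b0)) (.node (.leaf 0x200190) (.leaf 0))) (.node (.node (.leaf 0x1000fd) (.leaf 0)) (.node (.leaf 0x100258) (.leaf 0)))))) (.node (.node (.node (.node (.node (.leaf 0x10001b) (.leaf 0x1002d8)) (.node (.leaf 0x200130) (.leaf 0))) (.node (.node (.leaf 0x10009f) (.leaf 0x20045c)) (.node (.leaf 0x1001da) (.leaf 0)))) (.node (.node (.node (.leaf 0x10005b) (.leaf 0x100386)) (.node (.leaf 0x20017d) (.leaf 0))) (.node (.node (.leaf 0x2000e6) (.leaf 0)) (.node (.leaf 0x200238) (.leaf 0))))) (.node (.node (.node (.node (.leaf 0x3b) (.leaf 0x10031f)) (.node (.leaf 0x200157) (.leaf 0))) (.node (.node (.leaf 0xc4) (.leaf 0x200530)) (.node (.leaf 0x200202) (.leaf 0)))) (.node (.node (.node (.leaf 0x10007d) (.leaf 0x3e8)) (.node (.leaf 0x2001aa) (.leaf 0))) (.node (.node (.leaf 0x20010d) (.leaf 0)) (.node (.leaf 0x20027b) (.leaf 0))))))))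

/-- part of a tree -/
def node0L0tree15 : Trie :=
  (.node (.node (.node (.node (.node (.node (.node (.leaf 0x9) (.leaf 0x29b)) (.node (.leaf 0x10011b) (.leaf 0))) (.node (.node (.leaf 0x200088) (.leaf 0x20040f)) (.node (.leaf 0x1be) (.leaf 0)))) (.node (.node (.node (.leaf 0x100046) (.leaf 0x10034b)) (.node (.leaf 0x100167) (.leaf 0))) (.node (.node (.leaf 0x1000d2) (.leaf 0)) (.node (.leaf 0x200213) (.leaf 0))))) (.node (.node (.node (.node (.leaf 0x28) (.leaf 0x2002f3)) (.node (.leaf 0x140) (.leaf 0))) (.node (.node (.leaf 0xaf) (.leaf 0x2004a7)) (.node (.leaf 0x2001ea) (.leaf 0)))) (.node (.node (.node (.leaf 0x200067) (.leaf 0x1003a8)) (.node (.leaf 0x18d) (.leaf 0))) (.node (.node (.leaf 0xf7) (.leaf 0)) (.node (.leaf 0x200252) (.leaf 0)))))) (.node (.node (.node (.node (.node (.leaf 0x200017) (.leaf 0x1002cf)) (.node (.leaf 0x12c) (.leaf 0))) (.node (.node (.leaf 0x10009a) (.leaf 0x100445)) (.node (.leaf 0x1001d5) (.leaf 0)))) (.node (.node (.node (.leaf 0x100058) (.leaf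 0x20036c)) (.node (.leaf 0x200178) (.leaf 0))) (.node (.node (.leaf 0x1000e3) (.leaf 0)) (.node (.leaf 0x100231) (.leaf 0))))) (.node (.node (.node (.node (.leaf 0x37) (.leaf 0x318)) (.node (.leaf 0x154) (.leaf 0))) (.node (.node (.leaf 0xc0) (.leaf 0x100508)) (.node (.leaf 0x2001fd) (.leaf 0)))) (.node (.node (.node (.leaf 0x200078) (.leaf 0x3d2)) (.node (.leaf 0x1a4) (.leaf 0))) (.node (.node (.leaf 0x10a) (.leaf 0)) (.node (.leaf 0x10026b) (.leaf 0))))))) (.node (.node (.node (.node (.node (.node (.leaf 0x10000f) (.leaf 0x1002ab)) (.node (.leaf 0x200123) (.leaf 0))) (.node (.node (.leaf 0x100092) (.leaf 0x200428)) (.node (.leaf 0x1001cb) (.leaf 0)))) (.node (.node (.node (.leaf 0x10004e) (.leaf 0x35c)) (.node (.leaf 0x10016e) (.leaf 0))) (.node (.node (.leaf 0x1000da) (.leaf 0)) (.node (.leaf 0x225) (.leaf 0))))) (.node (.node (.node (.node (.leaf 0x10002f) (.leaf 0x303)) (.node (.leaf 0x14a) (.leaf 0))) (.node (.node (.leaf 0x2000b7) (.leaf 0x2004d9)) (.node (.leaf 0x2001f2)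 (.leaf 0)))) (.node (.node (.node (.leaf 0x70) (.leaf 0x3b9)) (.node (.leaf 0x195) (.leaf 0))) (.node (.node (.leaf 0x101) (.leaf 0)) (.node (.leaf 0x20025d) (.leaf 0)))))) (.node (.node (.node (.node (.node (.leaf 0x20001f) (.leaf 0x2002dc)) (.node (.leaf 0x135) (.leaf 0))) (.node (.node (.leaf 0x2000a4) (.leaf 0x100472)) (.node (.leaf 0x1e1) (.leaf 0)))) (.node (.node (.node (.leaf 0x5f) (.leaf 0x100390)) (.node (.leaf 0x100184) (.leaf 0))) (.node (.node (.leaf 0x1000ec) (.leaf 0)) (.node (.leaf 0x10023f) (.leaf 0))))) (.node (.node (.node (.node (.leaf 0x20003e) (.leaf 0x200327)) (.node (.leaf 0x10015d) (.leaf 0))) (.node (.node (.leaf 0x2000c8) (.leaf 0x20054e)) (.node (.leaf 0x20c) (.leaf 0)))) (.node (.node (.node (.leaf 0x82) (.leaf 0x2003ed)) (.node (.leaf 0x2001af) (.leaf 0))) (.node (.node (.leaf 0x100112) (.leaf 0)) (.node (.leaf 0x10028a) (.leaf 0))))))))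

/-- a tree -/
def node0L0tree : Trie :=
  (.node (.node (.node (.node node0L0tree0 node0L0tree8) (.node node0L0tree4 node0L0tree12)) (.node (.node node0L0tree2 node0L0tree10) (.node node0L0tree6 node0L0tree14))) (.node (.node (.node node0L0tree1 node0L0tree9) (.node node0L0tree5 node0L0tree13)) (.node (.node node0L0tree3 node0L0tree11) (.node node0L0tree7 node0L0tree15))))

/-- part of transversal words -/
def node0L0word0 : Trie :=
  (.node (.node (.node (.node (.node (.node (.node (.leaf 0x0) (.leaf 0xb2db2dd)) (.node (.leaf 0xea929) (.leaf 0))) (.node (.node (.leaf 0x6dd2e9) (.leaf 0xcbadd65d)) (.node (.leaf 0x54eb75d) (.leaf 0)))) (.node (.node (.node (.leaf 0xeb2e9) (.leaf 0xdd75d749)) (.node (.leaf 0x52eba5d) (.leaf 0))) (.node (.node (.leaf 0x4e96dd) (.leaf 0)) (.node (.leaf 0x2b6ea6e9) (.leaf 0))))) (.node (.node (.node (.node (.leaf 0x1d2e9) (.leaf 0x1b4dba5d)) (.node (.leaf 0x36996e9) (.leaf 0))) (.node (.node (.leaf 0x69d6e9) (.leaf 0x2b69b75d)) (.node (.leaf 0x1ba9d2e9)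 (.leaf 0)))) (.node (.node (.node (.leaf 0x15d2dd) (.leaf 0x14b75d6e9)) (.node (.leaf 0x3add6dd) (.leaf 0))) (.node (.node (.leaf 0x996dd) (.leaf 0)) (.node (.leaf 0x2b6996e9) (.leaf 0)))))) (.node (.node (.node (.node (.node (.leaf 0x52e9) (.leaf 0x2b7596dd)) (.node (.leaf 0x52cbae9) (.leaf 0))) (.node (.node (.leaf 0x4dd2e9) (.leaf 0x5b65d6dd)) (.node (.leaf 0x25749) (.leaf 0)))) (.node (.node (.node (.leaf 0x15a6e9) (.leaf 0xcb2e96e9)) (.node (.leaf 0x3a9d2dd) (.leaf 0))) (.node (.node (.leaf 0xad975d) (.leaf 0)) (.node (.leaf 0x1bacbae9) (.leaf 0))))) (.node (.node (.node (.node (.leaf 0x196dd) (.leaf 0x2b6ea75d)) (.node (.leaf 0x36ebaea) (.leaf 0))) (.node (.node (.leaf 0x2cb2dd) (.leaf 0x24aebae9)) (.node (.leaf 0x1d2e96e9) (.leaf 0)))) (.node (.node (.node (.leaf 0x495d) (.leaf 0xea6ebae9)) (.node (.leaf 0x569ba5d) (.leaf 0))) (.node (.node (.leaf 0x3add2e9) (.leaf 0)) (.node (.leaf 0x1d75baea) (.leaf 0))))))) (.node (.node (.node (.node (.node (.node (.leaf 0x6e9) (.leaf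 0x1965d2dd)) (.node (.leaf 0x565d6e9) (.leaf 0))) (.node (.node (.leaf 0x74b6e9) (.leaf 0xcb2d96dd)) (.node (.leaf 0x4eb2dd) (.leaf 0)))) (.node (.node (.node (.leaf 0x5d6e9) (.leaf 0x5ba596e9)) (.node (.leaf 0x175b2dd) (.leaf 0))) (.node (.node (.leaf 0x2ebadd) (.leaf 0)) (.node (.leaf 0xb75d6e9) (.leaf 0))))) (.node (.node (.node (.node (.leaf 0x92a) (.leaf 0x2b65b75d)) (.node (.leaf 0x369d6e9) (.leaf 0))) (.node (.node (.leaf 0xadd65d) (.leaf 0xad96cb6e9)) (.node (.leaf 0x2a6d96e9) (.leaf 0)))) (.node (.node (.node (.leaf 0xcbadd) (.leaf 0x15d2dbae9)) (.node (.leaf 0x3acbadd) (.leaf 0))) (.node (.node (.leaf 0x375d749) (.leaf 0)) (.node (.leaf 0x1d75d6ea) (.leaf 0)))))) (.node (.node (.node (.node (.node (.leaf 0x16dd) (.leaf 0xbacbadd)) (.node (.leaf 0x3adbae9) (.leaf 0))) (.node (.node (.leaf 0x2ebae9) (.leaf 0x5b75975d)) (.node (.leaf 0x2a6eb2e9) (.leaf 0)))) (.node (.node (.node (.leaf 0x15d65d) (.leaf 0xcb74b6e9)) (.node (.leaf 0x54e96dd) (.leaf 0))) (.node (.node (.leaf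 0xaeb75d) (.leaf 0)) (.node (.leaf 0x2975bae9) (.leaf 0))))) (.node (.node (.node (.node (.leaf 0x1b75d) (.leaf 0x56d3add)) (.node (.leaf 0x374ba5d) (.leaf 0))) (.node (.node (.leaf 0x75d2dd) (.leaf 0x4cb74b2dd)) (.node (.leaf 0x2a74b6e9) (.leaf 0)))) (.node (.node (.node (.leaf 0x75b749) (.leaf 0xdbad3ae9)) (.node (.leaf 0x36e975d) (.leaf 0))) (.node (.node (.leaf 0x37596e9) (.leaf 0)) (.node (.leaf 0x2badd65d) (.leaf 0))))))))

/-- part of transversal words -/
def node0L0word8 : Trie :=
  (.node (.node (.node (.node (.node (.node (.node (.leaf 0x149) (.leaf 0x1d2eb2dd)) (.node (.leaf 0x52eb6e9) (.leaf 0))) (.node (.node (.leaf 0xad96e9) (.leaf 0xdbaeba5d)) (.node (.leaf 0x54dd75d) (.leaf 0)))) (.node (.node (.node (.leaf 0xcb6e9) (.leaf 0xd96dd2e9)) (.node (.leaf 0x54cb2dd) (.leaf 0))) (.node (.node (.leaf 0x69d2dd) (.leaf 0)) (.node (.leaf 0x1d65d6e9) (.leaf 0))))) (.node (.node (.node (.node (.leaf 0x1d4e9) (.leaf 0x2b4eb2dd)) (.node (.leaf 0x26cb6e9) (.leaf 0))) (.node (.node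 (.leaf 0x75baea) (.leaf 0x65d6eb2e9)) (.node (.leaf 0x296596e9) (.leaf 0)))) (.node (.node (.node (.leaf 0x3b25) (.leaf 0x190bae9)) (.node (.leaf 0x56dd4dd) (.leaf 0))) (.node (.node (.leaf 0x9975d) (.leaf 0)) (.node (.leaf 0x69d929) (.leaf 0)))))) (.node (.node (.node (.node (.node (.leaf 0x36ea) (.leaf 0x1baea6dd)) (.node (.leaf 0x574bae9) (.leaf 0))) (.node (.node (.leaf 0x65bae9) (.leaf 0x1596ebadd)) (.node (.leaf 0x2b75d749) (.leaf 0)))) (.node (.node (.node (.leaf 0x9bae9) (.leaf 0xd96cb6e9)) (.node (.leaf 0x54d96dd) (.leaf 0))) (.node (.node (.leaf 0x65b75d) (.leaf 0)) (.node (.leaf 0x2b2dbae9) (.leaf 0))))) (.node (.node (.node (.node (.leaf 0xbadd) (.leaf 0x34cb2dd)) (.node (.leaf 0x32dd65d) (.leaf 0))) (.node (.node (.leaf 0x75b2dd) (.leaf 0xadbaebaea)) (.node (.leaf 0x296cb6e9) (.leaf 0)))) (.node (.node (.node (.leaf 0x2b69d) (.leaf 0x9d7596e9)) (.node (.leaf 0x16d975d) (.leaf 0))) (.node (.node (.leaf 0x3a596e9) (.leaf 0)) (.node (.leaf 0x1ba5d65d) (.leaf 0)))))))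 (.node (.node (.node (.node (.node (.node (.leaf 0x6dd) (.leaf 0x1b2d96dd)) (.node (.leaf 0x34dd2e9) (.leaf 0))) (.node (.node (.leaf 0x4e96e9) (.leaf 0x5bae96dd)) (.node (.leaf 0x6d3add) (.leaf 0)))) (.node (.node (.node (.leaf 0xdbae9) (.leaf 0x1597596e9)) (.node (.leaf 0x36eb2dd) (.leaf 0))) (.node (.node (.leaf 0xadba9d) (.leaf 0)) (.node (.leaf 0x2b75d4e9) (.leaf 0))))) (.node (.node (.node (.node (.leaf 0x1d65d) (.leaf 0xb2eb75d)) (.node (.leaf 0x34dbae9) (.leaf 0))) (.node (.node (.leaf 0x24a5d) (.leaf 0xaea65d6e9)) (.node (.leaf 0xb7596e9) (.leaf 0)))) (.node (.node (.node (.leaf 0xeba9d) (.leaf 0xeb75bae9)) (.node (.leaf 0x16ebadd) (.leaf 0))) (.node (.node (.leaf 0x565d2e9) (.leaf 0)) (.node (.leaf 0x2b4dbae9) (.leaf 0)))))) (.node (.node (.node (.node (.node (.leaf 0x575d) (.leaf 0x296ebadd)) (.node (.leaf 0x16ebae9) (.leaf 0))) (.node (.node (.leaf 0x75a6e9) (.leaf 0xd36e975d)) (.node (.leaf 0x1d2dd2e9) (.leaf 0)))) (.node (.node (.node (.leaf 0xcb2dd) (.leaf 0xea65d6e9))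 (.node (.leaf 0xdbb25) (.leaf 0))) (.node (.node (.leaf 0xa9d75d) (.leaf 0)) (.node (.leaf 0xb6ebae9) (.leaf 0))))) (.node (.node (.node (.node (.leaf 0x4949) (.leaf 0x569b75d)) (.node (.leaf 0x54dba5d) (.leaf 0))) (.node (.node (.leaf 0x6e96dd) (.leaf 0xa9b75975d)) (.node (.leaf 0x2b7536e9) (.leaf 0)))) (.node (.node (.node (.leaf 0xa5b2e9) (.leaf 0x15ba5d65d)) (.node (.leaf 0x3a9b75d) (.leaf 0))) (.node (.node (.leaf 0x16cb6e9) (.leaf 0)) (.node (.leaf 0x1d94ca61) (.leaf 0))))))))

/-- part of transversal words -/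
def node0L0word4 : Trie :=
  (.node (.node (.node (.node (.node (.node (.node (.leaf 0x29) (.leaf 0x1a74b2dd)) (.node (.leaf 0x274b6e9) (.leaf 0))) (.node (.node (.leaf 0x6596e9) (.leaf 0x9ba5d65d)) (.node (.leaf 0x3aea75d) (.leaf 0)))) (.node (.node (.node (.leaf 0x596e9) (.leaf 0x1596eb2e9)) (.node (.leaf 0x3aeba5d) (.leaf 0))) (.node (.node (.leaf 0xa5d6dd) (.leaf 0)) (.node (.leaf 0x2965d6e9) (.leaf 0))))) (.node (.node (.node (.node (.leaf 0x929) (.leaf 0x1baeba9d)) (.node (.leaf 0x27596e9) (.leaf 0))) (.node (.node (.leaf 0xad3ae9) (.leaf 0x6596eb2e9)) (.node (.leaf 0x2b75d2e9) (.leaf 0)))) (.node (.node (.node (.leaf 0xe96dd) (.leaf 0x9badd2e9)) (.node (.leaf 0x265d2dd) (.leaf 0))) (.node (.node (.leaf 0x9d6dd) (.leaf 0)) (.node (.leaf 0x1b75a6e9) (.leaf 0)))))) (.node (.node (.node (.node (.node (.leaf 0x54e9) (.leaf 0x75d525)) (.node (.leaf 0x54cbae9) (.leaf 0))) (.node (.node (.leaf 0x2cbae9) (.leaf 0xdd6cbadd)) (.node (.leaf 0x1badd749) (.leaf 0)))) (.node (.node (.node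 (.leaf 0xeb6ea) (.leaf 0x14bae96e9)) (.node (.leaf 0x36596dd) (.leaf 0))) (.node (.node (.leaf 0x6e975d) (.leaf 0)) (.node (.leaf 0x2a74bae9) (.leaf 0))))) (.node (.node (.node (.node (.leaf 0xb25) (.leaf 0x1d4dd75d)) (.node (.leaf 0x574b65d) (.leaf 0))) (.node (.node (.leaf 0xa5b2dd) (.leaf 0xada6cb6e9)) (.node (.leaf 0x2bae96e9) (.leaf 0)))) (.node (.node (.node (.leaf 0xea75d) (.leaf 0xd37596e9)) (.node (.leaf 0x34eba5d) (.leaf 0))) (.node (.node (.leaf 0x575d2e9) (.leaf 0)) (.node (.leaf 0x1baebaea) (.leaf 0))))))) (.node (.node (.node (.node (.node (.node (.leaf 0xaea) (.leaf 0x2975d2dd)) (.node (.leaf 0x375d6e9) (.leaf 0))) (.node (.node (.leaf 0x1d929) (.leaf 0x15b7596dd)) (.node (.leaf 0x4d96dd) (.leaf 0)))) (.node (.node (.node (.leaf 0x15d4e9) (.leaf 0xea6d96e9)) (.node (.leaf 0x57532dd) (.leaf 0))) (.node (.node (.leaf 0xad3a5d) (.leaf 0)) (.node (.leaf 0x2b69d2e9) (.leaf 0))))) (.node (.node (.node (.node (.leaf 0x1baea) (.leaf 0x2ba9b75d)) (.node (.leaf 0x26cbae9)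 (.leaf 0))) (.node (.node (.leaf 0x74ba5d) (.leaf 0x4dd74b6e9)) (.node (.leaf 0x1ba996e9) (.leaf 0)))) (.node (.node (.node (.leaf 0xd3a5d) (.leaf 0x153adbae9)) (.node (.leaf 0x274badd) (.leaf 0))) (.node (.node (.leaf 0x52eb2e9) (.leaf 0)) (.node (.leaf 0x13acbae9) (.leaf 0)))))) (.node (.node (.node (.node (.node (.leaf 0x3add) (.leaf 0x1374badd)) (.node (.leaf 0x274bae9) (.leaf 0))) (.node (.node (.leaf 0xaeb4e9) (.leaf 0xd975b75d)) (.node (.leaf 0xb2994c) (.leaf 0)))) (.node (.node (.node (.leaf 0xdba5d) (.leaf 0xe965d6e9)) (.node (.leaf 0x9d325) (.leaf 0))) (.node (.node (.leaf 0xa5d75d) (.leaf 0)) (.node (.leaf 0x1d75bae9) (.leaf 0))))) (.node (.node (.node (.node (.leaf 0x369d) (.leaf 0xebaeb749)) (.node (.leaf 0x565ba5d) (.leaf 0))) (.node (.node (.leaf 0xad96dd) (.leaf 0x2bacbb25)) (.node (.leaf 0x4e9929) (.leaf 0)))) (.node (.node (.node (.leaf 0x1375d) (.leaf 0xeb75baea)) (.node (.leaf 0x365b75d) (.leaf 0))) (.node (.node (.leaf 0x54e96e9) (.leaf 0)) (.node (.leaf 0x1b2dba5d)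 (.leaf 0))))))))

/-- part of transversal words -/
def node0L0word12 : Trie :=
  (.node (.node (.node (.node (.node (.node (.node (.leaf 0xdd) (.leaf 0x2b6eb2dd)) (.node (.leaf 0x36ea6e9) (.leaf 0))) (.node (.node (.leaf 0xae96e9) (.leaf 0x14b6eb2dd)) (.node (.leaf 0x4cb2dd) (.leaf 0)))) (.node (.node (.node (.leaf 0x5929) (.leaf 0xdd75d2e9)) (.node (.leaf 0x32db2dd) (.leaf 0))) (.node (.node (.leaf 0x6cbadd) (.leaf 0)) (.node (.leaf 0x13a5d6e9) (.leaf 0))))) (.node (.node (.node (.node (.leaf 0x1b4e9) (.leaf 0x196e975d)) (.node (.leaf 0xdd92a) (.leaf 0))) (.node (.node (.leaf 0x74b65d) (.leaf 0x69ba596e9)) (.node (.leaf 0x1ba596e9) (.leaf 0)))) (.node (.node (.node (.leaf 0x15d6dd) (.leaf 0x15b65bae9)) (.node (.leaf 0x52cbadd) (.leaf 0))) (.node (.node (.leaf 0x125749) (.leaf 0)) (.node (.leaf 0x1d69d6e9) (.leaf 0)))))) (.node (.node (.node (.node (.node (.leaf 0x565d) (.leaf 0x296cbadd)) (.node (.leaf 0x52dbae9) (.leaf 0))) (.node (.node (.leaf 0xadbae9) (.leaf 0xebaebadd)) (.node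 (.leaf 0x1ba9b2e9) (.leaf 0)))) (.node (.node (.node (.leaf 0x14b65d) (.leaf 0xdd6cb6e9)) (.node (.leaf 0x32e96dd) (.leaf 0))) (.node (.node (.leaf 0xa9b75d) (.leaf 0)) (.node (.leaf 0xbadbae9) (.leaf 0))))) (.node (.node (.node (.node (.leaf 0x2ba9d) (.leaf 0x36eb4dd)) (.node (.leaf 0x3a9d65d) (.leaf 0))) (.node (.node (.leaf 0xaeb2dd) (.leaf 0x75d4dd65d)) (.node (.leaf 0x1bacb6e9) (.leaf 0)))) (.node (.node (.node (.leaf 0x2b4dd) (.leaf 0xdd69d6e9)) (.node (.leaf 0x175975d) (.leaf 0))) (.node (.node (.leaf 0x54d96e9) (.leaf 0)) (.node (.leaf 0x1d2dd65d) (.leaf 0))))))) (.node (.node (.node (.node (.node (.node (.leaf 0x9d) (.leaf 0xbad96dd)) (.node (.leaf 0x3add4e9) (.leaf 0))) (.node (.node (.leaf 0xa5d6e9) (.leaf 0x56ebb25)) (.node (.leaf 0x6da75d) (.leaf 0)))) (.node (.node (.node (.leaf 0x15b4e9) (.leaf 0x15b7596e9)) (.node (.leaf 0x165d2dd) (.leaf 0))) (.node (.node (.leaf 0xaeba9d) (.leaf 0)) (.node (.leaf 0x90bae9) (.leaf 0))))) (.node (.node (.node (.node (.leaf 0xb2dd)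 (.leaf 0x1d4eb75d)) (.node (.leaf 0x275bae9) (.leaf 0))) (.node (.node (.leaf 0x753a5d) (.leaf 0x6eb2dbae9)) (.node (.leaf 0x1d7596e9) (.leaf 0)))) (.node (.node (.node (.leaf 0xe975d) (.leaf 0x15b753ae9)) (.node (.leaf 0x3aebadd) (.leaf 0))) (.node (.node (.leaf 0x16dd2e9) (.leaf 0)) (.node (.leaf 0x2badbaea) (.leaf 0)))))) (.node (.node (.node (.node (.node (.leaf 0x2b749) (.leaf 0x1d6ebadd)) (.node (.leaf 0x3aebae9) (.leaf 0))) (.node (.node (.leaf 0x1d92a) (.leaf 0x2b4d96dd)) (.node (.leaf 0x1d6dd2e9) (.leaf 0)))) (.node (.node (.node (.leaf 0x15b2dd) (.leaf 0x15ba5d6e9)) (.node (.leaf 0x56ea6dd) (.leaf 0))) (.node (.node (.leaf 0xd32dd) (.leaf 0)) (.node (.leaf 0x1baebae9) (.leaf 0))))) (.node (.node (.node (.node (.leaf 0xdd749) (.leaf 0xdbadd749)) (.node (.leaf 0x594ca61) (.leaf 0))) (.node (.node (.leaf 0x1d525) (.leaf 0x2a5b75d75d)) (.node (.leaf 0x132e96e9) (.leaf 0)))) (.node (.node (.node (.leaf 0xaeb2e9) (.leaf 0x5d2dd65d)) (.node (.leaf 0x32eb75d) (.leaf 0))) (.node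 (.node (.leaf 0x174b6e9) (.leaf 0)) (.node (.leaf 0x1974b2dd) (.leaf 0))))))))

/-- part of transversal words -/
def node0L0word2 : Trie :=
  (.node (.node (.node (.node (.node (.node (.node (.leaf 0x5) (.leaf 0x1d2db2dd)) (.node (.leaf 0xdd929) (.leaf 0))) (.node (.node (.leaf 0xa9d2e9) (.leaf 0xebadd65d)) (.node (.leaf 0x26e975d) (.leaf 0)))) (.node (.node (.node (.leaf 0xdd2e9) (.leaf 0xdd2eb2e9)) (.node (.leaf 0x56eba5d) (.leaf 0))) (.node (.node (.leaf 0xaea6dd) (.leaf 0)) (.node (.leaf 0x1baea6e9) (.leaf 0))))) (.node (.node (.node (.node (.leaf 0x296e9) (.leaf 0x1375ba5d)) (.node (.leaf 0x26d96e9) (.leaf 0))) (.node (.node (.leaf 0x4cbae9) (.leaf 0x6dd75d749)) (.node (.leaf 0x2975d2e9) (.leaf 0)))) (.node (.node (.node (.leaf 0xd96dd) (.leaf 0xda6dd2e9)) (.node (.leaf 0x175d6dd) (.leaf 0))) (.node (.node (.leaf 0x3525) (.leaf 0)) (.node (.leaf 0x1a7596e9) (.leaf 0)))))) (.node (.node (.node (.node (.node (.leaf 0x36e9) (.leaf 0x1d6e96dd)) (.node (.leaf 0x36cbae9) (.leaf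 0))) (.node (.node (.leaf 0xadd4e9) (.leaf 0x15badd6dd)) (.node (.leaf 0x1d6dd749) (.leaf 0)))) (.node (.node (.node (.leaf 0x2929) (.leaf 0x15b2e96e9)) (.node (.leaf 0x375d2dd) (.leaf 0))) (.node (.node (.leaf 0x75975d) (.leaf 0)) (.node (.leaf 0xb74bae9) (.leaf 0))))) (.node (.node (.node (.node (.leaf 0x325) (.leaf 0x296dd75d)) (.node (.leaf 0x3aebaea) (.leaf 0))) (.node (.node (.leaf 0xacb2dd) (.leaf 0x6996eb2e9)) (.node (.leaf 0xbae96e9) (.leaf 0)))) (.node (.node (.node (.leaf 0x15375d) (.leaf 0xdbaebae9)) (.node (.leaf 0x3adba9d) (.leaf 0))) (.node (.node (.leaf 0x175d2e9) (.leaf 0)) (.node (.leaf 0x2b6ebaea) (.leaf 0))))))) (.node (.node (.node (.node (.node (.node (.leaf 0x4e9) (.leaf 0x2b65d2dd)) (.node (.leaf 0x3a9d6e9) (.leaf 0))) (.node (.node (.leaf 0x29929) (.leaf 0x15b2d96dd)) (.node (.leaf 0xaeb4dd) (.leaf 0)))) (.node (.node (.node (.leaf 0x9d2e9) (.leaf 0xd96d96e9)) (.node (.leaf 0x274b2dd) (.leaf 0))) (.node (.node (.leaf 0xaebadd) (.leaf 0)) (.node (.leaf 0x2a75d6e9)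 (.leaf 0))))) (.node (.node (.node (.node (.leaf 0x1d6ea) (.leaf 0x2ba5b75d)) (.node (.leaf 0x375d6ea) (.leaf 0))) (.node (.node (.leaf 0x6cba5d) (.leaf 0x6eb74b6e9)) (.node (.leaf 0x2bad96e9) (.leaf 0)))) (.node (.node (.node (.leaf 0x153add) (.leaf 0xcbadbae9)) (.node (.leaf 0x374badd) (.leaf 0))) (.node (.node (.leaf 0x3a5b2e9) (.leaf 0)) (.node (.leaf 0x913ae9) (.leaf 0)))))) (.node (.node (.node (.node (.node (.leaf 0x56dd) (.leaf 0xb74badd)) (.node (.leaf 0x375bae9) (.leaf 0))) (.node (.node (.leaf 0xaebae9) (.leaf 0x15b75975d)) (.node (.leaf 0xb65d2e9) (.leaf 0)))) (.node (.node (.node (.leaf 0x14ba5d) (.leaf 0xdd74b6e9)) (.node (.leaf 0x5d325) (.leaf 0))) (.node (.node (.leaf 0x6ea75d) (.leaf 0)) (.node (.leaf 0x2b75bae9) (.leaf 0))))) (.node (.node (.node (.node (.leaf 0x2a75d) (.leaf 0x26ebadd)) (.node (.leaf 0x165ba5d) (.leaf 0))) (.node (.node (.leaf 0xa596dd) (.leaf 0xad96e96dd)) (.node (.leaf 0x2e9929) (.leaf 0)))) (.node (.node (.node (.leaf 0xaeb749) (.leaf 0x15b4dbae9))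 (.node (.leaf 0x36cb75d) (.leaf 0))) (.node (.node (.leaf 0x32e96e9) (.leaf 0)) (.node (.leaf 0x1ba9d65d) (.leaf 0))))))))

/-- part of transversal words -/
def node0L0word10 : Trie :=
  (.node (.node (.node (.node (.node (.node (.node (.leaf 0xea) (.leaf 0xb6eb2dd)) (.node (.leaf 0x3aeb6e9) (.leaf 0))) (.node (.node (.leaf 0x7596e9) (.leaf 0xd374b2dd)) (.node (.leaf 0x375d75d) (.leaf 0)))) (.node (.node (.node (.leaf 0x1929) (.leaf 0x5badd2e9)) (.node (.leaf 0x374b2dd) (.leaf 0))) (.node (.node (.leaf 0x75d4dd) (.leaf 0)) (.node (.leaf 0x1ba5d6e9) (.leaf 0))))) (.node (.node (.node (.node (.leaf 0x1bae9) (.leaf 0x1b75975d)) (.node (.leaf 0x15a929) (.leaf 0))) (.node (.node (.leaf 0x6ebaea) (.leaf 0x6dd75d2e9)) (.node (.leaf 0x2a6596e9) (.leaf 0)))) (.node (.node (.node (.leaf 0x5d6dd) (.leaf 0x15bacbae9)) (.node (.leaf 0x375d4dd) (.leaf 0))) (.node (.node (.leaf 0x15a75d) (.leaf 0)) (.node (.leaf 0x1365d6e9) (.leaf 0)))))) (.node (.node (.node (.node (.node (.leaf 0x3aea) (.leaf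 0x1badd6dd)) (.node (.leaf 0x3a5bae9) (.leaf 0))) (.node (.node (.leaf 0x2dbae9) (.leaf 0x14baebadd)) (.node (.leaf 0x1ba5b2e9) (.leaf 0)))) (.node (.node (.node (.leaf 0x15baea) (.leaf 0xe96cb6e9)) (.node (.leaf 0x3a996dd) (.leaf 0))) (.node (.node (.leaf 0x95d) (.leaf 0)) (.node (.leaf 0x2cae9) (.leaf 0))))) (.node (.node (.node (.node (.leaf 0x13a5d) (.leaf 0x34db2dd)) (.node (.leaf 0x54dd65d) (.leaf 0))) (.node (.node (.leaf 0x2eb2dd) (.leaf 0x6cb2dd65d)) (.node (.leaf 0x1d6cb6e9) (.leaf 0)))) (.node (.node (.node (.leaf 0x132dd) (.leaf 0x15a6cb6e9)) (.node (.leaf 0x54d975d) (.leaf 0))) (.node (.node (.leaf 0x16d96e9) (.leaf 0)) (.node (.leaf 0x1b2dd65d) (.leaf 0))))))) (.node (.node (.node (.node (.node (.node (.leaf 0xa9d) (.leaf 0x1d2d96dd)) (.node (.leaf 0x1254e9) (.leaf 0))) (.node (.node (.leaf 0xaea6e9) (.leaf 0x3acbb25)) (.node (.leaf 0x1baeb749) (.leaf 0)))) (.node (.node (.node (.leaf 0x153ae9) (.leaf 0xcb7596e9)) (.node (.leaf 0x54eb2dd) (.leaf 0))) (.node (.node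 (.leaf 0x4eba5d) (.leaf 0)) (.node (.leaf 0x296cbae9) (.leaf 0))))) (.node (.node (.node (.node (.leaf 0x1ba5d) (.leaf 0x1d2eb75d)) (.node (.leaf 0x164aea) (.leaf 0))) (.node (.node (.leaf 0xa9ba5d) (.leaf 0x69badd2e9)) (.node (.leaf 0x2b7596e9) (.leaf 0)))) (.node (.node (.node (.leaf 0xd975d) (.leaf 0x15d75bae9)) (.node (.leaf 0x56ebadd) (.leaf 0))) (.node (.node (.leaf 0x32dd2e9) (.leaf 0)) (.node (.leaf 0x13adbae9) (.leaf 0)))))) (.node (.node (.node (.node (.node (.leaf 0x4dd) (.leaf 0x2b6ebadd)) (.node (.leaf 0x56ebae9) (.leaf 0))) (.node (.node (.leaf 0x6d36e9) (.leaf 0x15b75d75d)) (.node (.leaf 0x296dd2e9) (.leaf 0)))) (.node (.node (.node (.leaf 0x5b2dd) (.leaf 0xdd65d6e9)) (.node (.leaf 0xebb25) (.leaf 0))) (.node (.node (.leaf 0xdd69d) (.leaf 0)) (.node (.leaf 0x2a6ebae9) (.leaf 0))))) (.node (.node (.node (.node (.leaf 0xeb749) (.leaf 0xdd6dd749)) (.node (.leaf 0x3a9ba5d) (.leaf 0))) (.node (.node (.leaf 0x2b325) (.leaf 0x15bad3add)) (.node (.leaf 0x1d2eb6e9) (.leaf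 0)))) (.node (.node (.node (.leaf 0x2eb2e9) (.leaf 0x1532dd65d)) (.node (.leaf 0x375b75d) (.leaf 0))) (.node (.node (.leaf 0x54cb6e9) (.leaf 0)) (.node (.leaf 0x2b2cb2dd) (.leaf 0))))))))

/-- part of transversal words -/
def node0L0word6 : Trie :=
  (.node (.node (.node (.node (.node (.node (.node (.leaf 0x1d) (.leaf 0xb2eb2dd)) (.node (.leaf 0x57536e9) (.leaf 0))) (.node (.node (.leaf 0x2d96e9) (.leaf 0x485ba5d)) (.node (.leaf 0x16dd75d) (.leaf 0)))) (.node (.node (.node (.leaf 0x1596e9) (.leaf 0x5d6eb2e9)) (.node (.leaf 0x52cb2dd) (.leaf 0))) (.node (.node (.leaf 0xa9d6dd) (.leaf 0)) (.node (.leaf 0x2b65d6e9) (.leaf 0))))) (.node (.node (.node (.node (.leaf 0x2a6e9) (.leaf 0x296d975d)) (.node (.leaf 0x575a6e9) (.leaf 0))) (.node (.node (.leaf 0x24aea) (.leaf 0x4e96eb2e9)) (.node (.leaf 0x1d75d2e9) (.leaf 0)))) (.node (.node (.node (.leaf 0x5325) (.leaf 0xdd75d4e9)) (.node (.leaf 0x569d2dd) (.leaf 0))) (.node (.node (.leaf 0xd3add) (.leaf 0)) (.node (.leaf 0x1d75a6e9) (.leaf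 0)))))) (.node (.node (.node (.node (.node (.leaf 0x34e9) (.leaf 0x6ebb25)) (.node (.leaf 0x174bae9) (.leaf 0))) (.node (.node (.leaf 0xacbae9) (.leaf 0x15d4cbadd)) (.node (.leaf 0x4dd75d) (.leaf 0)))) (.node (.node (.node (.leaf 0x15d6ea) (.leaf 0xdd2cb6e9)) (.node (.leaf 0x32d96dd) (.leaf 0))) (.node (.node (.leaf 0x6cb75d) (.leaf 0)) (.node (.leaf 0xb2dbae9) (.leaf 0))))) (.node (.node (.node (.node (.leaf 0x1d6dd) (.leaf 0x1b75d75d)) (.node (.leaf 0x575365d) (.leaf 0))) (.node (.node (.leaf 0xadb2dd) (.leaf 0xadbad3ae9)) (.node (.leaf 0x1d2cb6e9) (.leaf 0)))) (.node (.node (.node (.leaf 0xdd75d) (.leaf 0x15b75a6e9)) (.node (.leaf 0x3aeba9d) (.leaf 0))) (.node (.node (.leaf 0x36596e9) (.leaf 0)) (.node (.leaf 0x1b74b65d) (.leaf 0))))))) (.node (.node (.node (.node (.node (.node (.leaf 0xa5d) (.leaf 0x1ba596dd)) (.node (.leaf 0x369d2e9) (.leaf 0))) (.node (.node (.leaf 0x2eb6e9) (.leaf 0x5d6e96dd)) (.node (.leaf 0x6ec949) (.leaf 0)))) (.node (.node (.node (.leaf 0x14bae9) (.leaf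 0x9ba596e9)) (.node (.leaf 0x52eb2dd) (.leaf 0))) (.node (.node (.leaf 0x4dba5d) (.leaf 0)) (.node (.leaf 0x1d6dd4e9) (.leaf 0))))) (.node (.node (.node (.node (.leaf 0xb65d) (.leaf 0x2975b75d)) (.node (.leaf 0x56d3ae9) (.leaf 0))) (.node (.node (.leaf 0xa5ba5d) (.leaf 0xae965d6e9)) (.node (.leaf 0x197596e9) (.leaf 0)))) (.node (.node (.node (.leaf 0xdba9d) (.leaf 0xd975bae9)) (.node (.leaf 0x5753add) (.leaf 0))) (.node (.node (.leaf 0x56eb2e9) (.leaf 0)) (.node (.leaf 0x132dbae9) (.leaf 0)))))) (.node (.node (.node (.node (.node (.leaf 0x175d) (.leaf 0x1d2ebadd)) (.node (.leaf 0x5753ae9) (.leaf 0))) (.node (.node (.leaf 0x4d96e9) (.leaf 0x15d2eb75d)) (.node (.leaf 0x32994c) (.leaf 0)))) (.node (.node (.node (.leaf 0x153a5d) (.leaf 0x15365d6e9)) (.node (.leaf 0xcbb25) (.leaf 0))) (.node (.node (.leaf 0x6dd75d) (.leaf 0)) (.node (.leaf 0x1b753ae9) (.leaf 0))))) (.node (.node (.node (.node (.leaf 0x34dd) (.leaf 0x265b75d)) (.node (.leaf 0x32dba5d) (.leaf 0))) (.node (.node (.leaf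 0x7596dd) (.leaf 0xa9d2cbadd)) (.node (.leaf 0x65d929) (.leaf 0)))) (.node (.node (.node (.leaf 0xadd749) (.leaf 0xdd95bacb)) (.node (.leaf 0x3a5b75d) (.leaf 0))) (.node (.node (.leaf 0x32cb6e9) (.leaf 0)) (.node (.leaf 0xb75ba5d) (.leaf 0))))))))

/-- part of transversal words -/
def node0L0word14 : Trie :=
  (.node (.node (.node (.node (.node (.node (.node (.leaf 0x749) (.leaf 0x1d6eb2dd)) (.node (.leaf 0x165d6e9) (.leaf 0))) (.node (.node (.leaf 0x6cb6e9) (.leaf 0xdd6eb2dd)) (.node (.leaf 0xad32dd) (.leaf 0)))) (.node (.node (.node (.leaf 0xeb6e9) (.leaf 0x1536596e9)) (.node (.leaf 0x54db2dd) (.leaf 0))) (.node (.node (.leaf 0x74badd) (.leaf 0)) (.node (.leaf 0x2ba9d6e9) (.leaf 0))))) (.node (.node (.node (.node (.leaf 0x1a6e9) (.leaf 0x2b6cb75d)) (.node (.leaf 0x3aeb6ea) (.leaf 0))) (.node (.node (.leaf 0xa5d65d) (.leaf 0x6596cb6e9)) (.node (.leaf 0x196d96e9) (.leaf 0)))) (.node (.node (.node (.leaf 0xdd4dd) (.leaf 0x15b2dbae9)) (.node (.leaf 0x56cbadd) (.leaf 0))) (.node (.node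 (.leaf 0x3add749) (.leaf 0)) (.node (.leaf 0x1b75d6ea) (.leaf 0)))))) (.node (.node (.node (.node (.node (.leaf 0x32dd) (.leaf 0x1d6cbadd)) (.node (.leaf 0x164ae9) (.leaf 0))) (.node (.node (.leaf 0x75bae9) (.leaf 0xd375ba5d)) (.node (.leaf 0x1d2eb2e9) (.leaf 0)))) (.node (.node (.node (.leaf 0x5d65d) (.leaf 0xdbacb6e9)) (.node (.leaf 0x16e96dd) (.leaf 0))) (.node (.node (.leaf 0x2eb75d) (.leaf 0)) (.node (.leaf 0x2badbae9) (.leaf 0))))) (.node (.node (.node (.node (.leaf 0x2975d) (.leaf 0x34d96dd)) (.node (.leaf 0x56cba5d) (.leaf 0))) (.node (.node (.leaf 0xa5d2dd) (.leaf 0xacb75ba5d)) (.node (.leaf 0xb74b6e9) (.leaf 0)))) (.node (.node (.node (.leaf 0x525) (.leaf 0xeb75d6ea)) (.node (.leaf 0x52e975d) (.leaf 0))) (.node (.node (.leaf 0x3a996e9) (.leaf 0)) (.node (.leaf 0xbadd65d) (.leaf 0))))))) (.node (.node (.node (.node (.node (.node (.leaf 0x5749) (.leaf 0x1ba996dd)) (.node (.leaf 0x375d4e9) (.leaf 0))) (.node (.node (.leaf 0x75d6e9) (.leaf 0x9bae96dd)) (.node (.leaf 0x75a75d)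 (.leaf 0)))) (.node (.node (.node (.leaf 0x996e9) (.leaf 0xeb7596e9)) (.node (.leaf 0x565d2dd) (.leaf 0))) (.node (.node (.leaf 0x2d975d) (.leaf 0)) (.node (.leaf 0x1d6cbae9) (.leaf 0))))) (.node (.node (.node (.node (.leaf 0x2b2dd) (.leaf 0x1a6e975d)) (.node (.leaf 0x575baea) (.leaf 0))) (.node (.node (.leaf 0x6eba5d) (.leaf 0xae975bae9)) (.node (.leaf 0x1b2e96e9) (.leaf 0)))) (.node (.node (.node (.leaf 0x14b75d) (.leaf 0x14b6ebae9)) (.node (.leaf 0x56d3a5d) (.leaf 0))) (.node (.node (.leaf 0x56dd2e9) (.leaf 0)) (.node (.leaf 0x1b75baea) (.leaf 0)))))) (.node (.node (.node (.node (.node (.leaf 0x1b2e9) (.leaf 0xbaebadd)) (.node (.leaf 0x56eb4e9) (.leaf 0))) (.node (.node (.leaf 0x6eb6ea) (.leaf 0x1bad3add)) (.node (.leaf 0x1badd2e9) (.leaf 0)))) (.node (.node (.node (.leaf 0xeb2dd) (.leaf 0x15ba9d6e9)) (.node (.leaf 0x365d6dd) (.leaf 0))) (.node (.node (.leaf 0xdb4dd) (.leaf 0)) (.node (.leaf 0x1d6eb4e9) (.leaf 0))))) (.node (.node (.node (.node (.leaf 0x5b2e9) (.leaf 0xebadd749))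 (.node (.leaf 0x194ca61) (.leaf 0))) (.node (.node (.leaf 0x1bb25) (.leaf 0x12575d2e9)) (.node (.leaf 0x2b4e96e9) (.leaf 0)))) (.node (.node (.node (.leaf 0xa5d2e9) (.leaf 0x9d2dd65d)) (.node (.leaf 0x36eb75d) (.leaf 0))) (.node (.node (.leaf 0x574b6e9) (.leaf 0)) (.node (.leaf 0xb74b2dd) (.leaf 0))))))))

/-- part of transversal words -/
def node0L0word1 : Trie :=
  (.node (.node (.node (.node (.node (.node (.node (.leaf 0x1) (.leaf 0x1b2db2dd)) (.node (.leaf 0x5d929) (.leaf 0))) (.node (.node (.leaf 0xadd2e9) (.leaf 0x153add65d)) (.node (.leaf 0x3aeb75d) (.leaf 0)))) (.node (.node (.node (.leaf 0x5d2e9) (.leaf 0xecadd659)) (.node (.leaf 0x16eba5d) (.leaf 0))) (.node (.node (.leaf 0x6ea6dd) (.leaf 0)) (.node (.leaf 0x13ae96e9) (.leaf 0))))) (.node (.node (.node (.node (.leaf 0x196e9) (.leaf 0x2badba9d)) (.node (.leaf 0x56996e9) (.leaf 0))) (.node (.node (.leaf 0x75d6ea) (.leaf 0x75badd749)) (.node (.leaf 0x52994c) (.leaf 0)))) (.node (.node (.node (.leaf 0x596dd) (.leaf 0xea75d6e9))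 (.node (.leaf 0x3a9d6dd) (.leaf 0))) (.node (.node (.leaf 0xda6dd) (.leaf 0)) (.node (.leaf 0x1a6d96e9) (.leaf 0)))))) (.node (.node (.node (.node (.node (.leaf 0x16e9) (.leaf 0x196e96dd)) (.node (.leaf 0x16cbae9) (.leaf 0))) (.node (.node (.leaf 0x6dd4e9) (.leaf 0x5badd6dd)) (.node (.leaf 0xb25749) (.leaf 0)))) (.node (.node (.node (.leaf 0xd36e9) (.leaf 0x14b2e96e9)) (.node (.leaf 0x175d2dd) (.leaf 0))) (.node (.node (.leaf 0xa9975d) (.leaf 0)) (.node (.leaf 0x2974bae9) (.leaf 0))))) (.node (.node (.node (.node (.leaf 0x296dd) (.leaf 0x1d2dd75d)) (.node (.leaf 0x56ebaea) (.leaf 0))) (.node (.node (.leaf 0x6cb2dd) (.leaf 0xadbaebae9)) (.node (.leaf 0x1d4e96e9) (.leaf 0)))) (.node (.node (.node (.leaf 0x15b75d) (.leaf 0x14baebae9)) (.node (.leaf 0x34dba5d) (.leaf 0))) (.node (.node (.leaf 0x3a9d2e9) (.leaf 0)) (.node (.leaf 0x136ebae9) (.leaf 0))))))) (.node (.node (.node (.node (.node (.node (.leaf 0xae9) (.leaf 0x2965d2dd)) (.node (.leaf 0x3a5d6e9) (.leaf 0))) (.node (.node (.leaf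 0x19929) (.leaf 0x14b2d96dd)) (.node (.leaf 0x6eb4dd) (.leaf 0)))) (.node (.node (.node (.leaf 0x15d6e9) (.leaf 0x596d96e9)) (.node (.leaf 0x575b2dd) (.leaf 0))) (.node (.node (.leaf 0x6ebadd) (.leaf 0)) (.node (.leaf 0x1b75d6e9) (.leaf 0))))) (.node (.node (.node (.node (.leaf 0x2b6ea) (.leaf 0x1d65b75d)) (.node (.leaf 0x569d6e9) (.leaf 0))) (.node (.node (.leaf 0xa9d65d) (.leaf 0x6cb74b6e9)) (.node (.leaf 0xbad96e9) (.leaf 0)))) (.node (.node (.node (.leaf 0x14badd) (.leaf 0x15d4dbae9)) (.node (.leaf 0x174badd) (.leaf 0))) (.node (.node (.leaf 0x575d749) (.leaf 0)) (.node (.leaf 0x136cbae9) (.leaf 0)))))) (.node (.node (.node (.node (.node (.leaf 0x125) (.leaf 0x1bacbadd)) (.node (.leaf 0x175bae9) (.leaf 0))) (.node (.node (.leaf 0x6ebae9) (.leaf 0x495975d)) (.node (.leaf 0x1d6eb2e9) (.leaf 0)))) (.node (.node (.node (.leaf 0xcba5d) (.leaf 0xeb74b6e9)) (.node (.leaf 0x3ae96dd) (.leaf 0))) (.node (.node (.leaf 0x4e975d) (.leaf 0)) (.node (.leaf 0x1b75bae9) (.leaf 0))))) (.node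 (.node (.node (.node (.leaf 0x2b75d) (.leaf 0x3ad3add)) (.node (.leaf 0x294ca61) (.leaf 0))) (.node (.node (.leaf 0x6596dd) (.leaf 0xacb2d96dd)) (.node (.leaf 0x1d74b6e9) (.leaf 0)))) (.node (.node (.node (.leaf 0x13add) (.leaf 0x15bad3ae9)) (.node (.leaf 0x54e975d) (.leaf 0))) (.node (.node (.leaf 0x57596e9) (.leaf 0)) (.node (.leaf 0x1d95bad3) (.leaf 0))))))))

/-- part of transversal words -/
def node0L0word9 : Trie :=
  (.node (.node (.node (.node (.node (.node (.node (.leaf 0xe9) (.leaf 0x196eb2dd)) (.node (.leaf 0x54eb6e9) (.leaf 0))) (.node (.node (.leaf 0xa996e9) (.leaf 0xcb74b2dd)) (.node (.leaf 0x175d75d) (.leaf 0)))) (.node (.node (.node (.leaf 0x14b6e9) (.leaf 0x15d6dd2e9)) (.node (.leaf 0x174b2dd) (.leaf 0))) (.node (.node (.leaf 0x6dd4dd) (.leaf 0)) (.node (.leaf 0xba5d6e9) (.leaf 0))))) (.node (.node (.node (.node (.leaf 0xbae9) (.leaf 0x2975975d)) (.node (.leaf 0x56d36e9) (.leaf 0))) (.node (.node (.leaf 0x4ebae9) (.leaf 0x242dd2e9)) (.node (.leaf 0x2b6596e9) (.leaf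 0)))) (.node (.node (.node (.leaf 0xea6dd) (.leaf 0xdbacbae9)) (.node (.leaf 0x275d2dd) (.leaf 0))) (.node (.node (.leaf 0xda75d) (.leaf 0)) (.node (.leaf 0xadd92a) (.leaf 0)))))) (.node (.node (.node (.node (.node (.leaf 0x56ea) (.leaf 0x1b65d6dd)) (.node (.leaf 0x365bae9) (.leaf 0))) (.node (.node (.leaf 0xa5bae9) (.leaf 0x5d6ebadd)) (.node (.leaf 0x1d75d749) (.leaf 0)))) (.node (.node (.node (.leaf 0xdbaea) (.leaf 0x1596cb6e9)) (.node (.leaf 0x3ad96dd) (.leaf 0))) (.node (.node (.leaf 0xa5b75d) (.leaf 0)) (.node (.leaf 0x1d2dbae9) (.leaf 0))))) (.node (.node (.node (.node (.leaf 0x2badd) (.leaf 0x56d32dd)) (.node (.leaf 0x52dd65d) (.leaf 0))) (.node (.node (.leaf 0x7532dd) (.leaf 0xadd95bacb)) (.node (.leaf 0x2a6cb6e9) (.leaf 0)))) (.node (.node (.node (.leaf 0x1d69d) (.leaf 0xda6cb6e9)) (.node (.leaf 0x12175d) (.leaf 0))) (.node (.node (.leaf 0x52d96e9) (.leaf 0)) (.node (.leaf 0xb2dd65d) (.leaf 0))))))) (.node (.node (.node (.node (.node (.node (.leaf 0xadd) (.leaf 0x2b2d96dd))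 (.node (.leaf 0x26dd2e9) (.leaf 0))) (.node (.node (.leaf 0x6ea6e9) (.leaf 0x15bae96dd)) (.node (.leaf 0xad3add) (.leaf 0)))) (.node (.node (.node (.leaf 0x15bae9) (.leaf 0xe97596e9)) (.node (.leaf 0x56eb2dd) (.leaf 0))) (.node (.node (.leaf 0x75ba9d) (.leaf 0)) (.node (.leaf 0x1d75d4e9) (.leaf 0))))) (.node (.node (.node (.node (.leaf 0xba5d) (.leaf 0x1b2eb75d)) (.node (.leaf 0x4aea) (.leaf 0))) (.node (.node (.leaf 0xadba5d) (.leaf 0xadd65d6e9)) (.node (.leaf 0x1b7596e9) (.leaf 0)))) (.node (.node (.node (.leaf 0x5975d) (.leaf 0xea75bae9)) (.node (.leaf 0x36ebadd) (.leaf 0))) (.node (.node (.leaf 0x3a5d2e9) (.leaf 0)) (.node (.leaf 0x2caea) (.leaf 0)))))) (.node (.node (.node (.node (.node (.leaf 0x69d) (.leaf 0xb6ebadd)) (.node (.leaf 0x36ebae9) (.leaf 0))) (.node (.node (.leaf 0x4cb6e9) (.leaf 0x495d75d)) (.node (.leaf 0x196dd2e9) (.leaf 0)))) (.node (.node (.node (.leaf 0x14b2dd) (.leaf 0x5d65d6e9)) (.node (.leaf 0x15bb25) (.leaf 0))) (.node (.node (.leaf 0x75d75d) (.leaf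 0)) (.node (.leaf 0x2b6ebae9) (.leaf 0))))) (.node (.node (.node (.node (.leaf 0x15b749) (.leaf 0x275b75d)) (.node (.leaf 0x3adba5d) (.leaf 0))) (.node (.node (.leaf 0xae96dd) (.leaf 0x15b4d96dd)) (.node (.leaf 0x1d7536e9) (.leaf 0)))) (.node (.node (.node (.leaf 0xa9b2e9) (.leaf 0xcb2dd65d)) (.node (.leaf 0x175b75d) (.leaf 0))) (.node (.node (.leaf 0x56cb6e9) (.leaf 0)) (.node (.leaf 0x1baeba5d) (.leaf 0))))))))

/-- part of transversal words -/
def node0L0word5 : Trie :=
  (.node (.node (.node (.node (.node (.node (.node (.leaf 0x2a) (.leaf 0x1374b2dd)) (.node (.leaf 0x37536e9) (.leaf 0))) (.node (.node (.leaf 0xa596e9) (.leaf 0x15ba9d65d)) (.node (.leaf 0x52dd75d) (.leaf 0)))) (.node (.node (.node (.leaf 0xd96e9) (.leaf 0xea6eb2e9)) (.node (.leaf 0x32cb2dd) (.leaf 0))) (.node (.node (.leaf 0xadd6dd) (.leaf 0)) (.node (.leaf 0xb65d6e9) (.leaf 0))))) (.node (.node (.node (.node (.leaf 0x2b6e9) (.leaf 0x196d975d)) (.node (.leaf 0x375a6e9) (.leaf 0))) (.node (.node (.leaf 0x4dbae9)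 (.leaf 0x7596eb2e9)) (.node (.leaf 0x2a75d2e9) (.leaf 0)))) (.node (.node (.node (.leaf 0x3325) (.leaf 0x15badd4e9)) (.node (.leaf 0x369d2dd) (.leaf 0))) (.node (.node (.leaf 0x575b749) (.leaf 0)) (.node (.leaf 0x2b75a6e9) (.leaf 0)))))) (.node (.node (.node (.node (.node (.leaf 0x3ae9) (.leaf 0xacbb25)) (.node (.leaf 0x3acbae9) (.leaf 0))) (.node (.node (.leaf 0x6cbae9) (.leaf 0x9d2cbadd)) (.node (.leaf 0x2badd749) (.leaf 0)))) (.node (.node (.node (.leaf 0x9d6e9) (.leaf 0xdbae96e9)) (.node (.leaf 0x3a596dd) (.leaf 0))) (.node (.node (.leaf 0xae975d) (.leaf 0)) (.node (.leaf 0x1b65bae9) (.leaf 0))))) (.node (.node (.node (.node (.leaf 0x2a6dd) (.leaf 0x2975d75d)) (.node (.leaf 0x375365d) (.leaf 0))) (.node (.node (.leaf 0x2db2dd) (.leaf 0xadd69d6e9)) (.node (.leaf 0x1b2cb6e9) (.leaf 0)))) (.node (.node (.node (.leaf 0x5d75d) (.leaf 0x9b7596e9)) (.node (.leaf 0x56eba9d) (.leaf 0))) (.node (.node (.leaf 0x16596e9) (.leaf 0)) (.node (.leaf 0xb74b65d) (.leaf 0))))))) (.node (.node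 (.node (.node (.node (.node (.leaf 0x65d) (.leaf 0x1b75d2dd)) (.node (.leaf 0x575d6e9) (.leaf 0))) (.node (.node (.leaf 0x7536e9) (.leaf 0xd96e96dd)) (.node (.leaf 0xada6dd) (.leaf 0)))) (.node (.node (.node (.leaf 0xcbae9) (.leaf 0xd3a596e9)) (.node (.leaf 0x32eb2dd) (.leaf 0))) (.node (.node (.leaf 0x69ba5d) (.leaf 0)) (.node (.leaf 0x1a6dd2e9) (.leaf 0))))) (.node (.node (.node (.node (.leaf 0x2baea) (.leaf 0x1975b75d)) (.node (.leaf 0x36d3ae9) (.leaf 0))) (.node (.node (.leaf 0x65ba5d) (.leaf 0xadd7536e9)) (.node (.leaf 0x2ba996e9) (.leaf 0)))) (.node (.node (.node (.leaf 0x9ba5d) (.leaf 0x5975bae9)) (.node (.leaf 0x3753add) (.leaf 0))) (.node (.node (.leaf 0x16eb2e9) (.leaf 0)) (.node (.leaf 0x1bad3ae9) (.leaf 0)))))) (.node (.node (.node (.node (.node (.leaf 0x3a9d) (.leaf 0x2b753add)) (.node (.leaf 0x3753ae9) (.leaf 0))) (.node (.node (.leaf 0x6996e9) (.leaf 0x5b2eb75d)) (.node (.leaf 0x1ba5d2e9) (.leaf 0)))) (.node (.node (.node (.leaf 0x15ba5d) (.leaf 0x14b65d6e9)) (.node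 (.leaf 0x15d525) (.leaf 0))) (.node (.node (.leaf 0x2dd75d) (.leaf 0)) (.node (.leaf 0x1374bae9) (.leaf 0))))) (.node (.node (.node (.node (.leaf 0x569d) (.leaf 0x12275d)) (.node (.leaf 0x3a5ba5d) (.leaf 0))) (.node (.node (.leaf 0xa996dd) (.leaf 0x1d6ebb25)) (.node (.leaf 0xaea929) (.leaf 0)))) (.node (.node (.node (.leaf 0x6dd749) (.leaf 0xdbaebaea)) (.node (.leaf 0x565b75d) (.leaf 0))) (.node (.node (.leaf 0x3ae96e9) (.leaf 0)) (.node (.leaf 0x2badba5d) (.leaf 0))))))))

/-- part of transversal words -/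
def node0L0word13 : Trie :=
  (.node (.node (.node (.node (.node (.node (.node (.leaf 0x15d) (.leaf 0x2a6eb2dd)) (.node (.leaf 0x3aea6e9) (.leaf 0))) (.node (.node (.leaf 0x2cb6e9) (.leaf 0xeb6eb2dd)) (.node (.leaf 0x6d32dd) (.leaf 0)))) (.node (.node (.node (.leaf 0x1536e9) (.leaf 0x1596596e9)) (.node (.leaf 0x52db2dd) (.leaf 0))) (.node (.node (.leaf 0xacbadd) (.leaf 0)) (.node (.leaf 0x1ba9d6e9) (.leaf 0))))) (.node (.node (.node (.node (.leaf 0x2b4e9) (.leaf 0x90b75d)) (.node (.leaf 0x15d92a) (.leaf 0))) (.node (.node (.leaf 0x75365d) (.leaf 0x75b7596e9)) (.node (.leaf 0x2ba596e9) (.leaf 0)))) (.node (.node (.node (.leaf 0x9d2dd) (.leaf 0x14b2dbae9)) (.node (.leaf 0x16cbadd) (.leaf 0))) (.node (.node (.leaf 0x56dd749) (.leaf 0)) (.node (.leaf 0x1375d6e9) (.leaf 0)))))) (.node (.node (.node (.node (.node (.leaf 0x3a5d) (.leaf 0x2a6cbadd)) (.node (.leaf 0x4ae9) (.leaf 0))) (.node (.node (.leaf 0xa9bae9) (.leaf 0xdb4dba5d)) (.node (.leaf 0x2ba9b2e9) (.leaf 0)))) (.node (.node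 (.node (.leaf 0x15365d) (.leaf 0xdd4cb6e9)) (.node (.leaf 0x52e96dd) (.leaf 0))) (.node (.node (.leaf 0x75b75d) (.leaf 0)) (.node (.leaf 0x1badbae9) (.leaf 0))))) (.node (.node (.node (.node (.leaf 0x1975d) (.leaf 0x3aeb4dd)) (.node (.leaf 0x16cba5d) (.leaf 0))) (.node (.node (.leaf 0x65d2dd) (.leaf 0xadd95bad3)) (.node (.leaf 0x2974b6e9) (.leaf 0)))) (.node (.node (.node (.leaf 0x1a6dd) (.leaf 0xd375d6e9)) (.node (.leaf 0x375975d) (.leaf 0))) (.node (.node (.leaf 0x3ad96e9) (.leaf 0)) (.node (.leaf 0x1d4dd65d) (.leaf 0))))))) (.node (.node (.node (.node (.node (.node (.leaf 0x3749) (.leaf 0x1bad96dd)) (.node (.leaf 0x275d2e9) (.leaf 0))) (.node (.node (.leaf 0xa9d6e9) (.leaf 0xdd6ea6dd)) (.node (.leaf 0xada75d) (.leaf 0)))) (.node (.node (.node (.leaf 0xeb4e9) (.leaf 0x1537596e9)) (.node (.leaf 0x365d2dd) (.leaf 0))) (.node (.node (.leaf 0xa5975d) (.leaf 0)) (.node (.leaf 0x2a6cbae9) (.leaf 0))))) (.node (.node (.node (.node (.leaf 0x1b2dd) (.leaf 0x2baeb75d)) (.node (.leaf 0x375baea)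 (.leaf 0))) (.node (.node (.leaf 0x2eba5d) (.leaf 0x6cbadbae9)) (.node (.leaf 0xb2e96e9) (.leaf 0)))) (.node (.node (.node (.leaf 0xcb75d) (.leaf 0xe96ebae9)) (.node (.leaf 0x26cba5d) (.leaf 0))) (.node (.node (.leaf 0x1252e9) (.leaf 0)) (.node (.leaf 0x1a75bae9) (.leaf 0)))))) (.node (.node (.node (.node (.node (.leaf 0x1d749) (.leaf 0x1d4ebadd)) (.node (.leaf 0x26eb2e9) (.leaf 0))) (.node (.node (.leaf 0x4eb6e9) (.leaf 0x13acbadd)) (.node (.leaf 0x1d4dd2e9) (.leaf 0)))) (.node (.node (.node (.leaf 0x1532dd) (.leaf 0x9ba5d6e9)) (.node (.leaf 0x3aea6dd) (.leaf 0))) (.node (.node (.leaf 0x9b2dd) (.leaf 0)) (.node (.leaf 0x1a6eb2e9) (.leaf 0))))) (.node (.node (.node (.node (.leaf 0x15d749) (.leaf 0x15badd749)) (.node (.leaf 0x3753a5d) (.leaf 0))) (.node (.node (.leaf 0xbb25) (.leaf 0x3aea6eb2e9)) (.node (.leaf 0x1b4e96e9) (.leaf 0)))) (.node (.node (.node (.leaf 0x65d2e9) (.leaf 0x15d2dd65d)) (.node (.leaf 0x52eb75d) (.leaf 0))) (.node (.node (.leaf 0x374b6e9) (.leaf 0)) (.node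 (.leaf 0x2974b2dd) (.leaf 0))))))))

/-- part of transversal words -/
def node0L0word3 : Trie :=
  (.node (.node (.node (.node (.node (.node (.node (.leaf 0x9) (.leaf 0x1d4db2dd)) (.node (.leaf 0x15d929) (.leaf 0))) (.node (.node (.leaf 0x75d2e9) (.leaf 0xdd95bad3)) (.node (.leaf 0x36ea75d) (.leaf 0)))) (.node (.node (.node (.leaf 0x15d2e9) (.leaf 0x596eb2e9)) (.node (.leaf 0x54eba5d) (.leaf 0))) (.node (.node (.leaf 0x65d6dd) (.leaf 0)) (.node (.leaf 0x2baea6e9) (.leaf 0))))) (.node (.node (.node (.node (.leaf 0xb6e9) (.leaf 0x2b75ba9d)) (.node (.leaf 0x56da6e9) (.leaf 0))) (.node (.node (.leaf 0x6d3ae9) (.leaf 0x2dd2eb2e9)) (.node (.leaf 0xb75d2e9) (.leaf 0)))) (.node (.node (.node (.leaf 0x1596dd) (.leaf 0x15d6dd4e9)) (.node (.leaf 0x575d6dd) (.leaf 0))) (.node (.node (.leaf 0xec949) (.leaf 0)) (.node (.leaf 0x137596e9) (.leaf 0)))))) (.node (.node (.node (.node (.node (.leaf 0x56e9) (.leaf 0x1bae96dd)) (.node (.leaf 0x56cbae9) (.leaf 0))) (.node (.node (.leaf 0x75d4e9) (.leaf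 0x15d2cbadd)) (.node (.leaf 0x4eb75d) (.leaf 0)))) (.node (.node (.node (.leaf 0x592a) (.leaf 0x1532e96e9)) (.node (.leaf 0x575d2dd) (.leaf 0))) (.node (.node (.leaf 0x2e975d) (.leaf 0)) (.node (.leaf 0x1b74bae9) (.leaf 0))))) (.node (.node (.node (.node (.leaf 0x25) (.leaf 0x2a6dd75d)) (.node (.leaf 0x374b65d) (.leaf 0))) (.node (.node (.leaf 0x74b2dd) (.leaf 0x75b75a6e9)) (.node (.leaf 0x1bae96e9) (.leaf 0)))) (.node (.node (.node (.leaf 0xeb75d) (.leaf 0x996eb2e9)) (.node (.leaf 0x375ba9d) (.leaf 0))) (.node (.node (.leaf 0x375d2e9) (.leaf 0)) (.node (.leaf 0x13aebae9) (.leaf 0))))))) (.node (.node (.node (.node (.node (.node (.leaf 0x6ea) (.leaf 0x2a65d2dd)) (.node (.leaf 0x175d6e9) (.leaf 0))) (.node (.node (.leaf 0x2a929) (.leaf 0x5bad96dd)) (.node (.leaf 0x6996dd) (.leaf 0)))) (.node (.node (.node (.leaf 0xdd4e9) (.leaf 0xe96d96e9)) (.node (.leaf 0x37532dd) (.leaf 0))) (.node (.node (.leaf 0x6d3a5d) (.leaf 0)) (.node (.leaf 0x1d75d6e9) (.leaf 0))))) (.node (.node (.node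 (.node (.leaf 0x13ae9) (.leaf 0x1ba9b75d)) (.node (.leaf 0x575d6ea) (.leaf 0))) (.node (.node (.leaf 0xacba5d) (.leaf 0xadd74b6e9)) (.node (.leaf 0x13a596e9) (.leaf 0)))) (.node (.node (.node (.leaf 0xebadd) (.leaf 0x14badbae9)) (.node (.leaf 0x574badd) (.leaf 0))) (.node (.node (.leaf 0x3a9b2e9) (.leaf 0)) (.node (.leaf 0x1d6d3ae9) (.leaf 0)))))) (.node (.node (.node (.node (.node (.leaf 0x54dd) (.leaf 0x2b74badd)) (.node (.leaf 0x575bae9) (.leaf 0))) (.node (.node (.leaf 0x6eb4e9) (.leaf 0xdd65b75d)) (.node (.leaf 0x2b65d2e9) (.leaf 0)))) (.node (.node (.node (.leaf 0x5ba5d) (.leaf 0xdd7536e9)) (.node (.leaf 0x15d325) (.leaf 0))) (.node (.node (.leaf 0xaea75d) (.leaf 0)) (.node (.leaf 0x2a75bae9) (.leaf 0))))) (.node (.node (.node (.node (.leaf 0x1d75d) (.leaf 0xdbaeb749)) (.node (.leaf 0x365ba5d) (.leaf 0))) (.node (.node (.leaf 0x2d96dd) (.leaf 0x75bae96dd)) (.node (.leaf 0xae9929) (.leaf 0)))) (.node (.node (.node (.leaf 0x1a75d) (.leaf 0xda75bae9)) (.node (.leaf 0x165b75d)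 (.leaf 0))) (.node (.node (.leaf 0x52e96e9) (.leaf 0)) (.node (.leaf 0x1b65ba5d) (.leaf 0))))))))

/-- part of transversal words -/
def node0L0word11 : Trie :=
  (.node (.node (.node (.node (.node (.node (.node (.leaf 0x5d) (.leaf 0x92b2dd)) (.node (.leaf 0x34e96e9) (.leaf 0))) (.node (.node (.leaf 0x2e96e9) (.leaf 0xd96eb2dd)) (.node (.leaf 0xadd69d) (.leaf 0)))) (.node (.node (.node (.leaf 0x129) (.leaf 0x15badd2e9)) (.node (.leaf 0x574b2dd) (.leaf 0))) (.node (.node (.leaf 0x2cbadd) (.leaf 0)) (.node (.leaf 0x2ba5d6e9) (.leaf 0))))) (.node (.node (.node (.node (.leaf 0x2bae9) (.leaf 0x2b75975d)) (.node (.leaf 0x9d929) (.leaf 0))) (.node (.node (.leaf 0xaebaea) (.leaf 0x65ba596e9)) (.node (.leaf 0xba596e9) (.leaf 0)))) (.node (.node (.node (.leaf 0xdd6dd) (.leaf 0xcb74bae9)) (.node (.leaf 0x575d4dd) (.leaf 0))) (.node (.node (.leaf 0x9b75d) (.leaf 0)) (.node (.leaf 0x2b69d6e9) (.leaf 0)))))) (.node (.node (.node (.node (.node (.leaf 0x365d) (.leaf 0x1d2cbadd)) (.node (.leaf 0x32dbae9)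 (.leaf 0))) (.node (.node (.leaf 0x24ae9) (.leaf 0x153aebadd)) (.node (.leaf 0x2ba5b2e9) (.leaf 0)))) (.node (.node (.node (.leaf 0xebaea) (.leaf 0xea6cb6e9)) (.node (.leaf 0x37596dd) (.leaf 0))) (.node (.node (.leaf 0x2c95d) (.leaf 0)) (.node (.leaf 0x1d4dbae9) (.leaf 0))))) (.node (.node (.node (.node (.leaf 0x1ba9d) (.leaf 0x34eb2dd)) (.node (.leaf 0x3add65d) (.leaf 0))) (.node (.node (.leaf 0x6eb2dd) (.leaf 0x75d2dd65d)) (.node (.leaf 0x1d4cb6e9) (.leaf 0)))) (.node (.node (.node (.leaf 0x1b4dd) (.leaf 0x9d65d6e9)) (.node (.leaf 0x3ad975d) (.leaf 0))) (.node (.node (.leaf 0x56d96e9) (.leaf 0)) (.node (.leaf 0x2b2dd65d) (.leaf 0))))))) (.node (.node (.node (.node (.node (.node (.leaf 0x75d) (.leaf 0x1d4d96dd)) (.node (.leaf 0x56dd4e9) (.leaf 0))) (.node (.node (.leaf 0x65d6e9) (.leaf 0x16ebb25)) (.node (.leaf 0x2baeb749) (.leaf 0)))) (.node (.node (.node (.leaf 0xebae9) (.leaf 0x5b7596e9)) (.node (.leaf 0x3aeb2dd) (.leaf 0))) (.node (.node (.leaf 0x6eba9d) (.leaf 0)) (.node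 (.leaf 0xb6cbae9) (.leaf 0))))) (.node (.node (.node (.node (.leaf 0x2ba5d) (.leaf 0x1d6eb75d)) (.node (.leaf 0x3adbaea) (.leaf 0))) (.node (.node (.leaf 0x75ba5d) (.leaf 0xadbacbae9)) (.node (.leaf 0x2a7596e9) (.leaf 0)))) (.node (.node (.node (.leaf 0x15975d) (.leaf 0xd374bae9)) (.node (.leaf 0x54ebadd) (.leaf 0))) (.node (.node (.leaf 0x52dd2e9) (.leaf 0)) (.node (.leaf 0x1badbaea) (.leaf 0)))))) (.node (.node (.node (.node (.node (.leaf 0x1b749) (.leaf 0x2a6ebadd)) (.node (.leaf 0x54ebae9) (.leaf 0))) (.node (.node (.leaf 0x1a929) (.leaf 0x1b4d96dd)) (.node (.leaf 0x2a6dd2e9) (.leaf 0)))) (.node (.node (.node (.leaf 0xdb2dd) (.leaf 0x5ba5d6e9)) (.node (.leaf 0x34e96dd) (.leaf 0))) (.node (.node (.leaf 0x15d69d) (.leaf 0)) (.node (.leaf 0xbaebae9) (.leaf 0))))) (.node (.node (.node (.node (.leaf 0x275d) (.leaf 0x34eb75d)) (.node (.leaf 0x375ba5d) (.leaf 0))) (.node (.node (.leaf 0x1d325) (.leaf 0x12575d749)) (.node (.leaf 0x1d4eb6e9) (.leaf 0)))) (.node (.node (.node (.leaf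 0x6eb2e9) (.leaf 0xeb2dd65d)) (.node (.leaf 0x575b75d) (.leaf 0))) (.node (.node (.leaf 0x3acb6e9) (.leaf 0)) (.node (.leaf 0x2a6cb2dd) (.leaf 0))))))))

/-- part of transversal words -/
def node0L0word7 : Trie :=
  (.node (.node (.node (.node (.node (.node (.node (.leaf 0x2) (.leaf 0x2b2eb2dd)) (.node (.leaf 0x32eb6e9) (.leaf 0))) (.node (.node (.leaf 0x6d96e9) (.leaf 0xcb75ba5d)) (.node (.leaf 0x56dd75d) (.leaf 0)))) (.node (.node (.node (.leaf 0xe96e9) (.leaf 0xdb2dd2e9)) (.node (.leaf 0x56cb2dd) (.leaf 0))) (.node (.node (.leaf 0x75d6dd) (.leaf 0)) (.node (.leaf 0x2a65d6e9) (.leaf 0))))) (.node (.node (.node (.node (.leaf 0x1d6e9) (.leaf 0x32175d)) (.node (.leaf 0x34cb6e9) (.leaf 0))) (.node (.node (.leaf 0xadbaea) (.leaf 0xaea6eb2e9)) (.node (.leaf 0x196596e9) (.leaf 0)))) (.node (.node (.node (.leaf 0x5525) (.leaf 0xcb6cbae9)) (.node (.leaf 0x26dd2dd) (.leaf 0))) (.node (.node (.leaf 0x3aeb749) (.leaf 0)) (.node (.leaf 0x1a6cb6e9) (.leaf 0)))))) (.node (.node (.node (.node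 (.node (.leaf 0x26e9) (.leaf 0x1d6ea6dd)) (.node (.leaf 0x374bae9) (.leaf 0))) (.node (.node (.leaf 0x74bae9) (.leaf 0x15bacbadd)) (.node (.leaf 0x1b75d749) (.leaf 0)))) (.node (.node (.node (.leaf 0xd3ae9) (.leaf 0x596cb6e9)) (.node (.leaf 0x52d96dd) (.leaf 0))) (.node (.node (.leaf 0x74b75d) (.leaf 0)) (.node (.leaf 0x1b2dbae9) (.leaf 0))))) (.node (.node (.node (.node (.leaf 0x1d4dd) (.leaf 0x3add69d)) (.node (.leaf 0x3a5d65d) (.leaf 0))) (.node (.node (.leaf 0xa9b2dd) (.leaf 0x24aebaea)) (.node (.leaf 0x196cb6e9) (.leaf 0)))) (.node (.node (.node (.leaf 0x15d75d) (.leaf 0xeb75a6e9)) (.node (.leaf 0x52d975d) (.leaf 0))) (.node (.node (.leaf 0x56596e9) (.leaf 0)) (.node (.leaf 0x1d95bacb) (.leaf 0))))))) (.node (.node (.node (.node (.node (.node (.leaf 0x2dd) (.leaf 0xb2d96dd)) (.node (.leaf 0x569d2e9) (.leaf 0))) (.node (.node (.leaf 0xaeb6e9) (.leaf 0xdd6e96dd)) (.node (.leaf 0x4cbadd) (.leaf 0)))) (.node (.node (.node (.leaf 0x5bae9) (.leaf 0x597596e9)) (.node (.leaf 0x16eb2dd)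 (.leaf 0))) (.node (.node (.leaf 0x24a9d) (.leaf 0)) (.node (.leaf 0x1badd4e9) (.leaf 0))))) (.node (.node (.node (.node (.leaf 0x2b65d) (.leaf 0x2a75b75d)) (.node (.leaf 0x3ad3ae9) (.leaf 0))) (.node (.node (.leaf 0x2dba5d) (.leaf 0x6eb65d6e9)) (.node (.leaf 0x297596e9) (.leaf 0)))) (.node (.node (.node (.leaf 0x15ba9d) (.leaf 0xe975bae9)) (.node (.leaf 0x52ebadd) (.leaf 0))) (.node (.node (.leaf 0x365d2e9) (.leaf 0)) (.node (.leaf 0x1b4dbae9) (.leaf 0)))))) (.node (.node (.node (.node (.node (.leaf 0x375d) (.leaf 0x196ebadd)) (.node (.leaf 0x52ebae9) (.leaf 0))) (.node (.node (.leaf 0x6da6e9) (.leaf 0x15d4eb75d)) (.node (.leaf 0x1b2dd2e9) (.leaf 0)))) (.node (.node (.node (.leaf 0xeba5d) (.leaf 0xeb65d6e9)) (.node (.leaf 0x14bb25) (.leaf 0))) (.node (.node (.leaf 0xadd75d) (.leaf 0)) (.node (.leaf 0x296ebae9) (.leaf 0))))) (.node (.node (.node (.node (.leaf 0x26dd) (.leaf 0x369b75d)) (.node (.leaf 0x52dba5d) (.leaf 0))) (.node (.node (.leaf 0x2e96dd) (.leaf 0xa5b75975d)) (.node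 (.leaf 0xadd929) (.leaf 0)))) (.node (.node (.node (.leaf 0x75d749) (.leaf 0x5ba5d65d)) (.node (.leaf 0x595d) (.leaf 0))) (.node (.node (.leaf 0x52cb6e9) (.leaf 0)) (.node (.leaf 0x2b75ba5d) (.leaf 0))))))))

/-- part of transversal words -/
def node0L0word15 : Trie :=
  (.node (.node (.node (.node (.node (.node (.node (.leaf 0x2e9) (.leaf 0xbaeb2dd)) (.node (.leaf 0x365d6e9) (.leaf 0))) (.node (.node (.leaf 0xacb6e9) (.leaf 0x14baeb2dd)) (.node (.leaf 0x4db2dd) (.leaf 0)))) (.node (.node (.node (.leaf 0xea6e9) (.leaf 0xcba596e9)) (.node (.leaf 0x3a9b2dd) (.leaf 0))) (.node (.node (.leaf 0x753add) (.leaf 0)) (.node (.leaf 0x2975d6e9) (.leaf 0))))) (.node (.node (.node (.node (.leaf 0x136e9) (.leaf 0x2965b75d)) (.node (.leaf 0x265d6e9) (.leaf 0))) (.node (.node (.leaf 0x2dd65d) (.leaf 0xa596cb6e9)) (.node (.leaf 0x296d96e9) (.leaf 0)))) (.node (.node (.node (.leaf 0x15d4dd) (.leaf 0xeb2dbae9)) (.node (.leaf 0x54cbadd) (.leaf 0))) (.node (.node (.leaf 0x9d75d) (.leaf 0)) (.node (.leaf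 0x2b75d6ea) (.leaf 0)))))) (.node (.node (.node (.node (.node (.leaf 0x52dd) (.leaf 0x1d4cbadd)) (.node (.leaf 0x54dbae9) (.leaf 0))) (.node (.node (.leaf 0x753ae9) (.leaf 0xd96d975d)) (.node (.leaf 0x196eb2e9) (.leaf 0)))) (.node (.node (.node (.leaf 0xdd65d) (.leaf 0x15bacb6e9)) (.node (.leaf 0x56e96dd) (.leaf 0))) (.node (.node (.leaf 0x6eb75d) (.leaf 0)) (.node (.leaf 0x1975bae9) (.leaf 0))))) (.node (.node (.node (.node (.leaf 0xb75d) (.leaf 0x26cbadd)) (.node (.leaf 0x5954a61) (.leaf 0))) (.node (.node (.leaf 0xa9d2dd) (.leaf 0x24aeba5d)) (.node (.leaf 0x2b74b6e9) (.leaf 0)))) (.node (.node (.node (.leaf 0x2c949) (.leaf 0x290bae9)) (.node (.leaf 0x16e975d) (.leaf 0))) (.node (.node (.leaf 0x17596e9) (.leaf 0)) (.node (.leaf 0x1badd65d) (.leaf 0))))))) (.node (.node (.node (.node (.node (.node (.leaf 0x32e9) (.leaf 0x1b7596dd)) (.node (.leaf 0x575d4e9) (.leaf 0))) (.node (.node (.leaf 0x69d2e9) (.leaf 0x15baea6dd)) (.node (.leaf 0x69b75d) (.leaf 0)))) (.node (.node (.node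 (.leaf 0xda6e9) (.leaf 0x5d7596e9)) (.node (.leaf 0x3a5d2dd) (.leaf 0))) (.node (.node (.leaf 0x6d975d) (.leaf 0)) (.node (.leaf 0xbacbae9) (.leaf 0))))) (.node (.node (.node (.node (.leaf 0x1d2dd) (.leaf 0x136e975d)) (.node (.leaf 0x26ebae9) (.leaf 0))) (.node (.node (.leaf 0xaeba5d) (.leaf 0xaea75bae9)) (.node (.leaf 0x2b2e96e9) (.leaf 0)))) (.node (.node (.node (.leaf 0x5b75d) (.leaf 0x1536ebae9)) (.node (.leaf 0x265ba5d) (.leaf 0))) (.node (.node (.leaf 0x54dd2e9) (.leaf 0)) (.node (.leaf 0x2b75baea) (.leaf 0)))))) (.node (.node (.node (.node (.node (.leaf 0x2b2e9) (.leaf 0x2baebadd)) (.node (.leaf 0x26596e9) (.leaf 0))) (.node (.node (.leaf 0xaeb6ea) (.leaf 0x1a6ebadd)) (.node (.leaf 0xb2a94c) (.leaf 0)))) (.node (.node (.node (.leaf 0x5d2dd) (.leaf 0xcb75d6e9)) (.node (.leaf 0x3a5d6dd) (.leaf 0))) (.node (.node (.leaf 0xeb4dd) (.leaf 0)) (.node (.leaf 0x1a6596e9) (.leaf 0))))) (.node (.node (.node (.node (.leaf 0x15b2e9) (.leaf 0x15b75d749)) (.node (.leaf 0x32eba5d) (.leaf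 0))) (.node (.node (.leaf 0x2bb25) (.leaf 0x34cb665929)) (.node (.leaf 0x136e96e9) (.leaf 0)))) (.node (.node (.node (.leaf 0x2dd2e9) (.leaf 0x15d4dd65d)) (.node (.leaf 0x56eb75d) (.leaf 0))) (.node (.node (.leaf 0xe9929) (.leaf 0)) (.node (.leaf 0x1b74b2dd) (.leaf 0))))))))

/-- transversal words -/
def node0L0word : Trie :=
  (.node (.node (.node (.node node0L0word0 node0L0word8) (.node node0L0word4 node0L0word12)) (.node (.node node0L0word2 node0L0word10) (.node node0L0word6 node0L0word14))) (.node (.node (.node node0L0word1 node0L0word9) (.node node0L0word5 node0L0word13)) (.node (.node node0L0word3 node0L0word11) (.node node0L0word7 node0L0word15))))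

/-- part of closing hints -/
def node0L0close0 : Trie :=
  (.node (.node (.node (.node (.node (.node (.node (.leaf 0x1) (.leaf 0x1002001011002577)) (.node (.leaf 0x100401402c2a4) (.leaf 0))) (.node (.node (.leaf 0x273) (.leaf 0)) (.node (.leaf 0x46a) (.leaf 0)))) (.node (.node (.node (.leaf 0x54) (.leaf 0)) (.node (.leaf 0x100300500001c352) (.leaf 0))) (.node (.node (.leaf 0x374) (.leaf 0)) (.node (.leaf 0x100000201902851b) (.leaf 0))))) (.node (.node (.node (.node (.leaf 0xab) (.leaf 0)) (.node (.leaf 0x325) (.leaf 0))) (.node (.node (.leaf 0x2f7) (.leaf 0)) (.node (.leaf 0x534) (.leaf 0)))) (.node (.node (.node (.leaf 0x1dc) (.leaf 0)) (.node (.leaf 0x22d) (.leaf 0))) (.node (.node (.leaf 0x3d2) (.leaf 0)) (.node (.leaf 0x101c0094fb) (.leaf 0)))))) (.node (.node (.node (.node (.node (.leaf 0x55) (.leaf 0)) (.node (.leaf 0x300401e01e2e7) (.leaf 0))) (.node (.node (.leaf 0xc4) (.leaf 0)) (.node (.leaf 0x522) (.leaf 0)))) (.node (.node (.node (.leaf 0x195) (.leaf 0)) (.node (.leaf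 0x2d360) (.leaf 0))) (.node (.node (.leaf 0x1001004005013392) (.leaf 0)) (.node (.leaf 0x100200302300d472) (.leaf 0))))) (.node (.node (.node (.node (.leaf 0xfa) (.leaf 0)) (.node (.leaf 0x1003024007267) (.leaf 0))) (.node (.node (.leaf 0x32f) (.leaf 0)) (.node (.leaf 0x100200501b024395) (.leaf 0)))) (.node (.node (.node (.leaf 0x22c) (.leaf 0)) (.node (.leaf 0x4f0) (.leaf 0))) (.node (.node (.leaf 0x15f) (.leaf 0)) (.node (.leaf 0x43e) (.leaf 0))))))) (.node (.node (.node (.node (.node (.node (.leaf 0x2b) (.leaf 0x300001000f538)) (.node (.leaf 0x2003003014425) (.leaf 0))) (.node (.node (.leaf 0x296) (.leaf 0)) (.node (.leaf 0x200300001029a) (.leaf 0)))) (.node (.node (.node (.leaf 0x16f) (.leaf 0)) (.node (.leaf 0x100000302401131a) (.leaf 0))) (.node (.node (.leaf 0x393) (.leaf 0)) (.node (.leaf 0x100300d0222a9) (.leaf 0))))) (.node (.node (.node (.node (.leaf 0xb6) (.leaf 0)) (.node (.leaf 0x40090173cf) (.leaf 0))) (.node (.node (.leaf 0x60) (.leaf 0)) (.node (.leaf 0x400300b010329)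 (.leaf 0)))) (.node (.node (.node (.leaf 0x205) (.leaf 0)) (.node (.leaf 0x400300c00048d) (.leaf 0))) (.node (.node (.leaf 0x400202600d2be) (.leaf 0)) (.node (.leaf 0x200201f3f7) (.leaf 0)))))) (.node (.node (.node (.node (.node (.leaf 0x81) (.leaf 0)) (.node (.leaf 0x100202000828f) (.leaf 0))) (.node (.node (.leaf 0x100100302601d2ae) (.leaf 0)) (.node (.leaf 0x10000080062ab) (.leaf 0)))) (.node (.node (.node (.leaf 0xbd) (.leaf 0)) (.node (.leaf 0x4c2) (.leaf 0))) (.node (.node (.leaf 0x400300c0003bf) (.leaf 0)) (.node (.leaf 0x3c7) (.leaf 0))))) (.node (.node (.node (.node (.leaf 0x125) (.leaf 0)) (.node (.leaf 0x1000000004014375) (.leaf 0))) (.node (.node (.leaf 0x34f) (.leaf 0)) (.node (.leaf 0x100200500b022348) (.leaf 0)))) (.node (.node (.node (.leaf 0x24f) (.leaf 0)) (.node (.leaf 0x300301d00e3ce) (.leaf 0))) (.node (.node (.leaf 0x10030040050262f1) (.leaf 0)) (.node (.leaf 0x30010150252fa) (.leaf 0))))))))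

/-- part of closing hints -/
def node0L0close32 : Trie :=
  (.node (.node (.node (.node (.node (.node (.node (.leaf 0x14) (.leaf 0x400100001951f)) (.node (.leaf 0x424) (.leaf 0))) (.node (.node (.leaf 0x1bc) (.leaf 0)) (.node (.leaf 0x50c) (.leaf 0)))) (.node (.node (.node (.leaf 0x15b) (.leaf 0)) (.node (.leaf 0x1000000007022352) (.leaf 0))) (.node (.node (.leaf 0x100400202600c24b) (.leaf 0)) (.node (.leaf 0x100000302401152a) (.leaf 0))))) (.node (.node (.node (.node (.leaf 0xc1) (.leaf 0)) (.node (.leaf 0x4019009430) (.leaf 0))) (.node (.node (.leaf 0x10040040150121b1) (.leaf 0)) (.node (.leaf 0x100302901e44b) (.leaf 0)))) (.node (.node (.node (.leaf 0x1f1) (.leaf 0)) (.node (.leaf 0x4db) (.leaf 0))) (.node (.node (.leaf 0x3e1) (.leaf 0)) (.node (.leaf 0x100400501f02e524) (.leaf 0)))))) (.node (.node (.node (.node (.node (.leaf 0x6b) (.leaf 0)) (.node (.leaf 0x4001029019171) (.leaf 0))) (.node (.node (.leaf 0x2cb) (.leaf 0)) (.node (.leaf 0x300301902a3fe) (.leaf 0)))) (.node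 (.node (.node (.leaf 0x10200060fd) (.leaf 0)) (.node (.leaf 0x4bc) (.leaf 0))) (.node (.node (.leaf 0x3b6) (.leaf 0)) (.node (.leaf 0x100300500001c4be) (.leaf 0))))) (.node (.node (.node (.node (.leaf 0x112) (.leaf 0)) (.node (.leaf 0x300001402f0fe) (.leaf 0))) (.node (.node (.leaf 0x400001601b199) (.leaf 0)) (.node (.leaf 0x400401f02d45b) (.leaf 0)))) (.node (.node (.node (.leaf 0x240) (.leaf 0)) (.node (.leaf 0x200002202548c) (.leaf 0))) (.node (.node (.leaf 0x100300401d00e1b2) (.leaf 0)) (.node (.leaf 0x300000c012572) (.leaf 0))))))) (.node (.node (.node (.node (.node (.node (.leaf 0x11) (.leaf 0x400302100d559)) (.node (.leaf 0x200200c00e3fc) (.leaf 0))) (.node (.node (.leaf 0x2aa) (.leaf 0)) (.node (.leaf 0x10030050080172fe) (.leaf 0)))) (.node (.node (.node (.leaf 0x184) (.leaf 0)) (.node (.leaf 0x200102500d3c9) (.leaf 0))) (.node (.node (.leaf 0x126) (.leaf 0)) (.node (.leaf 0x3a0) (.leaf 0))))) (.node (.node (.node (.node (.leaf 0xe9) (.leaf 0)) (.node (.leaf 0x1002005008014259)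 (.leaf 0))) (.node (.node (.leaf 0xf3) (.leaf 0)) (.node (.leaf 0x1003005005029374) (.leaf 0)))) (.node (.node (.node (.leaf 0x82) (.leaf 0)) (.node (.leaf 0x4b6) (.leaf 0))) (.node (.node (.leaf 0x301d00f16e) (.leaf 0)) (.node (.leaf 0x300300702a268) (.leaf 0)))))) (.node (.node (.node (.node (.node (.leaf 0x99) (.leaf 0)) (.node (.leaf 0x451) (.leaf 0))) (.node (.node (.leaf 0x2ea) (.leaf 0)) (.node (.leaf 0x532) (.leaf 0)))) (.node (.node (.node (.leaf 0x1cc) (.leaf 0)) (.node (.leaf 0x100200001d0313b6) (.leaf 0))) (.node (.node (.leaf 0x13b) (.leaf 0)) (.node (.leaf 0x567) (.leaf 0))))) (.node (.node (.node (.node (.leaf 0x105) (.leaf 0)) (.node (.leaf 0x23f) (.leaf 0))) (.node (.node (.leaf 0x363) (.leaf 0)) (.node (.leaf 0x200302302a383) (.leaf 0)))) (.node (.node (.node (.leaf 0x261) (.leaf 0)) (.node (.leaf 0x200301d00c4bc) (.leaf 0))) (.node (.node (.leaf 0x100200300a01c2c8) (.leaf 0)) (.node (.leaf 0x300201f0074cf) (.leaf 0))))))))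

/-- part of closing hints -/
def node0L0close16 : Trie :=
  (.node (.node (.node (.node (.node (.node (.node (.leaf 0xa) (.leaf 0x100400400e00f578)) (.node (.leaf 0x182) (.leaf 0))) (.node (.node (.leaf 0xd5) (.leaf 0)) (.node (.leaf 0x50a) (.leaf 0)))) (.node (.node (.node (.leaf 0x151) (.leaf 0)) (.node (.leaf 0x1f0) (.leaf 0))) (.node (.node (.leaf 0x300001402f08d) (.leaf 0)) (.node (.leaf 0x20020100273d7) (.leaf 0))))) (.node (.node (.node (.node (.leaf 0xb5) (.leaf 0)) (.node (.leaf 0x461) (.leaf 0))) (.node (.node (.leaf 0x300) (.leaf 0)) (.node (.leaf 0x536) (.leaf 0)))) (.node (.node (.node (.leaf 0x1e8) (.leaf 0)) (.node (.leaf 0x233) (.leaf 0))) (.node (.node (.leaf 0x146) (.leaf 0)) (.node (.leaf 0x3002029005124) (.leaf 0)))))) (.node (.node (.node (.node (.node (.leaf 0x3b) (.leaf 0)) (.node (.leaf 0x191) (.leaf 0))) (.node (.node (.leaf 0x2c0) (.leaf 0)) (.node (.leaf 0x471) (.leaf 0)))) (.node (.node (.node (.leaf 0x1a0) (.leaf 0)) (.node (.leaf 0x4a9) (.leaf 0)))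 (.node (.node (.leaf 0x3ac) (.leaf 0)) (.node (.leaf 0x3b4) (.leaf 0))))) (.node (.node (.node (.node (.leaf 0x107) (.leaf 0)) (.node (.leaf 0x23e) (.leaf 0))) (.node (.node (.leaf 0x100200102500d2e4) (.leaf 0)) (.node (.leaf 0x100300400000a387) (.leaf 0)))) (.node (.node (.node (.leaf 0xab) (.leaf 0)) (.node (.leaf 0x4d4) (.leaf 0))) (.node (.node (.leaf 0x1003006000160) (.leaf 0)) (.node (.leaf 0x400300a02d538) (.leaf 0))))))) (.node (.node (.node (.node (.node (.node (.leaf 0x1c) (.leaf 0x509)) (.node (.leaf 0x100100301e0182c7) (.leaf 0))) (.node (.node (.leaf 0x2a1) (.leaf 0)) (.node (.leaf 0x100300302a4fc) (.leaf 0)))) (.node (.node (.node (.leaf 0x1003002007000017) (.leaf 0)) (.node (.leaf 0x206) (.leaf 0))) (.node (.node (.leaf 0x202002933f) (.leaf 0)) (.node (.leaf 0x10000010220040ff) (.leaf 0))))) (.node (.node (.node (.node (.leaf 0xdf) (.leaf 0)) (.node (.leaf 0x100300102300636a) (.leaf 0))) (.node (.node (.leaf 0x100100500102f2b7) (.leaf 0)) (.node (.leaf 0x42c) (.leaf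 0)))) (.node (.node (.node (.leaf 0x8f) (.leaf 0)) (.node (.leaf 0x4e7) (.leaf 0))) (.node (.node (.leaf 0x100200300a01c2b3) (.leaf 0)) (.node (.leaf 0x574) (.leaf 0)))))) (.node (.node (.node (.node (.node (.leaf 0x8e) (.leaf 0)) (.node (.leaf 0x100302901e2ed) (.leaf 0))) (.node (.node (.leaf 0x283) (.leaf 0)) (.node (.leaf 0x52f) (.leaf 0)))) (.node (.node (.node (.leaf 0x1c4) (.leaf 0)) (.node (.leaf 0x221) (.leaf 0))) (.node (.node (.leaf 0x3c4) (.leaf 0)) (.node (.leaf 0x300400000c507) (.leaf 0))))) (.node (.node (.node (.node (.leaf 0x53) (.leaf 0)) (.node (.leaf 0x100000500600a369) (.leaf 0))) (.node (.node (.leaf 0x358) (.leaf 0)) (.node (.leaf 0x1002002005002486) (.leaf 0)))) (.node (.node (.node (.leaf 0x258) (.leaf 0)) (.node (.leaf 0x501) (.leaf 0))) (.node (.node (.leaf 0x310) (.leaf 0)) (.node (.leaf 0x100101502a0d7) (.leaf 0))))))))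

/-- part of closing hints -/
def node0L0close48 : Trie :=
  (.node (.node (.node (.node (.node (.node (.node (.leaf 0x21) (.leaf 0x40000260161f9)) (.node (.leaf 0x10020020200231d5) (.leaf 0))) (.node (.node (.leaf 0x28c) (.leaf 0)) (.node (.leaf 0x100100202702a2cb) (.leaf 0)))) (.node (.node (.node (.leaf 0x164) (.leaf 0)) (.node (.leaf 0x100400402502c2f5) (.leaf 0))) (.node (.node (.leaf 0x387) (.leaf 0)) (.node (.leaf 0x559) (.leaf 0))))) (.node (.node (.node (.node (.leaf 0xc9) (.leaf 0)) (.node (.leaf 0xbe) (.leaf 0))) (.node (.node (.leaf 0x30b) (.leaf 0)) (.node (.leaf 0x100200102501f21d) (.leaf 0)))) (.node (.node (.node (.leaf 0x1fc) (.leaf 0)) (.node (.leaf 0x25f) (.leaf 0))) (.node (.node (.leaf 0x40080102fb) (.leaf 0)) (.node (.leaf 0x100400500053b) (.leaf 0)))))) (.node (.node (.node (.node (.node (.leaf 0x33) (.leaf 0)) (.node (.leaf 0x100400200a02b3ca) (.leaf 0))) (.node (.node (.leaf 0x1c7) (.leaf 0)) (.node (.leaf 0x2d9) (.leaf 0)))) (.node (.node (.node (.leaf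 0x100200500801418d) (.leaf 0)) (.node (.leaf 0x252) (.leaf 0))) (.node (.node (.leaf 0x131) (.leaf 0)) (.node (.leaf 0x300200a0251fc) (.leaf 0))))) (.node (.node (.node (.node (.leaf 0x52) (.leaf 0)) (.node (.leaf 0x1dc) (.leaf 0))) (.node (.node (.leaf 0x347) (.leaf 0)) (.node (.leaf 0x354) (.leaf 0)))) (.node (.node (.node (.leaf 0x249) (.leaf 0)) (.node (.leaf 0x4001008023341) (.leaf 0))) (.node (.node (.leaf 0x100400501d018189) (.leaf 0)) (.node (.leaf 0x466) (.leaf 0))))))) (.node (.node (.node (.node (.node (.node (.leaf 0x4a) (.leaf 0x53e)) (.node (.leaf 0x430) (.leaf 0))) (.node (.node (.leaf 0xc5) (.leaf 0)) (.node (.leaf 0x51a) (.leaf 0)))) (.node (.node (.node (.leaf 0x18b) (.leaf 0)) (.node (.leaf 0x200200b01b332) (.leaf 0))) (.node (.node (.leaf 0x3a0) (.leaf 0)) (.node (.leaf 0x802b3f5) (.leaf 0))))) (.node (.node (.node (.node (.leaf 0xf2) (.leaf 0)) (.node (.leaf 0x47e) (.leaf 0))) (.node (.node (.leaf 0x326) (.leaf 0)) (.node (.leaf 0x10020030150293f3) (.leaf 0))))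 (.node (.node (.node (.leaf 0x222) (.leaf 0)) (.node (.leaf 0x100200000402744d) (.leaf 0))) (.node (.node (.leaf 0x1003003029025273) (.leaf 0)) (.node (.leaf 0x100501800f4b6) (.leaf 0)))))) (.node (.node (.node (.node (.node (.leaf 0xa2) (.leaf 0)) (.node (.leaf 0x100200302401e421) (.leaf 0))) (.node (.node (.leaf 0x1000002001012166) (.leaf 0)) (.node (.leaf 0x300101502547a) (.leaf 0)))) (.node (.node (.node (.leaf 0x1d4) (.leaf 0)) (.node (.leaf 0x100000002802443e) (.leaf 0))) (.node (.node (.leaf 0x3ca) (.leaf 0)) (.node (.leaf 0x400202600d520) (.leaf 0))))) (.node (.node (.node (.node (.leaf 0x140) (.leaf 0)) (.node (.leaf 0x243) (.leaf 0))) (.node (.node (.leaf 0x139) (.leaf 0)) (.node (.leaf 0x100100001602b35b) (.leaf 0)))) (.node (.node (.node (.leaf 0x26a) (.leaf 0)) (.node (.leaf 0x285) (.leaf 0))) (.node (.node (.leaf 0x416) (.leaf 0)) (.node (.leaf 0x200001300c57e) (.leaf 0))))))))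

/-- part of closing hints -/
def node0L0close8 : Trie :=
  (.node (.node (.node (.node (.node (.node (.node (.leaf 0x0) (.leaf 0x300201c569)) (.node (.leaf 0x1000002016031277) (.leaf 0))) (.node (.node (.leaf 0x301d00f271) (.leaf 0)) (.node (.leaf 0x10050060292d4) (.leaf 0)))) (.node (.node (.node (.leaf 0x14d) (.leaf 0)) (.node (.leaf 0x245) (.leaf 0))) (.node (.node (.leaf 0x377) (.leaf 0)) (.node (.leaf 0x200201901c307) (.leaf 0))))) (.node (.node (.node (.node (.leaf 0xae) (.leaf 0)) (.node (.leaf 0x100100400202e405) (.leaf 0))) (.node (.node (.leaf 0x2fa) (.leaf 0)) (.node (.leaf 0x47b) (.leaf 0)))) (.node (.node (.node (.leaf 0x92) (.leaf 0)) (.node (.leaf 0x100200000d01e231) (.leaf 0))) (.node (.node (.leaf 0x3d6) (.leaf 0)) (.node (.leaf 0x100000501403145f) (.leaf 0)))))) (.node (.node (.node (.node (.node (.leaf 0x5a) (.leaf 0)) (.node (.leaf 0x31a) (.leaf 0))) (.node (.node (.leaf 0xc9) (.leaf 0)) (.node (.leaf 0x1004025028514) (.leaf 0)))) (.node (.node (.node (.leaf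 0x19a) (.leaf 0)) (.node (.leaf 0x100100300601a48f) (.leaf 0))) (.node (.node (.leaf 0x11) (.leaf 0)) (.node (.leaf 0x100300102100a443) (.leaf 0))))) (.node (.node (.node (.node (.leaf 0x101) (.leaf 0)) (.node (.leaf 0x100301000e083) (.leaf 0))) (.node (.node (.leaf 0x100400400601c1ab) (.leaf 0)) (.node (.leaf 0x300102501a52f) (.leaf 0)))) (.node (.node (.node (.leaf 0x1001004005013213) (.leaf 0)) (.node (.leaf 0x4cd) (.leaf 0))) (.node (.node (.leaf 0x15e) (.leaf 0)) (.node (.leaf 0x3001008012177) (.leaf 0))))))) (.node (.node (.node (.node (.node (.node (.leaf 0x30) (.leaf 0x300100c0144c3)) (.node (.leaf 0x100100500102f1c3) (.leaf 0))) (.node (.node (.leaf 0x29d) (.leaf 0)) (.node (.leaf 0x100000d000510) (.leaf 0)))) (.node (.node (.node (.leaf 0x174) (.leaf 0)) (.node (.leaf 0x2d33a) (.leaf 0))) (.node (.node (.leaf 0x30050140302bb) (.leaf 0)) (.node (.leaf 0x100300300300e3b1) (.leaf 0))))) (.node (.node (.node (.node (.leaf 0xda) (.leaf 0)) (.node (.leaf 0x46f) (.leaf 0)))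 (.node (.node (.leaf 0x100400401c00c207) (.leaf 0)) (.node (.leaf 0x400100102e185) (.leaf 0)))) (.node (.node (.node (.leaf 0x87) (.leaf 0)) (.node (.leaf 0x1002000019021439) (.leaf 0))) (.node (.node (.leaf 0x1001005004000023) (.leaf 0)) (.node (.leaf 0x428) (.leaf 0)))))) (.node (.node (.node (.node (.node (.leaf 0x21) (.leaf 0)) (.node (.leaf 0x44a) (.leaf 0))) (.node (.node (.leaf 0x277) (.leaf 0)) (.node (.leaf 0x10030040240314d8) (.leaf 0)))) (.node (.node (.node (.leaf 0x1c1) (.leaf 0)) (.node (.leaf 0x100000500600a366) (.leaf 0))) (.node (.node (.leaf 0x350) (.leaf 0)) (.node (.leaf 0x100100201c02f535) (.leaf 0))))) (.node (.node (.node (.node (.leaf 0x12a) (.leaf 0)) (.node (.leaf 0x1e2) (.leaf 0))) (.node (.node (.leaf 0x1001000028008112) (.leaf 0)) (.node (.leaf 0x10020000190212d9) (.leaf 0)))) (.node (.node (.node (.leaf 0x224) (.leaf 0)) (.node (.leaf 0x200f0132cf) (.leaf 0))) (.node (.node (.leaf 0x40a) (.leaf 0)) (.node (.leaf 0x57c) (.leaf 0))))))))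

/-- part of closing hints -/
def node0L0close40 : Trie :=
  (.node (.node (.node (.node (.node (.node (.node (.leaf 0x1b) (.leaf 0x100502002855d)) (.node (.leaf 0x30030060151d7) (.leaf 0))) (.node (.node (.leaf 0xb8) (.leaf 0)) (.node (.leaf 0x30020290260c0) (.leaf 0)))) (.node (.node (.node (.leaf 0x160) (.leaf 0)) (.node (.leaf 0x4a4) (.leaf 0))) (.node (.node (.leaf 0x382) (.leaf 0)) (.node (.leaf 0x300201c503) (.leaf 0))))) (.node (.node (.node (.node (.leaf 0xc6) (.leaf 0)) (.node (.leaf 0x100000501400030f) (.leaf 0))) (.node (.node (.leaf 0x1d1) (.leaf 0)) (.node (.leaf 0x306) (.leaf 0)))) (.node (.node (.node (.leaf 0x1f6) (.leaf 0)) (.node (.leaf 0x260) (.leaf 0))) (.node (.node (.leaf 0x100100100602b3c1) (.leaf 0)) (.node (.leaf 0x100400400e01853a) (.leaf 0)))))) (.node (.node (.node (.node (.node (.leaf 0x72) (.leaf 0)) (.node (.leaf 0x441) (.leaf 0))) (.node (.node (.leaf 0x2d0) (.leaf 0)) (.node (.leaf 0x2da) (.leaf 0)))) (.node (.node (.node (.leaf 0xf4) (.leaf 0))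 (.node (.leaf 0x100000101302639a) (.leaf 0))) (.node (.node (.leaf 0x14a) (.leaf 0)) (.node (.leaf 0x561) (.leaf 0))))) (.node (.node (.node (.node (.leaf 0x115) (.leaf 0)) (.node (.leaf 0x100000000401436f) (.leaf 0))) (.node (.node (.leaf 0x342) (.leaf 0)) (.node (.leaf 0x100000400400835d) (.leaf 0)))) (.node (.node (.node (.leaf 0x244) (.leaf 0)) (.node (.leaf 0x260) (.leaf 0))) (.node (.node (.leaf 0x402) (.leaf 0)) (.node (.leaf 0x400301602a55a) (.leaf 0))))))) (.node (.node (.node (.node (.node (.node (.leaf 0x45) (.leaf 0x100400002902a56a)) (.node (.leaf 0x419) (.leaf 0))) (.node (.node (.leaf 0x2ae) (.leaf 0)) (.node (.leaf 0x1000028001393) (.leaf 0)))) (.node (.node (.node (.leaf 0x188) (.leaf 0)) (.node (.leaf 0x2d338) (.leaf 0))) (.node (.node (.leaf 0x3003014225) (.leaf 0)) (.node (.leaf 0x100200502200209e) (.leaf 0))))) (.node (.node (.node (.node (.leaf 0xee) (.leaf 0)) (.node (.leaf 0x10020020190103e6) (.leaf 0))) (.node (.node (.leaf 0x322) (.leaf 0)) (.node (.leaf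 0x44f) (.leaf 0)))) (.node (.node (.node (.leaf 0x93) (.leaf 0)) (.node (.leaf 0x4ed) (.leaf 0))) (.node (.node (.leaf 0x198) (.leaf 0)) (.node (.leaf 0x42a) (.leaf 0)))))) (.node (.node (.node (.node (.node (.leaf 0x9d) (.leaf 0)) (.node (.leaf 0x3002017010396) (.leaf 0))) (.node (.node (.leaf 0x100202000819f) (.leaf 0)) (.node (.leaf 0x210252d6) (.leaf 0)))) (.node (.node (.node (.leaf 0x7f) (.leaf 0)) (.node (.leaf 0x501b023490) (.leaf 0))) (.node (.node (.leaf 0x400300502e269) (.leaf 0)) (.node (.leaf 0x200400100d41e) (.leaf 0))))) (.node (.node (.node (.node (.leaf 0x113) (.leaf 0)) (.node (.leaf 0x100400500202e380) (.leaf 0))) (.node (.node (.leaf 0x13a) (.leaf 0)) (.node (.leaf 0x35e) (.leaf 0)))) (.node (.node (.node (.leaf 0x265) (.leaf 0)) (.node (.leaf 0x400002800d3aa) (.leaf 0))) (.node (.node (.leaf 0x200200c00e404) (.leaf 0)) (.node (.leaf 0x1001004029008561) (.leaf 0))))))))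

/-- part of closing hints -/
def node0L0close24 : Trie :=
  (.node (.node (.node (.node (.node (.node (.node (.leaf 0x4) (.leaf 0x20040050223ac)) (.node (.leaf 0x1000002016031270) (.leaf 0))) (.node (.node (.leaf 0x27f) (.leaf 0)) (.node (.leaf 0x100200500b014299) (.leaf 0)))) (.node (.node (.node (.leaf 0x59) (.leaf 0)) (.node (.leaf 0x4a0) (.leaf 0))) (.node (.node (.leaf 0x117) (.leaf 0)) (.node (.leaf 0x553) (.leaf 0))))) (.node (.node (.node (.node (.leaf 0xbb) (.leaf 0)) (.node (.leaf 0x328) (.leaf 0))) (.node (.node (.leaf 0x100100400202e28a) (.leaf 0)) (.node (.leaf 0x100100501302d3cd) (.leaf 0)))) (.node (.node (.node (.leaf 0x1ec) (.leaf 0)) (.node (.leaf 0x232) (.leaf 0))) (.node (.node (.leaf 0x3de) (.leaf 0)) (.node (.leaf 0x500700b53c) (.leaf 0)))))) (.node (.node (.node (.node (.node (.leaf 0x18) (.leaf 0)) (.node (.leaf 0x1001005004000029) (.leaf 0))) (.node (.node (.leaf 0x2c4) (.leaf 0)) (.node (.leaf 0x100000300d014461) (.leaf 0)))) (.node (.node (.node (.leaf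 0x1a6) (.leaf 0)) (.node (.leaf 0x4b9) (.leaf 0))) (.node (.node (.leaf 0x3b2) (.leaf 0)) (.node (.leaf 0x1000005003020364) (.leaf 0))))) (.node (.node (.node (.node (.leaf 0x10d) (.leaf 0)) (.node (.leaf 0x100000500600a37a) (.leaf 0))) (.node (.node (.leaf 0x200500f01607f) (.leaf 0)) (.node (.leaf 0x20040050223a5) (.leaf 0)))) (.node (.node (.node (.leaf 0x9b) (.leaf 0)) (.node (.leaf 0x4f3) (.leaf 0))) (.node (.node (.leaf 0x30e) (.leaf 0)) (.node (.leaf 0x44a) (.leaf 0))))))) (.node (.node (.node (.node (.node (.node (.leaf 0x3b) (.leaf 0x515)) (.node (.leaf 0x100000201603129f) (.leaf 0))) (.node (.node (.leaf 0xc1) (.leaf 0)) (.node (.leaf 0x30000200314ff) (.leaf 0)))) (.node (.node (.node (.leaf 0x17d) (.leaf 0)) (.node (.leaf 0x2d335) (.leaf 0))) (.node (.node (.leaf 0x100200102500d2e0) (.leaf 0)) (.node (.leaf 0x3d2) (.leaf 0))))) (.node (.node (.node (.node (.leaf 0x7b) (.leaf 0)) (.node (.leaf 0x10190003fd) (.leaf 0))) (.node (.node (.leaf 0x6d) (.leaf 0)) (.node (.leaf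 0x43b) (.leaf 0)))) (.node (.node (.node (.leaf 0x212) (.leaf 0)) (.node (.leaf 0x100100100301632c) (.leaf 0))) (.node (.node (.leaf 0x4001029019171) (.leaf 0)) (.node (.leaf 0x100000102402f3f6) (.leaf 0)))))) (.node (.node (.node (.node (.node (.leaf 0x92) (.leaf 0)) (.node (.leaf 0x44e) (.leaf 0))) (.node (.node (.leaf 0x10030010050232a1) (.leaf 0)) (.node (.leaf 0x1004002029021391) (.leaf 0)))) (.node (.node (.node (.leaf 0x7a) (.leaf 0)) (.node (.leaf 0x100400301701e3b5) (.leaf 0))) (.node (.node (.leaf 0x10e) (.leaf 0)) (.node (.leaf 0x3d7) (.leaf 0))))) (.node (.node (.node (.node (.leaf 0x133) (.leaf 0)) (.node (.leaf 0x1e7) (.leaf 0))) (.node (.node (.leaf 0x35f) (.leaf 0)) (.node (.leaf 0x100100100601e10c) (.leaf 0)))) (.node (.node (.node (.leaf 0x25c) (.leaf 0)) (.node (.leaf 0x505) (.leaf 0))) (.node (.node (.leaf 0x1000005014000290) (.leaf 0)) (.node (.leaf 0x100200000c024545) (.leaf 0))))))))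

/-- part of closing hints -/
def node0L0close56 : Trie :=
  (.node (.node (.node (.node (.node (.node (.node (.leaf 0x24) (.leaf 0x100300000902b53a)) (.node (.leaf 0x428) (.leaf 0))) (.node (.node (.leaf 0x290) (.leaf 0)) (.node (.leaf 0x29d) (.leaf 0)))) (.node (.node (.node (.leaf 0x169) (.leaf 0)) (.node (.leaf 0x1f9) (.leaf 0))) (.node (.node (.leaf 0x38e) (.leaf 0)) (.node (.leaf 0x3000020017246) (.leaf 0))))) (.node (.node (.node (.node (.leaf 0x7a) (.leaf 0)) (.node (.leaf 0x1bf) (.leaf 0))) (.node (.node (.leaf 0x10190001bd) (.leaf 0)) (.node (.leaf 0x1000002022000161) (.leaf 0)))) (.node (.node (.node (.leaf 0x8a) (.leaf 0)) (.node (.leaf 0x100200100b019497) (.leaf 0))) (.node (.node (.leaf 0x3e9) (.leaf 0)) (.node (.leaf 0x418) (.leaf 0)))))) (.node (.node (.node (.node (.node (.leaf 0x7c) (.leaf 0)) (.node (.leaf 0x31c) (.leaf 0))) (.node (.node (.leaf 0xd3) (.leaf 0)) (.node (.leaf 0x100400400101b4f1) (.leaf 0)))) (.node (.node (.node (.leaf 0xac) (.leaf 0)) (.node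 (.leaf 0x300201801a22a) (.leaf 0))) (.node (.node (.leaf 0x3bd) (.leaf 0)) (.node (.leaf 0x35c) (.leaf 0))))) (.node (.node (.node (.node (.leaf 0x102) (.leaf 0)) (.node (.leaf 0x20200291f4) (.leaf 0))) (.node (.node (.leaf 0x34b) (.leaf 0)) (.node (.leaf 0x10030020040203d6) (.leaf 0)))) (.node (.node (.node (.leaf 0x100000100e02f17a) (.leaf 0)) (.node (.leaf 0x4f7) (.leaf 0))) (.node (.node (.leaf 0x10040040010002eb) (.leaf 0)) (.node (.leaf 0x40040190204cc) (.leaf 0))))))) (.node (.node (.node (.node (.node (.node (.leaf 0x4f) (.leaf 0x100000001c01b565)) (.node (.leaf 0x433) (.leaf 0))) (.node (.node (.leaf 0x2b6) (.leaf 0)) (.node (.leaf 0x51e) (.leaf 0)))) (.node (.node (.node (.leaf 0xf1) (.leaf 0)) (.node (.leaf 0x100200201800837f) (.leaf 0))) (.node (.node (.leaf 0x3a4) (.leaf 0)) (.node (.leaf 0x10030020270094e4) (.leaf 0))))) (.node (.node (.node (.node (.leaf 0xf7) (.leaf 0)) (.node (.leaf 0x305) (.leaf 0))) (.node (.node (.leaf 0x32b) (.leaf 0)) (.node (.leaf 0x541)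 (.leaf 0)))) (.node (.node (.node (.leaf 0x400400601c1f7) (.leaf 0)) (.node (.leaf 0x10050150223c6) (.leaf 0))) (.node (.node (.leaf 0x100400501800c0b6) (.leaf 0)) (.node (.leaf 0x100402102843c) (.leaf 0)))))) (.node (.node (.node (.node (.node (.leaf 0xa6) (.leaf 0)) (.node (.leaf 0x45a) (.leaf 0))) (.node (.node (.leaf 0x2f3) (.leaf 0)) (.node (.leaf 0x2f6) (.leaf 0)))) (.node (.node (.node (.leaf 0x1d7) (.leaf 0)) (.node (.leaf 0x400c030492) (.leaf 0))) (.node (.node (.leaf 0x3cf) (.leaf 0)) (.node (.leaf 0x56b) (.leaf 0))))) (.node (.node (.node (.node (.leaf 0x4a) (.leaf 0)) (.node (.leaf 0x1ed) (.leaf 0))) (.node (.node (.leaf 0x300001402f089) (.leaf 0)) (.node (.leaf 0x1800054e) (.leaf 0)))) (.node (.node (.node (.leaf 0x26e) (.leaf 0)) (.node (.leaf 0x100000300d014446) (.leaf 0))) (.node (.node (.leaf 0x315) (.leaf 0)) (.node (.leaf 0x100400100402d57d) (.leaf 0))))))))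

/-- part of closing hints -/
def node0L0close4 : Trie :=
  (.node (.node (.node (.node (.node (.node (.node (.leaf 0x1000002016031001) (.leaf 0x4b4)) (.node (.leaf 0x1002004027020218) (.leaf 0))) (.node (.node (.leaf 0xb3) (.leaf 0)) (.node (.leaf 0x400001c00005c) (.leaf 0)))) (.node (.node (.node (.leaf 0x57) (.leaf 0)) (.node (.leaf 0x498) (.leaf 0))) (.node (.node (.leaf 0x376) (.leaf 0)) (.node (.leaf 0x201901f528) (.leaf 0))))) (.node (.node (.node (.node (.leaf 0xac) (.leaf 0)) (.node (.leaf 0x10010050160270bf) (.leaf 0))) (.node (.node (.leaf 0x1cd) (.leaf 0)) (.node (.leaf 0x2f9) (.leaf 0)))) (.node (.node (.node (.leaf 0x1e0) (.leaf 0)) (.node (.leaf 0x25b) (.leaf 0))) (.node (.node (.leaf 0x143) (.leaf 0)) (.node (.leaf 0x100100000c031513) (.leaf 0)))))) (.node (.node (.node (.node (.node (.leaf 0x100200201a00003f) (.leaf 0)) (.node (.leaf 0x18f) (.leaf 0))) (.node (.node (.leaf 0x100400501800c065) (.leaf 0)) (.node (.leaf 0x2ce) (.leaf 0)))) (.node (.node (.node (.leaf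 0x198) (.leaf 0)) (.node (.leaf 0x200501d003223) (.leaf 0))) (.node (.node (.leaf 0x12c) (.leaf 0)) (.node (.leaf 0x100100500700e4e5) (.leaf 0))))) (.node (.node (.node (.node (.leaf 0xfd) (.leaf 0)) (.node (.leaf 0x300101e029376) (.leaf 0))) (.node (.node (.leaf 0xfb) (.leaf 0)) (.node (.leaf 0x100100402702b525) (.leaf 0)))) (.node (.node (.node (.leaf 0x22f) (.leaf 0)) (.node (.leaf 0x400c030492) (.leaf 0))) (.node (.node (.leaf 0x100200201a0003a8) (.leaf 0)) (.node (.leaf 0x100300201d01554d) (.leaf 0))))))) (.node (.node (.node (.node (.node (.node (.leaf 0xb) (.leaf 0x3003017017506)) (.node (.leaf 0x10040050030163f1) (.leaf 0))) (.node (.node (.leaf 0x29a) (.leaf 0)) (.node (.leaf 0x100300302a4f7) (.leaf 0)))) (.node (.node (.node (.leaf 0x171) (.leaf 0)) (.node (.leaf 0x200001c014488) (.leaf 0))) (.node (.node (.leaf 0x394) (.leaf 0)) (.node (.leaf 0x100300301100144b) (.leaf 0))))) (.node (.node (.node (.node (.leaf 0xb2) (.leaf 0)) (.node (.leaf 0x200102500d424) (.leaf 0)))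 (.node (.node (.leaf 0x200301b000077) (.leaf 0)) (.node (.leaf 0x200402900052d) (.leaf 0)))) (.node (.node (.node (.leaf 0x208) (.leaf 0)) (.node (.leaf 0x10030020040204cd) (.leaf 0))) (.node (.node (.leaf 0x3f1) (.leaf 0)) (.node (.leaf 0x501701944d) (.leaf 0)))))) (.node (.node (.node (.node (.node (.leaf 0x85) (.leaf 0)) (.node (.leaf 0x31e) (.leaf 0))) (.node (.node (.leaf 0x278) (.leaf 0)) (.node (.leaf 0x200301d00c4be) (.leaf 0)))) (.node (.node (.node (.leaf 0xb9) (.leaf 0)) (.node (.leaf 0x4c3) (.leaf 0))) (.node (.node (.leaf 0x10040050200143c0) (.leaf 0)) (.node (.leaf 0x100000301c00c431) (.leaf 0))))) (.node (.node (.node (.node (.leaf 0x49) (.leaf 0)) (.node (.leaf 0x30040090072c3) (.leaf 0))) (.node (.node (.leaf 0x400300d008119) (.leaf 0)) (.node (.leaf 0x100202301a3b5) (.leaf 0)))) (.node (.node (.node (.leaf 0x252) (.leaf 0)) (.node (.leaf 0x4fc) (.leaf 0))) (.node (.node (.leaf 0x16a) (.leaf 0)) (.node (.leaf 0x100000100202c476) (.leaf 0))))))))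

/-- part of closing hints -/
def node0L0close36 : Trie :=
  (.node (.node (.node (.node (.node (.node (.node (.leaf 0x17) (.leaf 0x10020050200184d5)) (.node (.leaf 0x425) (.leaf 0))) (.node (.node (.leaf 0x1000005014000165) (.leaf 0)) (.node (.leaf 0x1000018030459) (.leaf 0)))) (.node (.node (.node (.leaf 0x6a) (.leaf 0)) (.node (.leaf 0x2d370) (.leaf 0))) (.node (.node (.leaf 0x37f) (.leaf 0)) (.node (.leaf 0x3ca) (.leaf 0))))) (.node (.node (.node (.node (.leaf 0xc4) (.leaf 0)) (.node (.leaf 0xb8) (.leaf 0))) (.node (.node (.leaf 0x307) (.leaf 0)) (.node (.leaf 0x100000402702c2a3) (.leaf 0)))) (.node (.node (.node (.leaf 0x1f4) (.leaf 0)) (.node (.leaf 0x4dc) (.leaf 0))) (.node (.node (.leaf 0x1000001013026228) (.leaf 0)) (.node (.leaf 0x40c) (.leaf 0)))))) (.node (.node (.node (.node (.node (.leaf 0x6e) (.leaf 0)) (.node (.leaf 0x440) (.leaf 0))) (.node (.node (.leaf 0x2cd) (.leaf 0)) (.node (.leaf 0x100400200c0143be) (.leaf 0)))) (.node (.node (.node (.leaf 0x1ad) (.leaf 0))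 (.node (.leaf 0x211) (.leaf 0))) (.node (.node (.leaf 0x12f) (.leaf 0)) (.node (.leaf 0x501301d15d) (.leaf 0))))) (.node (.node (.node (.node (.leaf 0x113) (.leaf 0)) (.node (.leaf 0x1d9) (.leaf 0))) (.node (.node (.leaf 0x340) (.leaf 0)) (.node (.leaf 0x200302201f3b4) (.leaf 0)))) (.node (.node (.node (.leaf 0x1ec) (.leaf 0)) (.node (.leaf 0x400101602222f) (.leaf 0))) (.node (.node (.leaf 0x400) (.leaf 0)) (.node (.leaf 0x45a) (.leaf 0))))))) (.node (.node (.node (.node (.node (.node (.leaf 0x41) (.leaf 0x525)) (.node (.leaf 0x18d) (.leaf 0))) (.node (.node (.leaf 0x100501f01b1e0) (.leaf 0)) (.node (.leaf 0x515) (.leaf 0)))) (.node (.node (.node (.leaf 0x186) (.leaf 0)) (.node (.leaf 0x400300502e3e7) (.leaf 0))) (.node (.node (.leaf 0x30030100001e9) (.leaf 0)) (.node (.leaf 0x100300301c0263de) (.leaf 0))))) (.node (.node (.node (.node (.leaf 0xec) (.leaf 0)) (.node (.leaf 0x40030270311bb) (.leaf 0))) (.node (.node (.leaf 0x102000611f) (.leaf 0)) (.node (.leaf 0x2003011002401)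 (.leaf 0)))) (.node (.node (.node (.leaf 0x21a) (.leaf 0)) (.node (.leaf 0x4eb) (.leaf 0))) (.node (.node (.leaf 0x40280223cc) (.leaf 0)) (.node (.leaf 0x100400200e00e1ca) (.leaf 0)))))) (.node (.node (.node (.node (.node (.leaf 0x100100000300008b) (.leaf 0)) (.node (.leaf 0x452) (.leaf 0))) (.node (.node (.leaf 0x10030010050232c9) (.leaf 0)) (.node (.leaf 0x10120024ed) (.leaf 0)))) (.node (.node (.node (.leaf 0x7c) (.leaf 0)) (.node (.leaf 0x1000002022002244) (.leaf 0))) (.node (.node (.leaf 0x300500900f17e) (.leaf 0)) (.node (.leaf 0x569) (.leaf 0))))) (.node (.node (.node (.node (.leaf 0x13a) (.leaf 0)) (.node (.leaf 0x490) (.leaf 0))) (.node (.node (.leaf 0x100000100e02f2ac) (.leaf 0)) (.node (.leaf 0x1004001001014355) (.leaf 0)))) (.node (.node (.node (.leaf 0x10010050090161d2) (.leaf 0)) (.node (.leaf 0x10030040240314f4) (.leaf 0))) (.node (.node (.leaf 0x100100200302731d) (.leaf 0)) (.node (.leaf 0x2005004562) (.leaf 0))))))))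

/-- part of closing hints -/
def node0L0close20 : Trie :=
  (.node (.node (.node (.node (.node (.node (.node (.leaf 0xd) (.leaf 0x10020010170094a8)) (.node (.leaf 0x423) (.leaf 0))) (.node (.node (.leaf 0x27c) (.leaf 0)) (.node (.leaf 0x1004002029021391) (.leaf 0)))) (.node (.node (.node (.leaf 0x152) (.leaf 0)) (.node (.leaf 0x49f) (.leaf 0))) (.node (.node (.leaf 0x115) (.leaf 0)) (.node (.leaf 0x552) (.leaf 0))))) (.node (.node (.node (.node (.leaf 0x76) (.leaf 0)) (.node (.leaf 0x462) (.leaf 0))) (.node (.node (.leaf 0x100200500801429e) (.leaf 0)) (.node (.leaf 0x100300500b0054d7) (.leaf 0)))) (.node (.node (.node (.leaf 0x1e9) (.leaf 0)) (.node (.leaf 0x100000300701a4ce) (.leaf 0))) (.node (.node (.leaf 0x12e) (.leaf 0)) (.node (.leaf 0x101001d50d) (.leaf 0)))))) (.node (.node (.node (.node (.node (.leaf 0x63) (.leaf 0)) (.node (.leaf 0x43e) (.leaf 0))) (.node (.node (.leaf 0x1c4) (.leaf 0)) (.node (.leaf 0x100400401d00021b) (.leaf 0)))) (.node (.node (.node (.leaf 0x1a3)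 (.leaf 0)) (.node (.leaf 0x20f) (.leaf 0))) (.node (.node (.leaf 0x3af) (.leaf 0)) (.node (.leaf 0x10030000050264ca) (.leaf 0))))) (.node (.node (.node (.node (.leaf 0x41) (.leaf 0)) (.node (.leaf 0x30050010093c5) (.leaf 0))) (.node (.node (.leaf 0x121) (.leaf 0)) (.node (.leaf 0x100100201401549a) (.leaf 0)))) (.node (.node (.node (.leaf 0x239) (.leaf 0)) (.node (.leaf 0x4d3) (.leaf 0))) (.node (.node (.leaf 0x160) (.leaf 0)) (.node (.leaf 0x1000001012023543) (.leaf 0))))))) (.node (.node (.node (.node (.node (.node (.leaf 0x6) (.leaf 0x200201e00f24f)) (.node (.leaf 0x188) (.leaf 0))) (.node (.node (.leaf 0x2a4) (.leaf 0)) (.node (.leaf 0x40090173cf) (.leaf 0)))) (.node (.node (.node (.leaf 0x62) (.leaf 0)) (.node (.leaf 0x4b2) (.leaf 0))) (.node (.node (.leaf 0x400001601b15b) (.leaf 0)) (.node (.leaf 0x10020030140053dd) (.leaf 0))))) (.node (.node (.node (.node (.leaf 0xe3) (.leaf 0)) (.node (.leaf 0x100200400101c449) (.leaf 0))) (.node (.node (.leaf 0x319) (.leaf 0)) (.node (.leaf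 0x53e) (.leaf 0)))) (.node (.node (.node (.leaf 0x91) (.leaf 0)) (.node (.leaf 0x10020010050083d2) (.leaf 0))) (.node (.node (.leaf 0x100400501e24b) (.leaf 0)) (.node (.leaf 0x10020000040104ab) (.leaf 0)))))) (.node (.node (.node (.node (.node (.leaf 0x27) (.leaf 0)) (.node (.leaf 0x100400501903016a) (.leaf 0))) (.node (.node (.leaf 0x280) (.leaf 0)) (.node (.leaf 0x2e8) (.leaf 0)))) (.node (.node (.node (.leaf 0x1c6) (.leaf 0)) (.node (.leaf 0x4c8) (.leaf 0))) (.node (.node (.leaf 0x138) (.leaf 0)) (.node (.leaf 0x200400e026280) (.leaf 0))))) (.node (.node (.node (.node (.leaf 0xf8) (.leaf 0)) (.node (.leaf 0x300302702d2bd) (.leaf 0))) (.node (.node (.leaf 0x35c) (.leaf 0)) (.node (.leaf 0x10040050090024d6) (.leaf 0)))) (.node (.node (.node (.leaf 0x25a) (.leaf 0)) (.node (.leaf 0x503) (.leaf 0))) (.node (.node (.leaf 0x188) (.leaf 0)) (.node (.leaf 0x100000500200d4ab) (.leaf 0))))))))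

/-- part of closing hints -/
def node0L0close52 : Trie :=
  (.node (.node (.node (.node (.node (.node (.node (.leaf 0x25) (.leaf 0x4f0)) (.node (.leaf 0x1000002016031275) (.leaf 0))) (.node (.node (.leaf 0xbb) (.leaf 0)) (.node (.leaf 0x100000402201c294) (.leaf 0)))) (.node (.node (.node (.leaf 0x167) (.leaf 0)) (.node (.leaf 0x200200b01b343) (.leaf 0))) (.node (.node (.leaf 0x38a) (.leaf 0)) (.node (.leaf 0x100300500001c4e0) (.leaf 0))))) (.node (.node (.node (.node (.leaf 0xcc) (.leaf 0)) (.node (.leaf 0x46c) (.leaf 0))) (.node (.node (.leaf 0x30c) (.leaf 0)) (.node (.leaf 0x53a) (.leaf 0)))) (.node (.node (.node (.leaf 0x1003000007000021) (.leaf 0)) (.node (.leaf 0x10000050280092e1) (.leaf 0))) (.node (.node (.leaf 0x14d) (.leaf 0)) (.node (.leaf 0x100000201a571) (.leaf 0)))))) (.node (.node (.node (.node (.node (.leaf 0x2f) (.leaf 0)) (.node (.leaf 0x4003027031379) (.leaf 0))) (.node (.node (.leaf 0x2d9) (.leaf 0)) (.node (.leaf 0x529) (.leaf 0)))) (.node (.node (.node (.leaf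 0x1b7) (.leaf 0)) (.node (.leaf 0x10040010170020e2) (.leaf 0))) (.node (.node (.leaf 0x3bb) (.leaf 0)) (.node (.leaf 0x3c4) (.leaf 0))))) (.node (.node (.node (.node (.leaf 0x11e) (.leaf 0)) (.node (.leaf 0x100100100402f2f8) (.leaf 0))) (.node (.node (.leaf 0x349) (.leaf 0)) (.node (.leaf 0x100300301b02c19a) (.leaf 0)))) (.node (.node (.node (.leaf 0x24b) (.leaf 0)) (.node (.leaf 0x4008010322) (.leaf 0))) (.node (.node (.leaf 0x100400300c026326) (.leaf 0)) (.node (.leaf 0x511) (.leaf 0))))))) (.node (.node (.node (.node (.node (.node (.leaf 0x4d) (.leaf 0x4001023010568)) (.node (.leaf 0x40000130020f6) (.leaf 0))) (.node (.node (.leaf 0x2b4) (.leaf 0)) (.node (.leaf 0x51c) (.leaf 0)))) (.node (.node (.node (.leaf 0x18e) (.leaf 0)) (.node (.leaf 0x1f2) (.leaf 0))) (.node (.node (.leaf 0x3a1) (.leaf 0)) (.node (.leaf 0x300302702d132) (.leaf 0))))) (.node (.node (.node (.node (.leaf 0xf4) (.leaf 0)) (.node (.leaf 0x308) (.leaf 0))) (.node (.node (.leaf 0x329) (.leaf 0)) (.node (.leaf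 0x1004002009011420) (.leaf 0)))) (.node (.node (.node (.leaf 0x95) (.leaf 0)) (.node (.leaf 0x100100100800c4dc) (.leaf 0))) (.node (.node (.leaf 0x154) (.leaf 0)) (.node (.leaf 0x42f) (.leaf 0)))))) (.node (.node (.node (.node (.node (.leaf 0xa4) (.leaf 0)) (.node (.leaf 0x458) (.leaf 0))) (.node (.node (.leaf 0x100000002101e21c) (.leaf 0)) (.node (.leaf 0x533) (.leaf 0)))) (.node (.node (.node (.leaf 0x100500102f185) (.leaf 0)) (.node (.leaf 0x4cd) (.leaf 0))) (.node (.node (.leaf 0x3cc) (.leaf 0)) (.node (.leaf 0x3ed) (.leaf 0))))) (.node (.node (.node (.node (.leaf 0x52) (.leaf 0)) (.node (.leaf 0x100100001601e233) (.leaf 0))) (.node (.node (.leaf 0x115) (.leaf 0)) (.node (.leaf 0x100300500702a543) (.leaf 0)))) (.node (.node (.node (.leaf 0x26c) (.leaf 0)) (.node (.leaf 0x100400000701829d) (.leaf 0))) (.node (.node (.leaf 0x419) (.leaf 0)) (.node (.leaf 0x300000501d48b) (.leaf 0))))))))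

/-- part of closing hints -/
def node0L0close12 : Trie :=
  (.node (.node (.node (.node (.node (.node (.node (.leaf 0x2) (.leaf 0x4000026016249)) (.node (.leaf 0x1000002016031275) (.leaf 0))) (.node (.node (.leaf 0x279) (.leaf 0)) (.node (.leaf 0x10040000070182c5) (.leaf 0)))) (.node (.node (.node (.leaf 0x14e) (.leaf 0)) (.node (.leaf 0x100400b01d3e3) (.leaf 0))) (.node (.node (.leaf 0x110) (.leaf 0)) (.node (.leaf 0x300002900b52b) (.leaf 0))))) (.node (.node (.node (.node (.leaf 0xb1) (.leaf 0)) (.node (.leaf 0x100000200101228d) (.leaf 0))) (.node (.node (.leaf 0x2fd) (.leaf 0)) (.node (.leaf 0x20020250080e1) (.leaf 0)))) (.node (.node (.node (.leaf 0x1e5) (.leaf 0)) (.node (.leaf 0x230) (.leaf 0))) (.node (.node (.leaf 0x14) (.leaf 0)) (.node (.leaf 0x3e8) (.leaf 0)))))) (.node (.node (.node (.node (.node (.leaf 0x5e) (.leaf 0)) (.node (.leaf 0x1001000028030129) (.leaf 0))) (.node (.node (.leaf 0xcc) (.leaf 0)) (.node (.leaf 0x3001006000429) (.leaf 0)))) (.node (.node (.node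 (.leaf 0x1002005008014162) (.leaf 0)) (.node (.leaf 0x210) (.leaf 0))) (.node (.node (.leaf 0x12b) (.leaf 0)) (.node (.leaf 0x1005014019398) (.leaf 0))))) (.node (.node (.node (.node (.leaf 0x4e) (.leaf 0)) (.node (.leaf 0x302502e265) (.leaf 0))) (.node (.node (.leaf 0x335) (.leaf 0)) (.node (.leaf 0x10010020140154e7) (.leaf 0)))) (.node (.node (.node (.leaf 0x233) (.leaf 0)) (.node (.leaf 0x300101402332b) (.leaf 0))) (.node (.node (.leaf 0x2001023019399) (.leaf 0)) (.node (.leaf 0x100300201f00c573) (.leaf 0))))))) (.node (.node (.node (.node (.node (.node (.leaf 0x34) (.leaf 0x507)) (.node (.leaf 0x16d) (.leaf 0))) (.node (.node (.leaf 0xbf) (.leaf 0)) (.node (.leaf 0x100100001d01a512) (.leaf 0)))) (.node (.node (.node (.leaf 0x177) (.leaf 0)) (.node (.leaf 0x2d338) (.leaf 0))) (.node (.node (.leaf 0x395) (.leaf 0)) (.node (.leaf 0x33e) (.leaf 0))))) (.node (.node (.node (.node (.leaf 0x36) (.leaf 0)) (.node (.leaf 0x471) (.leaf 0))) (.node (.node (.leaf 0x66) (.leaf 0)) (.node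 (.leaf 0x53c) (.leaf 0)))) (.node (.node (.node (.leaf 0x20c) (.leaf 0)) (.node (.leaf 0x4e5) (.leaf 0))) (.node (.node (.leaf 0x152) (.leaf 0)) (.node (.leaf 0x573) (.leaf 0)))))) (.node (.node (.node (.node (.node (.leaf 0x8a) (.leaf 0)) (.node (.leaf 0x1a3) (.leaf 0))) (.node (.node (.leaf 0x2e3) (.leaf 0)) (.node (.leaf 0x100000000501d47e) (.leaf 0)))) (.node (.node (.node (.leaf 0xc7) (.leaf 0)) (.node (.leaf 0x4c6) (.leaf 0))) (.node (.node (.leaf 0x10a) (.leaf 0)) (.node (.leaf 0x400000300544c) (.leaf 0))))) (.node (.node (.node (.node (.leaf 0x12e) (.leaf 0)) (.node (.leaf 0x100000500600a36b) (.leaf 0))) (.node (.node (.leaf 0x355) (.leaf 0)) (.node (.leaf 0x100100001602b11a) (.leaf 0)))) (.node (.node (.node (.leaf 0x220) (.leaf 0)) (.node (.leaf 0x200001b028409) (.leaf 0))) (.node (.node (.leaf 0x40e) (.leaf 0)) (.node (.leaf 0x200002501954c) (.leaf 0))))))))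

/-- part of closing hints -/
def node0L0close44 : Trie :=
  (.node (.node (.node (.node (.node (.node (.node (.leaf 0x1e) (.leaf 0x1800057f)) (.node (.leaf 0x100100401d0012b3) (.leaf 0))) (.node (.node (.leaf 0xbc) (.leaf 0)) (.node (.leaf 0x100400201c0303e9) (.leaf 0)))) (.node (.node (.node (.leaf 0x163) (.leaf 0)) (.node (.leaf 0x300c02a4a0) (.leaf 0))) (.node (.node (.leaf 0x384) (.leaf 0)) (.node (.leaf 0x100000101c02c44e) (.leaf 0))))) (.node (.node (.node (.node (.leaf 0xc7) (.leaf 0)) (.node (.leaf 0x1bc) (.leaf 0))) (.node (.node (.leaf 0x30a) (.leaf 0)) (.node (.leaf 0x100000300d014435) (.leaf 0)))) (.node (.node (.node (.leaf 0x1f9) (.leaf 0)) (.node (.leaf 0x100400300700c253) (.leaf 0))) (.node (.node (.leaf 0x100100500901632d) (.leaf 0)) (.node (.leaf 0x1003004021004447) (.leaf 0)))))) (.node (.node (.node (.node (.node (.leaf 0x74) (.leaf 0)) (.node (.leaf 0x1001005006002247) (.leaf 0))) (.node (.node (.leaf 0x2d3) (.leaf 0)) (.node (.leaf 0x100000301e015224) (.leaf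 0)))) (.node (.node (.node (.leaf 0x1b1) (.leaf 0)) (.node (.leaf 0x212) (.leaf 0))) (.node (.node (.leaf 0x100200501b02213f) (.leaf 0)) (.node (.leaf 0x1000002024023436) (.leaf 0))))) (.node (.node (.node (.node (.leaf 0x117) (.leaf 0)) (.node (.leaf 0x488) (.leaf 0))) (.node (.node (.leaf 0x345) (.leaf 0)) (.node (.leaf 0x400300c0003bf) (.leaf 0)))) (.node (.node (.node (.leaf 0x247) (.leaf 0)) (.node (.leaf 0x1000005028009276) (.leaf 0))) (.node (.node (.leaf 0x30f) (.leaf 0)) (.node (.leaf 0x4003027031454) (.leaf 0))))))) (.node (.node (.node (.node (.node (.node (.leaf 0x14) (.leaf 0x100000500a0143b0)) (.node (.leaf 0x18c) (.leaf 0))) (.node (.node (.leaf 0x2b1) (.leaf 0)) (.node (.leaf 0x3005011031377) (.leaf 0)))) (.node (.node (.node (.leaf 0x300200001a0eb) (.leaf 0)) (.node (.leaf 0x4b3) (.leaf 0))) (.node (.node (.leaf 0x144) (.leaf 0)) (.node (.leaf 0x3a7) (.leaf 0))))) (.node (.node (.node (.node (.leaf 0xf0) (.leaf 0)) (.node (.leaf 0x100001f01f25d) (.leaf 0))) (.node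 (.node (.leaf 0x325) (.leaf 0)) (.node (.leaf 0x10020030090013ee) (.leaf 0)))) (.node (.node (.node (.leaf 0xa7) (.leaf 0)) (.node (.leaf 0x300502102b3ea) (.leaf 0))) (.node (.node (.leaf 0x300501f014130) (.leaf 0)) (.node (.leaf 0x1004000006020500) (.leaf 0)))))) (.node (.node (.node (.node (.node (.leaf 0xa0) (.leaf 0)) (.node (.leaf 0x455) (.leaf 0))) (.node (.node (.leaf 0x2ef) (.leaf 0)) (.node (.leaf 0x2f2) (.leaf 0)))) (.node (.node (.node (.leaf 0x1d3) (.leaf 0)) (.node (.leaf 0x236) (.leaf 0))) (.node (.node (.leaf 0x100400202600c201) (.leaf 0)) (.node (.leaf 0x56a) (.leaf 0))))) (.node (.node (.node (.node (.leaf 0x13d) (.leaf 0)) (.node (.leaf 0x100100100602b23c) (.leaf 0))) (.node (.node (.leaf 0x36a) (.leaf 0)) (.node (.leaf 0x364) (.leaf 0)))) (.node (.node (.node (.leaf 0xae) (.leaf 0)) (.node (.leaf 0x508) (.leaf 0))) (.node (.node (.leaf 0x100302902c15e) (.leaf 0)) (.node (.leaf 0x57f) (.leaf 0))))))))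

/-- part of closing hints -/
def node0L0close28 : Trie :=
  (.node (.node (.node (.node (.node (.node (.node (.leaf 0x10) (.leaf 0x4d7)) (.node (.leaf 0x17b) (.leaf 0))) (.node (.node (.leaf 0x282) (.leaf 0)) (.node (.leaf 0x50b) (.leaf 0)))) (.node (.node (.node (.leaf 0x157) (.leaf 0)) (.node (.leaf 0x4a2) (.leaf 0))) (.node (.node (.leaf 0x37b) (.leaf 0)) (.node (.leaf 0x300201c4f6) (.leaf 0))))) (.node (.node (.node (.node (.leaf 0x2e) (.leaf 0)) (.node (.leaf 0x2005015001457) (.leaf 0))) (.node (.node (.leaf 0xe7) (.leaf 0)) (.node (.leaf 0x100400500b01e41d) (.leaf 0)))) (.node (.node (.node (.leaf 0x1ee) (.leaf 0)) (.node (.leaf 0x20000220254c6) (.leaf 0))) (.node (.node (.leaf 0x148) (.leaf 0)) (.node (.leaf 0x1000002012030526) (.leaf 0)))))) (.node (.node (.node (.node (.node (.leaf 0x68) (.leaf 0)) (.node (.leaf 0x193) (.leaf 0))) (.node (.node (.leaf 0x301d00f0c7) (.leaf 0)) (.node (.leaf 0x2d2) (.leaf 0)))) (.node (.node (.node (.leaf 0x6f) (.leaf 0)) (.node (.leaf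 0x10010000010300aa) (.leaf 0))) (.node (.node (.leaf 0x127) (.leaf 0)) (.node (.leaf 0x3b8) (.leaf 0))))) (.node (.node (.node (.node (.leaf 0x110) (.leaf 0)) (.node (.leaf 0x1e1) (.leaf 0))) (.node (.node (.leaf 0x100) (.leaf 0)) (.node (.leaf 0x1302f435) (.leaf 0)))) (.node (.node (.node (.leaf 0x1d4) (.leaf 0)) (.node (.leaf 0x301a00c488) (.leaf 0))) (.node (.node (.leaf 0x3fc) (.leaf 0)) (.node (.leaf 0x1000003026029524) (.leaf 0))))))) (.node (.node (.node (.node (.node (.node (.leaf 0xe) (.leaf 0x100000300100c523)) (.node (.leaf 0x10010020030271a0) (.leaf 0))) (.node (.node (.leaf 0x2a8) (.leaf 0)) (.node (.leaf 0x100300302a504) (.leaf 0)))) (.node (.node (.node (.leaf 0x181) (.leaf 0)) (.node (.leaf 0x1ff) (.leaf 0))) (.node (.node (.leaf 0x398) (.leaf 0)) (.node (.leaf 0x100400201801951e) (.leaf 0))))) (.node (.node (.node (.node (.leaf 0x2001028000063) (.leaf 0)) (.node (.leaf 0x100202000831c) (.leaf 0))) (.node (.node (.leaf 0x31c) (.leaf 0)) (.node (.leaf 0x100200302300b4ae)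 (.leaf 0)))) (.node (.node (.node (.leaf 0x215) (.leaf 0)) (.node (.leaf 0x101301b375) (.leaf 0))) (.node (.node (.leaf 0x4001029019313) (.leaf 0)) (.node (.leaf 0x1004002006004560) (.leaf 0)))))) (.node (.node (.node (.node (.node (.leaf 0x95) (.leaf 0)) (.node (.leaf 0x300000c012421) (.leaf 0))) (.node (.node (.leaf 0x2e7) (.leaf 0)) (.node (.leaf 0x1001003028026460) (.leaf 0)))) (.node (.node (.node (.leaf 0x37) (.leaf 0)) (.node (.leaf 0x3003010000353) (.leaf 0))) (.node (.node (.leaf 0x10000030240112da) (.leaf 0)) (.node (.leaf 0x100300102100a3f7) (.leaf 0))))) (.node (.node (.node (.node (.leaf 0x109) (.leaf 0)) (.node (.leaf 0x1c00039b) (.leaf 0))) (.node (.node (.leaf 0x11a) (.leaf 0)) (.node (.leaf 0x1002002005002483) (.leaf 0)))) (.node (.node (.node (.leaf 0x400400601c251) (.leaf 0)) (.node (.leaf 0x10020010290062f2) (.leaf 0))) (.node (.node (.leaf 0x16d) (.leaf 0)) (.node (.leaf 0x100400100a0054c5) (.leaf 0))))))))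

/-- part of closing hints -/
def node0L0close60 : Trie :=
  (.node (.node (.node (.node (.node (.node (.node (.leaf 0x20) (.leaf 0x300100c014489)) (.node (.leaf 0x300300702a26a) (.leaf 0))) (.node (.node (.leaf 0x293) (.leaf 0)) (.node (.leaf 0x2a3) (.leaf 0)))) (.node (.node (.node (.leaf 0x16c) (.leaf 0)) (.node (.leaf 0x4ab) (.leaf 0))) (.node (.node (.leaf 0x390) (.leaf 0)) (.node (.leaf 0x38d) (.leaf 0))))) (.node (.node (.node (.node (.leaf 0xd3) (.leaf 0)) (.node (.leaf 0xc2) (.leaf 0))) (.node (.node (.leaf 0x1002003024026304) (.leaf 0)) (.node (.leaf 0x300201a01c449) (.leaf 0)))) (.node (.node (.node (.leaf 0x201) (.leaf 0)) (.node (.leaf 0x100300502902b436) (.leaf 0))) (.node (.node (.leaf 0x3ec) (.leaf 0)) (.node (.leaf 0x1002001003010422) (.leaf 0)))))) (.node (.node (.node (.node (.node (.leaf 0x7f) (.leaf 0)) (.node (.leaf 0x1003005005029372) (.leaf 0))) (.node (.node (.leaf 0x300c01422e) (.leaf 0)) (.node (.leaf 0x52a) (.leaf 0)))) (.node (.node (.node (.leaf 0x1ba)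 (.leaf 0)) (.node (.leaf 0x100000500600a37a) (.leaf 0))) (.node (.node (.leaf 0x133) (.leaf 0)) (.node (.leaf 0x1000004000400) (.leaf 0))))) (.node (.node (.node (.node (.leaf 0xfe) (.leaf 0)) (.node (.leaf 0x48b) (.leaf 0))) (.node (.node (.leaf 0x3003014221) (.leaf 0)) (.node (.leaf 0x300500300f38b) (.leaf 0)))) (.node (.node (.node (.leaf 0x100300102802f151) (.leaf 0)) (.node (.leaf 0x4f9) (.leaf 0))) (.node (.node (.leaf 0x3fd) (.leaf 0)) (.node (.leaf 0x57a) (.leaf 0))))))) (.node (.node (.node (.node (.node (.node (.leaf 0x52) (.leaf 0x300301d02555c)) (.node (.leaf 0x18e) (.leaf 0))) (.node (.node (.leaf 0x2b9) (.leaf 0)) (.node (.leaf 0x4003002000406) (.leaf 0)))) (.node (.node (.node (.leaf 0x300c014146) (.leaf 0)) (.node (.leaf 0x20b) (.leaf 0))) (.node (.node (.leaf 0x3a5) (.leaf 0)) (.node (.leaf 0x3dc) (.leaf 0))))) (.node (.node (.node (.node (.leaf 0xf8) (.leaf 0)) (.node (.leaf 0x480) (.leaf 0))) (.node (.node (.leaf 0xfc) (.leaf 0)) (.node (.leaf 0x1005025008458)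 (.leaf 0)))) (.node (.node (.node (.leaf 0x22a) (.leaf 0)) (.node (.leaf 0x225) (.leaf 0))) (.node (.node (.leaf 0x15c) (.leaf 0)) (.node (.leaf 0x100000301e015109) (.leaf 0)))))) (.node (.node (.node (.node (.node (.leaf 0xa8) (.leaf 0)) (.node (.leaf 0x100300102302f440) (.leaf 0))) (.node (.node (.leaf 0x2f6) (.leaf 0)) (.node (.leaf 0x3002017010489) (.leaf 0)))) (.node (.node (.node (.leaf 0x81) (.leaf 0)) (.node (.leaf 0x13b8) (.leaf 0))) (.node (.node (.leaf 0x125) (.leaf 0)) (.node (.leaf 0x200400100d41b) (.leaf 0))))) (.node (.node (.node (.node (.leaf 0x146) (.leaf 0)) (.node (.leaf 0x496) (.leaf 0))) (.node (.node (.leaf 0x110) (.leaf 0)) (.node (.leaf 0x100400300100e550) (.leaf 0)))) (.node (.node (.node (.leaf 0x26f) (.leaf 0)) (.node (.leaf 0x100300401d00e2ef) (.leaf 0))) (.node (.node (.leaf 0x41d) (.leaf 0)) (.node (.leaf 0x4b2) (.leaf 0))))))))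

/-- part of closing hints -/
def node0L0close2 : Trie :=
  (.node (.node (.node (.node (.node (.node (.node (.leaf 0x2) (.leaf 0x300201c56d)) (.node (.leaf 0x41f) (.leaf 0))) (.node (.node (.leaf 0xb5) (.leaf 0)) (.node (.leaf 0x100200000602440b) (.leaf 0)))) (.node (.node (.node (.leaf 0x14a) (.leaf 0)) (.node (.leaf 0x497) (.leaf 0))) (.node (.node (.leaf 0x375) (.leaf 0)) (.node (.leaf 0x400400d00e38f) (.leaf 0))))) (.node (.node (.node (.node (.leaf 0x74) (.leaf 0)) (.node (.leaf 0x323) (.leaf 0))) (.node (.node (.leaf 0x40030270310b0) (.leaf 0)) (.node (.leaf 0x2fb) (.leaf 0)))) (.node (.node (.node (.leaf 0x1de) (.leaf 0)) (.node (.leaf 0x13e1) (.leaf 0))) (.node (.node (.leaf 0x39a) (.leaf 0)) (.node (.leaf 0x300000402e4f9) (.leaf 0)))))) (.node (.node (.node (.node (.node (.leaf 0x100300301600000b) (.leaf 0)) (.node (.leaf 0x1002006008403) (.leaf 0))) (.node (.node (.leaf 0x2b0) (.leaf 0)) (.node (.leaf 0x200302902f153) (.leaf 0)))) (.node (.node (.node (.leaf 0x196) (.leaf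 0)) (.node (.leaf 0x20c) (.leaf 0))) (.node (.node (.leaf 0x3a7) (.leaf 0)) (.node (.leaf 0x100100500700e4e6) (.leaf 0))))) (.node (.node (.node (.node (.leaf 0xfc) (.leaf 0)) (.node (.leaf 0x100301000e094) (.leaf 0))) (.node (.node (.leaf 0x330) (.leaf 0)) (.node (.leaf 0x401900953d) (.leaf 0)))) (.node (.node (.node (.leaf 0x22d) (.leaf 0)) (.node (.leaf 0x22b) (.leaf 0))) (.node (.node (.leaf 0x15d) (.leaf 0)) (.node (.leaf 0x100400300d01b208) (.leaf 0))))))) (.node (.node (.node (.node (.node (.node (.leaf 0xd) (.leaf 0x100100000f001527)) (.node (.leaf 0x500f01c263) (.leaf 0))) (.node (.node (.leaf 0x298) (.leaf 0)) (.node (.leaf 0x100300302a4f8) (.leaf 0)))) (.node (.node (.node (.leaf 0x5f) (.leaf 0)) (.node (.leaf 0x4ad) (.leaf 0))) (.node (.node (.leaf 0x100300001601a2b8) (.leaf 0)) (.node (.leaf 0x390) (.leaf 0))))) (.node (.node (.node (.node (.leaf 0xd6) (.leaf 0)) (.node (.leaf 0x300401702924c) (.leaf 0))) (.node (.node (.leaf 0x175) (.leaf 0)) (.node (.leaf 0x10030040050262ee)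 (.leaf 0)))) (.node (.node (.node (.leaf 0xa4) (.leaf 0)) (.node (.leaf 0x240) (.leaf 0))) (.node (.node (.leaf 0x3ef) (.leaf 0)) (.node (.leaf 0x427) (.leaf 0)))))) (.node (.node (.node (.node (.node (.leaf 0x83) (.leaf 0)) (.node (.leaf 0x30040130262ec) (.leaf 0))) (.node (.node (.leaf 0xb4) (.leaf 0)) (.node (.leaf 0x100400f01a2fe) (.leaf 0)))) (.node (.node (.node (.leaf 0x1be) (.leaf 0)) (.node (.leaf 0x100100100402f2f6) (.leaf 0))) (.node (.node (.leaf 0x3c0) (.leaf 0)) (.node (.leaf 0x200d020420) (.leaf 0))))) (.node (.node (.node (.node (.leaf 0x4b) (.leaf 0)) (.node (.leaf 0x1000000004014374) (.leaf 0))) (.node (.node (.leaf 0x4009014145) (.leaf 0)) (.node (.leaf 0x34c) (.leaf 0)))) (.node (.node (.node (.leaf 0x251) (.leaf 0)) (.node (.leaf 0x4fb) (.leaf 0))) (.node (.node (.leaf 0x16c) (.leaf 0)) (.node (.leaf 0x477) (.leaf 0))))))))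

/-- part of closing hints -/
def node0L0close34 : Trie :=
  (.node (.node (.node (.node (.node (.node (.node (.leaf 0x15) (.leaf 0x400100001951e)) (.node (.leaf 0x100400301b007263) (.leaf 0))) (.node (.node (.leaf 0x286) (.leaf 0)) (.node (.leaf 0x3003010031456) (.leaf 0)))) (.node (.node (.node (.leaf 0x6c) (.leaf 0)) (.node (.leaf 0x1000000007022351) (.leaf 0))) (.node (.node (.leaf 0x37d) (.leaf 0)) (.node (.leaf 0x3cb) (.leaf 0))))) (.node (.node (.node (.node (.leaf 0xc3) (.leaf 0)) (.node (.leaf 0x467) (.leaf 0))) (.node (.node (.leaf 0x306) (.leaf 0)) (.node (.leaf 0x303) (.leaf 0)))) (.node (.node (.node (.leaf 0x1f2) (.leaf 0)) (.node (.leaf 0x10030000050263d5) (.leaf 0))) (.node (.node (.leaf 0x3e2) (.leaf 0)) (.node (.leaf 0x30050210170bd) (.leaf 0)))))) (.node (.node (.node (.node (.node (.leaf 0x3d) (.leaf 0)) (.node (.leaf 0x195) (.leaf 0))) (.node (.node (.leaf 0xe01b21f) (.leaf 0)) (.node (.leaf 0x200000c02049a) (.leaf 0)))) (.node (.node (.node (.leaf 0x1ab) (.leaf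 0)) (.node (.leaf 0x100200201f0150a8) (.leaf 0))) (.node (.node (.leaf 0x3a1) (.leaf 0)) (.node (.leaf 0x100300500001c4bd) (.leaf 0))))) (.node (.node (.node (.node (.leaf 0x4) (.leaf 0)) (.node (.leaf 0x100300401e01a21a) (.leaf 0))) (.node (.node (.leaf 0x3004009007176) (.leaf 0)) (.node (.leaf 0x1000001022004120) (.leaf 0)))) (.node (.node (.node (.leaf 0x85) (.leaf 0)) (.node (.leaf 0x10000010200184d5) (.leaf 0))) (.node (.node (.leaf 0x10000030250232c8) (.leaf 0)) (.node (.leaf 0x100300500b00555e) (.leaf 0))))))) (.node (.node (.node (.node (.node (.node (.leaf 0xf) (.leaf 0x526)) (.node (.leaf 0x100300502300d28d) (.leaf 0))) (.node (.node (.leaf 0x4004019020229) (.leaf 0)) (.node (.leaf 0x2ab) (.leaf 0)))) (.node (.node (.node (.leaf 0x400501502a075) (.leaf 0)) (.node (.leaf 0x100100100301632a) (.leaf 0))) (.node (.node (.leaf 0x124) (.leaf 0)) (.node (.leaf 0x211d) (.leaf 0))))) (.node (.node (.node (.node (.leaf 0xea) (.leaf 0)) (.node (.leaf 0x200101e3f8) (.leaf 0))) (.node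 (.node (.leaf 0x31f) (.leaf 0)) (.node (.leaf 0x1a8) (.leaf 0)))) (.node (.node (.node (.leaf 0x1df) (.leaf 0)) (.node (.leaf 0x100300500702a484) (.leaf 0))) (.node (.node (.leaf 0x10040040290023bc) (.leaf 0)) (.node (.leaf 0x300300702a4fa) (.leaf 0)))))) (.node (.node (.node (.node (.node (.leaf 0x9b) (.leaf 0)) (.node (.leaf 0x300201701033c) (.leaf 0))) (.node (.node (.leaf 0xda) (.leaf 0)) (.node (.leaf 0x100100202601e342) (.leaf 0)))) (.node (.node (.node (.leaf 0xde) (.leaf 0)) (.node (.leaf 0x4ca) (.leaf 0))) (.node (.node (.leaf 0x3c8) (.leaf 0)) (.node (.leaf 0x10010000120104b8) (.leaf 0))))) (.node (.node (.node (.node (.leaf 0x4e) (.leaf 0)) (.node (.leaf 0x48f) (.leaf 0))) (.node (.node (.leaf 0x100400000d02c2e4) (.leaf 0)) (.node (.leaf 0x200302302a381) (.leaf 0)))) (.node (.node (.node (.leaf 0x262) (.leaf 0)) (.node (.leaf 0x2e3) (.leaf 0))) (.node (.node (.leaf 0x100200300a01c2c7) (.leaf 0)) (.node (.leaf 0x100200400d002558) (.leaf 0))))))))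

/-- part of closing hints -/
def node0L0close18 : Trie :=
  (.node (.node (.node (.node (.node (.node (.node (.leaf 0xb) (.leaf 0x40030290003df)) (.node (.leaf 0x180) (.leaf 0))) (.node (.node (.leaf 0x27b) (.leaf 0)) (.node (.leaf 0x46b) (.leaf 0)))) (.node (.node (.node (.leaf 0x58) (.leaf 0)) (.node (.leaf 0x100100500001c49d) (.leaf 0))) (.node (.node (.leaf 0x36d) (.leaf 0)) (.node (.leaf 0x40020070273ad) (.leaf 0))))) (.node (.node (.node (.node (.leaf 0xb7) (.leaf 0)) (.node (.leaf 0x327) (.leaf 0))) (.node (.node (.leaf 0xe3) (.leaf 0)) (.node (.leaf 0x100000100202c2f3) (.leaf 0)))) (.node (.node (.node (.leaf 0x9f) (.leaf 0)) (.node (.leaf 0x231) (.leaf 0))) (.node (.node (.leaf 0x3db) (.leaf 0)) (.node (.leaf 0x400400503156b) (.leaf 0)))))) (.node (.node (.node (.node (.node (.leaf 0x61) (.leaf 0)) (.node (.leaf 0x43d) (.leaf 0))) (.node (.node (.leaf 0x1c5) (.leaf 0)) (.node (.leaf 0x300401401d30a) (.leaf 0)))) (.node (.node (.node (.leaf 0x1a2) (.leaf 0)) (.node (.leaf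 0x4b6) (.leaf 0))) (.node (.node (.leaf 0x3ae) (.leaf 0)) (.node (.leaf 0x211c) (.leaf 0))))) (.node (.node (.node (.node (.leaf 0x109) (.leaf 0)) (.node (.leaf 0x23d) (.leaf 0))) (.node (.node (.leaf 0x338) (.leaf 0)) (.node (.leaf 0x3be) (.leaf 0)))) (.node (.node (.node (.leaf 0x237) (.leaf 0)) (.node (.leaf 0x100200000d01e25c) (.leaf 0))) (.node (.node (.leaf 0x162) (.leaf 0)) (.node (.leaf 0x577) (.leaf 0))))))) (.node (.node (.node (.node (.node (.node (.leaf 0x37) (.leaf 0x2005018007534)) (.node (.leaf 0x411) (.leaf 0))) (.node (.node (.leaf 0x2a3) (.leaf 0)) (.node (.leaf 0x100300300e01a2d7) (.leaf 0)))) (.node (.node (.node (.leaf 0x64) (.leaf 0)) (.node (.leaf 0x204) (.leaf 0))) (.node (.node (.leaf 0x396) (.leaf 0)) (.node (.leaf 0x200302201f3e0) (.leaf 0))))) (.node (.node (.node (.node (.leaf 0xe1) (.leaf 0)) (.node (.leaf 0x474) (.leaf 0))) (.node (.node (.leaf 0x317) (.leaf 0)) (.node (.leaf 0x318) (.leaf 0)))) (.node (.node (.node (.leaf 0x20f) (.leaf 0)) (.node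 (.leaf 0x4e8) (.leaf 0))) (.node (.node (.leaf 0x100200300a01c2b2) (.leaf 0)) (.node (.leaf 0x100200400000d206) (.leaf 0)))))) (.node (.node (.node (.node (.node (.leaf 0x29) (.leaf 0)) (.node (.leaf 0x100200401f02d445) (.leaf 0))) (.node (.node (.leaf 0x501602227c) (.leaf 0)) (.node (.leaf 0x100200400101c1a2) (.leaf 0)))) (.node (.node (.node (.leaf 0x1c5) (.leaf 0)) (.node (.leaf 0x4c7) (.leaf 0))) (.node (.node (.leaf 0x357) (.leaf 0)) (.node (.leaf 0x566) (.leaf 0))))) (.node (.node (.node (.node (.leaf 0x131) (.leaf 0)) (.node (.leaf 0x1000004022019284) (.leaf 0))) (.node (.node (.leaf 0x35a) (.leaf 0)) (.node (.leaf 0x300200a025204) (.leaf 0)))) (.node (.node (.node (.leaf 0x10030030170220b1) (.leaf 0)) (.node (.leaf 0x26b) (.leaf 0))) (.node (.node (.leaf 0x200401902b1d4) (.leaf 0)) (.node (.leaf 0x100100400c029426) (.leaf 0))))))))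

/-- part of closing hints -/
def node0L0close50 : Trie :=
  (.node (.node (.node (.node (.node (.node (.node (.leaf 0x23) (.leaf 0x200e01b573)) (.node (.leaf 0x200301201d157) (.leaf 0))) (.node (.node (.leaf 0x28e) (.leaf 0)) (.node (.leaf 0x100100202702a2c9) (.leaf 0)))) (.node (.node (.node (.leaf 0x1003004008000062) (.leaf 0)) (.node (.leaf 0x200200b01b344) (.leaf 0))) (.node (.node (.leaf 0x11b) (.leaf 0)) (.node (.leaf 0x30000200171f1) (.leaf 0))))) (.node (.node (.node (.node (.leaf 0xca) (.leaf 0)) (.node (.leaf 0x29a) (.leaf 0))) (.node (.node (.leaf 0x102700d072) (.leaf 0)) (.node (.leaf 0x40010230104f5) (.leaf 0)))) (.node (.node (.node (.leaf 0x1fe) (.leaf 0)) (.node (.leaf 0x100200301001b4d4) (.leaf 0))) (.node (.node (.leaf 0x100100500901632b) (.leaf 0)) (.node (.leaf 0x571) (.leaf 0)))))) (.node (.node (.node (.node (.node (.leaf 0x78) (.leaf 0)) (.node (.leaf 0x2001023019346) (.leaf 0))) (.node (.node (.leaf 0x2d7) (.leaf 0)) (.node (.leaf 0x100200400a0174c8) (.leaf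 0)))) (.node (.node (.node (.leaf 0x1b5) (.leaf 0)) (.node (.leaf 0x4c0) (.leaf 0))) (.node (.node (.leaf 0x100000102002e13d) (.leaf 0)) (.node (.leaf 0x10040050090024f3) (.leaf 0))))) (.node (.node (.node (.node (.leaf 0x11c) (.leaf 0)) (.node (.leaf 0x20200291df) (.leaf 0))) (.node (.node (.leaf 0x400300c000347) (.leaf 0)) (.node (.leaf 0x100202301a3a2) (.leaf 0)))) (.node (.node (.node (.leaf 0x1003000007000027) (.leaf 0)) (.node (.leaf 0x4008010456) (.leaf 0))) (.node (.node (.leaf 0x400500901829f) (.leaf 0)) (.node (.leaf 0x100b02b4e1) (.leaf 0))))))) (.node (.node (.node (.node (.node (.node (.leaf 0x100200300a000039) (.leaf 0x4003027031452)) (.node (.leaf 0x1004004001007339) (.leaf 0))) (.node (.node (.leaf 0x100000301f00e02f) (.leaf 0)) (.node (.leaf 0x51b) (.leaf 0)))) (.node (.node (.node (.leaf 0x18d) (.leaf 0)) (.node (.leaf 0x100300102001e425) (.leaf 0))) (.node (.node (.leaf 0x12f) (.leaf 0)) (.node (.leaf 0x3a9) (.leaf 0))))) (.node (.node (.node (.node (.leaf 0xf3)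 (.leaf 0)) (.node (.leaf 0xe6) (.leaf 0))) (.node (.node (.leaf 0x328) (.leaf 0)) (.node (.leaf 0x100200102501a50c) (.leaf 0)))) (.node (.node (.node (.leaf 0x224) (.leaf 0)) (.node (.leaf 0x2005003001427) (.leaf 0))) (.node (.node (.leaf 0x300001602c386) (.leaf 0)) (.node (.leaf 0x100400502500a574) (.leaf 0)))))) (.node (.node (.node (.node (.node (.leaf 0xa3) (.leaf 0)) (.node (.leaf 0x100400300101a41c) (.leaf 0))) (.node (.node (.leaf 0x100200100001d1fb) (.leaf 0)) (.node (.leaf 0x2f4) (.leaf 0)))) (.node (.node (.node (.leaf 0x200400000d051) (.leaf 0)) (.node (.leaf 0x258) (.leaf 0))) (.node (.node (.leaf 0x3cb) (.leaf 0)) (.node (.leaf 0x100100400802a101) (.leaf 0))))) (.node (.node (.node (.node (.leaf 0x11c) (.leaf 0)) (.node (.leaf 0x242) (.leaf 0))) (.node (.node (.leaf 0x36c) (.leaf 0)) (.node (.leaf 0x100000000802c52f) (.leaf 0)))) (.node (.node (.node (.leaf 0xaf) (.leaf 0)) (.node (.leaf 0x10030020180182c4) (.leaf 0))) (.node (.node (.leaf 0x417) (.leaf 0)) (.node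 (.leaf 0x4a8) (.leaf 0))))))))

/-- part of closing hints -/
def node0L0close10 : Trie :=
  (.node (.node (.node (.node (.node (.node (.node (.leaf 0x2d003) (.leaf 0x4b8)) (.node (.leaf 0x181) (.leaf 0))) (.node (.node (.leaf 0x301d00f26f) (.leaf 0)) (.node (.leaf 0x300401e01e462) (.leaf 0)))) (.node (.node (.node (.leaf 0xe9) (.leaf 0)) (.node (.leaf 0x100100500001c499) (.leaf 0))) (.node (.node (.leaf 0x400300502e26a) (.leaf 0)) (.node (.leaf 0x300002900b2dc) (.leaf 0))))) (.node (.node (.node (.node (.leaf 0xb0) (.leaf 0)) (.node (.leaf 0x100200000f014321) (.leaf 0))) (.node (.node (.leaf 0x1ce) (.leaf 0)) (.node (.leaf 0x100502500847e) (.leaf 0)))) (.node (.node (.node (.leaf 0x1e3) (.leaf 0)) (.node (.leaf 0x4d4) (.leaf 0))) (.node (.node (.leaf 0x3d8) (.leaf 0)) (.node (.leaf 0x100100300200c42c) (.leaf 0)))))) (.node (.node (.node (.node (.node (.leaf 0x5c) (.leaf 0)) (.node (.leaf 0x438) (.leaf 0))) (.node (.node (.leaf 0x2be) (.leaf 0)) (.node (.leaf 0x100100301b03040e)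 (.leaf 0)))) (.node (.node (.node (.leaf 0x19c) (.leaf 0)) (.node (.leaf 0x400201a00d34f) (.leaf 0))) (.node (.node (.leaf 0x1003003017022153) (.leaf 0)) (.node (.leaf 0x100300102100a442) (.leaf 0))))) (.node (.node (.node (.node (.leaf 0x103) (.leaf 0)) (.node (.leaf 0x481) (.leaf 0))) (.node (.node (.leaf 0xfd) (.leaf 0)) (.node (.leaf 0x544) (.leaf 0)))) (.node (.node (.node (.leaf 0x231) (.leaf 0)) (.node (.leaf 0x258) (.leaf 0))) (.node (.node (.leaf 0x100200101b0132a8) (.leaf 0)) (.node (.leaf 0x10030180294f0) (.leaf 0))))))) (.node (.node (.node (.node (.node (.node (.leaf 0x32) (.leaf 0x1003018029566)) (.node (.leaf 0x300001800c3e5) (.leaf 0))) (.node (.node (.leaf 0xc0) (.leaf 0)) (.node (.leaf 0x512) (.leaf 0)))) (.node (.node (.node (.leaf 0x176) (.leaf 0)) (.node (.leaf 0x205) (.leaf 0))) (.node (.node (.leaf 0x100200102500d27f) (.leaf 0)) (.node (.leaf 0x1302f433) (.leaf 0))))) (.node (.node (.node (.node (.leaf 0x38) (.leaf 0)) (.node (.leaf 0x470) (.leaf 0))) (.node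 (.node (.leaf 0x316) (.leaf 0)) (.node (.leaf 0x400402702c451) (.leaf 0)))) (.node (.node (.node (.leaf 0x1f4) (.leaf 0)) (.node (.leaf 0x4e4) (.leaf 0))) (.node (.node (.leaf 0x100200101b0132c1) (.leaf 0)) (.node (.leaf 0x1004002006004567) (.leaf 0)))))) (.node (.node (.node (.node (.node (.leaf 0x88) (.leaf 0)) (.node (.leaf 0x1a5) (.leaf 0))) (.node (.node (.leaf 0xd6) (.leaf 0)) (.node (.leaf 0xa0040b3) (.leaf 0)))) (.node (.node (.node (.leaf 0x31) (.leaf 0)) (.node (.leaf 0x21e) (.leaf 0))) (.node (.node (.leaf 0x400901412a) (.leaf 0)) (.node (.leaf 0x100501302650b) (.leaf 0))))) (.node (.node (.node (.node (.leaf 0x12c) (.leaf 0)) (.node (.leaf 0x100200300a000478) (.leaf 0))) (.node (.node (.leaf 0x353) (.leaf 0)) (.node (.leaf 0x356) (.leaf 0)))) (.node (.node (.node (.leaf 0x255) (.leaf 0)) (.node (.leaf 0x467) (.leaf 0))) (.node (.node (.leaf 0x40c) (.leaf 0)) (.node (.leaf 0x10010020030310db) (.leaf 0))))))))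

/-- part of closing hints -/
def node0L0close42 : Trie :=
  (.node (.node (.node (.node (.node (.node (.node (.leaf 0x1c) (.leaf 0x1001004029008568)) (.node (.leaf 0x100400502500f37b) (.leaf 0))) (.node (.node (.leaf 0x28a) (.leaf 0)) (.node (.leaf 0x100400201c0303eb) (.leaf 0)))) (.node (.node (.node (.leaf 0x162) (.leaf 0)) (.node (.leaf 0x4a5) (.leaf 0))) (.node (.node (.leaf 0x140) (.leaf 0)) (.node (.leaf 0x558) (.leaf 0))))) (.node (.node (.node (.node (.leaf 0x2) (.leaf 0)) (.node (.leaf 0x286) (.leaf 0))) (.node (.node (.leaf 0x1cf) (.leaf 0)) (.node (.leaf 0x4000013002308) (.leaf 0)))) (.node (.node (.node (.leaf 0x1f8) (.leaf 0)) (.node (.leaf 0x4de) (.leaf 0))) (.node (.node (.leaf 0x3e6) (.leaf 0)) (.node (.leaf 0x100400101801329b) (.leaf 0)))))) (.node (.node (.node (.node (.node (.leaf 0x1b) (.leaf 0)) (.node (.leaf 0x300001602c3cb) (.leaf 0))) (.node (.node (.leaf 0x2d1) (.leaf 0)) (.node (.leaf 0x2d8) (.leaf 0)))) (.node (.node (.node (.leaf 0x1af) (.leaf 0)) (.node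 (.leaf 0x1004005017018494) (.leaf 0))) (.node (.node (.leaf 0x3b7) (.leaf 0)) (.node (.leaf 0x562) (.leaf 0))))) (.node (.node (.node (.node (.leaf 0x116) (.leaf 0)) (.node (.leaf 0x100000000401436e) (.leaf 0))) (.node (.node (.leaf 0x1002004009006334) (.leaf 0)) (.node (.leaf 0x3c0) (.leaf 0)))) (.node (.node (.node (.leaf 0x246) (.leaf 0)) (.node (.leaf 0x100200301001b4d3) (.leaf 0))) (.node (.node (.leaf 0x1002003024026304) (.leaf 0)) (.node (.leaf 0x100400002502e56a) (.leaf 0))))))) (.node (.node (.node (.node (.node (.node (.leaf 0x47) (.leaf 0x300501702f55a)) (.node (.leaf 0x42d) (.leaf 0))) (.node (.node (.leaf 0x2af) (.leaf 0)) (.node (.leaf 0x100400201b0184eb) (.leaf 0)))) (.node (.node (.node (.leaf 0x300200001a164) (.leaf 0)) (.node (.leaf 0x205) (.leaf 0))) (.node (.node (.leaf 0x39e) (.leaf 0)) (.node (.leaf 0x40050170123db) (.leaf 0))))) (.node (.node (.node (.node (.leaf 0xef) (.leaf 0)) (.node (.leaf 0x47b) (.leaf 0))) (.node (.node (.leaf 0x323) (.leaf 0)) (.node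 (.leaf 0x31f) (.leaf 0)))) (.node (.node (.node (.leaf 0x21e) (.leaf 0)) (.node (.leaf 0x1001005018005448) (.leaf 0))) (.node (.node (.leaf 0x196) (.leaf 0)) (.node (.leaf 0x100300302a56d) (.leaf 0)))))) (.node (.node (.node (.node (.node (.leaf 0x9e) (.leaf 0)) (.node (.leaf 0x454) (.leaf 0))) (.node (.node (.leaf 0x10020050080142c6) (.leaf 0)) (.node (.leaf 0x200202501e47c) (.leaf 0)))) (.node (.node (.node (.leaf 0x7e) (.leaf 0)) (.node (.leaf 0x100501401c22e) (.leaf 0))) (.node (.node (.leaf 0x100400202600c203) (.leaf 0)) (.node (.leaf 0x3e8) (.leaf 0))))) (.node (.node (.node (.node (.leaf 0x13c) (.leaf 0)) (.node (.leaf 0x491) (.leaf 0))) (.node (.node (.leaf 0x368) (.leaf 0)) (.node (.leaf 0x100400100101434d) (.leaf 0)))) (.node (.node (.node (.leaf 0xb0) (.leaf 0)) (.node (.leaf 0x100100300201a320) (.leaf 0))) (.node (.node (.leaf 0x100300502300d28e) (.leaf 0)) (.node (.leaf 0x10010020040004e9) (.leaf 0))))))))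

/-- part of closing hints -/
def node0L0close26 : Trie :=
  (.node (.node (.node (.node (.node (.node (.node (.leaf 0x3) (.leaf 0x100400300500b537)) (.node (.leaf 0x400002800d2b9) (.leaf 0))) (.node (.node (.leaf 0x281) (.leaf 0)) (.node (.leaf 0x100200500b014297) (.leaf 0)))) (.node (.node (.node (.leaf 0x155) (.leaf 0)) (.node (.leaf 0x1002001016011495) (.leaf 0))) (.node (.node (.leaf 0x116) (.leaf 0)) (.node (.leaf 0x100300402300853d) (.leaf 0))))) (.node (.node (.node (.node (.leaf 0xbd) (.leaf 0)) (.node (.leaf 0x326) (.leaf 0))) (.node (.node (.leaf 0x304) (.leaf 0)) (.node (.leaf 0x10120024bf) (.leaf 0)))) (.node (.node (.node (.leaf 0x85) (.leaf 0)) (.node (.leaf 0x4d9) (.leaf 0))) (.node (.node (.leaf 0x3b0) (.leaf 0)) (.node (.leaf 0x4000003016451) (.leaf 0)))))) (.node (.node (.node (.node (.node (.leaf 0x67) (.leaf 0)) (.node (.leaf 0x100200101b0132bf) (.leaf 0))) (.node (.node (.leaf 0x2c6) (.leaf 0)) (.node (.leaf 0x300301902a405) (.leaf 0)))) (.node (.node (.node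 (.leaf 0x71) (.leaf 0)) (.node (.leaf 0x20162e1) (.leaf 0))) (.node (.node (.leaf 0x3b4) (.leaf 0)) (.node (.leaf 0x3b9) (.leaf 0))))) (.node (.node (.node (.node (.leaf 0x10f) (.leaf 0)) (.node (.leaf 0x400000400d150) (.leaf 0))) (.node (.node (.leaf 0x33b) (.leaf 0)) (.node (.leaf 0x100300300300e3de) (.leaf 0)))) (.node (.node (.node (.leaf 0x200400000d045) (.leaf 0)) (.node (.leaf 0x10030050080174af) (.leaf 0))) (.node (.node (.leaf 0x30c) (.leaf 0)) (.node (.leaf 0x100000100d02710d) (.leaf 0))))))) (.node (.node (.node (.node (.node (.node (.leaf 0x16) (.leaf 0x100400500d016519)) (.node (.leaf 0x189) (.leaf 0))) (.node (.node (.leaf 0x2a6) (.leaf 0)) (.node (.leaf 0x100300302a505) (.leaf 0)))) (.node (.node (.node (.leaf 0x17f) (.leaf 0)) (.node (.leaf 0x200102500d377) (.leaf 0))) (.node (.node (.leaf 0x1003001020027365) (.leaf 0)) (.node (.leaf 0x10050150224e8) (.leaf 0))))) (.node (.node (.node (.node (.leaf 0xe6) (.leaf 0)) (.node (.leaf 0x1002020008446) (.leaf 0))) (.node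 (.node (.leaf 0x1a1) (.leaf 0)) (.node (.leaf 0x100100002803012d) (.leaf 0)))) (.node (.node (.node (.leaf 0x213) (.leaf 0)) (.node (.leaf 0x400300502e3f1) (.leaf 0))) (.node (.node (.leaf 0x3f3) (.leaf 0)) (.node (.leaf 0x423) (.leaf 0)))))) (.node (.node (.node (.node (.node (.leaf 0x94) (.leaf 0)) (.node (.leaf 0x100400301502c3e9) (.leaf 0))) (.node (.node (.leaf 0x1c9) (.leaf 0)) (.node (.leaf 0x46b) (.leaf 0)))) (.node (.node (.node (.leaf 0x1c9) (.leaf 0)) (.node (.leaf 0x3003010000355) (.leaf 0))) (.node (.node (.leaf 0x369) (.leaf 0)) (.node (.leaf 0x100100401c018147) (.leaf 0))))) (.node (.node (.node (.node (.leaf 0x41) (.leaf 0)) (.node (.leaf 0x1e5) (.leaf 0))) (.node (.node (.leaf 0x360) (.leaf 0)) (.node (.leaf 0x1002002005002484) (.leaf 0)))) (.node (.node (.node (.leaf 0x25e) (.leaf 0)) (.node (.leaf 0x506) (.leaf 0))) (.node (.node (.leaf 0x413) (.leaf 0)) (.node (.leaf 0x2002020023544) (.leaf 0))))))))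

/-- part of closing hints -/
def node0L0close58 : Trie :=
  (.node (.node (.node (.node (.node (.node (.node (.leaf 0x28) (.leaf 0x4f5)) (.node (.leaf 0x300300702a0af) (.leaf 0))) (.node (.node (.leaf 0x291) (.leaf 0)) (.node (.leaf 0x100000402201c28b) (.leaf 0)))) (.node (.node (.node (.leaf 0x16a) (.leaf 0)) (.node (.leaf 0x1f8) (.leaf 0))) (.node (.node (.leaf 0x10000020250010f2) (.leaf 0)) (.node (.leaf 0x100300500001c4dd) (.leaf 0))))) (.node (.node (.node (.node (.leaf 0xd1) (.leaf 0)) (.node (.leaf 0x100302902c281) (.leaf 0))) (.node (.node (.leaf 0x30f) (.leaf 0)) (.node (.leaf 0x10000020220003fb) (.leaf 0)))) (.node (.node (.node (.leaf 0x200) (.leaf 0)) (.node (.leaf 0x100500701c4d2) (.leaf 0))) (.node (.node (.leaf 0x3eb) (.leaf 0)) (.node (.leaf 0x100200100d0070b9) (.leaf 0)))))) (.node (.node (.node (.node (.node (.leaf 0x7e) (.leaf 0)) (.node (.leaf 0x446) (.leaf 0))) (.node (.node (.leaf 0x100300002800006a) (.leaf 0)) (.node (.leaf 0x474) (.leaf 0)))) (.node (.node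 (.node (.leaf 0x74) (.leaf 0)) (.node (.leaf 0x2000023001175) (.leaf 0))) (.node (.node (.leaf 0x100100400c0292ba) (.leaf 0)) (.node (.leaf 0x10020010050084c8) (.leaf 0))))) (.node (.node (.node (.node (.leaf 0x121) (.leaf 0)) (.node (.leaf 0x48a) (.leaf 0))) (.node (.node (.leaf 0x34d) (.leaf 0)) (.node (.leaf 0x10000010130264df) (.leaf 0)))) (.node (.node (.node (.leaf 0x100300102802f058) (.leaf 0)) (.node (.leaf 0x4f8) (.leaf 0))) (.node (.node (.leaf 0x100200102902d297) (.leaf 0)) (.node (.leaf 0x100200400802f4ec) (.leaf 0))))))) (.node (.node (.node (.node (.node (.node (.leaf 0x51) (.leaf 0x2001018010564)) (.node (.leaf 0x10030000280f4) (.leaf 0))) (.node (.node (.leaf 0x3004017029202) (.leaf 0)) (.node (.leaf 0x51f) (.leaf 0)))) (.node (.node (.node (.leaf 0x191) (.leaf 0)) (.node (.leaf 0x4a1) (.leaf 0))) (.node (.node (.leaf 0x127) (.leaf 0)) (.node (.leaf 0x100300000400e086) (.leaf 0))))) (.node (.node (.node (.node (.leaf 0x4c) (.leaf 0)) (.node (.leaf 0x1d0) (.leaf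 0))) (.node (.node (.leaf 0x32c) (.leaf 0)) (.node (.leaf 0x10020050120123f9) (.leaf 0)))) (.node (.node (.node (.leaf 0x400400601c0a1) (.leaf 0)) (.node (.leaf 0x100501d01e3d4) (.leaf 0))) (.node (.node (.leaf 0x100000301f00e158) (.leaf 0)) (.node (.leaf 0x437) (.leaf 0)))))) (.node (.node (.node (.node (.node (.leaf 0xa7) (.leaf 0)) (.node (.leaf 0x200202501e44e) (.leaf 0))) (.node (.node (.leaf 0x2f5) (.leaf 0)) (.node (.leaf 0x10030030160001ac) (.leaf 0)))) (.node (.node (.node (.leaf 0x83) (.leaf 0)) (.node (.leaf 0x22b) (.leaf 0))) (.node (.node (.leaf 0x3d0) (.leaf 0)) (.node (.leaf 0x3ec) (.leaf 0))))) (.node (.node (.node (.node (.leaf 0x12d) (.leaf 0)) (.node (.leaf 0x495) (.leaf 0))) (.node (.node (.leaf 0x370) (.leaf 0)) (.node (.leaf 0x550) (.leaf 0)))) (.node (.node (.node (.leaf 0x400302703124d) (.leaf 0)) (.node (.leaf 0x293) (.leaf 0))) (.node (.node (.leaf 0x314) (.leaf 0)) (.node (.leaf 0x1002001011002578) (.leaf 0))))))))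

/-- part of closing hints -/
def node0L0close6 : Trie :=
  (.node (.node (.node (.node (.node (.node (.node (.leaf 0x5) (.leaf 0x100000400c0100b5)) (.node (.leaf 0x100400401c00c1f6) (.leaf 0))) (.node (.node (.leaf 0x276) (.leaf 0)) (.node (.leaf 0x10050060292d6) (.leaf 0)))) (.node (.node (.node (.leaf 0x56) (.leaf 0)) (.node (.leaf 0x499) (.leaf 0))) (.node (.node (.leaf 0x300500900f316) (.leaf 0)) (.node (.leaf 0x300301c01c4db) (.leaf 0))))) (.node (.node (.node (.node (.leaf 0x100000501c016) (.leaf 0)) (.node (.leaf 0x1a4) (.leaf 0))) (.node (.node (.leaf 0x1cb) (.leaf 0)) (.node (.leaf 0x100000502501a0ec) (.leaf 0)))) (.node (.node (.node (.leaf 0x94) (.leaf 0)) (.node (.leaf 0x4d3) (.leaf 0))) (.node (.node (.leaf 0x3d5) (.leaf 0)) (.node (.leaf 0x1000005014031460) (.leaf 0)))))) (.node (.node (.node (.node (.node (.leaf 0x15) (.leaf 0)) (.node (.leaf 0x436) (.leaf 0))) (.node (.node (.leaf 0x2ad) (.leaf 0)) (.node (.leaf 0x2cd) (.leaf 0)))) (.node (.node (.node (.leaf 0x199)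 (.leaf 0)) (.node (.leaf 0x10010050010054a5) (.leaf 0))) (.node (.node (.leaf 0x12a) (.leaf 0)) (.node (.leaf 0x1005014019344) (.leaf 0))))) (.node (.node (.node (.node (.leaf 0xff) (.leaf 0)) (.node (.leaf 0x100302400726c) (.leaf 0))) (.node (.node (.leaf 0x1001023000081) (.leaf 0)) (.node (.leaf 0x543) (.leaf 0)))) (.node (.node (.node (.leaf 0x98) (.leaf 0)) (.node (.leaf 0x1002004007261) (.leaf 0))) (.node (.node (.leaf 0x100200101b0132aa) (.leaf 0)) (.node (.leaf 0x1002001006006575) (.leaf 0))))))) (.node (.node (.node (.node (.node (.node (.leaf 0x2e) (.leaf 0x1002017017517)) (.node (.leaf 0x100100500102f2b7) (.leaf 0))) (.node (.node (.leaf 0xbe) (.leaf 0)) (.node (.leaf 0x510) (.leaf 0)))) (.node (.node (.node (.leaf 0x173) (.leaf 0)) (.node (.leaf 0x4af) (.leaf 0))) (.node (.node (.leaf 0x100200201e0012c2) (.leaf 0)) (.node (.leaf 0x100200202236c) (.leaf 0))))) (.node (.node (.node (.node (.leaf 0x35) (.leaf 0)) (.node (.leaf 0xe01b1e4) (.leaf 0))) (.node (.node (.leaf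 0x1000003000111) (.leaf 0)) (.node (.leaf 0x1000018030535) (.leaf 0)))) (.node (.node (.node (.leaf 0x20a) (.leaf 0)) (.node (.leaf 0x100200001902143a) (.leaf 0))) (.node (.node (.leaf 0x100000000802332c) (.leaf 0)) (.node (.leaf 0x100000102402f442) (.leaf 0)))))) (.node (.node (.node (.node (.node (.leaf 0x23) (.leaf 0)) (.node (.leaf 0x449) (.leaf 0))) (.node (.node (.leaf 0x40000080070e8) (.leaf 0)) (.node (.leaf 0x27b) (.leaf 0)))) (.node (.node (.node (.leaf 0x76) (.leaf 0)) (.node (.leaf 0x501d0202ce) (.leaf 0))) (.node (.node (.leaf 0x107) (.leaf 0)) (.node (.leaf 0x565) (.leaf 0))))) (.node (.node (.node (.node (.leaf 0x128) (.leaf 0)) (.node (.leaf 0x1e4) (.leaf 0))) (.node (.node (.leaf 0x136) (.leaf 0)) (.node (.leaf 0x100000001602b237) (.leaf 0)))) (.node (.node (.node (.leaf 0x95) (.leaf 0)) (.node (.leaf 0x4fd) (.leaf 0))) (.node (.node (.leaf 0x409) (.leaf 0)) (.node (.leaf 0x40010230104e2) (.leaf 0))))))))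

/-- part of closing hints -/
def node0L0close38 : Trie :=
  (.node (.node (.node (.node (.node (.node (.node (.leaf 0x19) (.leaf 0x200002501954b)) (.node (.leaf 0x3004006014038) (.leaf 0))) (.node (.node (.leaf 0x288) (.leaf 0)) (.node (.leaf 0x298) (.leaf 0)))) (.node (.node (.node (.leaf 0x15e) (.leaf 0)) (.node (.leaf 0x20d) (.leaf 0))) (.node (.node (.leaf 0x380) (.leaf 0)) (.node (.leaf 0x557) (.leaf 0))))) (.node (.node (.node (.node (.leaf 0x78) (.leaf 0)) (.node (.leaf 0x288) (.leaf 0))) (.node (.node (.leaf 0x300401e01e1b3) (.leaf 0)) (.node (.leaf 0x307) (.leaf 0)))) (.node (.node (.node (.leaf 0x87) (.leaf 0)) (.node (.leaf 0x4dd) (.leaf 0))) (.node (.node (.leaf 0x3e3) (.leaf 0)) (.node (.leaf 0x40a) (.leaf 0)))))) (.node (.node (.node (.node (.node (.leaf 0x70) (.leaf 0)) (.node (.leaf 0x100300202900c3ab) (.leaf 0))) (.node (.node (.leaf 0x2ce) (.leaf 0)) (.node (.leaf 0x100100400900d4e6) (.leaf 0)))) (.node (.node (.node (.leaf 0xf6) (.leaf 0)) (.node (.leaf 0x1004005017018493)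 (.leaf 0))) (.node (.node (.leaf 0x100000102002e116) (.leaf 0)) (.node (.leaf 0x100300000902b466) (.leaf 0))))) (.node (.node (.node (.node (.leaf 0x44) (.leaf 0)) (.node (.leaf 0x487) (.leaf 0))) (.node (.node (.leaf 0x123) (.leaf 0)) (.node (.leaf 0x10020030140053af) (.leaf 0)))) (.node (.node (.node (.leaf 0x40050010000a2) (.leaf 0)) (.node (.leaf 0x4de) (.leaf 0))) (.node (.node (.leaf 0x400300b0101b9) (.leaf 0)) (.node (.leaf 0x2001018019378) (.leaf 0))))))) (.node (.node (.node (.node (.node (.node (.leaf 0x43) (.leaf 0x1002000018021555)) (.node (.leaf 0x18b) (.leaf 0))) (.node (.node (.leaf 0x2ac) (.leaf 0)) (.node (.leaf 0x516) (.leaf 0)))) (.node (.node (.node (.leaf 0x66) (.leaf 0)) (.node (.leaf 0x101301b373) (.leaf 0))) (.node (.node (.leaf 0x39b) (.leaf 0)) (.node (.leaf 0x3a5) (.leaf 0))))) (.node (.node (.node (.node (.leaf 0xed) (.leaf 0)) (.node (.leaf 0x479) (.leaf 0))) (.node (.node (.leaf 0x321) (.leaf 0)) (.node (.leaf 0x400500a016328) (.leaf 0)))) (.node (.node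 (.node (.leaf 0x1db) (.leaf 0)) (.node (.leaf 0x2016276) (.leaf 0))) (.node (.node (.leaf 0x301d00f156) (.leaf 0)) (.node (.leaf 0x100200101801d4a6) (.leaf 0)))))) (.node (.node (.node (.node (.node (.leaf 0x9c) (.leaf 0)) (.node (.leaf 0x100200202902e266) (.leaf 0))) (.node (.node (.leaf 0x2ec) (.leaf 0)) (.node (.leaf 0x200500700d4ee) (.leaf 0)))) (.node (.node (.node (.leaf 0x1d0) (.leaf 0)) (.node (.leaf 0x235) (.leaf 0))) (.node (.node (.leaf 0x3c9) (.leaf 0)) (.node (.leaf 0x400402802d144) (.leaf 0))))) (.node (.node (.node (.node (.leaf 0x44) (.leaf 0)) (.node (.leaf 0x100202301a235) (.leaf 0))) (.node (.node (.leaf 0x366) (.leaf 0)) (.node (.leaf 0x100100100b003382) (.leaf 0)))) (.node (.node (.node (.leaf 0x264) (.leaf 0)) (.node (.leaf 0xa0040d5) (.leaf 0))) (.node (.node (.leaf 0x2002006027412) (.leaf 0)) (.node (.leaf 0x100300100c023557) (.leaf 0))))))))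

/-- part of closing hints -/
def node0L0close22 : Trie :=
  (.node (.node (.node (.node (.node (.node (.node (.leaf 0x1000002016031007) (.leaf 0x100501002757e)) (.node (.leaf 0x17c) (.leaf 0))) (.node (.node (.leaf 0x27e) (.leaf 0)) (.node (.leaf 0x100400401c01019d) (.leaf 0)))) (.node (.node (.node (.leaf 0x5b) (.leaf 0)) (.node (.leaf 0x100200100500839c) (.leaf 0))) (.node (.node (.leaf 0x100002802a23d) (.leaf 0)) (.node (.leaf 0x100400000900b531) (.leaf 0))))) (.node (.node (.node (.node (.leaf 0xb9) (.leaf 0)) (.node (.leaf 0x100200302902f31b) (.leaf 0))) (.node (.node (.leaf 0x302) (.leaf 0)) (.node (.leaf 0x537) (.leaf 0)))) (.node (.node (.node (.leaf 0x400500100008a) (.leaf 0)) (.node (.leaf 0x100200501e01d2ff) (.leaf 0))) (.node (.node (.leaf 0x3b3) (.leaf 0)) (.node (.leaf 0x100400401e02555e) (.leaf 0)))))) (.node (.node (.node (.node (.node (.leaf 0x65) (.leaf 0)) (.node (.leaf 0x43f) (.leaf 0))) (.node (.node (.leaf 0x100000102702307d) (.leaf 0)) (.node (.leaf 0x2d5)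 (.leaf 0)))) (.node (.node (.node (.leaf 0x1a5) (.leaf 0)) (.node (.leaf 0x4b8) (.leaf 0))) (.node (.node (.leaf 0x100200501e01d324) (.leaf 0)) (.node (.leaf 0x3b6) (.leaf 0))))) (.node (.node (.node (.node (.leaf 0x100000102000e108) (.leaf 0)) (.node (.leaf 0x216) (.leaf 0))) (.node (.node (.leaf 0x33a) (.leaf 0)) (.node (.leaf 0x549) (.leaf 0)))) (.node (.node (.node (.leaf 0x23b) (.leaf 0)) (.node (.leaf 0x25b) (.leaf 0))) (.node (.node (.leaf 0x10000050140002e8) (.leaf 0)) (.node (.leaf 0x578) (.leaf 0))))))) (.node (.node (.node (.node (.node (.node (.leaf 0x1a) (.leaf 0x200502601d51d)) (.node (.leaf 0x5022007325) (.leaf 0))) (.node (.node (.leaf 0xc3) (.leaf 0)) (.node (.leaf 0x40090173cd) (.leaf 0)))) (.node (.node (.node (.leaf 0x17c) (.leaf 0)) (.node (.leaf 0x200) (.leaf 0))) (.node (.node (.leaf 0x100100302902b1a6) (.leaf 0)) (.node (.leaf 0x1002002024011505) (.leaf 0))))) (.node (.node (.node (.node (.leaf 0x7d) (.leaf 0)) (.node (.leaf 0x100200400101c31e) (.leaf 0)))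 (.node (.node (.leaf 0x31a) (.leaf 0)) (.node (.leaf 0x191) (.leaf 0)))) (.node (.node (.node (.leaf 0x90) (.leaf 0)) (.node (.leaf 0x4e9) (.leaf 0))) (.node (.node (.leaf 0x195) (.leaf 0)) (.node (.leaf 0x426) (.leaf 0)))))) (.node (.node (.node (.node (.node (.leaf 0x101e00e08c) (.leaf 0)) (.node (.leaf 0x1002001029006440) (.leaf 0))) (.node (.node (.leaf 0xd8) (.leaf 0)) (.node (.leaf 0x10010180070ac) (.leaf 0)))) (.node (.node (.node (.leaf 0xd1) (.leaf 0)) (.node (.leaf 0x100501502235c) (.leaf 0))) (.node (.node (.leaf 0x1001004028020343) (.leaf 0)) (.node (.leaf 0x40050170123ad) (.leaf 0))))) (.node (.node (.node (.node (.leaf 0x4c) (.leaf 0)) (.node (.leaf 0x10030010290001e5) (.leaf 0))) (.node (.node (.leaf 0x35d) (.leaf 0)) (.node (.leaf 0x359) (.leaf 0)))) (.node (.node (.node (.leaf 0x25b) (.leaf 0)) (.node (.leaf 0x504) (.leaf 0))) (.node (.node (.leaf 0x411) (.leaf 0)) (.node (.leaf 0x57d) (.leaf 0))))))))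

/-- part of closing hints -/
def node0L0close54 : Trie :=
  (.node (.node (.node (.node (.node (.node (.node (.leaf 0x9) (.leaf 0x300302702d4d0)) (.node (.leaf 0x181) (.leaf 0))) (.node (.node (.leaf 0x28f) (.leaf 0)) (.node (.leaf 0x20020060272ca) (.leaf 0)))) (.node (.node (.node (.leaf 0x5d) (.leaf 0)) (.node (.leaf 0x4a8) (.leaf 0))) (.node (.node (.leaf 0x38c) (.leaf 0)) (.node (.leaf 0x38a) (.leaf 0))))) (.node (.node (.node (.node (.leaf 0xce) (.leaf 0)) (.node (.leaf 0x296) (.leaf 0))) (.node (.node (.leaf 0x30e) (.leaf 0)) (.node (.leaf 0x1004001005024299) (.leaf 0)))) (.node (.node (.node (.leaf 0x8c) (.leaf 0)) (.node (.leaf 0x40050200244b9) (.leaf 0))) (.node (.node (.leaf 0x3e8) (.leaf 0)) (.node (.leaf 0x200401502f56f) (.leaf 0)))))) (.node (.node (.node (.node (.node (.leaf 0x1d) (.leaf 0)) (.node (.leaf 0x10020030240262ef) (.leaf 0))) (.node (.node (.leaf 0x2db) (.leaf 0)) (.node (.leaf 0x100000301e00b4cb) (.leaf 0)))) (.node (.node (.node (.leaf 0x1b9) (.leaf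 0)) (.node (.leaf 0x253) (.leaf 0))) (.node (.node (.leaf 0x100100100602b34e) (.leaf 0)) (.node (.leaf 0x100300002000a49f) (.leaf 0))))) (.node (.node (.node (.node (.leaf 0x40) (.leaf 0)) (.node (.leaf 0x489) (.leaf 0))) (.node (.node (.leaf 0x1004005020014349) (.leaf 0)) (.node (.leaf 0x10030020040203d8) (.leaf 0)))) (.node (.node (.node (.leaf 0x24d) (.leaf 0)) (.node (.leaf 0x4f6) (.leaf 0))) (.node (.node (.leaf 0x163) (.leaf 0)) (.node (.leaf 0x46e) (.leaf 0))))))) (.node (.node (.node (.node (.node (.node (.leaf 0x4e) (.leaf 0x542)) (.node (.leaf 0x432) (.leaf 0))) (.node (.node (.leaf 0x2b5) (.leaf 0)) (.node (.leaf 0x51d) (.leaf 0)))) (.node (.node (.node (.leaf 0xf2) (.leaf 0)) (.node (.leaf 0x4a3) (.leaf 0))) (.node (.node (.leaf 0x3a3) (.leaf 0)) (.node (.leaf 0x100100501101b331) (.leaf 0))))) (.node (.node (.node (.node (.leaf 0xf6) (.leaf 0)) (.node (.leaf 0x10030240060cc) (.leaf 0))) (.node (.node (.leaf 0x400200800714d) (.leaf 0)) (.node (.leaf 0x100300102302f3f4)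 (.leaf 0)))) (.node (.node (.node (.leaf 0x227) (.leaf 0)) (.node (.leaf 0x4ef) (.leaf 0))) (.node (.node (.leaf 0x100000301f00e197) (.leaf 0)) (.node (.leaf 0x100100101f007315) (.leaf 0)))))) (.node (.node (.node (.node (.node (.leaf 0xa5) (.leaf 0)) (.node (.leaf 0x10030030120193f9) (.leaf 0))) (.node (.node (.leaf 0x100100500a00a0a6) (.leaf 0)) (.node (.leaf 0x30020170104c3) (.leaf 0)))) (.node (.node (.node (.leaf 0x80) (.leaf 0)) (.node (.leaf 0x100200400723a) (.leaf 0))) (.node (.node (.leaf 0x3cd) (.leaf 0)) (.node (.leaf 0x200400100d41a) (.leaf 0))))) (.node (.node (.node (.node (.leaf 0x143) (.leaf 0)) (.node (.leaf 0x1000005000008361) (.leaf 0))) (.node (.node (.leaf 0x36d) (.leaf 0)) (.node (.leaf 0x54e) (.leaf 0)))) (.node (.node (.node (.leaf 0x26d) (.leaf 0)) (.node (.leaf 0x10030010050232ca) (.leaf 0))) (.node (.node (.leaf 0x41a) (.leaf 0)) (.node (.leaf 0x400000101f563) (.leaf 0))))))))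

/-- part of closing hints -/
def node0L0close14 : Trie :=
  (.node (.node (.node (.node (.node (.node (.node (.leaf 0x1) (.leaf 0x100400400e00f44a)) (.node (.leaf 0x422) (.leaf 0))) (.node (.node (.leaf 0xd7) (.leaf 0)) (.node (.leaf 0x10030010050232a2) (.leaf 0)))) (.node (.node (.node (.leaf 0x200502700d079) (.leaf 0)) (.node (.leaf 0x49d) (.leaf 0))) (.node (.node (.leaf 0x370) (.leaf 0)) (.node (.leaf 0x100200100000e546) (.leaf 0))))) (.node (.node (.node (.node (.leaf 0xb3) (.leaf 0)) (.node (.leaf 0x10000020010121be) (.leaf 0))) (.node (.node (.leaf 0x2fe) (.leaf 0)) (.node (.leaf 0x100300500b0054d9) (.leaf 0)))) (.node (.node (.node (.leaf 0x1e7) (.leaf 0)) (.node (.leaf 0x4d6) (.leaf 0))) (.node (.node (.leaf 0x1003003017022194) (.leaf 0)) (.node (.leaf 0x200400100d41e) (.leaf 0)))))) (.node (.node (.node (.node (.node (.leaf 0x5f) (.leaf 0)) (.node (.leaf 0x43b) (.leaf 0))) (.node (.node (.leaf 0xca) (.leaf 0)) (.node (.leaf 0x200302902f194) (.leaf 0)))) (.node (.node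 (.node (.leaf 0x19e) (.leaf 0)) (.node (.leaf 0x20e) (.leaf 0))) (.node (.node (.leaf 0x3ab) (.leaf 0)) (.node (.leaf 0x10000010200183af) (.leaf 0))))) (.node (.node (.node (.node (.leaf 0x105) (.leaf 0)) (.node (.leaf 0x400100201a43a) (.leaf 0))) (.node (.node (.leaf 0x30050140302ac) (.leaf 0)) (.node (.leaf 0x32f) (.leaf 0)))) (.node (.node (.node (.leaf 0x235) (.leaf 0)) (.node (.leaf 0x230) (.leaf 0))) (.node (.node (.leaf 0x4003027031371) (.leaf 0)) (.node (.leaf 0x10010000080060d9) (.leaf 0))))))) (.node (.node (.node (.node (.node (.node (.leaf 0x1e) (.leaf 0x300201901720e)) (.node (.leaf 0x413) (.leaf 0))) (.node (.node (.leaf 0x2a0) (.leaf 0)) (.node (.leaf 0x100300302a4fd) (.leaf 0)))) (.node (.node (.node (.leaf 0x179) (.leaf 0)) (.node (.leaf 0x4b1) (.leaf 0))) (.node (.node (.leaf 0x2020029341) (.leaf 0)) (.node (.leaf 0x400401f02d541) (.leaf 0))))) (.node (.node (.node (.node (.leaf 0xdd) (.leaf 0)) (.node (.leaf 0x472) (.leaf 0))) (.node (.node (.leaf 0x186) (.leaf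 0)) (.node (.leaf 0x53c) (.leaf 0)))) (.node (.node (.node (.leaf 0x1f3) (.leaf 0)) (.node (.leaf 0x4e6) (.leaf 0))) (.node (.node (.leaf 0x100100300201a2f7) (.leaf 0)) (.node (.leaf 0x100000300100c42f) (.leaf 0)))))) (.node (.node (.node (.node (.node (.leaf 0x8c) (.leaf 0)) (.node (.leaf 0x44c) (.leaf 0))) (.node (.node (.leaf 0xb7) (.leaf 0)) (.node (.leaf 0x400000f00b47b) (.leaf 0)))) (.node (.node (.node (.leaf 0x1c3) (.leaf 0)) (.node (.leaf 0x223) (.leaf 0))) (.node (.node (.leaf 0x35b) (.leaf 0)) (.node (.leaf 0x50070160f9) (.leaf 0))))) (.node (.node (.node (.node (.leaf 0x55) (.leaf 0)) (.node (.leaf 0x1e3) (.leaf 0))) (.node (.node (.leaf 0x356) (.leaf 0)) (.node (.leaf 0x100000202402343d) (.leaf 0)))) (.node (.node (.node (.leaf 0xa7) (.leaf 0)) (.node (.leaf 0x20010240014fa) (.leaf 0))) (.node (.node (.leaf 0x312) (.leaf 0)) (.node (.leaf 0x2002020023548) (.leaf 0))))))))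

/-- part of closing hints -/
def node0L0close46 : Trie :=
  (.node (.node (.node (.node (.node (.node (.node (.leaf 0x1f) (.leaf 0x4e9)) (.node (.leaf 0x10020020200231d6) (.leaf 0))) (.node (.node (.leaf 0xba) (.leaf 0)) (.node (.leaf 0x18003333) (.leaf 0)))) (.node (.node (.node (.leaf 0xeb) (.leaf 0)) (.node (.leaf 0x1f5) (.leaf 0))) (.node (.node (.leaf 0x1000001017000090) (.leaf 0)) (.node (.leaf 0x100000301c00c53e) (.leaf 0))))) (.node (.node (.node (.node (.leaf 0x31) (.leaf 0)) (.node (.leaf 0x46a) (.leaf 0))) (.node (.node (.leaf 0x400202600d2be) (.leaf 0)) (.node (.leaf 0x100000300d014434) (.leaf 0)))) (.node (.node (.node (.leaf 0x1fb) (.leaf 0)) (.node (.leaf 0x261) (.leaf 0))) (.node (.node (.leaf 0x14c) (.leaf 0)) (.node (.leaf 0x10030040050260ad) (.leaf 0)))))) (.node (.node (.node (.node (.node (.leaf 0xc) (.leaf 0)) (.node (.leaf 0x200102600d1da) (.leaf 0))) (.node (.node (.leaf 0x2d5) (.leaf 0)) (.node (.leaf 0x400500500b356) (.leaf 0)))) (.node (.node (.node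 (.leaf 0x1b3) (.leaf 0)) (.node (.leaf 0x100402701c3f0) (.leaf 0))) (.node (.node (.leaf 0x3ba) (.leaf 0)) (.node (.leaf 0x300101701e4d2) (.leaf 0))))) (.node (.node (.node (.node (.leaf 0x119) (.leaf 0)) (.node (.leaf 0x1de) (.leaf 0))) (.node (.node (.leaf 0x103) (.leaf 0)) (.node (.leaf 0x100200500b02234a) (.leaf 0)))) (.node (.node (.node (.leaf 0x248) (.leaf 0)) (.node (.leaf 0x40050200244eb) (.leaf 0))) (.node (.node (.leaf 0x1005006029167) (.leaf 0)) (.node (.leaf 0x4001023010561) (.leaf 0))))))) (.node (.node (.node (.node (.node (.node (.leaf 0x12) (.leaf 0x100200400802f559)) (.node (.leaf 0x42f) (.leaf 0))) (.node (.node (.leaf 0x100100500102f183) (.leaf 0)) (.node (.leaf 0x400002800d316) (.leaf 0)))) (.node (.node (.node (.leaf 0x18a) (.leaf 0)) (.node (.leaf 0x200200b01b333) (.leaf 0))) (.node (.node (.leaf 0x142) (.leaf 0)) (.node (.leaf 0x55c) (.leaf 0))))) (.node (.node (.node (.node (.leaf 0xf1) (.leaf 0)) (.node (.leaf 0x47d) (.leaf 0))) (.node (.node (.leaf 0x1002005008014319)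 (.leaf 0)) (.node (.leaf 0x3001015025540) (.leaf 0)))) (.node (.node (.node (.leaf 0x220) (.leaf 0)) (.node (.leaf 0x4ee) (.leaf 0))) (.node (.node (.leaf 0x100200300a01c2bc) (.leaf 0)) (.node (.leaf 0x300001801450a) (.leaf 0)))))) (.node (.node (.node (.node (.node (.leaf 0xa1) (.leaf 0)) (.node (.leaf 0x3001015025450) (.leaf 0))) (.node (.node (.leaf 0x100100400202e293) (.leaf 0)) (.node (.leaf 0x10040020190300ea) (.leaf 0)))) (.node (.node (.node (.leaf 0x9d) (.leaf 0)) (.node (.leaf 0x234) (.leaf 0))) (.node (.node (.leaf 0x100000202500119c) (.leaf 0)) (.node (.leaf 0x200400100d42e) (.leaf 0))))) (.node (.node (.node (.node (.leaf 0x13f) (.leaf 0)) (.node (.leaf 0x493) (.leaf 0))) (.node (.node (.leaf 0x1002005008014128) (.leaf 0)) (.node (.leaf 0x362) (.leaf 0)))) (.node (.node (.node (.leaf 0x268) (.leaf 0)) (.node (.leaf 0x1000002022000287) (.leaf 0))) (.node (.node (.leaf 0x30010160202aa) (.leaf 0)) (.node (.leaf 0x101e00e57f) (.leaf 0))))))))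

/-- part of closing hints -/
def node0L0close30 : Trie :=
  (.node (.node (.node (.node (.node (.node (.node (.leaf 0x12) (.leaf 0x40010000192af)) (.node (.leaf 0x100000201603127d) (.leaf 0))) (.node (.node (.leaf 0x284) (.leaf 0)) (.node (.leaf 0x46c) (.leaf 0)))) (.node (.node (.node (.leaf 0x159) (.leaf 0)) (.node (.leaf 0x200302302a4a3) (.leaf 0))) (.node (.node (.leaf 0x100400202600c24d) (.leaf 0)) (.node (.leaf 0x556) (.leaf 0))))) (.node (.node (.node (.node (.leaf 0x300200001a0bc) (.leaf 0)) (.node (.leaf 0x100200501b024339) (.leaf 0))) (.node (.node (.leaf 0xe5) (.leaf 0)) (.node (.leaf 0x538) (.leaf 0)))) (.node (.node (.node (.leaf 0x1ef) (.leaf 0)) (.node (.leaf 0x4da) (.leaf 0))) (.node (.node (.leaf 0x3002009025226) (.leaf 0)) (.node (.leaf 0x570) (.leaf 0)))))) (.node (.node (.node (.node (.node (.leaf 0x69) (.leaf 0)) (.node (.leaf 0x100300100c022219) (.leaf 0))) (.node (.node (.leaf 0x2c9) (.leaf 0)) (.node (.leaf 0x100000300d014464) (.leaf 0)))) (.node (.node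 (.node (.leaf 0x1a8) (.leaf 0)) (.node (.leaf 0x4bb) (.leaf 0))) (.node (.node (.leaf 0x3a4) (.leaf 0)) (.node (.leaf 0x10010000010303ba) (.leaf 0))))) (.node (.node (.node (.node (.leaf 0x50) (.leaf 0)) (.node (.leaf 0x100300401e01a1dd) (.leaf 0))) (.node (.node (.leaf 0x33d) (.leaf 0)) (.node (.leaf 0x397) (.leaf 0)))) (.node (.node (.node (.leaf 0x9d) (.leaf 0)) (.node (.leaf 0x4f4) (.leaf 0))) (.node (.node (.leaf 0x3fe) (.leaf 0)) (.node (.leaf 0x4004018016570) (.leaf 0))))))) (.node (.node (.node (.node (.node (.node (.leaf 0x3e) (.leaf 0x51a)) (.node (.leaf 0x300202600b415) (.leaf 0))) (.node (.node (.leaf 0xc2) (.leaf 0)) (.node (.leaf 0x100100101f0072d3) (.leaf 0)))) (.node (.node (.node (.leaf 0xf0) (.leaf 0)) (.node (.leaf 0x2d340) (.leaf 0))) (.node (.node (.leaf 0x399) (.leaf 0)) (.node (.leaf 0x10020010050084c7) (.leaf 0))))) (.node (.node (.node (.node (.leaf 0xe8) (.leaf 0)) (.node (.leaf 0x477) (.leaf 0))) (.node (.node (.leaf 0x19d) (.leaf 0)) (.node (.leaf 0x100000300901b4b1)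 (.leaf 0)))) (.node (.node (.node (.leaf 0x216) (.leaf 0)) (.node (.leaf 0x20f) (.leaf 0))) (.node (.node (.leaf 0x155) (.leaf 0)) (.node (.leaf 0x100100001602656e) (.leaf 0)))))) (.node (.node (.node (.node (.node (.leaf 0x97) (.leaf 0)) (.node (.leaf 0x450) (.leaf 0))) (.node (.node (.leaf 0x2e9) (.leaf 0)) (.node (.leaf 0x530) (.leaf 0)))) (.node (.node (.node (.leaf 0xe2) (.leaf 0)) (.node (.leaf 0x1002000019021439) (.leaf 0))) (.node (.node (.leaf 0x100200300300017a) (.leaf 0)) (.node (.leaf 0x100300102100a3f6) (.leaf 0))))) (.node (.node (.node (.node (.leaf 0x137) (.leaf 0)) (.node (.leaf 0x241) (.leaf 0))) (.node (.node (.leaf 0x118) (.leaf 0)) (.node (.leaf 0x10040020270272de) (.leaf 0)))) (.node (.node (.node (.leaf 0x25f) (.leaf 0)) (.node (.leaf 0x100400f01a47c) (.leaf 0))) (.node (.node (.leaf 0x10000020160312ad) (.leaf 0)) (.node (.leaf 0x20040120054ea) (.leaf 0))))))))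

/-- part of closing hints -/
def node0L0close62 : Trie :=
  (.node (.node (.node (.node (.node (.node (.node (.leaf 0xa) (.leaf 0x100100501e021577)) (.node (.leaf 0x10040050030163e7) (.leaf 0))) (.node (.node (.leaf 0x1bf) (.leaf 0)) (.node (.leaf 0x2a1) (.leaf 0)))) (.node (.node (.node (.leaf 0x16d) (.leaf 0)) (.node (.leaf 0x1000003024011438) (.leaf 0))) (.node (.node (.leaf 0x100300d0222a9) (.leaf 0)) (.node (.leaf 0x400100c00d40c) (.leaf 0))))) (.node (.node (.node (.node (.leaf 0x2d) (.leaf 0)) (.node (.leaf 0x2a8) (.leaf 0))) (.node (.node (.leaf 0x311) (.leaf 0)) (.node (.leaf 0x400300b010465) (.leaf 0)))) (.node (.node (.node (.leaf 0x203) (.leaf 0)) (.node (.leaf 0x100300102900023f) (.leaf 0))) (.node (.node (.leaf 0x30b) (.leaf 0)) (.node (.leaf 0x41f) (.leaf 0)))))) (.node (.node (.node (.node (.node (.leaf 0x80) (.leaf 0)) (.node (.leaf 0x31d) (.leaf 0))) (.node (.node (.leaf 0xd4) (.leaf 0)) (.node (.leaf 0x52c) (.leaf 0)))) (.node (.node (.node (.leaf 0x2e) (.leaf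 0)) (.node (.leaf 0x216) (.leaf 0))) (.node (.node (.leaf 0x3bf) (.leaf 0)) (.node (.leaf 0x54f) (.leaf 0))))) (.node (.node (.node (.node (.leaf 0x48) (.leaf 0)) (.node (.leaf 0x100200201000e3d9) (.leaf 0))) (.node (.node (.leaf 0x137) (.leaf 0)) (.node (.leaf 0x300500300f389) (.leaf 0)))) (.node (.node (.node (.leaf 0x24e) (.leaf 0)) (.node (.leaf 0x4005014019295) (.leaf 0))) (.node (.node (.leaf 0x169) (.leaf 0)) (.node (.leaf 0x100100400900d49c) (.leaf 0))))))) (.node (.node (.node (.node (.node (.node (.leaf 0x53) (.leaf 0x200201102918b)) (.node (.leaf 0x1002006008402) (.leaf 0))) (.node (.node (.leaf 0x2ba) (.leaf 0)) (.node (.leaf 0x521) (.leaf 0)))) (.node (.node (.node (.leaf 0x194) (.leaf 0)) (.node (.leaf 0x400100001625e) (.leaf 0))) (.node (.node (.leaf 0x100100400501311e) (.leaf 0)) (.node (.leaf 0x3da) (.leaf 0))))) (.node (.node (.node (.node (.leaf 0x2008014020) (.leaf 0)) (.node (.leaf 0x300101e0293c8) (.leaf 0))) (.node (.node (.leaf 0xfa) (.leaf 0)) (.node (.leaf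 0x100200302902f192) (.leaf 0)))) (.node (.node (.node (.leaf 0xa9) (.leaf 0)) (.node (.leaf 0x100100301201839b) (.leaf 0))) (.node (.node (.leaf 0x100200301101f314) (.leaf 0)) (.node (.leaf 0x43f) (.leaf 0)))))) (.node (.node (.node (.node (.node (.leaf 0xaa) (.leaf 0)) (.node (.leaf 0x45b) (.leaf 0))) (.node (.node (.leaf 0x100200500801422d) (.leaf 0)) (.node (.leaf 0x2f8) (.leaf 0)))) (.node (.node (.node (.leaf 0x1da) (.leaf 0)) (.node (.leaf 0x400400601c2f7) (.leaf 0))) (.node (.node (.leaf 0x39d) (.leaf 0)) (.node (.leaf 0x56c) (.leaf 0))))) (.node (.node (.node (.node (.leaf 0x129) (.leaf 0)) (.node (.leaf 0x100202301a227) (.leaf 0))) (.node (.node (.leaf 0x100300401e01a042) (.leaf 0)) (.node (.leaf 0x100000201902851c) (.leaf 0)))) (.node (.node (.node (.leaf 0x271) (.leaf 0)) (.node (.leaf 0x1003004029006501) (.leaf 0))) (.node (.node (.leaf 0x10020050030012e5) (.leaf 0)) (.node (.leaf 0x100300202900457b) (.leaf 0))))))))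

/-- part of closing hints -/
def node0L0close1 : Trie :=
  (.node (.node (.node (.node (.node (.node (.node (.leaf 0x2d000) (.leaf 0x4b3)) (.node (.leaf 0x200000f01c3f4) (.leaf 0))) (.node (.node (.leaf 0x274) (.leaf 0)) (.node (.leaf 0x10020020210201e2) (.leaf 0)))) (.node (.node (.node (.leaf 0x149) (.leaf 0)) (.node (.leaf 0x1ee) (.leaf 0))) (.node (.node (.leaf 0x100300401e01a046) (.leaf 0)) (.node (.leaf 0x100300500702a547) (.leaf 0))))) (.node (.node (.node (.node (.leaf 0x2a) (.leaf 0)) (.node (.leaf 0x45c) (.leaf 0))) (.node (.node (.leaf 0x1020006217) (.leaf 0)) (.node (.leaf 0x1002003009001501) (.leaf 0)))) (.node (.node (.node (.leaf 0x1dd) (.leaf 0)) (.node (.leaf 0x802b279) (.leaf 0))) (.node (.node (.leaf 0x3003014257) (.leaf 0)) (.node (.leaf 0x100100001a014479) (.leaf 0)))))) (.node (.node (.node (.node (.node (.leaf 0x56) (.leaf 0)) (.node (.leaf 0x435) (.leaf 0))) (.node (.node (.leaf 0x2bb) (.leaf 0)) (.node (.leaf 0x100400502500a51a) (.leaf 0)))) (.node (.node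 (.node (.leaf 0x15a) (.leaf 0)) (.node (.leaf 0x2000028016238) (.leaf 0))) (.node (.node (.leaf 0x3a6) (.leaf 0)) (.node (.leaf 0x10000010200183e0) (.leaf 0))))) (.node (.node (.node (.node (.leaf 0xfb) (.leaf 0)) (.node (.leaf 0x4002008007264) (.leaf 0))) (.node (.node (.leaf 0x100100400c0292ba) (.leaf 0)) (.node (.leaf 0x542) (.leaf 0)))) (.node (.node (.node (.leaf 0x10030030170220d4) (.leaf 0)) (.node (.leaf 0x4f1) (.leaf 0))) (.node (.node (.leaf 0x100200101b0132a7) (.leaf 0)) (.node (.leaf 0x100000300901b4b1) (.leaf 0))))))) (.node (.node (.node (.node (.node (.node (.leaf 0x2c) (.leaf 0x100400301a003515)) (.node (.leaf 0x42a) (.leaf 0))) (.node (.node (.leaf 0x297) (.leaf 0)) (.node (.leaf 0x100300201900a2c5) (.leaf 0)))) (.node (.node (.node (.leaf 0x170) (.leaf 0)) (.node (.leaf 0x200200b01b398) (.leaf 0))) (.node (.node (.leaf 0x11e) (.leaf 0)) (.node (.leaf 0x100200200b011447) (.leaf 0))))) (.node (.node (.node (.node (.leaf 0xd5) (.leaf 0)) (.node (.leaf 0x1c1) (.leaf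 0))) (.node (.node (.leaf 0x313) (.leaf 0)) (.node (.leaf 0x400400d02a3ea) (.leaf 0)))) (.node (.node (.node (.leaf 0x206) (.leaf 0)) (.node (.leaf 0x1c0003d1) (.leaf 0))) (.node (.node (.leaf 0x3ee) (.leaf 0)) (.node (.leaf 0x572) (.leaf 0)))))) (.node (.node (.node (.node (.node (.leaf 0x82) (.leaf 0)) (.node (.leaf 0x1019000294) (.leaf 0))) (.node (.node (.leaf 0x2e0) (.leaf 0)) (.node (.leaf 0x52d) (.leaf 0)))) (.node (.node (.node (.leaf 0x1bd) (.leaf 0)) (.node (.leaf 0x100000000e006471) (.leaf 0))) (.node (.node (.leaf 0x1c000242) (.leaf 0)) (.node (.leaf 0x388) (.leaf 0))))) (.node (.node (.node (.node (.leaf 0x126) (.leaf 0)) (.node (.leaf 0x300001402f102) (.leaf 0))) (.node (.node (.leaf 0x350) (.leaf 0)) (.node (.leaf 0x100200002002e363) (.leaf 0)))) (.node (.node (.node (.leaf 0x250) (.leaf 0)) (.node (.leaf 0x4fa) (.leaf 0))) (.node (.node (.leaf 0x407) (.leaf 0)) (.node (.leaf 0x10010040230102d1) (.leaf 0))))))))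

/-- part of closing hints -/
def node0L0close33 : Trie :=
  (.node (.node (.node (.node (.node (.node (.node (.leaf 0xe) (.leaf 0x300302702d4d1)) (.node (.leaf 0x17c) (.leaf 0))) (.node (.node (.leaf 0x285) (.leaf 0)) (.node (.leaf 0x300001601f1b9) (.leaf 0)))) (.node (.node (.node (.leaf 0x5a) (.leaf 0)) (.node (.leaf 0x2d36d) (.leaf 0))) (.node (.node (.leaf 0x37c) (.leaf 0)) (.node (.leaf 0x385) (.leaf 0))))) (.node (.node (.node (.node (.leaf 0xc2) (.leaf 0)) (.node (.leaf 0x269) (.leaf 0))) (.node (.node (.leaf 0x305) (.leaf 0)) (.node (.leaf 0x1001005027007522) (.leaf 0)))) (.node (.node (.node (.leaf 0x8f) (.leaf 0)) (.node (.leaf 0x501b023496) (.leaf 0))) (.node (.node (.leaf 0x100200501b022117) (.leaf 0)) (.node (.leaf 0x200201201d41d) (.leaf 0)))))) (.node (.node (.node (.node (.node (.leaf 0x6c) (.leaf 0)) (.node (.leaf 0x100c02a1f8) (.leaf 0))) (.node (.node (.leaf 0x1c6) (.leaf 0)) (.node (.leaf 0x2d5) (.leaf 0)))) (.node (.node (.node (.leaf 0x1aa) (.leaf 0)) (.node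 (.leaf 0x1004005017018493) (.leaf 0))) (.node (.node (.leaf 0x501b02334c) (.leaf 0)) (.node (.leaf 0x1000005003020383) (.leaf 0))))) (.node (.node (.node (.node (.leaf 0x300400100003e) (.leaf 0)) (.node (.leaf 0x1000000004014372) (.leaf 0))) (.node (.node (.leaf 0x33e) (.leaf 0)) (.node (.leaf 0x400401f02d541) (.leaf 0)))) (.node (.node (.node (.leaf 0x241) (.leaf 0)) (.node (.leaf 0x1004002005003118) (.leaf 0))) (.node (.node (.leaf 0x10040040010002eb) (.leaf 0)) (.node (.leaf 0x100200102501a46c) (.leaf 0))))))) (.node (.node (.node (.node (.node (.node (.leaf 0x40) (.leaf 0x100100002400a52c)) (.node (.leaf 0x414) (.leaf 0))) (.node (.node (.leaf 0x1c0) (.leaf 0)) (.node (.leaf 0x302001a4fe) (.leaf 0)))) (.node (.node (.node (.leaf 0x100100202400c080) (.leaf 0)) (.node (.leaf 0x200) (.leaf 0))) (.node (.node (.leaf 0x100200002002e362) (.leaf 0)) (.node (.leaf 0x200400d030437) (.leaf 0))))) (.node (.node (.node (.node (.leaf 0x39) (.leaf 0)) (.node (.leaf 0x1e) (.leaf 0))) (.node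 (.node (.leaf 0x70) (.leaf 0)) (.node (.leaf 0x100100301300646d) (.leaf 0)))) (.node (.node (.node (.leaf 0x218) (.leaf 0)) (.node (.leaf 0x4b5) (.leaf 0))) (.node (.node (.leaf 0x100200300a01c2ae) (.leaf 0)) (.node (.leaf 0x1000004019017570) (.leaf 0)))))) (.node (.node (.node (.node (.node (.leaf 0x9a) (.leaf 0)) (.node (.leaf 0x1a8) (.leaf 0))) (.node (.node (.leaf 0x2eb) (.leaf 0)) (.node (.leaf 0x3005021018445) (.leaf 0)))) (.node (.node (.node (.leaf 0x1cd) (.leaf 0)) (.node (.leaf 0x4c9) (.leaf 0))) (.node (.node (.leaf 0x114) (.leaf 0)) (.node (.leaf 0x568) (.leaf 0))))) (.node (.node (.node (.node (.leaf 0x138) (.leaf 0)) (.node (.leaf 0x1ee) (.leaf 0))) (.node (.node (.leaf 0x364) (.leaf 0)) (.node (.leaf 0x1003001029000353) (.leaf 0)))) (.node (.node (.node (.leaf 0x237) (.leaf 0)) (.node (.leaf 0x279) (.leaf 0))) (.node (.node (.leaf 0x10000020160312b0) (.leaf 0)) (.node (.leaf 0x2005004544) (.leaf 0))))))))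

/-- part of closing hints -/
def node0L0close17 : Trie :=
  (.node (.node (.node (.node (.node (.node (.node (.leaf 0x7) (.leaf 0x300400000c56e)) (.node (.leaf 0x1000002016031278) (.leaf 0))) (.node (.node (.leaf 0x10010000180011e0) (.leaf 0)) (.node (.leaf 0x100300401d00e302) (.leaf 0)))) (.node (.node (.node (.leaf 0x102700d06e) (.leaf 0)) (.node (.leaf 0x246) (.leaf 0))) (.node (.node (.leaf 0x378) (.leaf 0)) (.node (.leaf 0x551) (.leaf 0))))) (.node (.node (.node (.node (.leaf 0xb6) (.leaf 0)) (.node (.leaf 0x1b5) (.leaf 0))) (.node (.node (.leaf 0x301) (.leaf 0)) (.node (.leaf 0x100000501d01348b) (.leaf 0)))) (.node (.node (.node (.leaf 0x84) (.leaf 0)) (.node (.leaf 0x4d7) (.leaf 0))) (.node (.node (.leaf 0x3da) (.leaf 0)) (.node (.leaf 0x3f2) (.leaf 0)))))) (.node (.node (.node (.node (.node (.leaf 0x60) (.leaf 0)) (.node (.leaf 0x31b) (.leaf 0))) (.node (.node (.leaf 0xcb) (.leaf 0)) (.node (.leaf 0x500c02c4af) (.leaf 0)))) (.node (.node (.node (.leaf 0x1a1) (.leaf 0))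 (.node (.leaf 0x4b5) (.leaf 0))) (.node (.node (.leaf 0x3ad) (.leaf 0)) (.node (.leaf 0x200400d03053f) (.leaf 0))))) (.node (.node (.node (.node (.leaf 0x108) (.leaf 0)) (.node (.leaf 0x485) (.leaf 0))) (.node (.node (.leaf 0x101) (.leaf 0)) (.node (.leaf 0x547) (.leaf 0)))) (.node (.node (.node (.leaf 0x400400601c210) (.leaf 0)) (.node (.leaf 0x40050170124f2) (.leaf 0))) (.node (.node (.leaf 0x3fa) (.leaf 0)) (.node (.leaf 0x3002019008537) (.leaf 0))))))) (.node (.node (.node (.node (.node (.node (.leaf 0x36) (.leaf 0x100400300c008532)) (.node (.leaf 0x1004000009010415) (.leaf 0))) (.node (.node (.leaf 0x2a2) (.leaf 0)) (.node (.leaf 0x100300302a4ff) (.leaf 0)))) (.node (.node (.node (.leaf 0x17a) (.leaf 0)) (.node (.leaf 0x2d33b) (.leaf 0))) (.node (.node (.leaf 0x33a) (.leaf 0)) (.node (.leaf 0x397) (.leaf 0))))) (.node (.node (.node (.node (.leaf 0xe0) (.leaf 0)) (.node (.leaf 0x2d7) (.leaf 0))) (.node (.node (.leaf 0xf0) (.leaf 0)) (.node (.leaf 0x100300302a3eb) (.leaf 0))))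 (.node (.node (.node (.leaf 0x20e) (.leaf 0)) (.node (.leaf 0x245) (.leaf 0))) (.node (.node (.leaf 0x100400501800c0b2) (.leaf 0)) (.node (.leaf 0x1002002020023485) (.leaf 0)))))) (.node (.node (.node (.node (.node (.leaf 0x22) (.leaf 0)) (.node (.leaf 0x100200000f0141ab) (.leaf 0))) (.node (.node (.leaf 0x30040032a4) (.leaf 0)) (.node (.leaf 0x100200300b02f2f0) (.leaf 0)))) (.node (.node (.node (.leaf 0x100100202400c0fa) (.leaf 0)) (.node (.leaf 0x255) (.leaf 0))) (.node (.node (.leaf 0x3c5) (.leaf 0)) (.node (.leaf 0x1004002018019518) (.leaf 0))))) (.node (.node (.node (.node (.leaf 0x130) (.leaf 0)) (.node (.leaf 0x21d) (.leaf 0))) (.node (.node (.leaf 0x359) (.leaf 0)) (.node (.leaf 0x3c4) (.leaf 0)))) (.node (.node (.node (.leaf 0x22f) (.leaf 0)) (.node (.leaf 0x502) (.leaf 0))) (.node (.node (.leaf 0x40f) (.leaf 0)) (.node (.leaf 0x100000302401a54b) (.leaf 0))))))))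

/-- part of closing hints -/
def node0L0close49 : Trie :=
  (.node (.node (.node (.node (.node (.node (.node (.leaf 0x22) (.leaf 0x4ec)) (.node (.leaf 0x10020040270201da) (.leaf 0))) (.node (.node (.leaf 0x28d) (.leaf 0)) (.node (.leaf 0x1003006000292) (.leaf 0)))) (.node (.node (.node (.leaf 0x165) (.leaf 0)) (.node (.leaf 0x200101e02c36b) (.leaf 0))) (.node (.node (.leaf 0x388) (.leaf 0)) (.node (.leaf 0x38d) (.leaf 0))))) (.node (.node (.node (.node (.leaf 0x77) (.leaf 0)) (.node (.leaf 0x46b) (.leaf 0))) (.node (.node (.leaf 0x14e) (.leaf 0)) (.node (.leaf 0x309) (.leaf 0)))) (.node (.node (.node (.leaf 0x1fd) (.leaf 0)) (.node (.leaf 0x262) (.leaf 0))) (.node (.node (.leaf 0x100100400201632e) (.leaf 0)) (.node (.leaf 0x1003002006000139) (.leaf 0)))))) (.node (.node (.node (.node (.node (.leaf 0x77) (.leaf 0)) (.node (.leaf 0x19b) (.leaf 0))) (.node (.node (.leaf 0xe01b091) (.leaf 0)) (.node (.leaf 0x100300102300636a) (.leaf 0)))) (.node (.node (.node (.leaf 0x1b4) (.leaf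 0)) (.node (.leaf 0x4bf) (.leaf 0))) (.node (.node (.leaf 0x14b) (.leaf 0)) (.node (.leaf 0x10040050090024d6) (.leaf 0))))) (.node (.node (.node (.node (.leaf 0x11b) (.leaf 0)) (.node (.leaf 0x21b) (.leaf 0))) (.node (.node (.leaf 0x348) (.leaf 0)) (.node (.leaf 0x54b) (.leaf 0)))) (.node (.node (.node (.leaf 0x10020030030001c2) (.leaf 0)) (.node (.leaf 0x1001004002016481) (.leaf 0))) (.node (.node (.leaf 0x10030050030261b0) (.leaf 0)) (.node (.leaf 0x100400301a02c533) (.leaf 0))))))) (.node (.node (.node (.node (.node (.node (.leaf 0x4b) (.leaf 0x2001018019555)) (.node (.leaf 0x431) (.leaf 0))) (.node (.node (.leaf 0x2b2) (.leaf 0)) (.node (.leaf 0x2b6) (.leaf 0)))) (.node (.node (.node (.leaf 0x18c) (.leaf 0)) (.node (.leaf 0x200200b01b394) (.leaf 0))) (.node (.node (.leaf 0x1001003012018222) (.leaf 0)) (.node (.leaf 0x300302702d14b) (.leaf 0))))) (.node (.node (.node (.node (.leaf 0x1b) (.leaf 0)) (.node (.leaf 0x1ce) (.leaf 0))) (.node (.node (.leaf 0x327) (.leaf 0)) (.node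 (.leaf 0x100502500845d) (.leaf 0)))) (.node (.node (.node (.leaf 0x223) (.leaf 0)) (.node (.leaf 0x2000023001172) (.leaf 0))) (.node (.node (.leaf 0x3f6) (.leaf 0)) (.node (.leaf 0x576) (.leaf 0)))))) (.node (.node (.node (.node (.node (.leaf 0x300400100007e) (.leaf 0)) (.node (.leaf 0x457) (.leaf 0))) (.node (.node (.leaf 0xdc) (.leaf 0)) (.node (.leaf 0x10010040230102d4) (.leaf 0)))) (.node (.node (.node (.leaf 0x1d5) (.leaf 0)) (.node (.leaf 0x4cc) (.leaf 0))) (.node (.node (.leaf 0x10000010170000a5) (.leaf 0)) (.node (.leaf 0x100200401001b534) (.leaf 0))))) (.node (.node (.node (.node (.leaf 0x11d) (.leaf 0)) (.node (.leaf 0x494) (.leaf 0))) (.node (.node (.leaf 0x200d020176) (.leaf 0)) (.node (.leaf 0x100100200701337d) (.leaf 0)))) (.node (.node (.node (.leaf 0x26b) (.leaf 0)) (.node (.leaf 0x469) (.leaf 0))) (.node (.node (.leaf 0x1002005003001281) (.leaf 0)) (.node (.leaf 0x100000100501c2fd) (.leaf 0))))))))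

/-- part of closing hints -/
def node0L0close9 : Trie :=
  (.node (.node (.node (.node (.node (.node (.node (.leaf 0x7) (.leaf 0x4001021029576)) (.node (.leaf 0x177) (.leaf 0))) (.node (.node (.leaf 0x4000008007057) (.leaf 0)) (.node (.leaf 0x10050060292d3) (.leaf 0)))) (.node (.node (.node (.leaf 0x2001028000063) (.leaf 0)) (.node (.leaf 0x49a) (.leaf 0))) (.node (.node (.leaf 0x100400202600c20a) (.leaf 0)) (.node (.leaf 0x100200300701d521) (.leaf 0))))) (.node (.node (.node (.node (.leaf 0xaf) (.leaf 0)) (.node (.leaf 0x45f) (.leaf 0))) (.node (.node (.leaf 0x2fb) (.leaf 0)) (.node (.leaf 0x100000301a00d390) (.leaf 0)))) (.node (.node (.node (.leaf 0x1e2) (.leaf 0)) (.node (.leaf 0x10040010140264b0) (.leaf 0))) (.node (.node (.leaf 0x3d7) (.leaf 0)) (.node (.leaf 0x10010000120104b4) (.leaf 0)))))) (.node (.node (.node (.node (.node (.leaf 0x5b) (.leaf 0)) (.node (.leaf 0x437) (.leaf 0))) (.node (.node (.leaf 0x1000003000207) (.leaf 0)) (.node (.leaf 0x46f) (.leaf 0)))) (.node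 (.node (.node (.leaf 0x19b) (.leaf 0)) (.node (.leaf 0x4a4) (.leaf 0))) (.node (.node (.leaf 0x3aa) (.leaf 0)) (.node (.leaf 0x100100001a0203a6) (.leaf 0))))) (.node (.node (.node (.node (.leaf 0x102) (.leaf 0)) (.node (.leaf 0x1d3) (.leaf 0))) (.node (.node (.leaf 0x300302702d17f) (.leaf 0)) (.node (.leaf 0x3bd) (.leaf 0)))) (.node (.node (.node (.leaf 0xa8) (.leaf 0)) (.node (.leaf 0x30010200274a7) (.leaf 0))) (.node (.node (.leaf 0x19c) (.leaf 0)) (.node (.leaf 0x1003020030459) (.leaf 0))))))) (.node (.node (.node (.node (.node (.node (.leaf 0x31) (.leaf 0x503)) (.node (.leaf 0x100100500102f0c8) (.leaf 0))) (.node (.node (.leaf 0x29e) (.leaf 0)) (.node (.leaf 0x3000027000491) (.leaf 0)))) (.node (.node (.node (.leaf 0x175) (.leaf 0)) (.node (.leaf 0x1fc) (.leaf 0))) (.node (.node (.leaf 0x100000502101f36e) (.leaf 0)) (.node (.leaf 0x100100100402f454) (.leaf 0))))) (.node (.node (.node (.node (.leaf 0xdb) (.leaf 0)) (.node (.leaf 0x200301b0000f1) (.leaf 0))) (.node (.node (.leaf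 0x100100500102f2c3) (.leaf 0)) (.node (.leaf 0x3005021018475) (.leaf 0)))) (.node (.node (.node (.leaf 0x20b) (.leaf 0)) (.node (.leaf 0x1f0) (.leaf 0))) (.node (.node (.leaf 0x100200101b0132bf) (.leaf 0)) (.node (.leaf 0x401b0234f7) (.leaf 0)))))) (.node (.node (.node (.node (.node (.leaf 0x28) (.leaf 0)) (.node (.leaf 0x44b) (.leaf 0))) (.node (.node (.leaf 0x2e2) (.leaf 0)) (.node (.leaf 0x10030040240314f4) (.leaf 0)))) (.node (.node (.node (.leaf 0x400400601c0dd) (.leaf 0)) (.node (.leaf 0x100400000c0102cd) (.leaf 0))) (.node (.node (.leaf 0x34f) (.leaf 0)) (.node (.leaf 0x1004000000002513) (.leaf 0))))) (.node (.node (.node (.node (.leaf 0x12b) (.leaf 0)) (.node (.leaf 0x21e) (.leaf 0))) (.node (.node (.leaf 0x352) (.leaf 0)) (.node (.leaf 0x100000001602b220) (.leaf 0)))) (.node (.node (.node (.leaf 0x254) (.leaf 0)) (.node (.leaf 0x4ff) (.leaf 0))) (.node (.node (.leaf 0x40b) (.leaf 0)) (.node (.leaf 0x100500102f42a) (.leaf 0))))))))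

/-- part of closing hints -/
def node0L0close41 : Trie :=
  (.node (.node (.node (.node (.node (.node (.node (.leaf 0x6) (.leaf 0x400502002052c)) (.node (.leaf 0x4005001029019) (.leaf 0))) (.node (.node (.leaf 0x289) (.leaf 0)) (.node (.leaf 0x30050210173ff) (.leaf 0)))) (.node (.node (.node (.leaf 0x161) (.leaf 0)) (.node (.leaf 0x100100100b0034a2) (.leaf 0))) (.node (.node (.leaf 0x383) (.leaf 0)) (.node (.leaf 0x100300300600c217) (.leaf 0))))) (.node (.node (.node (.node (.leaf 0x200300a00002b) (.leaf 0)) (.node (.leaf 0x469) (.leaf 0))) (.node (.node (.leaf 0x40231c4) (.leaf 0)) (.node (.leaf 0x47f) (.leaf 0)))) (.node (.node (.node (.leaf 0x1f7) (.leaf 0)) (.node (.leaf 0x400101602222c) (.leaf 0))) (.node (.node (.leaf 0x3e5) (.leaf 0)) (.node (.leaf 0x100300e024506) (.leaf 0)))))) (.node (.node (.node (.node (.node (.leaf 0x73) (.leaf 0)) (.node (.leaf 0x442) (.leaf 0))) (.node (.node (.leaf 0xd0) (.leaf 0)) (.node (.leaf 0x100200400a0174ef) (.leaf 0)))) (.node (.node (.node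 (.leaf 0x1ae) (.leaf 0)) (.node (.leaf 0x4be) (.leaf 0))) (.node (.node (.leaf 0x3002009025234) (.leaf 0)) (.node (.leaf 0x32f) (.leaf 0))))) (.node (.node (.node (.node (.leaf 0x4f) (.leaf 0)) (.node (.leaf 0x20200291f3) (.leaf 0))) (.node (.node (.leaf 0x343) (.leaf 0)) (.node (.leaf 0x347) (.leaf 0)))) (.node (.node (.node (.leaf 0x245) (.leaf 0)) (.node (.leaf 0x23c) (.leaf 0))) (.node (.node (.leaf 0x165) (.leaf 0)) (.node (.leaf 0x100400401e00d554) (.leaf 0))))))) (.node (.node (.node (.node (.node (.node (.leaf 0x46) (.leaf 0x1002000018021553)) (.node (.leaf 0x42c) (.leaf 0))) (.node (.node (.leaf 0x100400501800c061) (.leaf 0)) (.node (.leaf 0x518) (.leaf 0)))) (.node (.node (.node (.leaf 0x16f) (.leaf 0)) (.node (.leaf 0x400300b01b43f) (.leaf 0))) (.node (.node (.leaf 0x39d) (.leaf 0)) (.node (.leaf 0x3a6) (.leaf 0))))) (.node (.node (.node (.node (.leaf 0x200300a000056) (.leaf 0)) (.node (.leaf 0xe3) (.leaf 0))) (.node (.node (.leaf 0xf5) (.leaf 0)) (.node (.leaf 0x1002002005003417)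 (.leaf 0)))) (.node (.node (.node (.leaf 0x21d) (.leaf 0)) (.node (.leaf 0x100300d02241c) (.leaf 0))) (.node (.node (.leaf 0x301d00f15a) (.leaf 0)) (.node (.leaf 0x576) (.leaf 0)))))) (.node (.node (.node (.node (.node (.leaf 0x26) (.leaf 0)) (.node (.leaf 0x453) (.leaf 0))) (.node (.node (.leaf 0xe4) (.leaf 0)) (.node (.leaf 0x4029004516) (.leaf 0)))) (.node (.node (.node (.leaf 0x1d2) (.leaf 0)) (.node (.leaf 0x10030000050263a0) (.leaf 0))) (.node (.node (.leaf 0x13c) (.leaf 0)) (.node (.leaf 0x3002029005142) (.leaf 0))))) (.node (.node (.node (.node (.leaf 0x112) (.leaf 0)) (.node (.leaf 0x1e8) (.leaf 0))) (.node (.node (.leaf 0x367) (.leaf 0)) (.node (.leaf 0x37e) (.leaf 0)))) (.node (.node (.node (.leaf 0x266) (.leaf 0)) (.node (.leaf 0x1001001002008264) (.leaf 0))) (.node (.node (.leaf 0x100200401e02a410) (.leaf 0)) (.node (.leaf 0x1011009549) (.leaf 0))))))))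

/-- part of closing hints -/
def node0L0close25 : Trie :=
  (.node (.node (.node (.node (.node (.node (.node (.leaf 0xe) (.leaf 0x501c01b562)) (.node (.leaf 0x100000201603127d) (.leaf 0))) (.node (.node (.leaf 0x280) (.leaf 0)) (.node (.leaf 0x20030000100cf) (.leaf 0)))) (.node (.node (.node (.leaf 0x6b) (.leaf 0)) (.node (.leaf 0x4a1) (.leaf 0))) (.node (.node (.leaf 0x37a) (.leaf 0)) (.node (.leaf 0x554) (.leaf 0))))) (.node (.node (.node (.node (.leaf 0xbc) (.leaf 0)) (.node (.leaf 0x464) (.leaf 0))) (.node (.node (.leaf 0x2ee) (.leaf 0)) (.node (.leaf 0x301) (.leaf 0)))) (.node (.node (.node (.leaf 0x1ed) (.leaf 0)) (.node (.leaf 0x25e) (.leaf 0))) (.node (.node (.leaf 0x3df) (.leaf 0)) (.node (.leaf 0x56f) (.leaf 0)))))) (.node (.node (.node (.node (.node (.leaf 0x3c) (.leaf 0)) (.node (.leaf 0x100200101b0132c1) (.leaf 0))) (.node (.node (.leaf 0x2c5) (.leaf 0)) (.node (.leaf 0x100000300d014464) (.leaf 0)))) (.node (.node (.node (.leaf 0x10020050080140ed) (.leaf 0)) (.node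 (.leaf 0x4ba) (.leaf 0))) (.node (.node (.leaf 0x3b3) (.leaf 0)) (.node (.leaf 0x100300500001c4bb) (.leaf 0))))) (.node (.node (.node (.node (.leaf 0x10e) (.leaf 0)) (.node (.leaf 0x100000500600a37b) (.leaf 0))) (.node (.node (.leaf 0x2020029334) (.leaf 0)) (.node (.leaf 0x100500700049b) (.leaf 0)))) (.node (.node (.node (.leaf 0x23d) (.leaf 0)) (.node (.leaf 0x10030030140194c6) (.leaf 0))) (.node (.node (.leaf 0x100200500b0143fb) (.leaf 0)) (.node (.leaf 0x100100500b024418) (.leaf 0))))))) (.node (.node (.node (.node (.node (.node (.leaf 0x3c) (.leaf 0x200500803055b)) (.node (.leaf 0x100000001a0071b5) (.leaf 0))) (.node (.node (.leaf 0x1c1) (.leaf 0)) (.node (.leaf 0x100300100901445e) (.leaf 0)))) (.node (.node (.node (.leaf 0x17e) (.leaf 0)) (.node (.leaf 0x2d340) (.leaf 0))) (.node (.node (.leaf 0x345) (.leaf 0)) (.node (.leaf 0x50070160f8) (.leaf 0))))) (.node (.node (.node (.node (.leaf 0xe5) (.leaf 0)) (.node (.leaf 0x1c9) (.leaf 0))) (.node (.node (.leaf 0x100200500801430e)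 (.leaf 0)) (.node (.leaf 0x400500500b498) (.leaf 0)))) (.node (.node (.node (.leaf 0xa5) (.leaf 0)) (.node (.leaf 0x4005029031271) (.leaf 0))) (.node (.node (.leaf 0x100100302601d178) (.leaf 0)) (.node (.leaf 0x100300000503156b) (.leaf 0)))))) (.node (.node (.node (.node (.node (.leaf 0x93) (.leaf 0)) (.node (.leaf 0x31f) (.leaf 0))) (.node (.node (.leaf 0xd9) (.leaf 0)) (.node (.leaf 0x100400401c0101a1) (.leaf 0)))) (.node (.node (.node (.leaf 0x1c8) (.leaf 0)) (.node (.leaf 0x254) (.leaf 0))) (.node (.node (.leaf 0x3c7) (.leaf 0)) (.node (.leaf 0x100100500700e49c) (.leaf 0))))) (.node (.node (.node (.node (.leaf 0x134) (.leaf 0)) (.node (.leaf 0x100200500801448d) (.leaf 0))) (.node (.node (.leaf 0x10c) (.leaf 0)) (.node (.leaf 0x3c3) (.leaf 0)))) (.node (.node (.node (.leaf 0x25d) (.leaf 0)) (.node (.leaf 0x20040050222f4) (.leaf 0))) (.node (.node (.leaf 0x412) (.leaf 0)) (.node (.leaf 0x2601c3da) (.leaf 0))))))))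

/-- part of closing hints -/
def node0L0close57 : Trie :=
  (.node (.node (.node (.node (.node (.node (.node (.leaf 0x27) (.leaf 0x20010000004da)) (.node (.leaf 0x300302702d346) (.leaf 0))) (.node (.node (.leaf 0x30250180c6) (.leaf 0)) (.node (.leaf 0x2c6) (.leaf 0)))) (.node (.node (.node (.leaf 0xea) (.leaf 0)) (.node (.leaf 0x4aa) (.leaf 0))) (.node (.node (.leaf 0x141) (.leaf 0)) (.node (.leaf 0x100300500001c4e0) (.leaf 0))))) (.node (.node (.node (.node (.leaf 0xd0) (.leaf 0)) (.node (.leaf 0x10000000040042e0) (.leaf 0))) (.node (.node (.leaf 0x167) (.leaf 0)) (.node (.leaf 0x100300600030c) (.leaf 0)))) (.node (.node (.node (.leaf 0xa3) (.leaf 0)) (.node (.leaf 0x100000500200d4b7) (.leaf 0))) (.node (.node (.leaf 0x3ea) (.leaf 0)) (.node (.leaf 0x40090174ee) (.leaf 0)))))) (.node (.node (.node (.node (.node (.leaf 0x7d) (.leaf 0)) (.node (.leaf 0x445) (.leaf 0))) (.node (.node (.leaf 0x2dd) (.leaf 0)) (.node (.leaf 0x100400200c014331) (.leaf 0)))) (.node (.node (.node (.leaf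 0x100000501c01a) (.leaf 0)) (.node (.leaf 0x100100301f00541f) (.leaf 0))) (.node (.node (.leaf 0x330) (.leaf 0)) (.node (.leaf 0x100400202702726e) (.leaf 0))))) (.node (.node (.node (.node (.leaf 0x120) (.leaf 0)) (.node (.leaf 0x1001001000012337) (.leaf 0))) (.node (.node (.leaf 0x34c) (.leaf 0)) (.node (.leaf 0x300500300f38e) (.leaf 0)))) (.node (.node (.node (.leaf 0x209) (.leaf 0)) (.node (.leaf 0x100200501e0274bd) (.leaf 0))) (.node (.node (.leaf 0x405) (.leaf 0)) (.node (.leaf 0x300401401d480) (.leaf 0))))))) (.node (.node (.node (.node (.node (.node (.leaf 0x50) (.leaf 0x400f011552)) (.node (.leaf 0x1002006008402) (.leaf 0))) (.node (.node (.leaf 0x2b7) (.leaf 0)) (.node (.leaf 0x100400201b0184b9) (.leaf 0)))) (.node (.node (.node (.leaf 0x190) (.leaf 0)) (.node (.leaf 0x400400502b4a5) (.leaf 0))) (.node (.node (.leaf 0x10040050170251eb) (.leaf 0)) (.node (.leaf 0x3ae) (.leaf 0))))) (.node (.node (.node (.node (.leaf 0x3d) (.leaf 0)) (.node (.leaf 0x300401e01e1a5) (.leaf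 0))) (.node (.node (.leaf 0x400200800714c) (.leaf 0)) (.node (.leaf 0x324) (.leaf 0)))) (.node (.node (.node (.leaf 0x229) (.leaf 0)) (.node (.leaf 0x300301000034d) (.leaf 0))) (.node (.node (.leaf 0x100200300a01c2b4) (.leaf 0)) (.node (.leaf 0x2001024030105) (.leaf 0)))))) (.node (.node (.node (.node (.node (.leaf 0x25) (.leaf 0)) (.node (.leaf 0x1ae) (.leaf 0))) (.node (.node (.leaf 0x2f4) (.leaf 0)) (.node (.leaf 0x200201a01b1b6) (.leaf 0)))) (.node (.node (.node (.leaf 0x1d8) (.leaf 0)) (.node (.leaf 0x4cf) (.leaf 0))) (.node (.node (.leaf 0x38f) (.leaf 0)) (.node (.leaf 0x3ec) (.leaf 0))))) (.node (.node (.node (.node (.leaf 0x400400601c10f) (.leaf 0)) (.node (.leaf 0x1e8) (.leaf 0))) (.node (.node (.leaf 0x36f) (.leaf 0)) (.node (.leaf 0x1004000023010465) (.leaf 0)))) (.node (.node (.node (.leaf 0x300c01425a) (.leaf 0)) (.node (.leaf 0x289) (.leaf 0))) (.node (.node (.leaf 0x41b) (.leaf 0)) (.node (.leaf 0x100300202900457b) (.leaf 0))))))))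

/-- part of closing hints -/
def node0L0close5 : Trie :=
  (.node (.node (.node (.node (.node (.node (.node (.leaf 0x4) (.leaf 0x200401202c548)) (.node (.leaf 0x200301201d196) (.leaf 0))) (.node (.node (.leaf 0xd6) (.leaf 0)) (.node (.leaf 0x100300501202c476) (.leaf 0)))) (.node (.node (.node (.leaf 0x14c) (.leaf 0)) (.node (.leaf 0x1f1) (.leaf 0))) (.node (.node (.leaf 0x100400202600c24e) (.leaf 0)) (.node (.leaf 0x100400001602d547) (.leaf 0))))) (.node (.node (.node (.node (.leaf 0xad) (.leaf 0)) (.node (.leaf 0x45d) (.leaf 0))) (.node (.node (.leaf 0x2f8) (.leaf 0)) (.node (.leaf 0x10020020190103e6) (.leaf 0)))) (.node (.node (.node (.leaf 0x82) (.leaf 0)) (.node (.leaf 0x4d2) (.leaf 0))) (.node (.node (.leaf 0x3d4) (.leaf 0)) (.node (.leaf 0x200100c014455) (.leaf 0)))))) (.node (.node (.node (.node (.node (.leaf 0x58) (.leaf 0)) (.node (.leaf 0x192) (.leaf 0))) (.node (.node (.leaf 0x2bc) (.leaf 0)) (.node (.leaf 0x100300001300c516) (.leaf 0)))) (.node (.node (.node (.leaf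 0x156) (.leaf 0)) (.node (.leaf 0x300c02a4a0) (.leaf 0))) (.node (.node (.leaf 0x3a9) (.leaf 0)) (.node (.leaf 0x100400300500b45a) (.leaf 0))))) (.node (.node (.node (.node (.leaf 0xfe) (.leaf 0)) (.node (.leaf 0x200400802b3ae) (.leaf 0))) (.node (.node (.leaf 0x332) (.leaf 0)) (.node (.leaf 0x302502e3e5) (.leaf 0)))) (.node (.node (.node (.leaf 0x230) (.leaf 0)) (.node (.leaf 0x1002001029006487) (.leaf 0))) (.node (.node (.leaf 0x100200101b0132a5) (.leaf 0)) (.node (.leaf 0x200001d01548a) (.leaf 0))))))) (.node (.node (.node (.node (.node (.node (.leaf 0x1d) (.leaf 0x100100000f00157a)) (.node (.leaf 0x10020050030012dd) (.leaf 0))) (.node (.node (.leaf 0x29b) (.leaf 0)) (.node (.leaf 0x46e) (.leaf 0)))) (.node (.node (.node (.leaf 0x172) (.leaf 0)) (.node (.leaf 0x4ae) (.leaf 0))) (.node (.node (.leaf 0x100400400601c321) (.leaf 0)) (.node (.leaf 0x100402701c467) (.leaf 0))))) (.node (.node (.node (.node (.leaf 0xd8) (.leaf 0)) (.node (.leaf 0xd0) (.leaf 0))) (.node (.node (.leaf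 0x315) (.leaf 0)) (.node (.leaf 0x300001601f309) (.leaf 0)))) (.node (.node (.node (.leaf 0x209) (.leaf 0)) (.node (.leaf 0x100100100602b262) (.leaf 0))) (.node (.node (.leaf 0x3f2) (.leaf 0)) (.node (.leaf 0x200502601d572) (.leaf 0)))))) (.node (.node (.node (.node (.node (.leaf 0x86) (.leaf 0)) (.node (.leaf 0x448) (.leaf 0))) (.node (.node (.leaf 0x301d00f27e) (.leaf 0)) (.node (.leaf 0x2e2) (.leaf 0)))) (.node (.node (.node (.leaf 0x1bf) (.leaf 0)) (.node (.leaf 0x4c4) (.leaf 0))) (.node (.node (.leaf 0x135) (.leaf 0)) (.node (.leaf 0x2004010000198) (.leaf 0))))) (.node (.node (.node (.node (.leaf 0x54) (.leaf 0)) (.node (.leaf 0x1e1) (.leaf 0))) (.node (.node (.leaf 0x3003014254) (.leaf 0)) (.node (.leaf 0x3c2) (.leaf 0)))) (.node (.node (.node (.leaf 0x253) (.leaf 0)) (.node (.leaf 0x200f0132cc) (.leaf 0))) (.node (.node (.leaf 0x311) (.leaf 0)) (.node (.leaf 0x100000501d0134c4) (.leaf 0))))))))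

/-- part of closing hints -/
def node0L0close37 : Trie :=
  (.node (.node (.node (.node (.node (.node (.node (.leaf 0x18) (.leaf 0x4e2)) (.node (.leaf 0x17f) (.leaf 0))) (.node (.node (.leaf 0x287) (.leaf 0)) (.node (.leaf 0x50d) (.leaf 0)))) (.node (.node (.node (.leaf 0x15d) (.leaf 0)) (.node (.leaf 0x100000000401437f) (.leaf 0))) (.node (.node (.leaf 0x2020029113) (.leaf 0)) (.node (.leaf 0x100200501900249e) (.leaf 0))))) (.node (.node (.node (.node (.leaf 0x30) (.leaf 0)) (.node (.leaf 0x468) (.leaf 0))) (.node (.node (.leaf 0x308) (.leaf 0)) (.node (.leaf 0x100000300d014432) (.leaf 0)))) (.node (.node (.node (.leaf 0x1f5) (.leaf 0)) (.node (.leaf 0x23a) (.leaf 0))) (.node (.node (.leaf 0x14a) (.leaf 0)) (.node (.leaf 0x100400400700a1cd) (.leaf 0)))))) (.node (.node (.node (.node (.node (.leaf 0x6f) (.leaf 0)) (.node (.leaf 0x4028022388) (.leaf 0))) (.node (.node (.leaf 0x200301b000068) (.leaf 0)) (.node (.leaf 0x20010240244db) (.leaf 0)))) (.node (.node (.node (.leaf 0x70)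 (.leaf 0)) (.node (.leaf 0x1001000001030099) (.leaf 0))) (.node (.node (.leaf 0x132) (.leaf 0)) (.node (.leaf 0x3bb) (.leaf 0))))) (.node (.node (.node (.node (.leaf 0x114) (.leaf 0)) (.node (.leaf 0x100000502101f1fd) (.leaf 0))) (.node (.node (.leaf 0x341) (.leaf 0)) (.node (.leaf 0x54a) (.leaf 0)))) (.node (.node (.node (.leaf 0x242) (.leaf 0)) (.node (.leaf 0x4df) (.leaf 0))) (.node (.node (.leaf 0x401) (.leaf 0)) (.node (.leaf 0x100300500b00555f) (.leaf 0))))))) (.node (.node (.node (.node (.node (.node (.leaf 0x42) (.leaf 0x532)) (.node (.leaf 0x42b) (.leaf 0))) (.node (.node (.leaf 0xc9) (.leaf 0)) (.node (.leaf 0x100000500f0032fa) (.leaf 0)))) (.node (.node (.node (.leaf 0x187) (.leaf 0)) (.node (.leaf 0x300500900f2b9) (.leaf 0))) (.node (.node (.leaf 0x39a) (.leaf 0)) (.node (.leaf 0x100200100e02051b) (.leaf 0))))) (.node (.node (.node (.node (.leaf 0x18) (.leaf 0)) (.node (.leaf 0x1cc) (.leaf 0))) (.node (.node (.leaf 0x320) (.leaf 0)) (.node (.leaf 0x20040050223f3) (.leaf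 0)))) (.node (.node (.node (.leaf 0x21b) (.leaf 0)) (.node (.leaf 0x4ec) (.leaf 0))) (.node (.node (.leaf 0x159) (.leaf 0)) (.node (.leaf 0x100200101801d4ad) (.leaf 0)))))) (.node (.node (.node (.node (.node (.leaf 0x2004000000012) (.leaf 0)) (.node (.leaf 0x10020050080143d9) (.leaf 0))) (.node (.node (.leaf 0x1c8) (.leaf 0)) (.node (.leaf 0x400000e0300d2) (.leaf 0)))) (.node (.node (.node (.leaf 0x1cf) (.leaf 0)) (.node (.leaf 0x226) (.leaf 0))) (.node (.node (.leaf 0x40030190282dd) (.leaf 0)) (.node (.leaf 0x3f2) (.leaf 0))))) (.node (.node (.node (.node (.leaf 0x1002005008014128) (.leaf 0)) (.node (.leaf 0x10000050050313c3) (.leaf 0))) (.node (.node (.leaf 0x10f) (.leaf 0)) (.node (.leaf 0x35d) (.leaf 0)))) (.node (.node (.node (.leaf 0x263) (.leaf 0)) (.node (.leaf 0x10030040240314d8) (.leaf 0))) (.node (.node (.leaf 0x414) (.leaf 0)) (.node (.leaf 0x100200400d002556) (.leaf 0))))))))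

/-- part of closing hints -/
def node0L0close21 : Trie :=
  (.node (.node (.node (.node (.node (.node (.node (.leaf 0x0) (.leaf 0x100100301b0031c0)) (.node (.leaf 0x300302702d399) (.leaf 0))) (.node (.node (.leaf 0x27d) (.leaf 0)) (.node (.leaf 0x10040020290213ce) (.leaf 0)))) (.node (.node (.node (.leaf 0x153) (.leaf 0)) (.node (.leaf 0x2003001010151) (.leaf 0))) (.node (.node (.leaf 0x100400202600c24a) (.leaf 0)) (.node (.leaf 0x400300b01b474) (.leaf 0))))) (.node (.node (.node (.node (.leaf 0xb8) (.leaf 0)) (.node (.leaf 0x463) (.leaf 0))) (.node (.node (.leaf 0x2f1) (.leaf 0)) (.node (.leaf 0x10000030180192e5) (.leaf 0)))) (.node (.node (.node (.leaf 0x1ea) (.leaf 0)) (.node (.leaf 0x301a00c4c2) (.leaf 0))) (.node (.node (.leaf 0x3dd) (.leaf 0)) (.node (.leaf 0x10030180294c9) (.leaf 0)))))) (.node (.node (.node (.node (.node (.leaf 0x64) (.leaf 0)) (.node (.leaf 0x100400300d01b1f7) (.leaf 0))) (.node (.node (.leaf 0x2c2) (.leaf 0)) (.node (.leaf 0x527) (.leaf 0)))) (.node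 (.node (.node (.leaf 0x1a4) (.leaf 0)) (.node (.leaf 0x251) (.leaf 0))) (.node (.node (.leaf 0x3b0) (.leaf 0)) (.node (.leaf 0x100200500d01a4f8) (.leaf 0))))) (.node (.node (.node (.node (.leaf 0x10b) (.leaf 0)) (.node (.leaf 0x100300502902b43d) (.leaf 0))) (.node (.node (.leaf 0x339) (.leaf 0)) (.node (.leaf 0x10020010290063a7) (.leaf 0)))) (.node (.node (.node (.leaf 0x23a) (.leaf 0)) (.node (.leaf 0x100000202101643b) (.leaf 0))) (.node (.node (.leaf 0x3fb) (.leaf 0)) (.node (.leaf 0x4004028000539) (.leaf 0))))))) (.node (.node (.node (.node (.node (.node (.leaf 0x39) (.leaf 0x510)) (.node (.leaf 0x300200001a168) (.leaf 0))) (.node (.node (.leaf 0x1000000004004272) (.leaf 0)) (.node (.leaf 0x400300100650f) (.leaf 0)))) (.node (.node (.node (.leaf 0xef) (.leaf 0)) (.node (.leaf 0x4003027031284) (.leaf 0))) (.node (.node (.leaf 0x397) (.leaf 0)) (.node (.leaf 0x10050150224f1) (.leaf 0))))) (.node (.node (.node (.node (.leaf 0x37) (.leaf 0)) (.node (.leaf 0x475) (.leaf 0))) (.node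 (.node (.leaf 0x100400402800e1a7) (.leaf 0)) (.node (.leaf 0x1004004001007395) (.leaf 0)))) (.node (.node (.node (.leaf 0x211) (.leaf 0)) (.node (.leaf 0x10000030230204cf) (.leaf 0))) (.node (.node (.leaf 0x154) (.leaf 0)) (.node (.leaf 0x575) (.leaf 0)))))) (.node (.node (.node (.node (.node (.leaf 0x90) (.leaf 0)) (.node (.leaf 0x1b1) (.leaf 0))) (.node (.node (.leaf 0x2e6) (.leaf 0)) (.node (.leaf 0x475) (.leaf 0)))) (.node (.node (.node (.leaf 0xd2) (.leaf 0)) (.node (.leaf 0x102800f2b4) (.leaf 0))) (.node (.node (.leaf 0x100400000d02c27f) (.leaf 0)) (.node (.leaf 0x3d5) (.leaf 0))))) (.node (.node (.node (.node (.leaf 0x2008014024) (.leaf 0)) (.node (.leaf 0x1001000028000240) (.leaf 0))) (.node (.node (.leaf 0x10a) (.leaf 0)) (.node (.leaf 0x54d) (.leaf 0)))) (.node (.node (.node (.leaf 0x22c) (.leaf 0)) (.node (.leaf 0x400401200f3c8) (.leaf 0))) (.node (.node (.leaf 0x410) (.leaf 0)) (.node (.leaf 0x100000500200d4aa) (.leaf 0))))))))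

/-- part of closing hints -/
def node0L0close53 : Trie :=
  (.node (.node (.node (.node (.node (.node (.node (.leaf 0x9) (.leaf 0x4001000019519)) (.node (.leaf 0x427) (.leaf 0))) (.node (.node (.leaf 0x100400501d0180ce) (.leaf 0)) (.node (.leaf 0x29c) (.leaf 0)))) (.node (.node (.node (.leaf 0x168) (.leaf 0)) (.node (.leaf 0x4a7) (.leaf 0))) (.node (.node (.leaf 0x38b) (.leaf 0)) (.node (.leaf 0x100100400a02a496) (.leaf 0))))) (.node (.node (.node (.node (.leaf 0xcd) (.leaf 0)) (.node (.leaf 0x10030010203ef) (.leaf 0))) (.node (.node (.leaf 0x30d) (.leaf 0)) (.node (.leaf 0x200100c014455) (.leaf 0)))) (.node (.node (.node (.leaf 0x100000100e02f183) (.leaf 0)) (.node (.leaf 0x4e2) (.leaf 0))) (.node (.node (.leaf 0x3e7) (.leaf 0)) (.node (.leaf 0x417) (.leaf 0)))))) (.node (.node (.node (.node (.node (.leaf 0x7a) (.leaf 0)) (.node (.leaf 0x1a0) (.leaf 0))) (.node (.node (.leaf 0x2da) (.leaf 0)) (.node (.leaf 0x100300000801e51c) (.leaf 0)))) (.node (.node (.node (.leaf 0x1b8) (.leaf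 0)) (.node (.leaf 0x1001005018005406) (.leaf 0))) (.node (.node (.leaf 0x3bc) (.leaf 0)) (.node (.leaf 0x100200000602d4b7) (.leaf 0))))) (.node (.node (.node (.node (.leaf 0x47) (.leaf 0)) (.node (.leaf 0x100100302301c1cf) (.leaf 0))) (.node (.node (.leaf 0x34a) (.leaf 0)) (.node (.leaf 0x100100100602b3e3) (.leaf 0)))) (.node (.node (.node (.leaf 0x24c) (.leaf 0)) (.node (.leaf 0x26c) (.leaf 0))) (.node (.node (.leaf 0x168) (.leaf 0)) (.node (.leaf 0x100100001d01a579) (.leaf 0))))))) (.node (.node (.node (.node (.node (.node (.leaf 0x10) (.leaf 0x200501600045d)) (.node (.leaf 0x1002006008403) (.leaf 0))) (.node (.node (.leaf 0x100000301f00e033) (.leaf 0)) (.node (.leaf 0x100100301001d514) (.leaf 0)))) (.node (.node (.node (.leaf 0x68) (.leaf 0)) (.node (.leaf 0x200302302a4a4) (.leaf 0))) (.node (.node (.leaf 0x3a2) (.leaf 0)) (.node (.leaf 0x3ab) (.leaf 0))))) (.node (.node (.node (.node (.leaf 0xf5) (.leaf 0)) (.node (.leaf 0x300200e01e453) (.leaf 0))) (.node (.node (.leaf 0xf7)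 (.leaf 0)) (.node (.leaf 0x100100e00e540) (.leaf 0)))) (.node (.node (.node (.leaf 0x226) (.leaf 0)) (.node (.leaf 0x300301439f) (.leaf 0))) (.node (.node (.leaf 0x3f8) (.leaf 0)) (.node (.leaf 0x100200400802f565) (.leaf 0)))))) (.node (.node (.node (.node (.node (.leaf 0x28) (.leaf 0)) (.node (.leaf 0x459) (.leaf 0))) (.node (.node (.leaf 0x100100101d00a0d3) (.leaf 0)) (.node (.leaf 0x100100100e020508) (.leaf 0)))) (.node (.node (.node (.leaf 0x100100501100d096) (.leaf 0)) (.node (.leaf 0x300301e0254b0) (.leaf 0))) (.node (.node (.leaf 0x140) (.leaf 0)) (.node (.leaf 0x100300200602b182) (.leaf 0))))) (.node (.node (.node (.node (.leaf 0x142) (.leaf 0)) (.node (.leaf 0x1000005000008360) (.leaf 0))) (.node (.node (.leaf 0x100400000d02c2df) (.leaf 0)) (.node (.leaf 0x3c7) (.leaf 0)))) (.node (.node (.node (.leaf 0x300302200c13e) (.leaf 0)) (.node (.leaf 0x1004003006288) (.leaf 0))) (.node (.node (.leaf 0x174) (.leaf 0)) (.node (.leaf 0x4000023006563) (.leaf 0))))))))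

/-- part of closing hints -/
def node0L0close13 : Trie :=
  (.node (.node (.node (.node (.node (.node (.node (.leaf 0x9) (.leaf 0x4ba)) (.node (.leaf 0x100000201603127a) (.leaf 0))) (.node (.node (.leaf 0xb4) (.leaf 0)) (.node (.leaf 0x1004003006286) (.leaf 0)))) (.node (.node (.node (.leaf 0x14f) (.leaf 0)) (.node (.leaf 0x49c) (.leaf 0))) (.node (.node (.leaf 0x100400000d02c272) (.leaf 0)) (.node (.leaf 0x10040020090113b1) (.leaf 0))))) (.node (.node (.node (.node (.leaf 0xb2) (.leaf 0)) (.node (.leaf 0x100500d0150df) (.leaf 0))) (.node (.node (.leaf 0x100001f01f232) (.leaf 0)) (.node (.leaf 0x100300501852d) (.leaf 0)))) (.node (.node (.node (.leaf 0x1e6) (.leaf 0)) (.node (.leaf 0x4d5) (.leaf 0))) (.node (.node (.leaf 0x3d9) (.leaf 0)) (.node (.leaf 0x400402802d126) (.leaf 0)))))) (.node (.node (.node (.node (.node (.leaf 0x19) (.leaf 0)) (.node (.leaf 0x43a) (.leaf 0))) (.node (.node (.leaf 0x2bf) (.leaf 0)) (.node (.leaf 0x525) (.leaf 0)))) (.node (.node (.node (.leaf 0x19d)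 (.leaf 0)) (.node (.leaf 0x4b4) (.leaf 0))) (.node (.node (.leaf 0x147) (.leaf 0)) (.node (.leaf 0x55f) (.leaf 0))))) (.node (.node (.node (.node (.leaf 0x104) (.leaf 0)) (.node (.leaf 0x483) (.leaf 0))) (.node (.node (.leaf 0x336) (.leaf 0)) (.node (.leaf 0x545) (.leaf 0)))) (.node (.node (.node (.leaf 0x234) (.leaf 0)) (.node (.leaf 0x259) (.leaf 0))) (.node (.node (.leaf 0x3f9) (.leaf 0)) (.node (.leaf 0x30040090014ad) (.leaf 0))))))) (.node (.node (.node (.node (.node (.node (.leaf 0xc) (.leaf 0x100200400502b579)) (.node (.leaf 0x100100202702a414) (.leaf 0))) (.node (.node (.leaf 0xcf) (.leaf 0)) (.node (.leaf 0x2a6) (.leaf 0)))) (.node (.node (.node (.leaf 0x178) (.leaf 0)) (.node (.leaf 0x2d33d) (.leaf 0))) (.node (.node (.leaf 0x33b) (.leaf 0)) (.node (.leaf 0x55a) (.leaf 0))))) (.node (.node (.node (.node (.leaf 0x7c) (.leaf 0)) (.node (.leaf 0x1c6) (.leaf 0))) (.node (.node (.leaf 0x100400401c00c24a) (.leaf 0)) (.node (.leaf 0x18c) (.leaf 0)))) (.node (.node (.node (.leaf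 0x100000102000e09f) (.leaf 0)) (.node (.leaf 0x100400b01d3bb) (.leaf 0))) (.node (.node (.leaf 0x15c) (.leaf 0)) (.node (.leaf 0x423) (.leaf 0)))))) (.node (.node (.node (.node (.node (.leaf 0x8b) (.leaf 0)) (.node (.leaf 0x1b2) (.leaf 0))) (.node (.node (.leaf 0x20010270161fb) (.leaf 0)) (.node (.leaf 0x500700b511) (.leaf 0)))) (.node (.node (.node (.leaf 0xc6) (.leaf 0)) (.node (.leaf 0x300302702d2b1) (.leaf 0))) (.node (.node (.leaf 0x3c2) (.leaf 0)) (.node (.leaf 0x39c) (.leaf 0))))) (.node (.node (.node (.node (.leaf 0x4a) (.leaf 0)) (.node (.leaf 0x100400000c01046f) (.leaf 0))) (.node (.node (.leaf 0x138) (.leaf 0)) (.node (.leaf 0x100100500001c358) (.leaf 0)))) (.node (.node (.node (.leaf 0x257) (.leaf 0)) (.node (.leaf 0x1001000027027408) (.leaf 0))) (.node (.node (.leaf 0x16b) (.leaf 0)) (.node (.leaf 0x1002000027021566) (.leaf 0))))))))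

/-- part of closing hints -/
def node0L0close45 : Trie :=
  (.node (.node (.node (.node (.node (.node (.node (.leaf 0xa) (.leaf 0x100000100501c300)) (.node (.leaf 0x17e) (.leaf 0))) (.node (.node (.leaf 0x100200400101c19e) (.leaf 0)) (.node (.leaf 0x46d) (.leaf 0)))) (.node (.node (.node (.leaf 0x5c) (.leaf 0)) (.node (.leaf 0x400201a00d350) (.leaf 0))) (.node (.node (.leaf 0x385) (.leaf 0)) (.node (.leaf 0x400201801f3bc) (.leaf 0))))) (.node (.node (.node (.node (.leaf 0xc8) (.leaf 0)) (.node (.leaf 0xbb) (.leaf 0))) (.node (.node (.leaf 0x400300b01028c) (.leaf 0)) (.node (.leaf 0x100000402702c2cb) (.leaf 0)))) (.node (.node (.node (.leaf 0x1fa) (.leaf 0)) (.node (.leaf 0x239) (.leaf 0))) (.node (.node (.leaf 0x100100200201a06c) (.leaf 0)) (.node (.leaf 0x30050210182e9) (.leaf 0)))))) (.node (.node (.node (.node (.node (.leaf 0x75) (.leaf 0)) (.node (.leaf 0x100200301101f173) (.leaf 0))) (.node (.node (.leaf 0x2d4) (.leaf 0)) (.node (.leaf 0x400500500b3c2) (.leaf 0)))) (.node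 (.node (.node (.leaf 0x1b2) (.leaf 0)) (.node (.leaf 0x215) (.leaf 0))) (.node (.node (.leaf 0x3b9) (.leaf 0)) (.node (.leaf 0x300000702d528) (.leaf 0))))) (.node (.node (.node (.node (.leaf 0x118) (.leaf 0)) (.node (.leaf 0x100000000e0062d0) (.leaf 0))) (.node (.node (.leaf 0x346) (.leaf 0)) (.node (.leaf 0x100000500800835e) (.leaf 0)))) (.node (.node (.node (.leaf 0x1fa) (.leaf 0)) (.node (.leaf 0x4f5) (.leaf 0))) (.node (.node (.leaf 0x100200400101c0da) (.leaf 0)) (.node (.leaf 0x4004028000531) (.leaf 0))))))) (.node (.node (.node (.node (.node (.node (.leaf 0x48) (.leaf 0x53b)) (.node (.leaf 0x319) (.leaf 0))) (.node (.node (.leaf 0xc4) (.leaf 0)) (.node (.leaf 0x100400000201b2b5) (.leaf 0)))) (.node (.node (.node (.leaf 0x16e) (.leaf 0)) (.node (.leaf 0x40030270312e6) (.leaf 0))) (.node (.node (.leaf 0x100200002002e381) (.leaf 0)) (.node (.leaf 0x3001020027367) (.leaf 0))))) (.node (.node (.node (.node (.leaf 0x3b) (.leaf 0)) (.node (.leaf 0x47c) (.leaf 0))) (.node (.node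 (.leaf 0x73) (.leaf 0)) (.node (.leaf 0x457) (.leaf 0)))) (.node (.node (.node (.leaf 0x400400601c1e7) (.leaf 0)) (.node (.leaf 0x4c0) (.leaf 0))) (.node (.node (.leaf 0x3f5) (.leaf 0)) (.node (.leaf 0x300000e02b122) (.leaf 0)))))) (.node (.node (.node (.node (.node (.leaf 0x22) (.leaf 0)) (.node (.leaf 0x456) (.leaf 0))) (.node (.node (.leaf 0x2f0) (.leaf 0)) (.node (.leaf 0x2f5) (.leaf 0)))) (.node (.node (.node (.leaf 0x100100000300008b) (.leaf 0)) (.node (.leaf 0x10000020220021ef) (.leaf 0))) (.node (.node (.leaf 0x11b) (.leaf 0)) (.node (.leaf 0x300000402e500) (.leaf 0))))) (.node (.node (.node (.node (.leaf 0x13e) (.leaf 0)) (.node (.leaf 0x1eb) (.leaf 0))) (.node (.node (.leaf 0x10e) (.leaf 0)) (.node (.leaf 0x300402100b34b) (.leaf 0)))) (.node (.node (.node (.leaf 0x1ba) (.leaf 0)) (.node (.leaf 0x400000f00b2fc) (.leaf 0))) (.node (.node (.leaf 0x10010210203d8) (.leaf 0)) (.node (.leaf 0x4a9) (.leaf 0))))))))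

/-- part of closing hints -/
def node0L0close29 : Trie :=
  (.node (.node (.node (.node (.node (.node (.node (.leaf 0x11) (.leaf 0x100400300500b536)) (.node (.leaf 0x100100301f014049) (.leaf 0))) (.node (.node (.leaf 0x283) (.leaf 0)) (.node (.leaf 0x100400201c0303ee) (.leaf 0)))) (.node (.node (.node (.leaf 0x158) (.leaf 0)) (.node (.leaf 0x4a3) (.leaf 0))) (.node (.node (.leaf 0x13d) (.leaf 0)) (.node (.leaf 0x100300300600c1d8) (.leaf 0))))) (.node (.node (.node (.node (.leaf 0xbf) (.leaf 0)) (.node (.leaf 0x465) (.leaf 0))) (.node (.node (.leaf 0x40230ca) (.leaf 0)) (.node (.leaf 0x2f0) (.leaf 0)))) (.node (.node (.node (.leaf 0x9e) (.leaf 0)) (.node (.leaf 0x100400200500310b) (.leaf 0))) (.node (.node (.leaf 0x131) (.leaf 0)) (.node (.leaf 0x50200024fb) (.leaf 0)))))) (.node (.node (.node (.node (.node (.leaf 0x100000201a064) (.leaf 0)) (.node (.leaf 0x155) (.leaf 0))) (.node (.node (.leaf 0x2c8) (.leaf 0)) (.node (.leaf 0x1002000008011312) (.leaf 0)))) (.node (.node (.node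 (.leaf 0xf5) (.leaf 0)) (.node (.leaf 0x1004005017018494) (.leaf 0))) (.node (.node (.leaf 0x400400601c35f) (.leaf 0)) (.node (.leaf 0x3e2) (.leaf 0))))) (.node (.node (.node (.node (.leaf 0x43) (.leaf 0)) (.node (.leaf 0x100200201000e3aa) (.leaf 0))) (.node (.node (.leaf 0x122) (.leaf 0)) (.node (.leaf 0x33c) (.leaf 0)))) (.node (.node (.node (.leaf 0x100100501100d09a) (.leaf 0)) (.node (.leaf 0x100200501e01d47d) (.leaf 0))) (.node (.node (.leaf 0x3fd) (.leaf 0)) (.node (.leaf 0x10020010290062f9) (.leaf 0))))))) (.node (.node (.node (.node (.node (.node (.leaf 0x100200300a000015) (.leaf 0x100200501500e3f5)) (.node (.leaf 0x100200401e02a410) (.leaf 0))) (.node (.node (.leaf 0x2a9) (.leaf 0)) (.node (.leaf 0x20050120053d0) (.leaf 0)))) (.node (.node (.node (.leaf 0x182) (.leaf 0)) (.node (.leaf 0x200202301c07b) (.leaf 0))) (.node (.node (.leaf 0x342) (.leaf 0)) (.node (.leaf 0x55b) (.leaf 0))))) (.node (.node (.node (.node (.leaf 0x100300301600001c) (.leaf 0)) (.node (.leaf 0x476)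 (.leaf 0))) (.node (.node (.leaf 0x31d) (.leaf 0)) (.node (.leaf 0x100400300d01b1fa) (.leaf 0)))) (.node (.node (.node (.leaf 0x100400400601c0e0) (.leaf 0)) (.node (.leaf 0x24c) (.leaf 0))) (.node (.node (.leaf 0x100c02a248) (.leaf 0)) (.node (.leaf 0x1004002006004567) (.leaf 0)))))) (.node (.node (.node (.node (.node (.leaf 0x96) (.leaf 0)) (.node (.leaf 0x400500a0161b7) (.leaf 0))) (.node (.node (.leaf 0x2e8) (.leaf 0)) (.node (.leaf 0x2ec) (.leaf 0)))) (.node (.node (.node (.leaf 0x10020050080140c3) (.leaf 0)) (.node (.leaf 0x257) (.leaf 0))) (.node (.node (.leaf 0x13a) (.leaf 0)) (.node (.leaf 0x100100001a0203d6) (.leaf 0))))) (.node (.node (.node (.node (.leaf 0x136) (.leaf 0)) (.node (.leaf 0x1e6) (.leaf 0))) (.node (.node (.leaf 0x361) (.leaf 0)) (.node (.leaf 0x3c6) (.leaf 0)))) (.node (.node (.node (.leaf 0x23b) (.leaf 0)) (.node (.leaf 0x100000100400040a) (.leaf 0))) (.node (.node (.leaf 0x3000005006291) (.leaf 0)) (.node (.leaf 0x100400501f01f54d) (.leaf 0))))))))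

/-- part of closing hints -/
def node0L0close61 : Trie :=
  (.node (.node (.node (.node (.node (.node (.node (.leaf 0x2a) (.leaf 0x4f6)) (.node (.leaf 0x100200500300126e) (.leaf 0))) (.node (.node (.leaf 0x294) (.leaf 0)) (.node (.leaf 0x2005008005289) (.leaf 0)))) (.node (.node (.node (.leaf 0x67) (.leaf 0)) (.node (.leaf 0x248) (.leaf 0))) (.node (.node (.leaf 0x391) (.leaf 0)) (.node (.leaf 0x100502300944c) (.leaf 0))))) (.node (.node (.node (.node (.leaf 0x34) (.leaf 0)) (.node (.leaf 0x46e) (.leaf 0))) (.node (.node (.leaf 0x310) (.leaf 0)) (.node (.leaf 0x30d) (.leaf 0)))) (.node (.node (.node (.leaf 0x202) (.leaf 0)) (.node (.leaf 0x10010000280001e6) (.leaf 0))) (.node (.node (.leaf 0x14f) (.leaf 0)) (.node (.leaf 0x400001c01b184) (.leaf 0)))))) (.node (.node (.node (.node (.node (.leaf 0x100200300a000075) (.leaf 0)) (.node (.leaf 0x100100301300629b) (.leaf 0))) (.node (.node (.leaf 0x4003027031203) (.leaf 0)) (.node (.leaf 0x52b) (.leaf 0)))) (.node (.node (.node (.leaf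 0x1bb) (.leaf 0)) (.node (.leaf 0x400000400d30b) (.leaf 0))) (.node (.node (.leaf 0x104) (.leaf 0)) (.node (.leaf 0x564) (.leaf 0))))) (.node (.node (.node (.node (.leaf 0x123) (.leaf 0)) (.node (.leaf 0x1d9) (.leaf 0))) (.node (.node (.leaf 0x106) (.leaf 0)) (.node (.leaf 0x10000010130264de) (.leaf 0)))) (.node (.node (.node (.leaf 0x208) (.leaf 0)) (.node (.leaf 0x200001b02840e) (.leaf 0))) (.node (.node (.leaf 0x100000300d014291) (.leaf 0)) (.node (.leaf 0x20010240244cb) (.leaf 0))))))) (.node (.node (.node (.node (.node (.node (.leaf 0x13) (.leaf 0x1001002004000550)) (.node (.leaf 0x4000013002071) (.leaf 0))) (.node (.node (.leaf 0x100100500102f187) (.leaf 0)) (.node (.leaf 0x300100a00042e) (.leaf 0)))) (.node (.node (.node (.leaf 0x193) (.leaf 0)) (.node (.leaf 0x100000102000e1ed) (.leaf 0))) (.node (.node (.leaf 0x400002502615b) (.leaf 0)) (.node (.leaf 0x100300000400e0a0) (.leaf 0))))) (.node (.node (.node (.node (.leaf 0xf9) (.leaf 0)) (.node (.leaf 0x400300b01046a) (.leaf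 0))) (.node (.node (.leaf 0x32e) (.leaf 0)) (.node (.leaf 0x462) (.leaf 0)))) (.node (.node (.node (.leaf 0x97) (.leaf 0)) (.node (.leaf 0x498) (.leaf 0))) (.node (.node (.leaf 0x10010050060021f6) (.leaf 0)) (.node (.leaf 0x100402102853f) (.leaf 0)))))) (.node (.node (.node (.node (.node (.leaf 0xa9) (.leaf 0)) (.node (.leaf 0x100001f01f3df) (.leaf 0))) (.node (.node (.leaf 0xdf) (.leaf 0)) (.node (.leaf 0x40030270310e7) (.leaf 0)))) (.node (.node (.node (.leaf 0x93) (.leaf 0)) (.node (.leaf 0x4d0) (.leaf 0))) (.node (.node (.leaf 0x30030100001ec) (.leaf 0)) (.node (.leaf 0x200400100d41a) (.leaf 0))))) (.node (.node (.node (.node (.leaf 0x147) (.leaf 0)) (.node (.leaf 0x1000005005031358) (.leaf 0))) (.node (.node (.leaf 0x372) (.leaf 0)) (.node (.leaf 0x367) (.leaf 0)))) (.node (.node (.node (.leaf 0x270) (.leaf 0)) (.node (.leaf 0x100200102902d16b) (.leaf 0))) (.node (.node (.leaf 0x4009017214) (.leaf 0)) (.node (.leaf 0x1004004008003521) (.leaf 0))))))))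

/-- part of closing hints -/
def node0L0close3 : Trie :=
  (.node (.node (.node (.node (.node (.node (.node (.leaf 0x3) (.leaf 0x1000002019028574)) (.node (.leaf 0x420) (.leaf 0))) (.node (.node (.leaf 0x275) (.leaf 0)) (.node (.leaf 0x100300501202c478) (.leaf 0)))) (.node (.node (.node (.leaf 0x14b) (.leaf 0)) (.node (.leaf 0x100000100601e3a4) (.leaf 0))) (.node (.node (.leaf 0x13c) (.leaf 0)) (.node (.leaf 0x100300500702a546) (.leaf 0))))) (.node (.node (.node (.node (.leaf 0x2001028000008) (.leaf 0)) (.node (.leaf 0x1002005012012444) (.leaf 0))) (.node (.node (.leaf 0xe0) (.leaf 0)) (.node (.leaf 0x100000502501a05e) (.leaf 0)))) (.node (.node (.node (.leaf 0x1df) (.leaf 0)) (.node (.leaf 0x4d1) (.leaf 0))) (.node (.node (.leaf 0x3d3) (.leaf 0)) (.node (.leaf 0x10030000120104c1) (.leaf 0)))))) (.node (.node (.node (.node (.node (.leaf 0x57) (.leaf 0)) (.node (.leaf 0x100300002806f) (.leaf 0))) (.node (.node (.leaf 0x100201401d273) (.leaf 0)) (.node (.leaf 0x523) (.leaf 0))))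 (.node (.node (.node (.leaf 0x197) (.leaf 0)) (.node (.leaf 0x1f5) (.leaf 0))) (.node (.node (.leaf 0x3a8) (.leaf 0)) (.node (.leaf 0x100100401c01812c) (.leaf 0))))) (.node (.node (.node (.node (.leaf 0x48) (.leaf 0)) (.node (.leaf 0x1d2) (.leaf 0))) (.node (.node (.leaf 0x331) (.leaf 0)) (.node (.leaf 0x100500102f2c0) (.leaf 0)))) (.node (.node (.node (.leaf 0x22e) (.leaf 0)) (.node (.leaf 0x10020030110204e3) (.leaf 0))) (.node (.node (.leaf 0x19b) (.leaf 0)) (.node (.leaf 0x100200302300b4ae) (.leaf 0))))))) (.node (.node (.node (.node (.node (.node (.leaf 0x2d) (.leaf 0x100201701751d)) (.node (.leaf 0x10020050030012de) (.leaf 0))) (.node (.node (.leaf 0x299) (.leaf 0)) (.node (.leaf 0x100000301e0143b9) (.leaf 0)))) (.node (.node (.node (.leaf 0xed) (.leaf 0)) (.node (.leaf 0x100100501d020365) (.leaf 0))) (.node (.node (.leaf 0x1001023000092) (.leaf 0)) (.node (.leaf 0x100400101f02c409) (.leaf 0))))) (.node (.node (.node (.node (.leaf 0xd7) (.leaf 0)) (.node (.leaf 0x3003006015332)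 (.leaf 0))) (.node (.node (.leaf 0x314) (.leaf 0)) (.node (.leaf 0x448) (.leaf 0)))) (.node (.node (.node (.leaf 0x207) (.leaf 0)) (.node (.leaf 0x100100100602b4e1) (.leaf 0))) (.node (.node (.leaf 0x3f0) (.leaf 0)) (.node (.leaf 0x200400d007186) (.leaf 0)))))) (.node (.node (.node (.node (.node (.leaf 0x84) (.leaf 0)) (.node (.leaf 0x1019000292) (.leaf 0))) (.node (.node (.leaf 0x2e1) (.leaf 0)) (.node (.leaf 0x100300202900c4d0) (.leaf 0)))) (.node (.node (.node (.leaf 0x100400501d0180ce) (.leaf 0)) (.node (.leaf 0x100100302301c0e5) (.leaf 0))) (.node (.node (.leaf 0x348) (.leaf 0)) (.node (.leaf 0x400201801f3e4) (.leaf 0))))) (.node (.node (.node (.node (.leaf 0x127) (.leaf 0)) (.node (.leaf 0x100300401e01a1dd) (.leaf 0))) (.node (.node (.leaf 0x107) (.leaf 0)) (.node (.leaf 0x54c) (.leaf 0)))) (.node (.node (.node (.leaf 0x300201801a22a) (.leaf 0)) (.node (.leaf 0x268) (.leaf 0))) (.node (.node (.leaf 0x408) (.leaf 0)) (.node (.leaf 0x100000501d0134c5) (.leaf 0))))))))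

/-- part of closing hints -/
def node0L0close35 : Trie :=
  (.node (.node (.node (.node (.node (.node (.node (.leaf 0x16) (.leaf 0x100300000902b57c)) (.node (.leaf 0x100000002902d336) (.leaf 0))) (.node (.node (.leaf 0x100400201f000285) (.leaf 0)) (.node (.leaf 0x200500101d400) (.leaf 0)))) (.node (.node (.node (.leaf 0x15c) (.leaf 0)) (.node (.leaf 0x1000000004014380) (.leaf 0))) (.node (.node (.leaf 0x37e) (.leaf 0)) (.node (.leaf 0x100000302401152b) (.leaf 0))))) (.node (.node (.node (.node (.leaf 0x32) (.leaf 0)) (.node (.leaf 0x1ba) (.leaf 0))) (.node (.node (.leaf 0x10030240061c5) (.leaf 0)) (.node (.leaf 0x100000300d014433) (.leaf 0)))) (.node (.node (.node (.leaf 0x1f3) (.leaf 0)) (.node (.leaf 0x100501401c25a) (.leaf 0))) (.node (.node (.leaf 0x3b7) (.leaf 0)) (.node (.leaf 0x40270314bf) (.leaf 0)))))) (.node (.node (.node (.node (.node (.leaf 0x6d) (.leaf 0)) (.node (.leaf 0x10040040290023e4) (.leaf 0))) (.node (.node (.leaf 0x2cc) (.leaf 0)) (.node (.leaf 0x100400400101b4ca)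 (.leaf 0)))) (.node (.node (.node (.leaf 0x1ac) (.leaf 0)) (.node (.leaf 0x211) (.leaf 0))) (.node (.node (.leaf 0x1004005017025243) (.leaf 0)) (.node (.leaf 0x100100100602b34e) (.leaf 0))))) (.node (.node (.node (.node (.leaf 0x30040010000f9) (.leaf 0)) (.node (.leaf 0x100200100602617d) (.leaf 0))) (.node (.node (.leaf 0x33f) (.leaf 0)) (.node (.leaf 0x33e) (.leaf 0)))) (.node (.node (.node (.leaf 0x3003010000136) (.leaf 0)) (.node (.leaf 0x239) (.leaf 0))) (.node (.node (.leaf 0x163) (.leaf 0)) (.node (.leaf 0x200101801936f) (.leaf 0))))))) (.node (.node (.node (.node (.node (.node (.leaf 0x13) (.leaf 0x1003003004001441)) (.node (.leaf 0x18a) (.leaf 0))) (.node (.node (.leaf 0x2ab) (.leaf 0)) (.node (.leaf 0x1003000017003477) (.leaf 0)))) (.node (.node (.node (.leaf 0x185) (.leaf 0)) (.node (.leaf 0x400502903127e) (.leaf 0))) (.node (.node (.leaf 0x143) (.leaf 0)) (.node (.leaf 0x100000501400d43c) (.leaf 0))))) (.node (.node (.node (.node (.leaf 0xeb) (.leaf 0)) (.node (.leaf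 0x10200061d8) (.leaf 0))) (.node (.node (.leaf 0x1ac) (.leaf 0)) (.node (.leaf 0x100200f027520) (.leaf 0)))) (.node (.node (.node (.leaf 0x219) (.leaf 0)) (.node (.leaf 0x250) (.leaf 0))) (.node (.node (.leaf 0x3f4) (.leaf 0)) (.node (.leaf 0x100100202400c482) (.leaf 0)))))) (.node (.node (.node (.node (.node (.leaf 0x25) (.leaf 0)) (.node (.leaf 0x200201a01b306) (.leaf 0))) (.node (.node (.leaf 0x1ca) (.leaf 0)) (.node (.leaf 0x2ed) (.leaf 0)))) (.node (.node (.node (.leaf 0x1ce) (.leaf 0)) (.node (.leaf 0x228) (.leaf 0))) (.node (.node (.leaf 0x100400202600c20a) (.leaf 0)) (.node (.leaf 0x100100300200c42d) (.leaf 0))))) (.node (.node (.node (.node (.leaf 0x139) (.leaf 0)) (.node (.leaf 0x300500c0003d3) (.leaf 0))) (.node (.node (.leaf 0x365) (.leaf 0)) (.node (.leaf 0x35f) (.leaf 0)))) (.node (.node (.node (.leaf 0xab) (.leaf 0)) (.node (.leaf 0x507) (.leaf 0))) (.node (.node (.leaf 0x18a) (.leaf 0)) (.node (.leaf 0x100200400c030545) (.leaf 0))))))))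

/-- part of closing hints -/
def node0L0close19 : Trie :=
  (.node (.node (.node (.node (.node (.node (.node (.leaf 0xc) (.leaf 0x4c9)) (.node (.leaf 0x400000e024371) (.leaf 0))) (.node (.node (.leaf 0x2002009010229) (.leaf 0)) (.node (.leaf 0x100400401c0101b4) (.leaf 0)))) (.node (.node (.node (.leaf 0x300c01412b) (.leaf 0)) (.node (.leaf 0x244) (.leaf 0))) (.node (.node (.leaf 0x379) (.leaf 0)) (.node (.leaf 0x400300b01b52a) (.leaf 0))))) (.node (.node (.node (.node (.leaf 0x2d) (.leaf 0)) (.node (.leaf 0x100100d0061a9) (.leaf 0))) (.node (.node (.leaf 0xdc) (.leaf 0)) (.node (.leaf 0x100000501d01348a) (.leaf 0)))) (.node (.node (.node (.leaf 0x3003010000106) (.leaf 0)) (.node (.leaf 0x100300301c0264cc) (.leaf 0))) (.node (.node (.leaf 0x3dc) (.leaf 0)) (.node (.leaf 0x100100400e00b443) (.leaf 0)))))) (.node (.node (.node (.node (.node (.leaf 0x62) (.leaf 0)) (.node (.leaf 0x100400402800e1a7) (.leaf 0))) (.node (.node (.leaf 0x2c1) (.leaf 0)) (.node (.leaf 0x100200400802f4ba)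 (.leaf 0)))) (.node (.node (.node (.leaf 0x6d) (.leaf 0)) (.node (.leaf 0x4b7) (.leaf 0))) (.node (.node (.leaf 0x148) (.leaf 0)) (.node (.leaf 0x300300d0264ac) (.leaf 0))))) (.node (.node (.node (.node (.leaf 0x10a) (.leaf 0)) (.node (.leaf 0x486) (.leaf 0))) (.node (.node (.leaf 0xff) (.leaf 0)) (.node (.leaf 0x548) (.leaf 0)))) (.node (.node (.node (.leaf 0x238) (.leaf 0)) (.node (.leaf 0x400400600f487) (.leaf 0))) (.node (.node (.leaf 0x400400601c3fa) (.leaf 0)) (.node (.leaf 0x40030160194b3) (.leaf 0))))))) (.node (.node (.node (.node (.node (.node (.leaf 0x38) (.leaf 0x1004005000512)) (.node (.leaf 0x100100202702a411) (.leaf 0))) (.node (.node (.leaf 0x1000000004004274) (.leaf 0)) (.node (.leaf 0x100300302a4fe) (.leaf 0)))) (.node (.node (.node (.leaf 0x17b) (.leaf 0)) (.node (.leaf 0x10020010160092bd) (.leaf 0))) (.node (.node (.leaf 0x121) (.leaf 0)) (.node (.leaf 0x200401200554f) (.leaf 0))))) (.node (.node (.node (.node (.leaf 0xe2) (.leaf 0)) (.node (.leaf 0x1c7) (.leaf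 0))) (.node (.node (.leaf 0x318) (.leaf 0)) (.node (.leaf 0x53d) (.leaf 0)))) (.node (.node (.node (.leaf 0x210) (.leaf 0)) (.node (.leaf 0x200300101014e) (.leaf 0))) (.node (.node (.leaf 0x100000301f00e197) (.leaf 0)) (.node (.leaf 0x10020000040104aa) (.leaf 0)))))) (.node (.node (.node (.node (.node (.leaf 0x8f) (.leaf 0)) (.node (.leaf 0x1b3) (.leaf 0))) (.node (.node (.leaf 0x2e5) (.leaf 0)) (.node (.leaf 0x100200400101c407) (.leaf 0)))) (.node (.node (.node (.leaf 0x34) (.leaf 0)) (.node (.leaf 0x30030143d4) (.leaf 0))) (.node (.node (.leaf 0x3c6) (.leaf 0)) (.node (.leaf 0x100200001d0314dc) (.leaf 0))))) (.node (.node (.node (.node (.leaf 0x132) (.leaf 0)) (.node (.leaf 0x48c) (.leaf 0))) (.node (.node (.leaf 0x35b) (.leaf 0)) (.node (.leaf 0x10040050090024f3) (.leaf 0)))) (.node (.node (.node (.leaf 0x259) (.leaf 0)) (.node (.leaf 0x267) (.leaf 0))) (.node (.node (.leaf 0x30050210182e9) (.leaf 0)) (.node (.leaf 0x300100f0101fe) (.leaf 0))))))))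

/-- part of closing hints -/
def node0L0close51 : Trie :=
  (.node (.node (.node (.node (.node (.node (.node (.leaf 0x24) (.leaf 0x40030290003b2)) (.node (.leaf 0x100400401c00c247) (.leaf 0))) (.node (.node (.leaf 0x100200502001c1cb) (.leaf 0)) (.node (.leaf 0x29e) (.leaf 0)))) (.node (.node (.node (.leaf 0x166) (.leaf 0)) (.node (.leaf 0x4a6) (.leaf 0))) (.node (.node (.leaf 0x389) (.leaf 0)) (.node (.leaf 0x100300500001c4dd) (.leaf 0))))) (.node (.node (.node (.node (.leaf 0xcb) (.leaf 0)) (.node (.leaf 0x30050210173ff) (.leaf 0))) (.node (.node (.leaf 0xe9) (.leaf 0)) (.node (.leaf 0x539) (.leaf 0)))) (.node (.node (.node (.leaf 0x10020030030000c5) (.leaf 0)) (.node (.leaf 0x4e1) (.leaf 0))) (.node (.node (.leaf 0x100100200201a05b) (.leaf 0)) (.node (.leaf 0x419) (.leaf 0)))))) (.node (.node (.node (.node (.node (.leaf 0x79) (.leaf 0)) (.node (.leaf 0x444) (.leaf 0))) (.node (.node (.leaf 0x2d8) (.leaf 0)) (.node (.leaf 0x472) (.leaf 0)))) (.node (.node (.node (.leaf 0x1b6)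 (.leaf 0)) (.node (.leaf 0x1001005018005407) (.leaf 0))) (.node (.node (.leaf 0x149) (.leaf 0)) (.node (.leaf 0x563) (.leaf 0))))) (.node (.node (.node (.node (.leaf 0x11d) (.leaf 0)) (.node (.leaf 0x219) (.leaf 0))) (.node (.node (.leaf 0x1c0001ea) (.leaf 0)) (.node (.leaf 0x3c1) (.leaf 0)))) (.node (.node (.node (.leaf 0x24a) (.leaf 0)) (.node (.leaf 0x100100500a00a4c0) (.leaf 0))) (.node (.node (.leaf 0x40050090182a0) (.leaf 0)) (.node (.leaf 0x579) (.leaf 0))))))) (.node (.node (.node (.node (.node (.node (.leaf 0x4c) (.leaf 0x2001018019554)) (.node (.leaf 0x18f) (.leaf 0))) (.node (.node (.leaf 0x2b3) (.leaf 0)) (.node (.leaf 0x1000002006010384) (.leaf 0)))) (.node (.node (.node (.leaf 0x69) (.leaf 0)) (.node (.leaf 0x20000160312b8) (.leaf 0))) (.node (.node (.leaf 0x400400601c37e) (.leaf 0)) (.node (.leaf 0x802b441) (.leaf 0))))) (.node (.node (.node (.node (.leaf 0x72) (.leaf 0)) (.node (.leaf 0x10040040150121a3) (.leaf 0))) (.node (.node (.leaf 0x1b4) (.leaf 0)) (.node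 (.leaf 0x1003003012019444) (.leaf 0)))) (.node (.node (.node (.leaf 0x225) (.leaf 0)) (.node (.leaf 0x222) (.leaf 0))) (.node (.node (.leaf 0x3f7) (.leaf 0)) (.node (.leaf 0x100300302a569) (.leaf 0)))))) (.node (.node (.node (.node (.node (.leaf 0x89) (.leaf 0)) (.node (.leaf 0x1ad) (.leaf 0))) (.node (.node (.leaf 0x2f2) (.leaf 0)) (.node (.leaf 0x10020020050032a6) (.leaf 0)))) (.node (.node (.node (.leaf 0x1d6) (.leaf 0)) (.node (.leaf 0x1002003011020483) (.leaf 0))) (.node (.node (.leaf 0x384) (.leaf 0)) (.node (.leaf 0x200500500e509) (.leaf 0))))) (.node (.node (.node (.node (.leaf 0x141) (.leaf 0)) (.node (.leaf 0x400300d00820c) (.leaf 0))) (.node (.node (.leaf 0x1004000011001199) (.leaf 0)) (.node (.leaf 0x200201901c47f) (.leaf 0)))) (.node (.node (.node (.leaf 0x1bb) (.leaf 0)) (.node (.leaf 0x100400201f000468) (.leaf 0))) (.node (.node (.leaf 0x418) (.leaf 0)) (.node (.leaf 0x100200101d01257d) (.leaf 0))))))))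

/-- part of closing hints -/
def node0L0close11 : Trie :=
  (.node (.node (.node (.node (.node (.node (.node (.leaf 0x8) (.leaf 0x100000301c00c527)) (.node (.leaf 0x421) (.leaf 0))) (.node (.node (.leaf 0x278) (.leaf 0)) (.node (.leaf 0x10050060292d1) (.leaf 0)))) (.node (.node (.node (.leaf 0x300001600d04d) (.leaf 0)) (.node (.leaf 0x49b) (.leaf 0))) (.node (.node (.leaf 0x114) (.leaf 0)) (.node (.leaf 0x400002601638b) (.leaf 0))))) (.node (.node (.node (.node (.leaf 0x35) (.leaf 0)) (.node (.leaf 0x460) (.leaf 0))) (.node (.node (.leaf 0x2fc) (.leaf 0)) (.node (.leaf 0x535) (.leaf 0)))) (.node (.node (.node (.leaf 0x1e4) (.leaf 0)) (.node (.leaf 0x1000002021016438) (.leaf 0))) (.node (.node (.leaf 0x400400601c1aa) (.leaf 0)) (.node (.leaf 0x56d) (.leaf 0)))))) (.node (.node (.node (.node (.node (.leaf 0x5d) (.leaf 0)) (.node (.leaf 0x439) (.leaf 0))) (.node (.node (.leaf 0x100400401c00c111) (.leaf 0)) (.node (.leaf 0x524) (.leaf 0)))) (.node (.node (.node (.leaf 0xf3) (.leaf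 0)) (.node (.leaf 0x20d) (.leaf 0))) (.node (.node (.leaf 0x300302702d0fc) (.leaf 0)) (.node (.leaf 0x100400300500b45c) (.leaf 0))))) (.node (.node (.node (.node (.leaf 0x40) (.leaf 0)) (.node (.leaf 0x482) (.leaf 0))) (.node (.node (.leaf 0x334) (.leaf 0)) (.node (.leaf 0x100100201401549e) (.leaf 0)))) (.node (.node (.node (.leaf 0x232) (.leaf 0)) (.node (.leaf 0x200102500d3f8) (.leaf 0))) (.node (.node (.leaf 0x19a) (.leaf 0)) (.node (.leaf 0x100400401e02555f) (.leaf 0))))))) (.node (.node (.node (.node (.node (.node (.leaf 0x33) (.leaf 0x100400100600c51f)) (.node (.leaf 0x187) (.leaf 0))) (.node (.node (.leaf 0x29f) (.leaf 0)) (.node (.leaf 0x100200201b021508) (.leaf 0)))) (.node (.node (.node (.leaf 0x60) (.leaf 0)) (.node (.leaf 0x4b0) (.leaf 0))) (.node (.node (.leaf 0x100) (.leaf 0)) (.node (.leaf 0x396) (.leaf 0))))) (.node (.node (.node (.node (.leaf 0xdc) (.leaf 0)) (.node (.leaf 0x2cc) (.leaf 0))) (.node (.node (.leaf 0x100100500102f2c2) (.leaf 0)) (.node (.leaf 0x53b)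 (.leaf 0)))) (.node (.node (.node (.leaf 0x100000102000e1e9) (.leaf 0)) (.node (.leaf 0x49d) (.leaf 0))) (.node (.node (.leaf 0x200501600d23e) (.leaf 0)) (.node (.leaf 0x1004002006004560) (.leaf 0)))))) (.node (.node (.node (.node (.node (.leaf 0x89) (.leaf 0)) (.node (.leaf 0x1004005019030310) (.leaf 0))) (.node (.node (.leaf 0x100100001800121c) (.leaf 0)) (.node (.leaf 0x2e3) (.leaf 0)))) (.node (.node (.node (.leaf 0x1c2) (.leaf 0)) (.node (.leaf 0x10000040220192e6) (.leaf 0))) (.node (.node (.leaf 0x137) (.leaf 0)) (.node (.leaf 0x40050240164fd) (.leaf 0))))) (.node (.node (.node (.node (.leaf 0x12d) (.leaf 0)) (.node (.leaf 0x100000500600a366) (.leaf 0))) (.node (.node (.leaf 0x354) (.leaf 0)) (.node (.leaf 0x100100500001c35a) (.leaf 0)))) (.node (.node (.node (.leaf 0x256) (.leaf 0)) (.node (.leaf 0x500) (.leaf 0))) (.node (.node (.leaf 0x40d) (.leaf 0)) (.node (.leaf 0x100000500200d4a6) (.leaf 0))))))))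

/-- part of closing hints -/
def node0L0close43 : Trie :=
  (.node (.node (.node (.node (.node (.node (.node (.leaf 0x1d) (.leaf 0x3003015011551)) (.node (.leaf 0x30040170293c9) (.leaf 0))) (.node (.node (.leaf 0x28b) (.leaf 0)) (.node (.leaf 0x50e) (.leaf 0)))) (.node (.node (.node (.leaf 0x5e) (.leaf 0)) (.node (.leaf 0x100100300601a495) (.leaf 0))) (.node (.node (.leaf 0x100000202500115f) (.leaf 0)) (.node (.leaf 0x3cc) (.leaf 0))))) (.node (.node (.node (.node (.leaf 0x200300a0000ad) (.leaf 0)) (.node (.leaf 0x100100100b01c469) (.leaf 0))) (.node (.node (.leaf 0x309) (.leaf 0)) (.node (.leaf 0x300200e01e453) (.leaf 0)))) (.node (.node (.node (.leaf 0x1000001017000043) (.leaf 0)) (.node (.leaf 0x4df) (.leaf 0))) (.node (.node (.leaf 0x400001901b2c0) (.leaf 0)) (.node (.leaf 0x1003001015019394) (.leaf 0)))))) (.node (.node (.node (.node (.node (.leaf 0x100200201a00001f) (.leaf 0)) (.node (.leaf 0x443) (.leaf 0))) (.node (.node (.leaf 0x2d2) (.leaf 0)) (.node (.leaf 0x473) (.leaf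 0)))) (.node (.node (.node (.leaf 0x1b0) (.leaf 0)) (.node (.leaf 0x100200201f015097) (.leaf 0))) (.node (.node (.leaf 0x3b8) (.leaf 0)) (.node (.leaf 0x10010020140154e7) (.leaf 0))))) (.node (.node (.node (.node (.leaf 0x100300102802f0ae) (.leaf 0)) (.node (.leaf 0x1004003016030480) (.leaf 0))) (.node (.node (.leaf 0x344) (.leaf 0)) (.node (.leaf 0x100501100837c) (.leaf 0)))) (.node (.node (.node (.leaf 0x88) (.leaf 0)) (.node (.leaf 0x100100100602b491) (.leaf 0))) (.node (.node (.leaf 0x403) (.leaf 0)) (.node (.leaf 0x2001018019553) (.leaf 0))))))) (.node (.node (.node (.node (.node (.node (.leaf 0x10) (.leaf 0x100000d000571)) (.node (.leaf 0x42e) (.leaf 0))) (.node (.node (.leaf 0x2b0) (.leaf 0)) (.node (.leaf 0x519) (.leaf 0)))) (.node (.node (.node (.leaf 0x189) (.leaf 0)) (.node (.leaf 0x10020010160092b1) (.leaf 0))) (.node (.node (.leaf 0x125) (.leaf 0)) (.node (.leaf 0x100000300d02b38c) (.leaf 0))))) (.node (.node (.node (.node (.leaf 0x61) (.leaf 0)) (.node (.leaf 0x300)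 (.leaf 0))) (.node (.node (.leaf 0x324) (.leaf 0)) (.node (.leaf 0x1ad) (.leaf 0)))) (.node (.node (.node (.leaf 0x21f) (.leaf 0)) (.node (.leaf 0x10040010170020de) (.leaf 0))) (.node (.node (.leaf 0x100300202900c3a9) (.leaf 0)) (.node (.leaf 0x42b) (.leaf 0)))))) (.node (.node (.node (.node (.node (.leaf 0x9f) (.leaf 0)) (.node (.leaf 0x322) (.leaf 0))) (.node (.node (.leaf 0x2ee) (.leaf 0)) (.node (.leaf 0x10040280034fc) (.leaf 0)))) (.node (.node (.node (.leaf 0x9c) (.leaf 0)) (.node (.leaf 0x10030050250314c7) (.leaf 0))) (.node (.node (.leaf 0x300101402e04b) (.leaf 0)) (.node (.leaf 0x100400201501950a) (.leaf 0))))) (.node (.node (.node (.node (.leaf 0x50) (.leaf 0)) (.node (.leaf 0x492) (.leaf 0))) (.node (.node (.leaf 0x369) (.leaf 0)) (.node (.leaf 0x37c) (.leaf 0)))) (.node (.node (.node (.leaf 0x267) (.leaf 0)) (.node (.leaf 0x100000000501d301) (.leaf 0))) (.node (.node (.leaf 0x170) (.leaf 0)) (.node (.leaf 0x10030020060000c1) (.leaf 0))))))))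

/-- part of closing hints -/
def node0L0close27 : Trie :=
  (.node (.node (.node (.node (.node (.node (.node (.leaf 0xf) (.leaf 0x40010000192bc)) (.node (.leaf 0x17b) (.leaf 0))) (.node (.node (.leaf 0x501602226f) (.leaf 0)) (.node (.leaf 0x100400201c0303f0) (.leaf 0)))) (.node (.node (.node (.leaf 0x156) (.leaf 0)) (.node (.leaf 0x1c000351) (.leaf 0))) (.node (.node (.leaf 0x13f) (.leaf 0)) (.node (.leaf 0x555) (.leaf 0))))) (.node (.node (.node (.node (.leaf 0xbe) (.leaf 0)) (.node (.leaf 0x329) (.leaf 0))) (.node (.node (.leaf 0xe4) (.leaf 0)) (.node (.leaf 0x400000e0300d1) (.leaf 0)))) (.node (.node (.node (.leaf 0xa0) (.leaf 0)) (.node (.leaf 0x25c) (.leaf 0))) (.node (.node (.leaf 0x3e0) (.leaf 0)) (.node (.leaf 0x40040070044f9) (.leaf 0)))))) (.node (.node (.node (.node (.node (.leaf 0x3a) (.leaf 0)) (.node (.leaf 0x200501600d1d6) (.leaf 0))) (.node (.node (.leaf 0x2c7) (.leaf 0)) (.node (.leaf 0x2d2) (.leaf 0)))) (.node (.node (.node (.leaf 0x1a7) (.leaf 0)) (.node (.leaf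 0x212) (.leaf 0))) (.node (.node (.leaf 0x12e) (.leaf 0)) (.node (.leaf 0x10010000010303b7) (.leaf 0))))) (.node (.node (.node (.node (.leaf 0x45) (.leaf 0)) (.node (.leaf 0x1d7) (.leaf 0))) (.node (.node (.leaf 0x33c) (.leaf 0)) (.node (.leaf 0x100100100402f452) (.leaf 0)))) (.node (.node (.node (.leaf 0x23e) (.leaf 0)) (.node (.leaf 0x100000300701a4f2) (.leaf 0))) (.node (.node (.leaf 0x169) (.leaf 0)) (.node (.leaf 0x100200500e00356f) (.leaf 0))))))) (.node (.node (.node (.node (.node (.node (.leaf 0x3d) (.leaf 0x100100001602652e)) (.node (.leaf 0x170) (.leaf 0))) (.node (.node (.leaf 0x2a7) (.leaf 0)) (.node (.leaf 0x100000301e0143e2) (.leaf 0)))) (.node (.node (.node (.leaf 0x180) (.leaf 0)) (.node (.leaf 0x1ff) (.leaf 0))) (.node (.node (.leaf 0x100200400900633f) (.leaf 0)) (.node (.leaf 0x300400000c52e) (.leaf 0))))) (.node (.node (.node (.node (.leaf 0xe7) (.leaf 0)) (.node (.leaf 0x400300a02d45f) (.leaf 0))) (.node (.node (.leaf 0x100202000828f) (.leaf 0)) (.node (.leaf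 0x400500500b497) (.leaf 0)))) (.node (.node (.node (.leaf 0x214) (.leaf 0)) (.node (.leaf 0x2004002029424) (.leaf 0))) (.node (.node (.leaf 0x100001c00927a) (.leaf 0)) (.node (.leaf 0x401b023504) (.leaf 0)))))) (.node (.node (.node (.node (.node (.leaf 0x2a) (.leaf 0)) (.node (.leaf 0x44f) (.leaf 0))) (.node (.node (.leaf 0x1019000164) (.leaf 0)) (.node (.leaf 0x100202000819f) (.leaf 0)))) (.node (.node (.node (.leaf 0x1ca) (.leaf 0)) (.node (.leaf 0x100501d01e39f) (.leaf 0))) (.node (.node (.leaf 0x368) (.leaf 0)) (.node (.leaf 0x100100500700e49b) (.leaf 0))))) (.node (.node (.node (.node (.leaf 0x135) (.leaf 0)) (.node (.leaf 0x48e) (.leaf 0))) (.node (.node (.leaf 0x10b) (.leaf 0)) (.node (.leaf 0x100300002000a4e8) (.leaf 0)))) (.node (.node (.node (.leaf 0x9b) (.leaf 0)) (.node (.leaf 0x100300102502047a) (.leaf 0))) (.node (.node (.leaf 0x100100202702a413) (.leaf 0)) (.node (.leaf 0x100501c02d575) (.leaf 0))))))))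

/-- part of closing hints -/
def node0L0close59 : Trie :=
  (.node (.node (.node (.node (.node (.node (.node (.leaf 0x29) (.leaf 0x1001000012010556)) (.node (.leaf 0x429) (.leaf 0))) (.node (.node (.leaf 0x292) (.leaf 0)) (.node (.leaf 0x2c4) (.leaf 0)))) (.node (.node (.node (.leaf 0x16b) (.leaf 0)) (.node (.leaf 0x249) (.leaf 0))) (.node (.node (.leaf 0x38f) (.leaf 0)) (.node (.leaf 0x100100400a02a490) (.leaf 0))))) (.node (.node (.node (.node (.leaf 0xd2) (.leaf 0)) (.node (.leaf 0x10000000040042df) (.leaf 0))) (.node (.node (.leaf 0x10030040080000ee) (.leaf 0)) (.node (.leaf 0x100400201f0003fa) (.leaf 0)))) (.node (.node (.node (.leaf 0xa2) (.leaf 0)) (.node (.leaf 0x300500100935a) (.leaf 0))) (.node (.node (.leaf 0x150) (.leaf 0)) (.node (.leaf 0x100200000c01d4ed) (.leaf 0)))))) (.node (.node (.node (.node (.node (.leaf 0x200400000000f) (.leaf 0)) (.node (.leaf 0x447) (.leaf 0))) (.node (.node (.leaf 0x2de) (.leaf 0)) (.node (.leaf 0x100400102800738e) (.leaf 0)))) (.node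 (.node (.node (.leaf 0x300302200c13e) (.leaf 0)) (.node (.leaf 0x2005003001422) (.leaf 0))) (.node (.node (.leaf 0x3be) (.leaf 0)) (.node (.leaf 0x200e02055c) (.leaf 0))))) (.node (.node (.node (.node (.leaf 0x122) (.leaf 0)) (.node (.leaf 0x501d020470) (.leaf 0))) (.node (.node (.leaf 0x108) (.leaf 0)) (.node (.leaf 0x300500300f38c) (.leaf 0)))) (.node (.node (.node (.leaf 0x400200e02a03f) (.leaf 0)) (.node (.leaf 0x400202600d429) (.leaf 0))) (.node (.node (.leaf 0x100300401d00e1a4) (.leaf 0)) (.node (.leaf 0x100400401d0001de) (.leaf 0))))))) (.node (.node (.node (.node (.node (.node (.leaf 0x42) (.leaf 0x1001002005011317)) (.node (.leaf 0x18e) (.leaf 0))) (.node (.node (.leaf 0x2b8) (.leaf 0)) (.node (.leaf 0x520) (.leaf 0)))) (.node (.node (.node (.leaf 0x192) (.leaf 0)) (.node (.leaf 0x200302302a4a1) (.leaf 0))) (.node (.node (.leaf 0x100400101f01d1a6) (.leaf 0)) (.node (.leaf 0x3ac) (.leaf 0))))) (.node (.node (.node (.node (.leaf 0x1001000003000005) (.leaf 0)) (.node (.leaf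 0x300101700940b) (.leaf 0))) (.node (.node (.leaf 0x32d) (.leaf 0)) (.node (.leaf 0x10010050160270cd) (.leaf 0)))) (.node (.node (.node (.leaf 0x99) (.leaf 0)) (.node (.leaf 0x300301000034b) (.leaf 0))) (.node (.node (.leaf 0x100400501e201) (.leaf 0)) (.node (.leaf 0x10030010230064ac) (.leaf 0)))))) (.node (.node (.node (.node (.node (.leaf 0x9a) (.leaf 0)) (.node (.leaf 0x100100e00e450) (.leaf 0))) (.node (.node (.leaf 0xe1) (.leaf 0)) (.node (.leaf 0x200201a01b463) (.leaf 0)))) (.node (.node (.node (.leaf 0x1d9) (.leaf 0)) (.node (.leaf 0x802b2e2) (.leaf 0))) (.node (.node (.leaf 0x141) (.leaf 0)) (.node (.leaf 0x100300200602b179) (.leaf 0))))) (.node (.node (.node (.node (.leaf 0x145) (.leaf 0)) (.node (.leaf 0x300500c00039e) (.leaf 0))) (.node (.node (.leaf 0x371) (.leaf 0)) (.node (.leaf 0x100201602154a) (.leaf 0)))) (.node (.node (.node (.leaf 0xb1) (.leaf 0)) (.node (.leaf 0x509) (.leaf 0))) (.node (.node (.leaf 0x41c) (.leaf 0)) (.node (.leaf 0x4b2) (.leaf 0))))))))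

/-- part of closing hints -/
def node0L0close7 : Trie :=
  (.node (.node (.node (.node (.node (.node (.node (.leaf 0x6) (.leaf 0x200301c01c54c)) (.node (.leaf 0x179) (.leaf 0))) (.node (.node (.leaf 0x277) (.leaf 0)) (.node (.leaf 0x300401e01e463) (.leaf 0)))) (.node (.node (.node (.leaf 0xe8) (.leaf 0)) (.node (.leaf 0x1ef) (.leaf 0))) (.node (.node (.leaf 0x400301902826d) (.leaf 0)) (.node (.leaf 0x100200300701d522) (.leaf 0))))) (.node (.node (.node (.node (.leaf 0x2b) (.leaf 0)) (.node (.leaf 0x45e) (.leaf 0))) (.node (.node (.leaf 0x2f9) (.leaf 0)) (.node (.leaf 0x479) (.leaf 0)))) (.node (.node (.node (.leaf 0x1e1) (.leaf 0)) (.node (.leaf 0x40050170124ce) (.leaf 0))) (.node (.node (.leaf 0x1001003012018255) (.leaf 0)) (.node (.leaf 0x1002005011023345) (.leaf 0)))))) (.node (.node (.node (.node (.node (.leaf 0x59) (.leaf 0)) (.node (.leaf 0x190) (.leaf 0))) (.node (.node (.leaf 0x2bd) (.leaf 0)) (.node (.leaf 0x470) (.leaf 0)))) (.node (.node (.node (.leaf 0x6b) (.leaf 0))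 (.node (.leaf 0x10010020070134a2) (.leaf 0))) (.node (.node (.leaf 0x400400601c320) (.leaf 0)) (.node (.leaf 0x55e) (.leaf 0))))) (.node (.node (.node (.node (.leaf 0x100) (.leaf 0)) (.node (.leaf 0x4002008007266) (.leaf 0))) (.node (.node (.leaf 0x333) (.leaf 0)) (.node (.leaf 0x100200000c003432) (.leaf 0)))) (.node (.node (.node (.leaf 0xaa) (.leaf 0)) (.node (.leaf 0x4f2) (.leaf 0))) (.node (.node (.leaf 0x100400200a02b385) (.leaf 0)) (.node (.leaf 0x1000001004000298) (.leaf 0))))))) (.node (.node (.node (.node (.node (.node (.leaf 0x2f) (.leaf 0x1001000012010558)) (.node (.leaf 0x2000019006330) (.leaf 0))) (.node (.node (.leaf 0x29c) (.leaf 0)) (.node (.leaf 0x511) (.leaf 0)))) (.node (.node (.node (.leaf 0x200301b000030) (.leaf 0)) (.node (.leaf 0x1fe) (.leaf 0))) (.node (.node (.leaf 0x11f) (.leaf 0)) (.node (.leaf 0x10050070004e5) (.leaf 0))))) (.node (.node (.node (.node (.leaf 0xd9) (.leaf 0)) (.node (.leaf 0x2cf) (.leaf 0))) (.node (.node (.leaf 0x100300200700003a) (.leaf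 0)) (.node (.leaf 0x100000100202b50e) (.leaf 0)))) (.node (.node (.node (.leaf 0x8e) (.leaf 0)) (.node (.leaf 0x100000100601e3a1) (.leaf 0))) (.node (.node (.leaf 0x193) (.leaf 0)) (.node (.leaf 0x100300000503156c) (.leaf 0)))))) (.node (.node (.node (.node (.node (.leaf 0x87) (.leaf 0)) (.node (.leaf 0x400300a02d303) (.leaf 0))) (.node (.node (.leaf 0x301d00f27c) (.leaf 0)) (.node (.leaf 0x52e) (.leaf 0)))) (.node (.node (.node (.leaf 0x1c0) (.leaf 0)) (.node (.leaf 0x4c5) (.leaf 0))) (.node (.node (.leaf 0x3c1) (.leaf 0)) (.node (.leaf 0x100502300945e) (.leaf 0))))) (.node (.node (.node (.node (.leaf 0x129) (.leaf 0)) (.node (.leaf 0x100000500600a368) (.leaf 0))) (.node (.node (.leaf 0x351) (.leaf 0)) (.node (.leaf 0x1002000019021473) (.leaf 0)))) (.node (.node (.node (.leaf 0x400400601c241) (.leaf 0)) (.node (.leaf 0x4fe) (.leaf 0))) (.node (.node (.leaf 0x100200500b014408) (.leaf 0)) (.node (.leaf 0x57b) (.leaf 0))))))))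

/-- part of closing hints -/
def node0L0close39 : Trie :=
  (.node (.node (.node (.node (.node (.node (.node (.leaf 0x1a) (.leaf 0x100200002702155b)) (.node (.leaf 0x17d) (.leaf 0))) (.node (.node (.leaf 0x100100100b01c287) (.leaf 0)) (.node (.leaf 0x10030010203ef) (.leaf 0)))) (.node (.node (.node (.leaf 0x15f) (.leaf 0)) (.node (.leaf 0x200501d003256) (.leaf 0))) (.node (.node (.leaf 0x381) (.leaf 0)) (.node (.leaf 0x100300500702a3bd) (.leaf 0))))) (.node (.node (.node (.node (.leaf 0xc5) (.leaf 0)) (.node (.leaf 0x100400201f000468) (.leaf 0))) (.node (.node (.leaf 0xe6) (.leaf 0)) (.node (.leaf 0x4000013002305) (.leaf 0)))) (.node (.node (.node (.leaf 0xa1) (.leaf 0)) (.node (.leaf 0x238) (.leaf 0))) (.node (.node (.leaf 0x3e4) (.leaf 0)) (.node (.leaf 0x1004002007003517) (.leaf 0)))))) (.node (.node (.node (.node (.node (.leaf 0x71) (.leaf 0)) (.node (.leaf 0x300501f014149) (.leaf 0))) (.node (.node (.leaf 0x2cf) (.leaf 0)) (.node (.leaf 0x528) (.leaf 0)))) (.node (.node (.node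 (.leaf 0x100100101d00a190) (.leaf 0)) (.node (.leaf 0x4bd) (.leaf 0))) (.node (.node (.leaf 0x130) (.leaf 0)) (.node (.leaf 0x560) (.leaf 0))))) (.node (.node (.node (.node (.leaf 0x51) (.leaf 0)) (.node (.leaf 0x100400000802433d) (.leaf 0))) (.node (.node (.leaf 0x100200102500d274) (.leaf 0)) (.node (.leaf 0x1001000028000349) (.leaf 0)))) (.node (.node (.node (.leaf 0x243) (.leaf 0)) (.node (.leaf 0x100400300700c215) (.leaf 0))) (.node (.node (.leaf 0x166) (.leaf 0)) (.node (.leaf 0x45c) (.leaf 0))))))) (.node (.node (.node (.node (.node (.node (.leaf 0x44) (.leaf 0x530)) (.node (.leaf 0x318) (.leaf 0))) (.node (.node (.leaf 0x2ad) (.leaf 0)) (.node (.leaf 0x517) (.leaf 0)))) (.node (.node (.node (.leaf 0x5f) (.leaf 0)) (.node (.leaf 0x202) (.leaf 0))) (.node (.node (.leaf 0x39c) (.leaf 0)) (.node (.leaf 0x3a8) (.leaf 0))))) (.node (.node (.node (.node (.leaf 0x65) (.leaf 0)) (.node (.leaf 0x47a) (.leaf 0))) (.node (.node (.leaf 0x1a9) (.leaf 0)) (.node (.leaf 0x540) (.leaf 0))))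 (.node (.node (.node (.leaf 0x21c) (.leaf 0)) (.node (.leaf 0x214) (.leaf 0))) (.node (.node (.leaf 0x157) (.leaf 0)) (.node (.leaf 0x100000002401c1c8) (.leaf 0)))))) (.node (.node (.node (.node (.node (.leaf 0x100200300a00002c) (.leaf 0)) (.node (.leaf 0x1aa) (.leaf 0))) (.node (.node (.leaf 0x2ed) (.leaf 0)) (.node (.leaf 0x4009393) (.leaf 0)))) (.node (.node (.node (.leaf 0x1d1) (.leaf 0)) (.node (.leaf 0x4cb) (.leaf 0))) (.node (.node (.leaf 0x100400202600c24e) (.leaf 0)) (.node (.leaf 0x200400100d416) (.leaf 0))))) (.node (.node (.node (.node (.leaf 0x13b) (.leaf 0)) (.node (.leaf 0x300500c00039e) (.leaf 0))) (.node (.node (.leaf 0x10d) (.leaf 0)) (.node (.leaf 0x100000401e000357) (.leaf 0)))) (.node (.node (.node (.leaf 0x10010050090161d3) (.leaf 0)) (.node (.leaf 0x27b) (.leaf 0))) (.node (.node (.leaf 0x415) (.leaf 0)) (.node (.leaf 0x2004016027552) (.leaf 0))))))))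

/-- part of closing hints -/
def node0L0close23 : Trie :=
  (.node (.node (.node (.node (.node (.node (.node (.leaf 0x5) (.leaf 0x100000500100f557)) (.node (.leaf 0x100100301f014053) (.leaf 0))) (.node (.node (.leaf 0xd8) (.leaf 0)) (.node (.leaf 0x295) (.leaf 0)))) (.node (.node (.node (.leaf 0x154) (.leaf 0)) (.node (.leaf 0x20b) (.leaf 0))) (.node (.node (.leaf 0x100000100e02f1c2) (.leaf 0)) (.node (.leaf 0x1003004023008430) (.leaf 0))))) (.node (.node (.node (.node (.leaf 0xba) (.leaf 0)) (.node (.leaf 0x1b6) (.leaf 0))) (.node (.node (.leaf 0x303) (.leaf 0)) (.node (.leaf 0x10050250082fc) (.leaf 0)))) (.node (.node (.node (.leaf 0x1eb) (.leaf 0)) (.node (.leaf 0x4d8) (.leaf 0))) (.node (.node (.leaf 0x100200501e01d1af) (.leaf 0)) (.node (.leaf 0x56e) (.leaf 0)))))) (.node (.node (.node (.node (.node (.leaf 0x66) (.leaf 0)) (.node (.leaf 0x152) (.leaf 0))) (.node (.node (.leaf 0x2c3) (.leaf 0)) (.node (.leaf 0x100200000801116c) (.leaf 0)))) (.node (.node (.node (.leaf 0x1002005008014172)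 (.leaf 0)) (.node (.leaf 0x24f) (.leaf 0))) (.node (.node (.leaf 0x3b1) (.leaf 0)) (.node (.leaf 0x100300500001c4bc) (.leaf 0))))) (.node (.node (.node (.node (.leaf 0x10c) (.leaf 0)) (.node (.leaf 0x300300700003c) (.leaf 0))) (.node (.node (.leaf 0x2020029336) (.leaf 0)) (.node (.leaf 0x100100300202c3db) (.leaf 0)))) (.node (.node (.node (.leaf 0x23c) (.leaf 0)) (.node (.leaf 0x10000010200184da) (.leaf 0))) (.node (.node (.leaf 0x161) (.leaf 0)) (.node (.leaf 0x100400100500047d) (.leaf 0))))))) (.node (.node (.node (.node (.node (.node (.leaf 0x3a) (.leaf 0x100102400557c)) (.node (.leaf 0x10000020160312a0) (.leaf 0))) (.node (.node (.leaf 0x2a5) (.leaf 0)) (.node (.leaf 0x513) (.leaf 0)))) (.node (.node (.node (.leaf 0xee) (.leaf 0)) (.node (.leaf 0x200202301c036) (.leaf 0))) (.node (.node (.leaf 0x103) (.leaf 0)) (.node (.leaf 0x100100100800c3a3) (.leaf 0))))) (.node (.node (.node (.node (.leaf 0xe4) (.leaf 0)) (.node (.leaf 0x2e7) (.leaf 0))) (.node (.node (.leaf 0x31b) (.leaf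 0)) (.node (.leaf 0x53f) (.leaf 0)))) (.node (.node (.node (.leaf 0xa6) (.leaf 0)) (.node (.leaf 0x4ea) (.leaf 0))) (.node (.node (.leaf 0x100300100c0221dc) (.leaf 0)) (.node (.leaf 0x100000301001d50d) (.leaf 0)))))) (.node (.node (.node (.node (.node (.leaf 0x91) (.leaf 0)) (.node (.leaf 0x44d) (.leaf 0))) (.node (.node (.leaf 0xdb) (.leaf 0)) (.node (.leaf 0x200500300550e) (.leaf 0)))) (.node (.node (.node (.leaf 0x1c7) (.leaf 0)) (.node (.leaf 0x256) (.leaf 0))) (.node (.node (.leaf 0x100000100e02f2bb) (.leaf 0)) (.node (.leaf 0x100000300d02b389) (.leaf 0))))) (.node (.node (.node (.node (.leaf 0x100500102f0cb) (.leaf 0)) (.node (.leaf 0x48d) (.leaf 0))) (.node (.node (.leaf 0x35e) (.leaf 0)) (.node (.leaf 0x3c5) (.leaf 0)))) (.node (.node (.node (.leaf 0xa9) (.leaf 0)) (.node (.leaf 0x100200501e0274bb) (.leaf 0))) (.node (.node (.leaf 0x1004004002017404) (.leaf 0)) (.node (.leaf 0x485) (.leaf 0))))))))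

/-- part of closing hints -/
def node0L0close55 : Trie :=
  (.node (.node (.node (.node (.node (.node (.node (.leaf 0x26) (.leaf 0x4001000019518)) (.node (.leaf 0x400000e024379) (.leaf 0))) (.node (.node (.leaf 0x1bd) (.leaf 0)) (.node (.leaf 0x100400001d000296) (.leaf 0)))) (.node (.node (.node (.leaf 0xec) (.leaf 0)) (.node (.leaf 0x4a9) (.leaf 0))) (.node (.node (.leaf 0x38d) (.leaf 0)) (.node (.leaf 0x38a) (.leaf 0))))) (.node (.node (.node (.node (.leaf 0xcf) (.leaf 0)) (.node (.leaf 0x46d) (.leaf 0))) (.node (.node (.leaf 0x5d) (.leaf 0)) (.node (.leaf 0x10030000120104c1) (.leaf 0)))) (.node (.node (.node (.leaf 0x1ff) (.leaf 0)) (.node (.leaf 0x4e3) (.leaf 0))) (.node (.node (.leaf 0x100000000802332a) (.leaf 0)) (.node (.leaf 0x100000500a0143b3) (.leaf 0)))))) (.node (.node (.node (.node (.node (.leaf 0x7b) (.leaf 0)) (.node (.leaf 0x19e) (.leaf 0))) (.node (.node (.leaf 0x2dc) (.leaf 0)) (.node (.leaf 0x200000c0204e4) (.leaf 0)))) (.node (.node (.node (.leaf 0x73) (.leaf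 0)) (.node (.leaf 0x4c1) (.leaf 0))) (.node (.node (.leaf 0xfb) (.leaf 0)) (.node (.leaf 0x10020020050024e3) (.leaf 0))))) (.node (.node (.node (.node (.leaf 0x11f) (.leaf 0)) (.node (.leaf 0x1000000004014378) (.leaf 0))) (.node (.node (.leaf 0x104) (.leaf 0)) (.node (.leaf 0x1001002016000084) (.leaf 0)))) (.node (.node (.node (.leaf 0x8e) (.leaf 0)) (.node (.leaf 0x400401200f376) (.leaf 0))) (.node (.node (.leaf 0x404) (.leaf 0)) (.node (.leaf 0x2d0) (.leaf 0))))))) (.node (.node (.node (.node (.node (.node (.leaf 0x46) (.leaf 0x100400100f011549)) (.node (.leaf 0x300401e01e2ea) (.leaf 0))) (.node (.node (.leaf 0x1c3) (.leaf 0)) (.node (.leaf 0x10000280013d0) (.leaf 0)))) (.node (.node (.node (.leaf 0x18f) (.leaf 0)) (.node (.leaf 0x100200101601148f) (.leaf 0))) (.node (.node (.leaf 0x501b023354) (.leaf 0)) (.node (.leaf 0x55d) (.leaf 0))))) (.node (.node (.node (.node (.leaf 0x6e) (.leaf 0)) (.node (.leaf 0x47f) (.leaf 0))) (.node (.node (.leaf 0x32a) (.leaf 0)) (.node (.leaf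 0x100001f01f3b2) (.leaf 0)))) (.node (.node (.node (.leaf 0x228) (.leaf 0)) (.node (.leaf 0x102800f2b2) (.leaf 0))) (.node (.node (.leaf 0x100200300a01c2b5) (.leaf 0)) (.node (.leaf 0x431) (.leaf 0)))))) (.node (.node (.node (.node (.node (.leaf 0x101e00e0a3) (.leaf 0)) (.node (.leaf 0x1b0) (.leaf 0))) (.node (.node (.leaf 0x100100101d00a2db) (.leaf 0)) (.node (.leaf 0x40030270311d1) (.leaf 0)))) (.node (.node (.node (.leaf 0x100400400601c1cc) (.leaf 0)) (.node (.leaf 0x4ce) (.leaf 0))) (.node (.node (.leaf 0x3ce) (.leaf 0)) (.node (.leaf 0x200400100d41b) (.leaf 0))))) (.node (.node (.node (.node (.leaf 0x144) (.leaf 0)) (.node (.leaf 0x102601e25f) (.leaf 0))) (.node (.node (.leaf 0x36e) (.leaf 0)) (.node (.leaf 0x54f) (.leaf 0)))) (.node (.node (.node (.leaf 0x1003000028000059) (.leaf 0)) (.node (.leaf 0x28b) (.leaf 0))) (.node (.node (.leaf 0x173) (.leaf 0)) (.node (.leaf 0x100300102300c4c4) (.leaf 0))))))))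

/-- part of closing hints -/
def node0L0close15 : Trie :=
  (.node (.node (.node (.node (.node (.node (.node (.leaf 0x8) (.leaf 0x300100c012536)) (.node (.leaf 0x178) (.leaf 0))) (.node (.node (.leaf 0x27a) (.leaf 0)) (.node (.leaf 0x28a) (.leaf 0)))) (.node (.node (.node (.leaf 0x150) (.leaf 0)) (.node (.leaf 0x49e) (.leaf 0))) (.node (.node (.leaf 0x100100f01f337) (.leaf 0)) (.node (.leaf 0x36c) (.leaf 0))))) (.node (.node (.node (.node (.leaf 0xb4) (.leaf 0)) (.node (.leaf 0x1b7) (.leaf 0))) (.node (.node (.leaf 0x2ff) (.leaf 0)) (.node (.leaf 0x1000003018019282) (.leaf 0)))) (.node (.node (.node (.leaf 0x86) (.leaf 0)) (.node (.leaf 0x100300301401948c) (.leaf 0))) (.node (.node (.leaf 0x300302702d134) (.leaf 0)) (.node (.leaf 0x200400100d416) (.leaf 0)))))) (.node (.node (.node (.node (.node (.leaf 0x17) (.leaf 0)) (.node (.leaf 0x43c) (.leaf 0))) (.node (.node (.leaf 0x100100202400c134) (.leaf 0)) (.node (.leaf 0x526) (.leaf 0)))) (.node (.node (.node (.leaf 0x19f) (.leaf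 0)) (.node (.leaf 0x250) (.leaf 0))) (.node (.node (.leaf 0x145) (.leaf 0)) (.node (.leaf 0x100200400e0312d8) (.leaf 0))))) (.node (.node (.node (.node (.leaf 0x106) (.leaf 0)) (.node (.leaf 0x484) (.leaf 0))) (.node (.node (.leaf 0x337) (.leaf 0)) (.node (.leaf 0x546) (.leaf 0)))) (.node (.node (.node (.leaf 0x236) (.leaf 0)) (.node (.leaf 0x100100501101b486) (.leaf 0))) (.node (.node (.leaf 0x100000202200030d) (.leaf 0)) (.node (.leaf 0x1000012017482) (.leaf 0))))))) (.node (.node (.node (.node (.node (.node (.leaf 0x35) (.leaf 0x100300100e012533)) (.node (.leaf 0x10040040020173fc) (.leaf 0))) (.node (.node (.leaf 0xcd) (.leaf 0)) (.node (.leaf 0x100300300e01a2db) (.leaf 0)))) (.node (.node (.node (.leaf 0x100000300013b) (.leaf 0)) (.node (.leaf 0x1fd) (.leaf 0))) (.node (.node (.leaf 0x200500f01609c) (.leaf 0)) (.node (.leaf 0x400401f02d45b) (.leaf 0))))) (.node (.node (.node (.node (.leaf 0xde) (.leaf 0)) (.node (.leaf 0x473) (.leaf 0))) (.node (.node (.leaf 0x184) (.leaf 0))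 (.node (.leaf 0x42d) (.leaf 0)))) (.node (.node (.node (.leaf 0x20d) (.leaf 0)) (.node (.leaf 0x100100500001c499) (.leaf 0))) (.node (.node (.leaf 0x100000301f00e158) (.leaf 0)) (.node (.leaf 0x10030030290174b5) (.leaf 0)))))) (.node (.node (.node (.node (.node (.leaf 0x8d) (.leaf 0)) (.node (.leaf 0x100100400202e3fe) (.leaf 0))) (.node (.node (.leaf 0x2e4) (.leaf 0)) (.node (.leaf 0x2004003001502) (.leaf 0)))) (.node (.node (.node (.leaf 0x78) (.leaf 0)) (.node (.leaf 0x100400301701e3a2) (.leaf 0))) (.node (.node (.leaf 0x3c3) (.leaf 0)) (.node (.leaf 0x100501502249f) (.leaf 0))))) (.node (.node (.node (.node (.leaf 0x12f) (.leaf 0)) (.node (.leaf 0x21f) (.leaf 0))) (.node (.node (.leaf 0x357) (.leaf 0)) (.node (.leaf 0x1000003002008529) (.leaf 0)))) (.node (.node (.node (.leaf 0x98) (.leaf 0)) (.node (.leaf 0x1004001005024311) (.leaf 0))) (.node (.node (.leaf 0x100200500b01440d) (.leaf 0)) (.node (.leaf 0x100401d00155d) (.leaf 0))))))))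

/-- part of closing hints -/
def node0L0close47 : Trie :=
  (.node (.node (.node (.node (.node (.node (.node (.leaf 0x20) (.leaf 0x100000301c00c57a)) (.node (.leaf 0x426) (.leaf 0))) (.node (.node (.leaf 0x1be) (.leaf 0)) (.node (.leaf 0x50f) (.leaf 0)))) (.node (.node (.node (.leaf 0x10190000ba) (.leaf 0)) (.node (.leaf 0x10010040280201e3) (.leaf 0))) (.node (.node (.leaf 0x386) (.leaf 0)) (.node (.leaf 0x2004010000159) (.leaf 0))))) (.node (.node (.node (.node (.leaf 0x79) (.leaf 0)) (.node (.leaf 0x28e) (.leaf 0))) (.node (.node (.leaf 0x200502700d032) (.leaf 0)) (.node (.leaf 0x400300b01028c) (.leaf 0)))) (.node (.node (.node (.leaf 0x88) (.leaf 0)) (.node (.leaf 0x4e0) (.leaf 0))) (.node (.node (.leaf 0x100400402700f2b6) (.leaf 0)) (.node (.leaf 0x40f) (.leaf 0)))))) (.node (.node (.node (.node (.node (.leaf 0x76) (.leaf 0)) (.node (.leaf 0x100200101b0132a5) (.leaf 0))) (.node (.node (.leaf 0x2d6) (.leaf 0)) (.node (.leaf 0x100000301e01523b) (.leaf 0)))) (.node (.node (.node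 (.leaf 0xf7) (.leaf 0)) (.node (.leaf 0x213) (.leaf 0))) (.node (.node (.leaf 0x1000001013026236) (.leaf 0)) (.node (.leaf 0x359) (.leaf 0))))) (.node (.node (.node (.node (.leaf 0x11a) (.leaf 0)) (.node (.leaf 0x20200291db) (.leaf 0))) (.node (.node (.leaf 0x135) (.leaf 0)) (.node (.leaf 0x100200002002e382) (.leaf 0)))) (.node (.node (.node (.leaf 0x100000101700004f) (.leaf 0)) (.node (.leaf 0x265) (.leaf 0))) (.node (.node (.leaf 0x100200400101c2ea) (.leaf 0)) (.node (.leaf 0x1002000001008458) (.leaf 0))))))) (.node (.node (.node (.node (.node (.node (.leaf 0x49) (.leaf 0x100100101f007174)) (.node (.leaf 0x317) (.leaf 0))) (.node (.node (.leaf 0x100200300300d1d5) (.leaf 0)) (.node (.leaf 0x100200202002332e) (.leaf 0)))) (.node (.node (.node (.leaf 0x67) (.leaf 0)) (.node (.leaf 0x100400101f007481) (.leaf 0))) (.node (.node (.leaf 0x39f) (.leaf 0)) (.node (.leaf 0x1f02c54a) (.leaf 0))))) (.node (.node (.node (.node (.leaf 0x100000201a0ef) (.leaf 0)) (.node (.leaf 0x2fd) (.leaf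 0))) (.node (.node (.leaf 0x1b8) (.leaf 0)) (.node (.leaf 0x100300200f026323) (.leaf 0)))) (.node (.node (.node (.leaf 0x221) (.leaf 0)) (.node (.leaf 0x252) (.leaf 0))) (.node (.node (.leaf 0x301d00f16f) (.leaf 0)) (.node (.leaf 0x42b) (.leaf 0)))))) (.node (.node (.node (.node (.node (.leaf 0x8d) (.leaf 0)) (.node (.leaf 0x100300200f0261ae) (.leaf 0))) (.node (.node (.leaf 0x2f1) (.leaf 0)) (.node (.leaf 0x2f3) (.leaf 0)))) (.node (.node (.node (.leaf 0x100500500d02c) (.leaf 0)) (.node (.leaf 0x20040050224c2) (.leaf 0))) (.node (.node (.leaf 0x387) (.leaf 0)) (.node (.leaf 0x100300100700140f) (.leaf 0))))) (.node (.node (.node (.node (.leaf 0x47) (.leaf 0)) (.node (.leaf 0x1ea) (.leaf 0))) (.node (.node (.leaf 0x36b) (.leaf 0)) (.node (.leaf 0x1000005002004363) (.leaf 0)))) (.node (.node (.node (.leaf 0x269) (.leaf 0)) (.node (.leaf 0x100400300e01829c) (.leaf 0))) (.node (.node (.leaf 0x1002005003001282) (.leaf 0)) (.node (.leaf 0x4a7) (.leaf 0))))))))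

/-- part of closing hints -/
def node0L0close31 : Trie :=
  (.node (.node (.node (.node (.node (.node (.node (.leaf 0x13) (.leaf 0x4d9)) (.node (.leaf 0x1000002016031270) (.leaf 0))) (.node (.node (.leaf 0xb7) (.leaf 0)) (.node (.leaf 0x1003003025012180) (.leaf 0)))) (.node (.node (.node (.leaf 0x15a) (.leaf 0)) (.node (.leaf 0x1f2) (.leaf 0))) (.node (.node (.leaf 0x300101402e055) (.leaf 0)) (.node (.leaf 0x386) (.leaf 0))))) (.node (.node (.node (.node (.leaf 0xc0) (.leaf 0)) (.node (.leaf 0x466) (.leaf 0))) (.node (.node (.leaf 0x1d0) (.leaf 0)) (.node (.leaf 0x1004005020015502) (.leaf 0)))) (.node (.node (.node (.leaf 0x1f0) (.leaf 0)) (.node (.leaf 0x227) (.leaf 0))) (.node (.node (.leaf 0x3ba) (.leaf 0)) (.node (.leaf 0x1000002012030523) (.leaf 0)))))) (.node (.node (.node (.node (.node (.leaf 0x6a) (.leaf 0)) (.node (.leaf 0x4001029019313) (.leaf 0))) (.node (.node (.leaf 0x2ca) (.leaf 0)) (.node (.leaf 0x100000300d014461) (.leaf 0)))) (.node (.node (.node (.leaf 0x1a9)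 (.leaf 0)) (.node (.leaf 0x100000101302639d) (.leaf 0))) (.node (.node (.leaf 0x3b5) (.leaf 0)) (.node (.leaf 0x3e1) (.leaf 0))))) (.node (.node (.node (.node (.leaf 0x111) (.leaf 0)) (.node (.leaf 0x1000000004014373) (.leaf 0))) (.node (.node (.leaf 0x120) (.leaf 0)) (.node (.leaf 0x100400400e00f530) (.leaf 0)))) (.node (.node (.node (.leaf 0x23f) (.leaf 0)) (.node (.leaf 0x25d) (.leaf 0))) (.node (.node (.leaf 0x3ff) (.leaf 0)) (.node (.leaf 0x100200102501a50c) (.leaf 0))))))) (.node (.node (.node (.node (.node (.node (.leaf 0x3f) (.leaf 0x1004001014007551)) (.node (.leaf 0x100300201900a412) (.leaf 0))) (.node (.node (.leaf 0x400400601c0dd) (.leaf 0)) (.node (.leaf 0x514) (.leaf 0)))) (.node (.node (.node (.leaf 0x183) (.leaf 0)) (.node (.leaf 0x2d335) (.leaf 0))) (.node (.node (.leaf 0x123) (.leaf 0)) (.node (.leaf 0x200400e026283) (.leaf 0))))) (.node (.node (.node (.node (.leaf 0x100200201a00004d) (.leaf 0)) (.node (.leaf 0x478) (.leaf 0))) (.node (.node (.leaf 0x31e) (.leaf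 0)) (.node (.leaf 0x100100301300650f) (.leaf 0)))) (.node (.node (.node (.leaf 0x217) (.leaf 0)) (.node (.leaf 0x4ea) (.leaf 0))) (.node (.node (.leaf 0x100200300a01c2af) (.leaf 0)) (.node (.leaf 0x428) (.leaf 0)))))) (.node (.node (.node (.node (.node (.leaf 0x98) (.leaf 0)) (.node (.leaf 0x2003011002401) (.leaf 0))) (.node (.node (.leaf 0x100200400101c1a2) (.leaf 0)) (.node (.leaf 0x531) (.leaf 0)))) (.node (.node (.node (.leaf 0x1cb) (.leaf 0)) (.node (.leaf 0x10010030120183d1) (.leaf 0))) (.node (.node (.leaf 0x400101f00d14f) (.leaf 0)) (.node (.leaf 0x100300000902b542) (.leaf 0))))) (.node (.node (.node (.node (.leaf 0x400300d008119) (.leaf 0)) (.node (.leaf 0x100100500001c48e) (.leaf 0))) (.node (.node (.leaf 0x362) (.leaf 0)) (.node (.leaf 0x10020010050084ef) (.leaf 0)))) (.node (.node (.node (.leaf 0x260) (.leaf 0)) (.node (.leaf 0x100300202900c4d1) (.leaf 0))) (.node (.node (.leaf 0x3000005006290) (.leaf 0)) (.node (.leaf 0x57e) (.leaf 0))))))))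

/-- part of closing hints -/
def node0L0close63 : Trie :=
  (.node (.node (.node (.node (.node (.node (.node (.leaf 0x100200201a000026) (.leaf 0x100200100a0192ff)) (.node (.leaf 0x100200500300126d) (.leaf 0))) (.node (.node (.leaf 0x295) (.leaf 0)) (.node (.leaf 0x100400100a0042a2) (.leaf 0)))) (.node (.node (.node (.leaf 0x16e) (.leaf 0)) (.node (.leaf 0x4ac) (.leaf 0))) (.node (.node (.leaf 0x392) (.leaf 0)) (.node (.leaf 0x200100d01150b) (.leaf 0))))) (.node (.node (.node (.node (.leaf 0xd4) (.leaf 0)) (.node (.leaf 0x2a7) (.leaf 0))) (.node (.node (.leaf 0x312) (.leaf 0)) (.node (.leaf 0x100300501202c44f) (.leaf 0)))) (.node (.node (.node (.leaf 0x204) (.leaf 0)) (.node (.leaf 0x100100002800048e) (.leaf 0))) (.node (.node (.leaf 0x3ed) (.leaf 0)) (.node (.leaf 0x300300f02556c) (.leaf 0)))))) (.node (.node (.node (.node (.node (.leaf 0x1f) (.leaf 0)) (.node (.leaf 0x1002003024026302) (.leaf 0))) (.node (.node (.leaf 0x2df) (.leaf 0)) (.node (.leaf 0x2dc) (.leaf 0)))) (.node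 (.node (.node (.leaf 0x1bc) (.leaf 0)) (.node (.leaf 0x100400301603030a) (.leaf 0))) (.node (.node (.leaf 0x34a) (.leaf 0)) (.node (.leaf 0x100400300100e564) (.leaf 0))))) (.node (.node (.node (.node (.leaf 0x124) (.leaf 0)) (.node (.leaf 0x100300401e01a21a) (.leaf 0))) (.node (.node (.leaf 0x34e) (.leaf 0)) (.node (.leaf 0x100000500800837d) (.leaf 0)))) (.node (.node (.node (.leaf 0xa4) (.leaf 0)) (.node (.leaf 0x100000501a00f1b8) (.leaf 0))) (.node (.node (.leaf 0x406) (.leaf 0)) (.node (.leaf 0x1004021028529) (.leaf 0))))))) (.node (.node (.node (.node (.node (.node (.leaf 0x54) (.leaf 0x54e)) (.node (.leaf 0x434) (.leaf 0))) (.node (.node (.leaf 0xc8) (.leaf 0)) (.node (.leaf 0x200b02f434) (.leaf 0)))) (.node (.node (.node (.leaf 0x5a) (.leaf 0)) (.node (.leaf 0x2d361) (.leaf 0))) (.node (.node (.leaf 0x100100001e013069) (.leaf 0)) (.node (.leaf 0x3dd) (.leaf 0))))) (.node (.node (.node (.node (.leaf 0x3e) (.leaf 0)) (.node (.leaf 0x200400802b3dc) (.leaf 0))) (.node (.node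 (.leaf 0x133) (.leaf 0)) (.node (.leaf 0x327) (.leaf 0)))) (.node (.node (.node (.leaf 0x22b) (.leaf 0)) (.node (.leaf 0x100200001d0313a3) (.leaf 0))) (.node (.node (.leaf 0x200102600d218) (.leaf 0)) (.node (.leaf 0x100400300d01b209) (.leaf 0)))))) (.node (.node (.node (.node (.node (.leaf 0x96) (.leaf 0)) (.node (.leaf 0x1af) (.leaf 0))) (.node (.node (.leaf 0xd) (.leaf 0)) (.node (.leaf 0x100200300900126b) (.leaf 0)))) (.node (.node (.node (.leaf 0x1db) (.leaf 0)) (.node (.leaf 0x300101402332d) (.leaf 0))) (.node (.node (.leaf 0x3d1) (.leaf 0)) (.node (.leaf 0x3ed) (.leaf 0))))) (.node (.node (.node (.node (.leaf 0x148) (.leaf 0)) (.node (.leaf 0x300500c0003d3) (.leaf 0))) (.node (.node (.leaf 0x373) (.leaf 0)) (.node (.leaf 0x400400d00e392) (.leaf 0)))) (.node (.node (.node (.leaf 0x272) (.leaf 0)) (.node (.leaf 0x100200102902d40d) (.leaf 0))) (.node (.node (.leaf 0x41e) (.leaf 0)) (.node (.leaf 0x1003002029004539) (.leaf 0))))))))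

/-- closing hints -/
def node0L0close : Trie :=
  (.node (.node (.node (.node (.node (.node node0L0close0 node0L0close32) (.node node0L0close16 node0L0close48)) (.node (.node node0L0close8 node0L0close40) (.node node0L0close24 node0L0close56))) (.node (.node (.node node0L0close4 node0L0close36) (.node node0L0close20 node0L0close52)) (.node (.node node0L0close12 node0L0close44) (.node node0L0close28 node0L0close60)))) (.node (.node (.node (.node node0L0close2 node0L0close34) (.node node0L0close18 node0L0close50)) (.node (.node node0L0close10 node0L0close42) (.node node0L0close26 node0L0close58))) (.node (.node (.node node0L0close6 node0L0close38) (.node node0L0close22 node0L0close54)) (.node (.node node0L0close14 node0L0close46) (.node node0L0close30 node0L0close62))))) (.node (.node (.node (.node (.node node0L0close1 node0L0close33) (.node node0L0close17 node0L0close49)) (.node (.node node0L0close9 node0L0close41) (.node node0L0close25 node0L0close57))) (.node (.node (.node node0L0close5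 node0L0close37) (.node node0L0close21 node0L0close53)) (.node (.node node0L0close13 node0L0close45) (.node node0L0close29 node0L0close61)))) (.node (.node (.node (.node node0L0close3 node0L0close35) (.node node0L0close19 node0L0close51)) (.node (.node node0L0close11 node0L0close43) (.node node0L0close27 node0L0close59))) (.node (.node (.node node0L0close7 node0L0close39) (.node node0L0close23 node0L0close55)) (.node (.node node0L0close15 node0L0close47) (.node node0L0close31 node0L0close63))))))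

/-- a level -/
def node0L0 : SLev := ⟨0, [1, 3, 5], node0L0tree, node0L0word, 1408, node0L0close, [(937, 1), (1227, 1)]⟩

/-- part of a tree -/
def node0L1tree0 : Trie :=
  (.node (.node (.node (.node (.node (.node (.leaf 0x0) (.leaf 0x13)) (.node (.leaf 0x100008) (.leaf 0x100024))) (.node (.node (.leaf 0x100003) (.leaf 0x10001b)) (.node (.leaf 0xd) (.leaf 0)))) (.node (.node (.node (.leaf 0x100001) (.leaf 0x100015)) (.node (.leaf 0xb) (.leaf 0))) (.node (.node (.leaf 0x100005) (.leaf 0x10001f)) (.node (.leaf 0x100010) (.leaf 0))))) (.node (.node (.node (.node (.leaf 0x100000) (.leaf 0x100014)) (.node (.leaf 0xa) (.leaf 0))) (.node (.node (.leaf 0x100004) (.leaf 0x1d)) (.node (.leaf 0xe) (.leaf 0)))) (.node (.node (.node (.leaf 0x100002) (.leaf 0x100019)) (.node (.leaf 0xc) (.leaf 0))) (.node (.node (.leaf 0x100006) (.leaf 0x23)) (.node (.leaf 0x12) (.leaf 0)))))) (.node (.node (.node (.node (.node (.leaf 0x0) (.leaf 0x100013)) (.node (.leaf 0x9) (.leaf 0x27))) (.node (.node (.leaf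 0x4) (.leaf 0x1c)) (.node (.leaf 0x10000d) (.leaf 0)))) (.node (.node (.node (.leaf 0x2) (.leaf 0x16)) (.node (.leaf 0x10000b) (.leaf 0))) (.node (.node (.leaf 0x6) (.leaf 0x100020)) (.node (.leaf 0x100011) (.leaf 0))))) (.node (.node (.node (.node (.leaf 0x1) (.leaf 0x15)) (.node (.leaf 0x10000a) (.leaf 0))) (.node (.node (.leaf 0x5) (.leaf 0x10001e)) (.node (.leaf 0x10000f) (.leaf 0)))) (.node (.node (.node (.leaf 0x3) (.leaf 0x1b)) (.node (.leaf 0x10000c) (.leaf 0))) (.node (.node (.leaf 0x100007) (.leaf 0x24)) (.node (.leaf 0x100012) (.leaf 0)))))))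

/-- a tree -/
def node0L1tree : Trie :=
  node0L1tree0

/-- part of transversal words -/
def node0L1word0 : Trie :=
  (.node (.node (.node (.node (.node (.node (.leaf 0x0) (.leaf 0x2451369965b2db)) (.node (.leaf 0x52c9134cc32ca65) (.leaf 0xa291491430c859))) (.node (.node (.leaf 0x28a4859661861) (.leaf 0xd59256dd69d90c)) (.node (.leaf 0x9a92289b30c861) (.leaf 0)))) (.node (.node (.node (.leaf 0x6ebb2269b75ba59) (.leaf 0x144d491330c321)) (.node (.leaf 0x9a8a265b6642cc) (.leaf 0))) (.node (.node (.leaf 0x134da9142d9659) (.leaf 0x1a9226d43216cb)) (.node (.leaf 0x190c2cb) (.leaf 0))))) (.node (.node (.node (.node (.leaf 0x48a26996cc2db) (.leaf 0xa29229143216cc85b)) (.node (.leaf 0x148a29136642d9664) (.leaf 0))) (.node (.node (.leaf 0x135148a4321659) (.leaf 0x1132d96d9659)) (.node (.leaf 0xda69a8a16cb30c) (.leaf 0)))) (.node (.node (.node (.leaf 0xa26d32db30b) (.leaf 0x69a91485b2cb)) (.node (.leaf 0x1456291375b52c329) (.leaf 0))) (.node (.node (.leaf 0x1132db30c859) (.leaf 0x12265b661659))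 (.node (.leaf 0x26a29226d985b30c) (.leaf 0)))))) (.node (.node (.node (.node (.node (.leaf 0x92c914add32b75d) (.leaf 0xad452591495b761)) (.node (.leaf 0xaeb76452c865759) (.leaf 0xa26eb75badd321))) (.node (.node (.leaf 0x244da8a450c85b2cc) (.leaf 0x9b32165b661)) (.node (.leaf 0x562b22914a5b761) (.leaf 0)))) (.node (.node (.node (.leaf 0x2b24ada6eb6ea6cb) (.leaf 0x134d48a1864321)) (.node (.leaf 0x89a91486430b) (.leaf 0))) (.node (.node (.leaf 0x143216642cc) (.leaf 0x3)) (.node (.leaf 0x291352265b3216cb) (.leaf 0))))) (.node (.node (.node (.node (.leaf 0x91452289965990b) (.leaf 0x452430c8642cb)) (.node (.leaf 0xa2b256d985bb2c) (.leaf 0))) (.node (.node (.leaf 0x289b4da8642d96cb) (.leaf 0x44d369b52186190c)) (.node (.leaf 0x9148a430c2cb30c) (.leaf 0)))) (.node (.node (.node (.leaf 0x8a289d6ec8a4add) (.leaf 0x269b4da664321864)) (.node (.leaf 0x52269b50c2cb65b) (.leaf 0))) (.node (.node (.leaf 0xabada96552c94c) (.leaf 0x369a9142db2cb)) (.node (.leaf 0x75b51492b753759) (.leaf 0)))))))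

/-- transversal words -/
def node0L1word : Trie :=
  node0L1word0

/-- part of closing hints -/
def node0L1close0 : Trie :=
  (.node (.node (.node (.node (.node (.node (.node (.leaf 0x1) (.leaf 0x1004010021)) (.node (.leaf 0x100100302800f) (.leaf 0x100100400301c))) (.node (.node (.leaf 0x100100402800a) (.leaf 0x200002302d)) (.node (.leaf 0x100100a00c) (.leaf 0)))) (.node (.node (.node (.leaf 0x9) (.leaf 0x2f)) (.node (.leaf 0x3000011013) (.leaf 0))) (.node (.node (.leaf 0x16) (.leaf 0x1006)) (.node (.leaf 0x29) (.leaf 0))))) (.node (.node (.node (.node (.leaf 0x5) (.leaf 0x1002004004022)) (.node (.leaf 0x1e) (.leaf 0))) (.node (.node (.leaf 0x12) (.leaf 0x1003001024010)) (.node (.leaf 0x1005014026) (.leaf 0)))) (.node (.node (.node (.leaf 0xd) (.leaf 0x1003003018000)) (.node (.leaf 0x25) (.leaf 0))) (.node (.node (.leaf 0x1a) (.leaf 0x100000500601d)) (.node (.leaf 0x4004012004) (.leaf 0)))))) (.node (.node (.node (.node (.node (.leaf 0x3) (.leaf 0x100000100c002)) (.node (.leaf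 0x1002005019008) (.leaf 0x1002005029030))) (.node (.node (.leaf 0x11) (.leaf 0x1005008019)) (.node (.leaf 0x100400101e01b) (.leaf 0)))) (.node (.node (.node (.leaf 0xb) (.leaf 0x100300002602c)) (.node (.leaf 0x23) (.leaf 0))) (.node (.node (.leaf 0x18) (.leaf 0x400301802b)) (.node (.leaf 0x2a) (.leaf 0))))) (.node (.node (.node (.node (.leaf 0x7) (.leaf 0x2e)) (.node (.leaf 0x20) (.leaf 0))) (.node (.node (.leaf 0x14) (.leaf 0x1001002008017)) (.node (.leaf 0x27) (.leaf 0)))) (.node (.node (.node (.leaf 0x300501700e) (.leaf 0x31)) (.node (.leaf 0x1000002025024) (.leaf 0))) (.node (.node (.leaf 0x1000005016015) (.leaf 0x100300402001f)) (.node (.leaf 0x301a028) (.leaf 0))))))) (.node (.node (.node (.node (.node (.node (.leaf 0x2) (.leaf 0x2d)) (.node (.leaf 0x1c) (.leaf 0x2003022029))) (.node (.node (.leaf 0x10) (.leaf 0x2003026027)) (.node (.leaf 0x1002028014) (.leaf 0)))) (.node (.node (.node (.leaf 0xa) (.leaf 0x30)) (.node (.leaf 0x22) (.leaf 0))) (.node (.node (.leaf 0x17) (.leaf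 0x3003001011)) (.node (.leaf 0x1003002004016) (.leaf 0))))) (.node (.node (.node (.node (.leaf 0x6) (.leaf 0x400102102a)) (.node (.leaf 0x1f) (.leaf 0))) (.node (.node (.leaf 0x13) (.leaf 0x202801a)) (.node (.leaf 0x1001025018) (.leaf 0)))) (.node (.node (.node (.leaf 0xe) (.leaf 0x4004022025)) (.node (.leaf 0x100100101d003) (.leaf 0))) (.node (.node (.leaf 0x3000028009) (.leaf 0x100100000702f)) (.node (.leaf 0x2b) (.leaf 0)))))) (.node (.node (.node (.node (.node (.leaf 0x4) (.leaf 0x1)) (.node (.leaf 0x1d) (.leaf 0x100001e))) (.node (.node (.leaf 0x200301a000) (.leaf 0x300502800b)) (.node (.leaf 0x26) (.leaf 0)))) (.node (.node (.node (.leaf 0xc) (.leaf 0x3002028023)) (.node (.leaf 0x24) (.leaf 0))) (.node (.node (.leaf 0x19) (.leaf 0x1004002000005)) (.node (.leaf 0x1003000001012) (.leaf 0))))) (.node (.node (.node (.node (.leaf 0x8) (.leaf 0x100201d00d)) (.node (.leaf 0x21) (.leaf 0))) (.node (.node (.leaf 0x15) (.leaf 0x400201802e)) (.node (.leaf 0x28) (.leaf 0)))) (.node (.node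 (.node (.leaf 0xf) (.leaf 0x200200e007)) (.node (.leaf 0x1003001000020) (.leaf 0))) (.node (.node (.leaf 0x1b) (.leaf 0x1002002003031)) (.node (.leaf 0x2c) (.leaf 0))))))))

/-- closing hints -/
def node0L1close : Trie :=
  node0L1close0

/-- a level -/
def node0L1 : SLev := ⟨4, [0x92c914add32b75d, 0x48a26996cc2db], node0L1tree, node0L1word, 50, node0L1close, [(44, 0), (45, 1)]⟩

/-- part of a tree -/
def node0L2tree0 : Trie :=
  (.node (.node (.node (.node (.node (.node (.leaf 0x0) (.leaf 0x17)) (.node (.leaf 0x100009) (.leaf 0))) (.node (.node (.leaf 0x4) (.leaf 0x25)) (.node (.leaf 0xf) (.leaf 0)))) (.node (.node (.node (.leaf 0x2) (.leaf 0x1c)) (.node (.leaf 0xc) (.leaf 0))) (.node (.node (.leaf 0x6) (.leaf 0)) (.node (.leaf 0x100011) (.leaf 0))))) (.node (.node (.node (.node (.leaf 0x1) (.leaf 0x10001a)) (.node (.leaf 0xb) (.leaf 0))) (.node (.node (.leaf 0x5) (.leaf 0)) (.node (.leaf 0x100010) (.leaf 0)))) (.node (.node (.node (.leaf 0x3) (.leaf 0x10001f)) (.node (.leaf 0xe)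 (.leaf 0))) (.node (.node (.leaf 0x7) (.leaf 0)) (.node (.leaf 0x13) (.leaf 0)))))) (.node (.node (.node (.node (.node (.leaf 0x0) (.leaf 0x100017)) (.node (.leaf 0xa) (.leaf 0))) (.node (.node (.leaf 0x100004) (.leaf 0x28)) (.node (.leaf 0x10000f) (.leaf 0)))) (.node (.node (.node (.leaf 0x100002) (.leaf 0x10001e)) (.node (.leaf 0x10000d) (.leaf 0))) (.node (.node (.leaf 0x100006) (.leaf 0)) (.node (.leaf 0x100012) (.leaf 0))))) (.node (.node (.node (.node (.leaf 0x100001) (.leaf 0x1b)) (.node (.leaf 0x10000b) (.leaf 0))) (.node (.node (.leaf 0x100005) (.leaf 0)) (.node (.leaf 0x11) (.leaf 0)))) (.node (.node (.node (.leaf 0x100003) (.leaf 0x100023)) (.node (.leaf 0x10000e) (.leaf 0))) (.node (.node (.leaf 0x100007) (.leaf 0)) (.node (.leaf 0x100015) (.leaf 0)))))))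

/-- a tree -/
def node0L2tree : Trie :=
  node0L2tree0

/-- part of transversal words -/
def node0L2word0 : Trie :=
  (.node (.node (.node (.node (.node (.node (.leaf 0x0) (.leaf 0xd48642d9859)) (.node (.leaf 0x9a9136a430c859) (.leaf 0))) (.node (.node (.leaf 0x229226d365b30b) (.leaf 0x4d49148616cc)) (.node (.leaf 0xb2592c964) (.leaf 0)))) (.node (.node (.node (.leaf 0x85990b6cb) (.leaf 0x44da69b66185b)) (.node (.leaf 0x244da69b65b2cc) (.leaf 0))) (.node (.node (.leaf 0x36a289a90c85b659) (.leaf 0)) (.node (.leaf 0xda6da6d9864) (.leaf 0))))) (.node (.node (.node (.node (.leaf 0x85b65b30b) (.leaf 0x1355a8a592c953664)) (.node (.leaf 0x5148a2b2592c964) (.leaf 0))) (.node (.node (.leaf 0x6a291450b659864) (.leaf 0)) (.node (.leaf 0xa28a265b2cc864) (.leaf 0)))) (.node (.node (.node (.leaf 0x2275a8a590c30baec) (.leaf 0x48642cc864)) (.node (.leaf 0x6a430c85b2cb) (.leaf 0))) (.node (.node (.leaf 0x452269b5216cb2cc) (.leaf 0)) (.node (.leaf 0x1a9148996cc85b) (.leaf 0)))))) (.node (.node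 (.node (.node (.node (.leaf 0x226a452190b6cb) (.leaf 0x4d491430b6cb)) (.node (.leaf 0x11486430b661) (.leaf 0))) (.node (.node (.leaf 0x1369b4d96d985b) (.leaf 0x26596d9659)) (.node (.leaf 0x6d56ec864add) (.leaf 0)))) (.node (.node (.node (.leaf 0x9a89b50b65990b) (.leaf 0x1990c859)) (.node (.leaf 0x95badd6ea65b) (.leaf 0))) (.node (.node (.leaf 0xda6a48a4a5badd6ec) (.leaf 0)) (.node (.leaf 0x289a9144cb30c2cb) (.leaf 0))))) (.node (.node (.node (.node (.leaf 0x36a42cc8642cc) (.leaf 0x489a69b65b659)) (.node (.leaf 0x9a6a452c964b25) (.leaf 0))) (.node (.node (.leaf 0x1145148a16d9861) (.leaf 0)) (.node (.leaf 0x9a89b32190b) (.leaf 0)))) (.node (.node (.node (.leaf 0x44da91365990b) (.leaf 0x248a269b50b66190b)) (.node (.leaf 0x352269b66185b) (.leaf 0))) (.node (.node (.leaf 0x45226a44d96642cb) (.leaf 0)) (.node (.leaf 0x2290c861659) (.leaf 0)))))))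

/-- transversal words -/
def node0L2word : Trie :=
  node0L2word0

/-- part of closing hints -/
def node0L2close0 : Trie :=
  (.node (.node (.node (.node (.node (.node (.node (.leaf 0x1) (.leaf 0x1001000025)) (.node (.leaf 0x1001000019) (.leaf 0))) (.node (.node (.leaf 0x0) (.leaf 0x29)) (.node (.leaf 0x100100200b) (.leaf 0)))) (.node (.node (.node (.leaf 0x8) (.leaf 0x1001000026)) (.node (.leaf 0x100301a) (.leaf 0))) (.node (.node (.leaf 0x14) (.leaf 0)) (.node (.leaf 0x24) (.leaf 0))))) (.node (.node (.node (.node (.leaf 0x4) (.leaf 0x1007)) (.node (.leaf 0x1002000009) (.leaf 0))) (.node (.node (.leaf 0x11) (.leaf 0)) (.node (.leaf 0x1001003) (.leaf 0)))) (.node (.node (.node (.leaf 0xc) (.leaf 0x2002027)) (.node (.leaf 0x100101f) (.leaf 0))) (.node (.node (.leaf 0x16) (.leaf 0)) (.node (.leaf 0x1001003010) (.leaf 0)))))) (.node (.node (.node (.node (.node (.leaf 0x2) (.leaf 0x100400201c)) (.node (.leaf 0x1b) (.leaf 0))) (.node (.node (.leaf 0x200300f) (.leaf 0x1004000017))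 (.node (.leaf 0x400101d) (.leaf 0)))) (.node (.node (.node (.leaf 0xa) (.leaf 0x28)) (.node (.leaf 0x4001015) (.leaf 0))) (.node (.node (.leaf 0x400200d) (.leaf 0)) (.node (.leaf 0x3013) (.leaf 0))))) (.node (.node (.node (.node (.leaf 0x6) (.leaf 0x5)) (.node (.leaf 0x1e) (.leaf 0))) (.node (.node (.leaf 0x12) (.leaf 0)) (.node (.leaf 0x23) (.leaf 0)))) (.node (.node (.node (.leaf 0xe) (.leaf 0x2000021)) (.node (.leaf 0x20) (.leaf 0))) (.node (.node (.leaf 0x18) (.leaf 0)) (.node (.leaf 0x2005022) (.leaf 0))))))) (.node (.node (.node (.node (.node (.node (.leaf 0x1004002000) (.leaf 0x1000014)) (.node (.leaf 0x1a) (.leaf 0))) (.node (.node (.leaf 0x1000005008) (.leaf 0x4002029)) (.node (.leaf 0x400101e) (.leaf 0)))) (.node (.node (.node (.leaf 0x9) (.leaf 0x1001000023)) (.node (.leaf 0x2016) (.leaf 0))) (.node (.node (.leaf 0x400200e) (.leaf 0)) (.node (.leaf 0x1003003020) (.leaf 0))))) (.node (.node (.node (.node (.leaf 0x5) (.leaf 0x4)) (.node (.leaf 0x1d) (.leaf 0))) (.node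 (.node (.leaf 0x400500c) (.leaf 0)) (.node (.leaf 0x22) (.leaf 0)))) (.node (.node (.node (.leaf 0xd) (.leaf 0x6)) (.node (.leaf 0x4000011) (.leaf 0))) (.node (.node (.leaf 0x17) (.leaf 0)) (.node (.leaf 0x25) (.leaf 0)))))) (.node (.node (.node (.node (.node (.leaf 0x3) (.leaf 0x100100100a)) (.node (.leaf 0x1c) (.leaf 0))) (.node (.node (.leaf 0x10) (.leaf 0x1001003018)) (.node (.leaf 0x1) (.leaf 0)))) (.node (.node (.node (.leaf 0xb) (.leaf 0x1002000028)) (.node (.leaf 0x1f) (.leaf 0))) (.node (.node (.leaf 0x15) (.leaf 0)) (.node (.leaf 0x1000001024) (.leaf 0))))) (.node (.node (.node (.node (.leaf 0x7) (.leaf 0x27)) (.node (.leaf 0x300501b) (.leaf 0))) (.node (.node (.leaf 0x13) (.leaf 0)) (.node (.leaf 0x3002002) (.leaf 0)))) (.node (.node (.node (.leaf 0xf) (.leaf 0x5012)) (.node (.leaf 0x21) (.leaf 0))) (.node (.node (.leaf 0x19) (.leaf 0)) (.node (.leaf 0x26) (.leaf 0))))))))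

/-- closing hints -/
def node0L2close : Trie :=
  node0L2close0

/-- a level -/
def node0L2 : SLev := ⟨6, [0x226a452190b6cb, 0xa451452190c321], node0L2tree, node0L2word, 42, node0L2close, [(34, 0), (26, 0), (20, 1)]⟩

/-- part of a tree -/
def node0L3tree0 : Trie :=
  (.node (.node (.node (.leaf 0x0) (.leaf 0x100002)) (.node (.leaf 0x200000) (.leaf 0))) (.node (.node (.leaf 0x0) (.leaf 0x4)) (.node (.leaf 0x100001) (.leaf 0))))

/-- a tree -/
def node0L3tree : Trie :=
  node0L3tree0

/-- part of transversal words -/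
def node0L3word0 : Trie :=
  (.node (.node (.node (.leaf 0x0) (.leaf 0x256ec9142eb32c864)) (.node (.leaf 0x4d330c2cb30c) (.leaf 0))) (.node (.node (.leaf 0xda90b2d9659) (.leaf 0x89a9148a16596cc)) (.node (.leaf 0x5136a430b664) (.leaf 0))))

/-- transversal words -/
def node0L3word : Trie :=
  node0L3word0

/-- part of closing hints -/
def node0L3close0 : Trie :=
  (.node (.node (.node (.node (.node (.leaf 0x1) (.leaf 0x1000002)) (.node (.leaf 0x0) (.leaf 0))) (.node (.node (.leaf 0x3) (.leaf 0)) (.node (.leaf 0x5) (.leaf 0)))) (.node (.node (.node (.leaf 0x2) (.leaf 0)) (.node (.leaf 0x1000) (.leaf 0))) (.node (.node (.leaf 0x2000) (.leaf 0)) (.node (.leaf 0x1005) (.leaf 0))))) (.node (.node (.node (.node (.leaf 0x1001) (.leaf 0x1004)) (.node (.leaf 0x3004) (.leaf 0))) (.node (.node (.leaf 0x2001) (.leaf 0)) (.node (.leaf 0x1000005) (.leaf 0)))) (.node (.node (.node (.leaf 0x2002) (.leaf 0)) (.node (.leaf 0x1003003) (.leaf 0))) (.node (.node (.leaf 0x4) (.leaf 0)) (.node (.leaf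 0x1002003) (.leaf 0))))))

/-- closing hints -/
def node0L3close : Trie :=
  node0L3close0

/-- a level -/
def node0L3 : SLev := ⟨8, [0xda90b2d9659, 0x9a9145216cc859, 0x4d330c2cb30c], node0L3tree, node0L3word, 6, node0L3close, [(0, 1), (1, 2)]⟩

/-- part of a tree -/
def node0L4tree0 : Trie :=
  (.node (.node (.node (.leaf 0x0) (.leaf 0x3)) (.node (.leaf 0x100000) (.leaf 0))) (.node (.node (.leaf 0x0) (.leaf 0)) (.node (.leaf 0x100001) (.leaf 0))))

/-- a tree -/
def node0L4tree : Trie :=
  node0L4tree0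

/-- part of transversal words -/
def node0L4word0 : Trie :=
  (.node (.node (.node (.leaf 0x0) (.leaf 0x34d45226d96cb30c)) (.node (.leaf 0x4dd92591495b75b) (.leaf 0))) (.node (.node (.leaf 0x291369b66190b) (.leaf 0)) (.node (.leaf 0x1a8a269986430c) (.leaf 0))))

/-- transversal words -/
def node0L4word : Trie :=
  node0L4word0

/-- part of closing hints -/
def node0L4close0 : Trie :=
  (.node (.node (.node (.node (.leaf 0x1) (.leaf 0x3)) (.node (.leaf 0x1002) (.leaf 0))) (.node (.node (.leaf 0x0) (.leaf 0)) (.node (.leaf 0x4) (.leaf 0)))) (.node (.node (.node (.leaf 0x2) (.leaf 0x1004)) (.node (.leaf 0x0) (.leaf 0))) (.node (.node (.leaf 0x3) (.leaf 0)) (.node (.leaf 0x1) (.leaf 0)))))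

/-- closing hints -/
def node0L4close : Trie :=
  node0L4close0

/-- a level -/
def node0L4 : SLev := ⟨9, [0x291369b66190b, 0x4dd92591495b75b], node0L4tree, node0L4word, 5, node0L4close, [(2, 0)]⟩

/-- part of a tree -/
def node0L5tree0 : Trie :=
  (.node (.leaf 0x0) (.leaf 0x0))

/-- a tree -/
def node0L5tree : Trie :=
  node0L5tree0

/-- part of transversal words -/
def node0L5word0 : Trie :=
  (.node (.leaf 0x0) (.leaf 0x659659))

/-- transversal words -/
def node0L5word : Trie :=
  node0L5word0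

/-- part of closing hints -/
def node0L5close0 : Trie :=
  (.node (.leaf 0x1) (.leaf 0x0))

/-- closing hints -/
def node0L5close : Trie :=
  node0L5close0

/-- a level -/
def node0L5 : SLev := ⟨7, [0x659659], node0L5tree, node0L5word, 2, node0L5close, []⟩

/-- a chain -/
def node0 : List SLev := [node0L0, node0L1, node0L2, node0L3, node0L4, node0L5]

/-- part of a forest -/
def forest00 : Trie :=
  (.node (.node (.node (.node (.node (.node (.node (.leaf 0x0) (.leaf 0xa000000000100412)) (.node (.leaf 0x70000000001001ff) (.leaf 0))) (.node (.node (.leaf 0x9000000000100079) (.leaf 0x900000000020046d)) (.node (.leaf 0xa000000000000280) (.leaf 0)))) (.node (.node (.node (.leaf 0x7000000000000343) (.leaf 0x90000000000000ed)) (.node (.leaf 0x9000000000200027) (.leaf 0))) (.node (.node (.leaf 0xa000000000100266) (.leaf 0)) (.node (.leaf 0xa00000000020045a) (.leaf 0))))) (.node (.node (.node (.node (.leaf 0x80000000000002cf) (.leaf 0x70000000000000ae)) (.node (.leaf 0x80000000001000e3)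 (.leaf 0))) (.node (.node (.leaf 0x8000000000000141) (.leaf 0x9000000000100403)) (.node (.leaf 0x90000000000002a0) (.leaf 0)))) (.node (.node (.node (.leaf 0x900000000010009d) (.leaf 0x80000000000004bf)) (.node (.leaf 0x70000000000002bf) (.leaf 0))) (.node (.node (.leaf 0xa0000000001001c1) (.leaf 0)) (.node (.leaf 0x60000000000001a0) (.leaf 0)))))) (.node (.node (.node (.node (.node (.leaf 0x900000000010001e) (.leaf 0x900000000000041f)) (.node (.leaf 0xa00000000010050e) (.leaf 0))) (.node (.node (.leaf 0xa00000000010011f) (.leaf 0xb0000000001000c8)) (.node (.leaf 0xa0000000002000c2) (.leaf 0)))) (.node (.node (.node (.leaf 0x70000000001000bf) (.leaf 0xc000000000200413)) (.node (.leaf 0x80000000001002a1) (.leaf 0))) (.node (.node (.leaf 0x500000000020009c) (.leaf 0)) (.node (.leaf 0x900000000010030e) (.leaf 0))))) (.node (.node (.node (.node (.leaf 0xa000000000000291) (.leaf 0xa000000000100436)) (.node (.leaf 0x90000000002000ab) (.leaf 0))) (.node (.node (.leaf 0xb000000000100161)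 (.leaf 0xc000000000100434)) (.node (.leaf 0x7000000000000314) (.leaf 0)))) (.node (.node (.node (.leaf 0x7000000000200031) (.leaf 0xb0000000000001b2)) (.node (.leaf 0xa00000000020056a) (.leaf 0))) (.node (.node (.leaf 0x900000000010045d) (.leaf 0)) (.node (.leaf 0x900000000010047c) (.leaf 0))))))) (.node (.node (.node (.node (.node (.node (.leaf 0x7000000000000138) (.leaf 0xa00000000010051a)) (.node (.leaf 0xb0000000000002ef) (.leaf 0))) (.node (.node (.leaf 0x8000000000100264) (.leaf 0xc000000000100423)) (.node (.leaf 0x800000000020008d) (.leaf 0)))) (.node (.node (.node (.leaf 0x6000000000100134) (.leaf 0xb000000000100380)) (.node (.leaf 0xc00000000010022e) (.leaf 0))) (.node (.node (.leaf 0xa00000000020018f) (.leaf 0)) (.node (.leaf 0xa00000000010038f) (.leaf 0))))) (.node (.node (.node (.node (.leaf 0x700000000010004f) (.leaf 0x900000000010044b)) (.node (.leaf 0xc0000000000001f0) (.leaf 0))) (.node (.node (.leaf 0x900000000010014f) (.leaf 0xa000000000100283)) (.node (.leaf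 0x900000000000014f) (.leaf 0)))) (.node (.node (.node (.leaf 0xb0000000000000cf) (.leaf 0x8000000000200139)) (.node (.leaf 0xa000000000000341) (.leaf 0))) (.node (.node (.leaf 0xa00000000020052d) (.leaf 0)) (.node (.leaf 0xa0000000002003c6) (.leaf 0)))))) (.node (.node (.node (.node (.node (.leaf 0x500000000010002f) (.leaf 0xb0000000002000a6)) (.node (.leaf 0x9000000000200479) (.leaf 0))) (.node (.node (.leaf 0x8000000000100184) (.leaf 0xa0000000002004ae)) (.node (.leaf 0xa0000000002004c7) (.leaf 0)))) (.node (.node (.node (.leaf 0x50000000001000b1) (.leaf 0x8000000000200440)) (.node (.leaf 0xa000000000000151) (.leaf 0))) (.node (.node (.leaf 0xa00000000020005c) (.leaf 0)) (.node (.leaf 0xa000000000200311) (.leaf 0))))) (.node (.node (.node (.node (.leaf 0x6000000000200030) (.leaf 0xa00000000000056e)) (.node (.leaf 0x9000000000000429) (.leaf 0))) (.node (.node (.leaf 0xb000000000000375) (.leaf 0xb000000000100246)) (.node (.leaf 0x800000000000033a) (.leaf 0)))) (.node (.node (.node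 (.leaf 0xb0000000001002a6) (.leaf 0x90000000000003f6)) (.node (.leaf 0xc000000000200446) (.leaf 0))) (.node (.node (.leaf 0xb000000000200506) (.leaf 0)) (.node (.leaf 0xb0000000002003ef) (.leaf 0))))))))

/-- part of a forest -/
def forest08 : Trie :=
  (.node (.node (.node (.node (.node (.node (.node (.leaf 0x300000000000000d) (.leaf 0x9000000000200424)) (.node (.leaf 0x8000000000100207) (.leaf 0))) (.node (.node (.leaf 0xa000000000200407) (.leaf 0x70000000001001fd)) (.node (.leaf 0x9000000000100307) (.leaf 0)))) (.node (.node (.node (.leaf 0x8000000000100141) (.leaf 0xb0000000000004c5)) (.node (.leaf 0xc0000000002003f5) (.leaf 0))) (.node (.node (.leaf 0x80000000001001aa) (.leaf 0)) (.node (.leaf 0x80000000000003a3) (.leaf 0))))) (.node (.node (.node (.node (.leaf 0x9000000000100140) (.leaf 0x8000000000100441)) (.node (.leaf 0x8000000000100249) (.leaf 0))) (.node (.node (.leaf 0xa000000000000147) (.leaf 0x7000000000200138)) (.node (.leaf 0xa000000000100347) (.leaf 0)))) (.node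 (.node (.node (.leaf 0xa0000000001000c9) (.leaf 0x9000000000000208)) (.node (.leaf 0xb0000000000002c9) (.leaf 0))) (.node (.node (.leaf 0xc0000000001001c9) (.leaf 0)) (.node (.leaf 0x80000000002000bc) (.leaf 0)))))) (.node (.node (.node (.node (.node (.leaf 0x600000000000008a) (.leaf 0x800000000000008f)) (.node (.leaf 0xa000000000100241) (.leaf 0))) (.node (.node (.leaf 0xb0000000001002ef) (.leaf 0xa0000000002003e6)) (.node (.leaf 0xd000000000100329) (.leaf 0)))) (.node (.node (.node (.leaf 0x60000000000000b0) (.leaf 0xa000000000200387)) (.node (.leaf 0xa0000000001002e1) (.leaf 0))) (.node (.node (.leaf 0x70000000000001a7) (.leaf 0)) (.node (.leaf 0xa0000000001003a7) (.leaf 0))))) (.node (.node (.node (.node (.leaf 0x90000000001000ab) (.leaf 0xb00000000010021e)) (.node (.leaf 0xb000000000100269) (.leaf 0))) (.node (.node (.leaf 0xa0000000001002d8) (.leaf 0x80000000001003fc)) (.node (.leaf 0x70000000001003c0) (.leaf 0)))) (.node (.node (.node (.leaf 0x300000000020000d) (.leaf 0x800000000010028f))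 (.node (.leaf 0xa000000000200545) (.leaf 0))) (.node (.node (.leaf 0x90000000002002b4) (.leaf 0)) (.node (.leaf 0x70000000000003e9) (.leaf 0))))))) (.node (.node (.node (.node (.node (.node (.leaf 0x800000000000007a) (.leaf 0xc000000000100417)) (.node (.leaf 0xb000000000200462) (.leaf 0))) (.node (.node (.leaf 0xa000000000000306) (.leaf 0xb000000000000298)) (.node (.leaf 0x800000000010010f) (.leaf 0)))) (.node (.node (.node (.leaf 0x70000000000000e4) (.leaf 0x5000000000100499)) (.node (.leaf 0xa000000000100367) (.leaf 0))) (.node (.node (.leaf 0x9000000000200055) (.leaf 0)) (.node (.leaf 0xa000000000100486) (.leaf 0))))) (.node (.node (.node (.node (.leaf 0x80000000001000d6) (.leaf 0x8000000000000274)) (.node (.leaf 0xd0000000001002fe) (.leaf 0))) (.node (.node (.leaf 0xa0000000000001e3) (.leaf 0xa0000000000004ae)) (.node (.leaf 0xa000000000100408) (.leaf 0)))) (.node (.node (.node (.leaf 0x90000000001002a4) (.leaf 0x50000000002000b1)) (.node (.leaf 0x90000000001002d9) (.leaf 0)))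 (.node (.node (.leaf 0xc0000000001001d9) (.leaf 0)) (.node (.leaf 0xa0000000001003d7) (.leaf 0)))))) (.node (.node (.node (.node (.node (.leaf 0x800000000010013e) (.leaf 0xb0000000001000d3)) (.node (.leaf 0x90000000000003da) (.leaf 0))) (.node (.node (.leaf 0x6000000000100033) (.leaf 0xb000000000200415)) (.node (.leaf 0x90000000000001fb) (.leaf 0)))) (.node (.node (.node (.leaf 0x90000000001000ec) (.leaf 0x90000000000004f2)) (.node (.leaf 0xa00000000010050c) (.leaf 0))) (.node (.node (.leaf 0xa00000000020052e) (.leaf 0)) (.node (.leaf 0xa0000000002001a4) (.leaf 0))))) (.node (.node (.node (.node (.leaf 0x90000000001000d5) (.leaf 0xb000000000100163)) (.node (.leaf 0xa000000000100279) (.leaf 0))) (.node (.node (.leaf 0x800000000020027c) (.leaf 0x9000000000100378)) (.node (.leaf 0x8000000000100377) (.leaf 0)))) (.node (.node (.node (.leaf 0x90000000001000f7) (.leaf 0xb0000000001002a2)) (.node (.leaf 0xa000000000100356) (.leaf 0))) (.node (.node (.leaf 0xb0000000001001f9) (.leaf 0))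 (.node (.leaf 0x800000000020006e) (.leaf 0))))))))

/-- part of a forest -/
def forest04 : Trie :=
  (.node (.node (.node (.node (.node (.node (.node (.leaf 0x1000000000200000) (.leaf 0x800000000020008f)) (.node (.leaf 0x90000000001001ca) (.leaf 0))) (.node (.node (.leaf 0x500000000020002f) (.leaf 0xa00000000010020a)) (.node (.leaf 0xb000000000100562) (.leaf 0)))) (.node (.node (.node (.leaf 0x9000000000100085) (.leaf 0xa000000000200277)) (.node (.leaf 0x8000000000100443) (.leaf 0))) (.node (.node (.leaf 0x70000000001000e4) (.leaf 0)) (.node (.leaf 0x80000000002004bf) (.leaf 0))))) (.node (.node (.node (.node (.leaf 0xa000000000100042) (.leaf 0x80000000002002bd)) (.node (.leaf 0xb00000000000026f) (.leaf 0))) (.node (.node (.leaf 0xa000000000100145) (.leaf 0xa0000000001003f4)) (.node (.leaf 0x8000000000200091) (.leaf 0)))) (.node (.node (.node (.leaf 0xa000000000000356) (.leaf 0x900000000020054d)) (.node (.leaf 0xa000000000200338) (.leaf 0))) (.node (.node (.leaf 0xc00000000010017f)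 (.leaf 0)) (.node (.leaf 0x80000000000002cb) (.leaf 0)))))) (.node (.node (.node (.node (.node (.leaf 0xa000000000100254) (.leaf 0x8000000000100425)) (.node (.leaf 0xa0000000002004f7) (.leaf 0))) (.node (.node (.leaf 0xa00000000000013d) (.leaf 0xa000000000100525)) (.node (.leaf 0x9000000000200022) (.leaf 0)))) (.node (.node (.node (.leaf 0xa000000000000406) (.leaf 0x900000000000040b)) (.node (.leaf 0x800000000010033c) (.leaf 0))) (.node (.node (.leaf 0x90000000001001a3) (.leaf 0)) (.node (.leaf 0xc0000000001004f3) (.leaf 0))))) (.node (.node (.node (.node (.leaf 0xa000000000100062) (.leaf 0xa00000000020029f)) (.node (.leaf 0x7000000000100263) (.leaf 0))) (.node (.node (.leaf 0x70000000001001a7) (.leaf 0xa0000000000003cf)) (.node (.leaf 0xa0000000001004eb) (.leaf 0)))) (.node (.node (.node (.leaf 0x60000000001000e5) (.leaf 0xa0000000002003ba)) (.node (.leaf 0x70000000001002e2) (.leaf 0))) (.node (.node (.leaf 0x90000000001001da) (.leaf 0)) (.node (.leaf 0x9000000000200194) (.leaf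 0))))))) (.node (.node (.node (.node (.node (.node (.leaf 0x900000000010017e) (.leaf 0x900000000010016d)) (.node (.leaf 0xc00000000020042c) (.leaf 0))) (.node (.node (.leaf 0x6000000000200113) (.leaf 0x70000000002003f7)) (.node (.leaf 0x6000000000100315) (.leaf 0)))) (.node (.node (.node (.leaf 0xb000000000200229) (.leaf 0xb000000000000409)) (.node (.leaf 0x60000000002000dc) (.leaf 0))) (.node (.node (.leaf 0x8000000000100195) (.leaf 0)) (.node (.leaf 0xa00000000020004b) (.leaf 0))))) (.node (.node (.node (.node (.leaf 0x8000000000000135) (.leaf 0xb0000000002001ae)) (.node (.leaf 0x9000000000000411) (.leaf 0))) (.node (.node (.leaf 0xb000000000000155) (.leaf 0xc0000000002001c9)) (.node (.leaf 0xa000000000000150) (.leaf 0)))) (.node (.node (.node (.leaf 0x8000000000100074) (.leaf 0x9000000000200110)) (.node (.leaf 0x9000000000200221) (.leaf 0))) (.node (.node (.leaf 0xb000000000200120) (.leaf 0)) (.node (.leaf 0xb0000000001002b1) (.leaf 0)))))) (.node (.node (.node (.node (.node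 (.leaf 0x7000000000100035) (.leaf 0xb0000000000003a9)) (.node (.leaf 0x7000000000100235) (.leaf 0))) (.node (.node (.leaf 0x500000000000009c) (.leaf 0x900000000020030b)) (.node (.leaf 0x900000000000026b) (.leaf 0)))) (.node (.node (.node (.leaf 0x70000000001000a8) (.leaf 0xb00000000010028a)) (.node (.leaf 0x80000000001002b3) (.leaf 0))) (.node (.node (.leaf 0xa0000000001001b5) (.leaf 0)) (.node (.leaf 0xa0000000000003b3) (.leaf 0))))) (.node (.node (.node (.node (.leaf 0x7000000000200028) (.leaf 0xa000000000100480)) (.node (.leaf 0x700000000020035f) (.leaf 0))) (.node (.node (.leaf 0xa00000000020051b) (.leaf 0x900000000020041f)) (.node (.leaf 0xa000000000200041) (.leaf 0)))) (.node (.node (.node (.leaf 0x800000000020013e) (.leaf 0x8000000000000200)) (.node (.leaf 0x90000000001002f3) (.leaf 0))) (.node (.node (.leaf 0x90000000001001f5) (.leaf 0)) (.node (.leaf 0x900000000010046c) (.leaf 0))))))))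

/-- part of a forest -/
def forest012 : Trie :=
  (.node (.node (.node (.node (.node (.node (.node (.leaf 0x700000000010008b) (.leaf 0x900000000010040b)) (.node (.leaf 0xb00000000010020b) (.leaf 0))) (.node (.node (.leaf 0x700000000020000b) (.leaf 0x9000000000100479)) (.node (.leaf 0x500000000010030d) (.leaf 0)))) (.node (.node (.node (.leaf 0x300000000010000d) (.leaf 0xa00000000010048d)) (.node (.leaf 0x80000000002001bd) (.leaf 0))) (.node (.node (.leaf 0x70000000000000ea) (.leaf 0)) (.node (.leaf 0xa000000000200525) (.leaf 0))))) (.node (.node (.node (.node (.leaf 0x700000000000006d) (.leaf 0x8000000000200135)) (.node (.leaf 0xc00000000020024d) (.leaf 0))) (.node (.node (.leaf 0x500000000010014b) (.leaf 0x90000000002001a9)) (.node (.leaf 0x800000000000033b) (.leaf 0)))) (.node (.node (.node (.leaf 0x7000000000200101) (.leaf 0xa0000000000002ae)) (.node (.leaf 0x9000000000200237) (.leaf 0))) (.node (.node (.leaf 0x900000000000022b) (.leaf 0)) (.node (.leaf 0xa000000000200283)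 (.leaf 0)))))) (.node (.node (.node (.node (.node (.leaf 0x2000000000000004) (.leaf 0xb00000000010042b)) (.node (.leaf 0xb00000000010022d) (.leaf 0))) (.node (.node (.leaf 0x900000000020047e) (.leaf 0xa000000000200306)) (.node (.leaf 0x90000000001003c5) (.leaf 0)))) (.node (.node (.node (.leaf 0x600000000000004e) (.leaf 0xa000000000000296)) (.node (.leaf 0x90000000001002ab) (.leaf 0))) (.node (.node (.leaf 0xa0000000001001ad) (.leaf 0)) (.node (.leaf 0xb000000000200556) (.leaf 0))))) (.node (.node (.node (.node (.leaf 0x500000000000004d) (.leaf 0x80000000000000be)) (.node (.leaf 0x900000000020018a) (.leaf 0))) (.node (.node (.leaf 0x700000000000016b) (.leaf 0x80000000001003a3)) (.node (.leaf 0xa00000000010036d) (.leaf 0)))) (.node (.node (.node (.leaf 0x80000000001000eb) (.leaf 0xb000000000000484)) (.node (.leaf 0xc00000000010044a) (.leaf 0))) (.node (.node (.leaf 0xc000000000200451) (.leaf 0)) (.node (.leaf 0x90000000001003eb) (.leaf 0))))))) (.node (.node (.node (.node (.node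 (.node (.leaf 0x900000000000030e) (.leaf 0x900000000000041d)) (.node (.leaf 0xa00000000010021d) (.leaf 0))) (.node (.node (.leaf 0x90000000000000f7) (.leaf 0xb00000000020044e)) (.node (.leaf 0xb00000000010031b) (.leaf 0)))) (.node (.node (.node (.leaf 0x4000000000100032) (.leaf 0xa000000000200046)) (.node (.leaf 0x90000000002004e8) (.leaf 0))) (.node (.node (.leaf 0x700000000020019b) (.leaf 0)) (.node (.leaf 0xa00000000010039b) (.leaf 0))))) (.node (.node (.node (.node (.leaf 0x900000000000003d) (.leaf 0x9000000000000479)) (.node (.leaf 0xc000000000200096) (.leaf 0))) (.node (.node (.leaf 0x900000000010015e) (.leaf 0xb0000000002002b8)) (.node (.leaf 0xb000000000100174) (.leaf 0)))) (.node (.node (.node (.leaf 0x500000000010006f) (.leaf 0xb0000000001004dd)) (.node (.leaf 0xa0000000001002dd) (.leaf 0))) (.node (.node (.leaf 0xa0000000001003aa) (.leaf 0)) (.node (.leaf 0xa000000000100285) (.leaf 0)))))) (.node (.node (.node (.node (.node (.leaf 0x900000000000005d) (.leaf 0x8000000000000547))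 (.node (.leaf 0x9000000000200429) (.leaf 0))) (.node (.node (.leaf 0x8000000000100053) (.leaf 0x9000000000200537)) (.node (.leaf 0x700000000000033d) (.leaf 0)))) (.node (.node (.node (.leaf 0x70000000001000bb) (.leaf 0x8000000000200323)) (.node (.leaf 0xb0000000002001d1) (.leaf 0))) (.node (.node (.leaf 0x80000000001001bd) (.leaf 0)) (.node (.leaf 0x80000000001003bd) (.leaf 0))))) (.node (.node (.node (.node (.leaf 0x900000000020007f) (.leaf 0x8000000000000195)) (.node (.leaf 0x700000000010027d) (.leaf 0))) (.node (.node (.leaf 0xc00000000020049d) (.leaf 0x900000000000056c)) (.node (.leaf 0xa000000000200367) (.leaf 0)))) (.node (.node (.node (.leaf 0xb0000000002000f9) (.leaf 0xa0000000001004d1)) (.node (.leaf 0x80000000001000be) (.leaf 0))) (.node (.node (.leaf 0x900000000010024a) (.leaf 0)) (.node (.leaf 0x7000000000000235) (.leaf 0))))))))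

/-- part of a forest -/
def forest02 : Trie :=
  (.node (.node (.node (.node (.node (.node (.node (.leaf 0x3000000000000003) (.leaf 0xa000000000100574)) (.node (.leaf 0xb0000000002002a6) (.leaf 0))) (.node (.node (.leaf 0x70000000000002e9) (.leaf 0x90000000000002ab)) (.node (.leaf 0xb0000000001004ce) (.leaf 0)))) (.node (.node (.node (.leaf 0x900000000000001e) (.leaf 0xb00000000020012e)) (.node (.leaf 0xa0000000001002a9) (.leaf 0))) (.node (.node (.leaf 0x9000000000200378) (.leaf 0)) (.node (.leaf 0xa00000000020015d) (.leaf 0))))) (.node (.node (.node (.node (.leaf 0x9000000000100043) (.leaf 0x60000000000002fd)) (.node (.leaf 0xb000000000200228) (.leaf 0))) (.node (.node (.leaf 0x9000000000000130) (.leaf 0x90000000000002d9)) (.node (.leaf 0x80000000001002c0) (.leaf 0)))) (.node (.node (.node (.leaf 0x9000000000100146) (.leaf 0xa000000000000527)) (.node (.leaf 0xa000000000100340) (.leaf 0))) (.node (.node (.leaf 0xa0000000001001d5) (.leaf 0)) (.node (.leaf 0xb0000000001003c3) (.leaf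 0)))))) (.node (.node (.node (.node (.node (.leaf 0x8000000000100323) (.leaf 0xb00000000020036a)) (.node (.leaf 0x9000000000100221) (.leaf 0))) (.node (.node (.leaf 0xc000000000200123) (.leaf 0x90000000000003fb)) (.node (.leaf 0x600000000020030c) (.leaf 0)))) (.node (.node (.node (.leaf 0xa0000000002001c1) (.leaf 0xa00000000010036f)) (.node (.leaf 0xa0000000000004f7) (.leaf 0))) (.node (.node (.leaf 0xb000000000000093) (.leaf 0)) (.node (.leaf 0x600000000000019a) (.leaf 0))))) (.node (.node (.node (.node (.leaf 0x9000000000100063) (.leaf 0xa000000000100461)) (.node (.leaf 0x7000000000000263) (.leaf 0))) (.node (.node (.leaf 0x900000000010029d) (.leaf 0xa000000000100563)) (.node (.leaf 0x8000000000100360) (.leaf 0)))) (.node (.node (.node (.leaf 0xb0000000000000e1) (.leaf 0xa00000000020056e)) (.node (.leaf 0x600000000000030c) (.leaf 0))) (.node (.node (.leaf 0xb0000000000001e1) (.leaf 0)) (.node (.leaf 0xa0000000001003e3) (.leaf 0))))))) (.node (.node (.node (.node (.node (.node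 (.leaf 0x6000000000200029) (.leaf 0x90000000002003bc)) (.node (.leaf 0xb00000000020045f) (.leaf 0))) (.node (.node (.leaf 0x4000000000200032) (.leaf 0x9000000000200083)) (.node (.leaf 0xa00000000000034b) (.leaf 0)))) (.node (.node (.node (.leaf 0xb000000000100093) (.leaf 0xb000000000200155)) (.node (.leaf 0xa000000000100291) (.leaf 0))) (.node (.node (.leaf 0x80000000002000eb) (.leaf 0)) (.node (.leaf 0xa0000000002002d7) (.leaf 0))))) (.node (.node (.node (.node (.leaf 0x500000000000006f) (.leaf 0xa0000000001004de)) (.node (.leaf 0xc000000000100299) (.leaf 0))) (.node (.node (.leaf 0x800000000020014e) (.leaf 0x90000000002004f4)) (.node (.leaf 0xb0000000000002b2) (.leaf 0)))) (.node (.node (.node (.leaf 0xb000000000200325) (.leaf 0xa0000000000004d1)) (.node (.leaf 0xa000000000000381) (.leaf 0))) (.node (.node (.leaf 0x9000000000000136) (.leaf 0)) (.node (.leaf 0xa000000000000483) (.leaf 0)))))) (.node (.node (.node (.node (.node (.leaf 0x3000000000100005) (.leaf 0xd00000000020031d))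 (.node (.leaf 0x9000000000200536) (.leaf 0))) (.node (.node (.leaf 0x9000000000100133) (.leaf 0xc00000000020044a)) (.node (.leaf 0xa0000000001002ac) (.leaf 0)))) (.node (.node (.node (.leaf 0x80000000000000ad) (.leaf 0x9000000000200187)) (.node (.leaf 0xa000000000200132) (.leaf 0))) (.node (.node (.leaf 0xa00000000020032c) (.leaf 0)) (.node (.leaf 0xa0000000001003b3) (.leaf 0))))) (.node (.node (.node (.node (.leaf 0x7000000000100073) (.leaf 0x9000000000200448)) (.node (.leaf 0xb00000000010057e) (.leaf 0))) (.node (.node (.leaf 0x9000000000000307) (.leaf 0x8000000000200200)) (.node (.leaf 0x90000000002001b7) (.leaf 0)))) (.node (.node (.node (.leaf 0xa0000000001001e3) (.leaf 0x8000000000100234)) (.node (.leaf 0x90000000000000f4) (.leaf 0))) (.node (.node (.leaf 0xb00000000020015b) (.leaf 0)) (.node (.leaf 0xa000000000200145) (.leaf 0))))))))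

/-- part of a forest -/
def forest010 : Trie :=
  (.node (.node (.node (.node (.node (.node (.node (.leaf 0x500000000010000e) (.leaf 0xa0000000000001f4)) (.node (.leaf 0x90000000000004d0) (.leaf 0))) (.node (.node (.leaf 0x500000000020006f) (.leaf 0xc000000000100518)) (.node (.leaf 0x900000000010030b) (.leaf 0)))) (.node (.node (.node (.leaf 0x500000000010009c) (.leaf 0xa000000000200461)) (.node (.leaf 0xa000000000100289) (.leaf 0))) (.node (.node (.leaf 0x8000000000000189) (.leaf 0)) (.node (.leaf 0x90000000002003fb) (.leaf 0))))) (.node (.node (.node (.node (.leaf 0x800000000000006b) (.leaf 0xb00000000010020f)) (.node (.leaf 0x8000000000200262) (.leaf 0))) (.node (.node (.leaf 0x5000000000000112) (.leaf 0xc000000000000549)) (.node (.leaf 0xa00000000020034b) (.leaf 0)))) (.node (.node (.node (.leaf 0x90000000001000cb) (.leaf 0xa0000000001004cb)) (.node (.leaf 0x9000000000100255) (.leaf 0))) (.node (.node (.leaf 0x8000000000000011) (.leaf 0)) (.node (.leaf 0xa0000000002000d8)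 (.leaf 0)))))) (.node (.node (.node (.node (.node (.leaf 0x6000000000100029) (.leaf 0x9000000000100429)) (.node (.leaf 0x900000000010022b) (.leaf 0))) (.node (.node (.leaf 0x9000000000000129) (.leaf 0xa00000000000052b)) (.node (.leaf 0xb00000000020031b) (.leaf 0)))) (.node (.node (.node (.leaf 0x90000000002002a4) (.leaf 0x80000000001004a9)) (.node (.leaf 0x9000000000200369) (.leaf 0))) (.node (.node (.leaf 0x700000000010033d) (.leaf 0)) (.node (.leaf 0x9000000000200240) (.leaf 0))))) (.node (.node (.node (.node (.leaf 0xa00000000000004b) (.leaf 0x70000000000001ff)) (.node (.leaf 0x900000000010026b) (.leaf 0))) (.node (.node (.leaf 0x6000000000000113) (.leaf 0x900000000010056b)) (.node (.leaf 0xa00000000010056d) (.leaf 0)))) (.node (.node (.node (.leaf 0x60000000001000ba) (.leaf 0xa0000000000004eb)) (.node (.leaf 0xa0000000002002ba) (.leaf 0))) (.node (.node (.leaf 0xa0000000002001b5) (.leaf 0)) (.node (.leaf 0x70000000002000ae) (.leaf 0))))))) (.node (.node (.node (.node (.node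 (.node (.leaf 0x8000000000100019) (.leaf 0xa000000000200179)) (.node (.leaf 0xa000000000000457) (.leaf 0))) (.node (.node (.leaf 0x900000000010011b) (.leaf 0x900000000000016d)) (.node (.leaf 0xb000000000100319) (.leaf 0)))) (.node (.node (.node (.leaf 0xa000000000200279) (.leaf 0x90000000001002ce)) (.node (.leaf 0xb00000000010029b) (.leaf 0))) (.node (.node (.leaf 0x50000000002000e9) (.leaf 0)) (.node (.leaf 0x9000000000200318) (.leaf 0))))) (.node (.node (.node (.node (.leaf 0x8000000000100102) (.leaf 0x9000000000100339)) (.node (.leaf 0xb000000000100015) (.leaf 0))) (.node (.node (.leaf 0x900000000020005d) (.leaf 0xb00000000000037a)) (.node (.leaf 0xb00000000020032b) (.leaf 0)))) (.node (.node (.node (.leaf 0x80000000002003a3) (.leaf 0xb000000000200180)) (.node (.leaf 0x800000000000014e) (.leaf 0))) (.node (.node (.leaf 0x8000000000200010) (.leaf 0)) (.node (.leaf 0x80000000001003fa) (.leaf 0)))))) (.node (.node (.node (.node (.node (.leaf 0x80000000001002bd) (.leaf 0xb000000000100439))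 (.node (.leaf 0xb000000000000168) (.leaf 0))) (.node (.node (.leaf 0x800000000010013b) (.leaf 0x900000000010053b)) (.node (.leaf 0x7000000000100294) (.leaf 0)))) (.node (.node (.node (.leaf 0x50000000000000e9) (.leaf 0xa0000000001004bb)) (.node (.leaf 0x90000000001000cd) (.leaf 0))) (.node (.node (.leaf 0xa0000000002002ac) (.leaf 0)) (.node (.leaf 0x90000000000003b6) (.leaf 0))))) (.node (.node (.node (.node (.leaf 0x70000000001002e9) (.leaf 0xa000000000000517)) (.node (.leaf 0xa000000000000279) (.leaf 0))) (.node (.node (.leaf 0xa000000000000179) (.leaf 0x9000000000100536)) (.node (.leaf 0xa0000000002004eb) (.leaf 0)))) (.node (.node (.node (.leaf 0xa000000000000117) (.leaf 0xa0000000002003b3)) (.node (.leaf 0xb000000000200435) (.leaf 0))) (.node (.node (.leaf 0x90000000001001fb) (.leaf 0)) (.node (.leaf 0x70000000002000ac) (.leaf 0))))))))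

/-- part of a forest -/
def forest06 : Trie :=
  (.node (.node (.node (.node (.node (.node (.node (.leaf 0x600000000010004e) (.leaf 0x90000000001000b2)) (.node (.leaf 0x800000000000028f) (.leaf 0))) (.node (.node (.leaf 0x800000000010012f) (.leaf 0xa00000000010053c)) (.node (.leaf 0x9000000000100208) (.leaf 0)))) (.node (.node (.node (.leaf 0x900000000020003a) (.leaf 0x900000000000055b)) (.node (.leaf 0xa000000000200457) (.leaf 0))) (.node (.node (.leaf 0x9000000000100187) (.leaf 0)) (.node (.leaf 0x80000000000002a1) (.leaf 0))))) (.node (.node (.node (.node (.leaf 0x90000000001003bc) (.leaf 0xb0000000000002a6)) (.node (.leaf 0xa000000000100247) (.leaf 0))) (.node (.node (.leaf 0x8000000000000103) (.leaf 0x8000000000100547)) (.node (.leaf 0xb00000000010027f) (.leaf 0)))) (.node (.node (.node (.leaf 0x800000000000028d) (.leaf 0xb0000000002000fa)) (.node (.leaf 0xa000000000200087) (.leaf 0))) (.node (.node (.leaf 0x8000000000200207) (.leaf 0)) (.node (.leaf 0x90000000000003c5) (.leaf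 0)))))) (.node (.node (.node (.node (.node (.leaf 0x9000000000000088) (.leaf 0xa0000000001004c7)) (.node (.leaf 0x9000000000000503) (.leaf 0))) (.node (.node (.leaf 0x9000000000000055) (.leaf 0x80000000001002c7)) (.node (.leaf 0x9000000000000572) (.leaf 0)))) (.node (.node (.node (.leaf 0xa000000000100026) (.leaf 0x900000000010047e)) (.node (.leaf 0xa0000000001004f9) (.leaf 0))) (.node (.node (.leaf 0x8000000000200050) (.leaf 0)) (.node (.leaf 0xb000000000200305) (.leaf 0))))) (.node (.node (.node (.node (.leaf 0x90000000001003b6) (.leaf 0xa000000000000476)) (.node (.leaf 0x9000000000100265) (.leaf 0))) (.node (.node (.leaf 0x8000000000000184) (.leaf 0xa0000000000003e4)) (.node (.leaf 0xa000000000000367) (.leaf 0)))) (.node (.node (.node (.leaf 0x4000000000100051) (.leaf 0xb000000000000562)) (.node (.leaf 0xb0000000002001f9) (.leaf 0))) (.node (.node (.leaf 0xb0000000001001e5) (.leaf 0)) (.node (.leaf 0x90000000000003e7) (.leaf 0))))))) (.node (.node (.node (.node (.node (.node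 (.leaf 0x90000000001001d3) (.leaf 0xa0000000000002ca)) (.node (.leaf 0xb0000000002002f5) (.leaf 0))) (.node (.node (.leaf 0x8000000000200011) (.leaf 0xa000000000100517)) (.node (.leaf 0x6000000000200134) (.leaf 0)))) (.node (.node (.node (.leaf 0xb00000000010006a) (.leaf 0x600000000020004e)) (.node (.leaf 0x9000000000100424) (.leaf 0))) (.node (.node (.leaf 0x80000000002003e8) (.leaf 0)) (.node (.leaf 0x90000000000003c7) (.leaf 0))))) (.node (.node (.node (.node (.leaf 0x700000000020006d) (.leaf 0xa000000000100457)) (.node (.leaf 0xd00000000020051d) (.leaf 0))) (.node (.node (.leaf 0xa000000000100157) (.leaf 0xa000000000100540)) (.node (.leaf 0x9000000000100357) (.leaf 0)))) (.node (.node (.node (.leaf 0x7000000000100057) (.leaf 0xa000000000200523)) (.node (.leaf 0x90000000001002fc) (.leaf 0))) (.node (.node (.leaf 0xa00000000020021d) (.leaf 0)) (.node (.leaf 0x90000000002003c4) (.leaf 0)))))) (.node (.node (.node (.node (.node (.leaf 0x500000000020004d) (.leaf 0x9000000000100437))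 (.node (.leaf 0x5000000000000499) (.leaf 0))) (.node (.node (.leaf 0x8000000000100135) (.leaf 0x8000000000100535)) (.node (.leaf 0xa00000000000042a) (.leaf 0)))) (.node (.node (.node (.leaf 0x6000000000200007) (.leaf 0xc0000000001004b5)) (.node (.leaf 0xa0000000001002b5) (.leaf 0))) (.node (.node (.leaf 0x8000000000200105) (.leaf 0)) (.node (.leaf 0x80000000001003b7) (.leaf 0))))) (.node (.node (.node (.node (.leaf 0xa000000000100077) (.leaf 0x900000000010054d)) (.node (.leaf 0xa000000000100277) (.leaf 0))) (.node (.node (.leaf 0xa000000000100177) (.leaf 0xb000000000000464)) (.node (.leaf 0xb000000000100375) (.leaf 0)))) (.node (.node (.node (.leaf 0x9000000000200079) (.leaf 0xa0000000000004f5)) (.node (.leaf 0xb0000000000002f5) (.leaf 0))) (.node (.node (.leaf 0x70000000000001fd) (.leaf 0)) (.node (.leaf 0x80000000001004b7) (.leaf 0))))))))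

/-- part of a forest -/
def forest014 : Trie :=
  (.node (.node (.node (.node (.node (.node (.node (.leaf 0x4000000000000051) (.leaf 0xb000000000200409)) (.node (.leaf 0xa00000000010020d) (.leaf 0))) (.node (.node (.leaf 0x600000000000010d) (.leaf 0x9000000000100201)) (.node (.leaf 0x800000000010030f) (.leaf 0)))) (.node (.node (.node (.leaf 0x800000000010008f) (.leaf 0xb000000000100303)) (.node (.leaf 0x800000000010028d) (.leaf 0))) (.node (.node (.leaf 0x90000000002000b3) (.leaf 0)) (.node (.leaf 0x9000000000000192) (.leaf 0))))) (.node (.node (.node (.node (.leaf 0x500000000010004d) (.leaf 0xa00000000010044d)) (.node (.leaf 0xa0000000000002e1) (.leaf 0))) (.node (.node (.leaf 0x700000000010014d) (.leaf 0x8000000000000207)) (.node (.leaf 0x8000000000100368) (.leaf 0)))) (.node (.node (.node (.leaf 0x9000000000100178) (.leaf 0xa0000000002004d1)) (.node (.leaf 0x80000000001002cf) (.leaf 0))) (.node (.node (.leaf 0xa0000000001001cf) (.leaf 0)) (.node (.leaf 0xa0000000001003cf)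 (.leaf 0)))))) (.node (.node (.node (.node (.node (.leaf 0x6000000000100030) (.leaf 0x800000000000042f)) (.node (.leaf 0xb00000000010022f) (.leaf 0))) (.node (.node (.leaf 0xa0000000001000df) (.leaf 0x90000000000004e8)) (.node (.leaf 0x7000000000100316) (.leaf 0)))) (.node (.node (.node (.leaf 0x60000000001000b0) (.leaf 0x900000000010023f)) (.node (.leaf 0x90000000002002d9) (.leaf 0))) (.node (.node (.leaf 0xa0000000001001af) (.leaf 0)) (.node (.leaf 0xb000000000000433) (.leaf 0))))) (.node (.node (.node (.node (.leaf 0x700000000010006d) (.leaf 0x900000000000046d)) (.node (.leaf 0xb00000000010026f) (.leaf 0))) (.node (.node (.leaf 0x80000000001000e0) (.leaf 0x900000000010056f)) (.node (.leaf 0xa00000000000036f) (.leaf 0)))) (.node (.node (.node (.leaf 0x70000000002000ea) (.leaf 0xa00000000000018e)) (.node (.leaf 0xc0000000002000f1) (.leaf 0))) (.node (.node (.leaf 0xc0000000002003d1) (.leaf 0)) (.node (.leaf 0xb000000000000358) (.leaf 0))))))) (.node (.node (.node (.node (.node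 (.node (.leaf 0x800000000010001f) (.leaf 0x700000000020016b)) (.node (.leaf 0xa000000000000469) (.leaf 0))) (.node (.node (.leaf 0x800000000010011d) (.leaf 0xa000000000200247)) (.node (.leaf 0xa000000000100082) (.leaf 0)))) (.node (.node (.node (.leaf 0x900000000010009f) (.leaf 0xa00000000000056d)) (.node (.leaf 0xa00000000010029f) (.leaf 0))) (.node (.node (.leaf 0x900000000010019d) (.leaf 0)) (.node (.leaf 0xc00000000010039d) (.leaf 0))))) (.node (.node (.node (.node (.leaf 0x900000000010005d) (.leaf 0xb000000000100213)) (.node (.leaf 0xa000000000200066) (.leaf 0))) (.node (.node (.leaf 0x800000000020033c) (.leaf 0x90000000002004f2)) (.node (.leaf 0xc0000000002000fe) (.leaf 0)))) (.node (.node (.node (.leaf 0xa0000000000000df) (.leaf 0x900000000000053b)) (.node (.leaf 0x800000000020009b) (.leaf 0))) (.node (.node (.leaf 0x90000000002002e3) (.leaf 0)) (.node (.leaf 0xc0000000000004dc) (.leaf 0)))))) (.node (.node (.node (.node (.node (.leaf 0x900000000010003d) (.leaf 0xa0000000002003be))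 (.node (.leaf 0xb00000000000023d) (.leaf 0))) (.node (.node (.leaf 0x7000000000100037) (.leaf 0xb0000000000001ba)) (.node (.leaf 0xb00000000010033f) (.leaf 0)))) (.node (.node (.node (.leaf 0x7000000000200097) (.leaf 0x60000000002000ba)) (.node (.leaf 0xa00000000000029f) (.leaf 0))) (.node (.node (.leaf 0x800000000000019c) (.leaf 0)) (.node (.leaf 0x90000000001003bf) (.leaf 0))))) (.node (.node (.node (.node (.leaf 0xa00000000010007d) (.leaf 0x800000000010047d)) (.node (.leaf 0xa000000000200270) (.leaf 0))) (.node (.node (.leaf 0x8000000000100013) (.leaf 0xa00000000000057a)) (.node (.leaf 0xa00000000010037f) (.leaf 0)))) (.node (.node (.node (.leaf 0xb0000000001000ff) (.leaf 0xb0000000000004ff)) (.node (.leaf 0xc000000000200549) (.leaf 0))) (.node (.node (.leaf 0x90000000000001f5) (.leaf 0)) (.node (.leaf 0xa0000000001003ff) (.leaf 0))))))))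

/-- part of a forest -/
def forest01 : Trie :=
  (.node (.node (.node (.node (.node (.node (.node (.leaf 0x1000000000000000) (.leaf 0xb000000000100400)) (.node (.leaf 0x8000000000100200) (.leaf 0))) (.node (.node (.leaf 0x600000000010010d) (.leaf 0x9000000000000437)) (.node (.leaf 0xa00000000000036d) (.leaf 0)))) (.node (.node (.node (.leaf 0x900000000010007f) (.leaf 0xa000000000200480)) (.node (.leaf 0xb000000000100282) (.leaf 0))) (.node (.node (.leaf 0x9000000000200208) (.leaf 0)) (.node (.leaf 0x90000000002001ab) (.leaf 0))))) (.node (.node (.node (.node (.leaf 0x9000000000100040) (.leaf 0x70000000000000bb)) (.node (.leaf 0x9000000000100240) (.leaf 0))) (.node (.node (.leaf 0x7000000000100089) (.leaf 0x9000000000200428)) (.node (.leaf 0x9000000000100342) (.leaf 0)))) (.node (.node (.node (.leaf 0x80000000001000b5) (.leaf 0x9000000000200568)) (.node (.leaf 0xb0000000001002c2) (.leaf 0))) (.node (.node (.leaf 0x90000000000002a4) (.leaf 0)) (.node (.leaf 0xa000000000100142) (.leaf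 0)))))) (.node (.node (.node (.node (.node (.leaf 0x900000000000007f) (.leaf 0xa000000000100420)) (.node (.leaf 0x8000000000100514) (.leaf 0))) (.node (.node (.leaf 0xb0000000002004a2) (.leaf 0xb000000000200161)) (.node (.leaf 0x90000000002000c1) (.leaf 0)))) (.node (.node (.node (.leaf 0x80000000000000a0) (.leaf 0xb0000000002003b4)) (.node (.leaf 0x70000000001002bf) (.leaf 0))) (.node (.node (.leaf 0x8000000000000323) (.leaf 0)) (.node (.leaf 0x80000000002001aa) (.leaf 0))))) (.node (.node (.node (.node (.leaf 0xa00000000000016f) (.leaf 0x9000000000100273)) (.node (.leaf 0x8000000000100262) (.leaf 0))) (.node (.node (.leaf 0xa000000000100162) (.leaf 0xa0000000002002b5)) (.node (.leaf 0x9000000000100362) (.leaf 0)))) (.node (.node (.node (.leaf 0xa000000000200436) (.leaf 0xc0000000001002bc)) (.node (.leaf 0x90000000001001c6) (.leaf 0))) (.node (.node (.leaf 0xa0000000001001e0) (.leaf 0)) (.node (.leaf 0x700000000010019b) (.leaf 0))))))) (.node (.node (.node (.node (.node (.node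 (.leaf 0x7000000000100012) (.leaf 0x800000000010004c)) (.node (.leaf 0xc000000000100212) (.leaf 0))) (.node (.node (.leaf 0x9000000000100110) (.leaf 0xc00000000020031c)) (.node (.leaf 0x9000000000100310) (.leaf 0)))) (.node (.node (.node (.leaf 0x7000000000000090) (.leaf 0xc00000000020043a)) (.node (.leaf 0x90000000001003f8) (.leaf 0))) (.node (.node (.leaf 0x9000000000100192) (.leaf 0)) (.node (.leaf 0xa00000000000040c) (.leaf 0))))) (.node (.node (.node (.node (.leaf 0x300000000010002c) (.leaf 0xb000000000100374)) (.node (.leaf 0xc00000000020054b) (.leaf 0))) (.node (.node (.leaf 0x9000000000100152) (.leaf 0xa0000000001004c4)) (.node (.leaf 0xa00000000000018b) (.leaf 0)))) (.node (.node (.node (.leaf 0xc0000000001000d0) (.leaf 0x90000000001004d0)) (.node (.leaf 0xa000000000200222) (.leaf 0))) (.node (.node (.leaf 0xa0000000001001d2) (.leaf 0)) (.node (.leaf 0xb0000000001000c4) (.leaf 0)))))) (.node (.node (.node (.node (.node (.leaf 0x6000000000000007) (.leaf 0xc0000000002003bb))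 (.node (.leaf 0x900000000020008e) (.leaf 0))) (.node (.node (.leaf 0x900000000000008e) (.leaf 0xa000000000200542)) (.node (.leaf 0xb000000000200364) (.leaf 0)))) (.node (.node (.node (.leaf 0x400000000000008c) (.leaf 0x80000000000000eb)) (.node (.leaf 0xa0000000000002d8) (.leaf 0))) (.node (.node (.leaf 0x9000000000200165) (.leaf 0)) (.node (.leaf 0xa0000000002003a0) (.leaf 0))))) (.node (.node (.node (.node (.leaf 0x8000000000100072) (.leaf 0xa000000000100472)) (.node (.leaf 0xa000000000100270) (.leaf 0))) (.node (.node (.leaf 0xa000000000100172) (.leaf 0xa0000000001004f5)) (.node (.leaf 0x900000000020019d) (.leaf 0)))) (.node (.node (.node (.leaf 0xb0000000001000f2) (.leaf 0x9000000000100572)) (.node (.leaf 0xc0000000002003df) (.leaf 0))) (.node (.node (.leaf 0xc0000000002001e6) (.leaf 0)) (.node (.leaf 0xb000000000200144) (.leaf 0))))))))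

/-- part of a forest -/
def forest09 : Trie :=
  (.node (.node (.node (.node (.node (.node (.node (.leaf 0x4000000000100008) (.leaf 0xa000000000100450)) (.node (.leaf 0x900000000020030e) (.leaf 0))) (.node (.node (.leaf 0xa00000000000009e) (.leaf 0x900000000010041f)) (.node (.leaf 0x600000000020014c) (.leaf 0)))) (.node (.node (.node (.leaf 0x6000000000000029) (.leaf 0xb00000000010043f)) (.node (.leaf 0x9000000000200038) (.leaf 0))) (.node (.node (.leaf 0x700000000010016a) (.leaf 0)) (.node (.leaf 0xa00000000000050c) (.leaf 0))))) (.node (.node (.node (.node (.leaf 0x90000000001001a1) (.leaf 0xa0000000002000df)) (.node (.leaf 0x7000000000200263) (.leaf 0))) (.node (.node (.leaf 0x80000000002000a0) (.leaf 0xb0000000001001ea)) (.node (.leaf 0xa00000000020019e) (.leaf 0)))) (.node (.node (.node (.leaf 0x9000000000200058) (.leaf 0xa000000000200405)) (.node (.leaf 0xa0000000001002ca) (.leaf 0))) (.node (.node (.leaf 0xb0000000001002a8) (.leaf 0)) (.node (.leaf 0x9000000000000221) (.leaf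 0)))))) (.node (.node (.node (.node (.node (.leaf 0x50000000001000e6) (.leaf 0x8000000000100508)) (.node (.leaf 0xa00000000000022a) (.leaf 0))) (.node (.node (.leaf 0x80000000002003e1) (.leaf 0xb0000000000004ce)) (.node (.leaf 0xc00000000010036b) (.leaf 0)))) (.node (.node (.node (.leaf 0xa000000000100406) (.leaf 0x7000000000200442)) (.node (.leaf 0x9000000000100018) (.leaf 0))) (.node (.node (.leaf 0x80000000001001a8) (.leaf 0)) (.node (.leaf 0xa0000000001001df) (.leaf 0))))) (.node (.node (.node (.node (.leaf 0x90000000001003c4) (.leaf 0x90000000001003c8)) (.node (.leaf 0xa00000000010026a) (.leaf 0))) (.node (.node (.leaf 0x9000000000000237) (.leaf 0xa00000000000056a)) (.node (.leaf 0x800000000000032e) (.leaf 0)))) (.node (.node (.node (.leaf 0x40000000001000e8) (.leaf 0xb0000000001004ea)) (.node (.leaf 0x600000000010030c) (.leaf 0))) (.node (.node (.leaf 0xa000000000200291) (.leaf 0)) (.node (.leaf 0x60000000001004d8) (.leaf 0))))))) (.node (.node (.node (.node (.node (.node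 (.leaf 0x7000000000100101) (.leaf 0xb000000000100127)) (.node (.leaf 0xb0000000001001bb) (.leaf 0))) (.node (.node (.leaf 0xa000000000100501) (.leaf 0xb0000000001003dc)) (.node (.leaf 0xa000000000200266) (.leaf 0)))) (.node (.node (.node (.leaf 0xb000000000200267) (.leaf 0x400000000020008c)) (.node (.leaf 0xb0000000000004ad) (.leaf 0))) (.node (.node (.leaf 0x900000000000045d) (.leaf 0)) (.node (.leaf 0x900000000010028c) (.leaf 0))))) (.node (.node (.node (.node (.leaf 0x9000000000000038) (.leaf 0xb00000000010057d)) (.node (.leaf 0xc00000000010025a) (.leaf 0))) (.node (.node (.leaf 0xa0000000000001af) (.leaf 0xa000000000200540)) (.node (.leaf 0xb00000000010050d) (.leaf 0)))) (.node (.node (.node (.leaf 0xa00000000020050c) (.leaf 0xa000000000000461)) (.node (.leaf 0x8000000000100189) (.leaf 0))) (.node (.node (.leaf 0xb000000000100267) (.leaf 0)) (.node (.leaf 0xb0000000001003d8) (.leaf 0)))))) (.node (.node (.node (.node (.node (.leaf 0x900000000010003a) (.leaf 0xa0000000000002ba))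 (.node (.leaf 0xa000000000100150) (.leaf 0))) (.node (.node (.leaf 0x7000000000100138) (.leaf 0xa00000000000053a)) (.node (.leaf 0x800000000020033a) (.leaf 0)))) (.node (.node (.node (.leaf 0xa000000000000311) (.leaf 0x9000000000100568)) (.node (.leaf 0x8000000000200164) (.leaf 0))) (.node (.node (.leaf 0xb0000000001001b8) (.leaf 0)) (.node (.leaf 0x900000000020016e) (.leaf 0))))) (.node (.node (.node (.node (.leaf 0x8000000000000019) (.leaf 0x80000000001002b7)) (.node (.leaf 0x900000000010042e) (.leaf 0))) (.node (.node (.leaf 0x900000000010011e) (.leaf 0xa00000000010057a)) (.node (.leaf 0x9000000000000378) (.leaf 0)))) (.node (.node (.node (.leaf 0xa0000000001000fb) (.leaf 0x90000000001000ed)) (.node (.leaf 0xb000000000000456) (.leaf 0))) (.node (.node (.leaf 0xa0000000000001fa) (.leaf 0)) (.node (.leaf 0xa000000000000361) (.leaf 0))))))))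

/-- part of a forest -/
def forest05 : Trie :=
  (.node (.node (.node (.node (.node (.node (.node (.leaf 0x2000000000200001) (.leaf 0x9000000000100404)) (.node (.leaf 0xb0000000001002d0) (.leaf 0))) (.node (.node (.leaf 0x70000000001000ac) (.leaf 0xb000000000000504)) (.node (.leaf 0xa00000000010053a) (.leaf 0)))) (.node (.node (.node (.leaf 0x800000000010009b) (.leaf 0xb0000000001004ac)) (.node (.leaf 0x9000000000100261) (.leaf 0))) (.node (.node (.leaf 0x800000000010008d) (.leaf 0)) (.node (.leaf 0x9000000000000384) (.leaf 0))))) (.node (.node (.node (.node (.leaf 0xa000000000000062) (.leaf 0xb000000000000120)) (.node (.leaf 0xb000000000000246) (.leaf 0))) (.node (.node (.leaf 0x9000000000000133) (.leaf 0x9000000000000546)) (.node (.leaf 0xb000000000200271) (.leaf 0)))) (.node (.node (.node (.leaf 0x90000000001000c6) (.leaf 0xa000000000200117)) (.node (.leaf 0xb0000000001002c6) (.leaf 0))) (.node (.node (.leaf 0x9000000000200206) (.leaf 0)) (.node (.leaf 0x800000000010032d) (.leaf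 0)))))) (.node (.node (.node (.node (.node (.leaf 0x9000000000000085) (.leaf 0x7000000000200090)) (.node (.leaf 0xb000000000100224) (.leaf 0))) (.node (.node (.leaf 0x9000000000200185) (.leaf 0x9000000000000526)) (.node (.leaf 0xa000000000100326) (.leaf 0)))) (.node (.node (.node (.leaf 0xb0000000001000a6) (.leaf 0xa0000000002004b9)) (.node (.leaf 0xa0000000001001b1) (.leaf 0))) (.node (.node (.leaf 0xa0000000001001a4) (.leaf 0)) (.node (.leaf 0xc000000000200495) (.leaf 0))))) (.node (.node (.node (.node (.leaf 0xa000000000000042) (.leaf 0xb000000000100466)) (.node (.leaf 0x8000000000000264) (.leaf 0))) (.node (.node (.leaf 0x800000000000027c) (.leaf 0x9000000000100196)) (.node (.leaf 0xb000000000100366) (.leaf 0)))) (.node (.node (.node (.leaf 0x50000000000000e6) (.leaf 0xa0000000002002d6)) (.node (.leaf 0xa0000000000000b8) (.leaf 0))) (.node (.node (.leaf 0xa0000000000001e4) (.leaf 0)) (.node (.leaf 0xa0000000001003e6) (.leaf 0))))))) (.node (.node (.node (.node (.node (.node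 (.leaf 0xa000000000000075) (.leaf 0xa000000000100414)) (.node (.leaf 0xc000000000100216) (.leaf 0))) (.node (.node (.leaf 0x9000000000100116) (.leaf 0x90000000002001f5)) (.node (.leaf 0x50000000002000e6) (.leaf 0)))) (.node (.node (.node (.leaf 0xc000000000100096) (.leaf 0xb0000000001003ce)) (.node (.leaf 0x800000000020050b) (.leaf 0))) (.node (.node (.leaf 0x70000000002003e9) (.leaf 0)) (.node (.leaf 0x9000000000000255) (.leaf 0))))) (.node (.node (.node (.node (.leaf 0x8000000000100056) (.leaf 0xb000000000200456)) (.node (.leaf 0x800000000020006b) (.leaf 0))) (.node (.node (.leaf 0xa0000000001000f3) (.leaf 0xa00000000000034d)) (.node (.leaf 0xb000000000200579) (.leaf 0)))) (.node (.node (.node (.leaf 0x80000000000000d6) (.leaf 0xc00000000010051c)) (.node (.leaf 0xa0000000001002d6) (.leaf 0))) (.node (.node (.leaf 0x9000000000200201) (.leaf 0)) (.node (.leaf 0xb00000000020042b) (.leaf 0)))))) (.node (.node (.node (.node (.node (.leaf 0x6000000000100036) (.leaf 0xa000000000000436))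 (.node (.leaf 0x6000000000100236) (.leaf 0))) (.node (.node (.leaf 0x700000000010000f) (.leaf 0x700000000020016a)) (.node (.leaf 0xa00000000000026a) (.leaf 0)))) (.node (.node (.node (.leaf 0x70000000000000b6) (.leaf 0xb000000000100464)) (.node (.leaf 0x900000000010046d) (.leaf 0))) (.node (.node (.leaf 0x900000000000013a) (.leaf 0)) (.node (.leaf 0xb0000000002002ef) (.leaf 0))))) (.node (.node (.node (.node (.leaf 0x90000000001000d4) (.leaf 0xa000000000100476)) (.node (.leaf 0xa0000000001001fa) (.leaf 0))) (.node (.node (.leaf 0xa000000000200014) (.leaf 0xb000000000100421)) (.node (.leaf 0xa000000000100226) (.leaf 0)))) (.node (.node (.node (.leaf 0x900000000020013f) (.leaf 0x90000000001004f4)) (.node (.leaf 0xa0000000001002f4) (.leaf 0))) (.node (.node (.leaf 0x80000000001001f6) (.leaf 0)) (.node (.leaf 0xb00000000010051e) (.leaf 0))))))))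

/-- part of a forest -/
def forest013 : Trie :=
  (.node (.node (.node (.node (.node (.node (.node (.leaf 0x2000000000100004) (.leaf 0x9000000000000448)) (.node (.leaf 0x90000000002002a0) (.leaf 0))) (.node (.node (.leaf 0x50000000001000e7) (.leaf 0xa000000000200241)) (.node (.leaf 0x40000000000000e8) (.leaf 0)))) (.node (.node (.node (.leaf 0x700000000000008b) (.leaf 0x9000000000100448)) (.node (.leaf 0x7000000000200035) (.leaf 0))) (.node (.node (.leaf 0x80000000002000b4) (.leaf 0)) (.node (.leaf 0xa00000000020048d) (.leaf 0))))) (.node (.node (.node (.node (.leaf 0x400000000010008c) (.leaf 0x90000000002001cb)) (.node (.leaf 0xb0000000001000d7) (.leaf 0))) (.node (.node (.leaf 0x600000000000014c) (.leaf 0x80000000001004ab)) (.node (.leaf 0x900000000010034e) (.leaf 0)))) (.node (.node (.node (.leaf 0x80000000001000cc) (.leaf 0x9000000000200088)) (.node (.leaf 0x90000000002002ce) (.leaf 0))) (.node (.node (.leaf 0xa00000000020042a) (.leaf 0)) (.node (.leaf 0xb0000000000003ce)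 (.leaf 0)))))) (.node (.node (.node (.node (.node (.leaf 0x3000000000200003) (.leaf 0xc00000000010027b)) (.node (.leaf 0xa00000000010005c) (.leaf 0))) (.node (.node (.leaf 0x9000000000000447) (.leaf 0x9000000000000536)) (.node (.leaf 0x700000000000035f) (.leaf 0)))) (.node (.node (.node (.leaf 0x70000000001000ae) (.leaf 0xa0000000001004ae)) (.node (.leaf 0xa0000000000002ac) (.leaf 0))) (.node (.node (.leaf 0x900000000010043c) (.leaf 0)) (.node (.leaf 0xa0000000001003be) (.leaf 0))))) (.node (.node (.node (.node (.leaf 0x60000000001000dc) (.leaf 0x80000000001000bc)) (.node (.leaf 0xb000000000200426) (.leaf 0))) (.node (.node (.leaf 0x80000000002000a7) (.leaf 0x9000000000200248)) (.node (.leaf 0x90000000002003b6) (.leaf 0)))) (.node (.node (.node (.leaf 0x80000000001000ee) (.leaf 0xb0000000002002e5)) (.node (.leaf 0xc000000000000202) (.leaf 0))) (.node (.node (.leaf 0xb000000000200452) (.leaf 0)) (.node (.leaf 0xb000000000100433) (.leaf 0))))))) (.node (.node (.node (.node (.node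 (.node (.leaf 0xa00000000010001c) (.leaf 0x8000000000100098)) (.node (.leaf 0x9000000000100248) (.leaf 0))) (.node (.node (.leaf 0x70000000002002e9) (.leaf 0xc0000000001004dc)) (.node (.leaf 0xc0000000001003bb) (.leaf 0)))) (.node (.node (.node (.leaf 0x800000000000006e) (.leaf 0xb00000000010049e)) (.node (.leaf 0x800000000010019c) (.leaf 0))) (.node (.node (.leaf 0x800000000010033b) (.leaf 0)) (.node (.leaf 0xb00000000000039c) (.leaf 0))))) (.node (.node (.node (.node (.leaf 0x8000000000100164) (.leaf 0x80000000002002cf)) (.node (.leaf 0xb0000000000004a2) (.leaf 0))) (.node (.node (.leaf 0x90000000000001ab) (.leaf 0x80000000000003e1)) (.node (.leaf 0xc000000000100242) (.leaf 0)))) (.node (.node (.node (.leaf 0xb0000000001000de) (.leaf 0xa00000000020036f)) (.node (.leaf 0x90000000001002de) (.leaf 0))) (.node (.node (.leaf 0xb0000000000001dc) (.leaf 0)) (.node (.leaf 0xb0000000002003dc) (.leaf 0)))))) (.node (.node (.node (.node (.node (.leaf 0x800000000010027c) (.leaf 0xa0000000002001ad))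 (.node (.leaf 0xa00000000010023c) (.leaf 0))) (.node (.node (.leaf 0x900000000010013c) (.leaf 0xa0000000001002aa)) (.node (.leaf 0x60000000001002fd) (.leaf 0)))) (.node (.node (.node (.leaf 0x80000000000000bc) (.leaf 0x9000000000000362)) (.node (.leaf 0x7000000000000101) (.leaf 0))) (.node (.node (.leaf 0x7000000000000035) (.leaf 0)) (.node (.leaf 0x70000000002001a7) (.leaf 0))))) (.node (.node (.node (.node (.leaf 0x900000000000019d) (.leaf 0x7000000000200235)) (.node (.leaf 0x6000000000100104) (.leaf 0))) (.node (.node (.leaf 0x900000000000017e) (.leaf 0xa000000000000578)) (.node (.leaf 0xb000000000100297) (.leaf 0)))) (.node (.node (.node (.leaf 0xc0000000001000fe) (.leaf 0xc00000000000020c)) (.node (.leaf 0x50000000001000e9) (.leaf 0))) (.node (.node (.leaf 0x6000000000200498) (.leaf 0)) (.node (.leaf 0xb000000000100577) (.leaf 0))))))))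

/-- part of a forest -/
def forest03 : Trie :=
  (.node (.node (.node (.node (.node (.node (.node (.leaf 0x2000000000000001) (.leaf 0x8000000000000368)) (.node (.leaf 0xb0000000001001c0) (.leaf 0))) (.node (.node (.leaf 0x700000000020002e) (.leaf 0x800000000020013b)) (.node (.leaf 0xa00000000010018f) (.leaf 0)))) (.node (.node (.node (.leaf 0x80000000001002cb) (.leaf 0x90000000002003f6)) (.node (.leaf 0x9000000000100284) (.leaf 0))) (.node (.node (.leaf 0x9000000000200130) (.leaf 0)) (.node (.leaf 0x900000000020055d) (.leaf 0))))) (.node (.node (.node (.node (.leaf 0x80000000002002b3) (.leaf 0x7000000000100442)) (.node (.leaf 0xc000000000100244) (.leaf 0))) (.node (.node (.leaf 0x900000000010041d) (.leaf 0xa000000000100552)) (.node (.leaf 0x600000000020010d) (.leaf 0)))) (.node (.node (.node (.leaf 0xa0000000001000c2) (.leaf 0x9000000000200342)) (.node (.leaf 0xb0000000001002c4) (.leaf 0))) (.node (.node (.leaf 0xb0000000002000cf) (.leaf 0)) (.node (.leaf 0xa0000000001000aa) (.leaf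 0)))))) (.node (.node (.node (.node (.node (.leaf 0x9000000000000083) (.leaf 0xb00000000020024f)) (.node (.leaf 0xa000000000000222) (.leaf 0))) (.node (.node (.leaf 0xb000000000100124) (.leaf 0x90000000001003e7)) (.node (.leaf 0x7000000000100322) (.leaf 0)))) (.node (.node (.node (.leaf 0xb000000000100109) (.leaf 0xa00000000000020d)) (.node (.leaf 0x90000000002004c0) (.leaf 0))) (.node (.node (.leaf 0x800000000020002b) (.leaf 0)) (.node (.leaf 0x70000000001003a2) (.leaf 0))))) (.node (.node (.node (.node (.leaf 0x80000000000003b7) (.leaf 0xb000000000000462)) (.node (.leaf 0x6000000000100113) (.leaf 0))) (.node (.node (.leaf 0xa00000000010003c) (.leaf 0x9000000000200362)) (.node (.leaf 0xa000000000000405) (.leaf 0)))) (.node (.node (.node (.leaf 0x70000000002000e4) (.leaf 0xa0000000002004f9)) (.node (.leaf 0x80000000001002e4) (.leaf 0))) (.node (.node (.leaf 0x90000000002000d4) (.leaf 0)) (.node (.leaf 0x90000000002000b2) (.leaf 0))))))) (.node (.node (.node (.node (.node (.node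 (.leaf 0x7000000000000073) (.leaf 0xb0000000001003b4)) (.node (.leaf 0xa000000000200509) (.leaf 0))) (.node (.node (.leaf 0x5000000000100112) (.leaf 0xa00000000010057b)) (.node (.leaf 0xb00000000010048c) (.leaf 0)))) (.node (.node (.node (.leaf 0xa000000000100131) (.leaf 0xc0000000000003df)) (.node (.leaf 0xa00000000000049b) (.leaf 0))) (.node (.node (.leaf 0x9000000000000194) (.leaf 0)) (.node (.leaf 0xa000000000200476) (.leaf 0))))) (.node (.node (.node (.node (.leaf 0x700000000020004f) (.leaf 0x80000000002002e4)) (.node (.leaf 0xc00000000010031a) (.leaf 0))) (.node (.node (.leaf 0xb0000000000002f8) (.leaf 0xc000000000100438)) (.node (.leaf 0xa000000000200143) (.leaf 0)))) (.node (.node (.node (.leaf 0xa000000000200075) (.leaf 0xb0000000001004d2)) (.node (.leaf 0xa00000000010012d) (.leaf 0))) (.node (.node (.leaf 0x8000000000000164) (.leaf 0)) (.node (.leaf 0xc0000000000004d3) (.leaf 0)))))) (.node (.node (.node (.node (.node (.leaf 0x5000000000200009) (.leaf 0xa000000000200296))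 (.node (.leaf 0xb0000000001001b4) (.leaf 0))) (.node (.node (.leaf 0x8000000000100091) (.leaf 0xb000000000100484)) (.node (.leaf 0xa0000000000003be) (.leaf 0)))) (.node (.node (.node (.leaf 0x80000000001000b4) (.leaf 0xa000000000200186)) (.node (.leaf 0x700000000000027d) (.leaf 0))) (.node (.node (.leaf 0xb0000000002001b4) (.leaf 0)) (.node (.leaf 0x900000000010004a) (.leaf 0))))) (.node (.node (.node (.node (.leaf 0x600000000020008a) (.leaf 0x80000000000000ee)) (.node (.leaf 0x800000000020032d) (.leaf 0))) (.node (.node (.leaf 0xb000000000000174) (.leaf 0xa000000000100578)) (.node (.leaf 0xa000000000100372) (.leaf 0)))) (.node (.node (.node (.leaf 0x90000000001000f4) (.leaf 0xb0000000002001e1)) (.node (.leaf 0x80000000002000d6) (.leaf 0))) (.node (.node (.leaf 0xa0000000002001f4) (.leaf 0)) (.node (.leaf 0x900000000020041d) (.leaf 0))))))))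

/-- part of a forest -/
def forest011 : Trie :=
  (.node (.node (.node (.node (.node (.node (.node (.leaf 0x600000000010000a) (.leaf 0x80000000002002a1)) (.node (.leaf 0xa00000000020013d) (.leaf 0))) (.node (.node (.leaf 0x90000000001000c1) (.leaf 0x700000000000019b)) (.node (.leaf 0x800000000010042f) (.leaf 0)))) (.node (.node (.node (.leaf 0x600000000010008a) (.leaf 0xa00000000000051b)) (.node (.leaf 0xb0000000002002d5) (.leaf 0))) (.node (.node (.leaf 0x9000000000200133) (.leaf 0)) (.node (.leaf 0x9000000000200526) (.leaf 0))))) (.node (.node (.node (.node (.leaf 0x9000000000100411) (.leaf 0x8000000000200034)) (.node (.leaf 0xc00000000020033e) (.leaf 0))) (.node (.node (.leaf 0x4000000000200051) (.leaf 0xb000000000100564)) (.node (.leaf 0x900000000010034c) (.leaf 0)))) (.node (.node (.node (.leaf 0x80000000000000cc) (.leaf 0x900000000020014f)) (.node (.leaf 0x7000000000100343) (.leaf 0))) (.node (.node (.leaf 0x8000000000000139) (.leaf 0)) (.node (.leaf 0xb00000000010045f)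 (.leaf 0)))))) (.node (.node (.node (.node (.node (.leaf 0x700000000000002e) (.leaf 0xa000000000100151)) (.node (.leaf 0x800000000020028f) (.leaf 0))) (.node (.node (.leaf 0xa00000000010012a) (.leaf 0x90000000002001fb)) (.node (.leaf 0xa00000000000032c) (.leaf 0)))) (.node (.node (.node (.leaf 0x80000000000000a7) (.leaf 0x7000000000200314)) (.node (.leaf 0x800000000020032e) (.leaf 0))) (.node (.node (.leaf 0x80000000001003e1) (.leaf 0)) (.node (.leaf 0xa000000000000408) (.leaf 0))))) (.node (.node (.node (.node (.leaf 0x7000000000100097) (.leaf 0xb00000000010047a)) (.node (.leaf 0x8000000000200189) (.leaf 0))) (.node (.node (.leaf 0x600000000010014c) (.leaf 0x800000000020042f)) (.node (.leaf 0xb00000000010036c) (.leaf 0)))) (.node (.node (.node (.leaf 0x70000000001000ea) (.leaf 0x9000000000100369)) (.node (.leaf 0xb0000000001001d6) (.leaf 0))) (.node (.node (.leaf 0xa0000000002000f8) (.leaf 0)) (.node (.leaf 0x80000000000003ea) (.leaf 0))))))) (.node (.node (.node (.node (.node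 (.node (.leaf 0x900000000020001e) (.leaf 0xa00000000010041c)) (.node (.leaf 0xb00000000010021c) (.leaf 0))) (.node (.node (.leaf 0x800000000020007a) (.leaf 0x900000000010055b)) (.node (.leaf 0xa000000000100087) (.leaf 0)))) (.node (.node (.node (.leaf 0x7000000000000097) (.leaf 0x90000000001002b4)) (.node (.leaf 0xa00000000000029c) (.leaf 0))) (.node (.node (.leaf 0x600000000010019a) (.leaf 0)) (.node (.leaf 0x9000000000200136) (.leaf 0))))) (.node (.node (.node (.node (.leaf 0x900000000000003a) (.leaf 0x8000000000000508)) (.node (.leaf 0xd000000000200095) (.leaf 0))) (.node (.node (.leaf 0xa00000000010015a) (.leaf 0x8000000000200508)) (.node (.leaf 0xb00000000020048b) (.leaf 0)))) (.node (.node (.node (.leaf 0x90000000001000da) (.leaf 0xa000000000100509)) (.node (.leaf 0xb0000000002002f8) (.leaf 0))) (.node (.node (.leaf 0x900000000020013c) (.leaf 0)) (.node (.leaf 0x9000000000200188) (.leaf 0)))))) (.node (.node (.node (.node (.node (.leaf 0x9000000000200085) (.leaf 0xa000000000200137))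 (.node (.leaf 0xa00000000000023c) (.leaf 0))) (.node (.node (.leaf 0x7000000000100070) (.leaf 0x80000000002004b7)) (.node (.leaf 0x700000000020008b) (.leaf 0)))) (.node (.node (.node (.leaf 0x600000000010010a) (.leaf 0x9000000000000342)) (.node (.leaf 0xa000000000200361) (.leaf 0))) (.node (.node (.leaf 0xa000000000200131) (.leaf 0)) (.node (.leaf 0xb00000000000031b) (.leaf 0))))) (.node (.node (.node (.node (.leaf 0x800000000010007a) (.leaf 0xa000000000100383)) (.node (.leaf 0xb0000000000001b4) (.leaf 0))) (.node (.node (.leaf 0xb00000000010017a) (.leaf 0x900000000000056f)) (.node (.leaf 0xb0000000002004ea) (.leaf 0)))) (.node (.node (.node (.leaf 0x9000000000200265) (.leaf 0xc0000000001003d9)) (.node (.leaf 0xa000000000100100) (.leaf 0))) (.node (.node (.leaf 0x8000000000100274) (.leaf 0)) (.node (.leaf 0x80000000001003ea) (.leaf 0))))))))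

/-- part of a forest -/
def forest07 : Trie :=
  (.node (.node (.node (.node (.node (.node (.node (.leaf 0x5000000000100009) (.leaf 0x900000000000029d)) (.node (.leaf 0x7000000000100309) (.leaf 0))) (.node (.node (.leaf 0x90000000000003bc) (.leaf 0x800000000020010f)) (.node (.leaf 0x8000000000200072) (.leaf 0)))) (.node (.node (.node (.leaf 0x9000000000000027) (.leaf 0xa000000000100395)) (.node (.leaf 0xb000000000200543) (.leaf 0))) (.node (.node (.leaf 0x80000000000000b4) (.leaf 0)) (.node (.leaf 0x9000000000100386) (.leaf 0))))) (.node (.node (.node (.node (.leaf 0xa000000000000066) (.leaf 0x80000000002000ad)) (.node (.leaf 0x9000000000000248) (.leaf 0))) (.node (.node (.leaf 0x9000000000200546) (.leaf 0x700000000020033d)) (.node (.leaf 0x90000000002003da) (.leaf 0)))) (.node (.node (.node (.leaf 0xb0000000000000c8) (.leaf 0x9000000000000424)) (.node (.leaf 0x70000000002000a8) (.leaf 0))) (.node (.node (.leaf 0xb000000000200119) (.leaf 0)) (.node (.leaf 0x80000000002002cb) (.leaf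 0)))))) (.node (.node (.node (.node (.node (.leaf 0x80000000001000a7) (.leaf 0xa000000000000232)) (.node (.leaf 0xb00000000000024f) (.leaf 0))) (.node (.node (.leaf 0xa000000000100059) (.leaf 0x90000000002003e7)) (.node (.leaf 0xc0000000002000a5) (.leaf 0)))) (.node (.node (.node (.leaf 0x7000000000100028) (.leaf 0x800000000020018c)) (.node (.leaf 0xc0000000002000f0) (.leaf 0))) (.node (.node (.leaf 0x600000000010014a) (.leaf 0)) (.node (.leaf 0x900000000020004a) (.leaf 0))))) (.node (.node (.node (.node (.leaf 0xa000000000100068) (.leaf 0xa0000000002004f1)) (.node (.leaf 0xa000000000000266) (.leaf 0))) (.node (.node (.leaf 0xb000000000000239) (.leaf 0x9000000000000568)) (.node (.leaf 0x9000000000100344) (.leaf 0)))) (.node (.node (.node (.leaf 0x4000000000200008) (.leaf 0xa000000000100502)) (.node (.leaf 0xa00000000010016f) (.leaf 0))) (.node (.node (.leaf 0xb0000000001003d0) (.leaf 0)) (.node (.leaf 0x80000000001003e8) (.leaf 0))))))) (.node (.node (.node (.node (.node (.node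 (.leaf 0x900000000010013f) (.leaf 0xb000000000200504)) (.node (.leaf 0xa00000000020011a) (.leaf 0))) (.node (.node (.leaf 0x90000000001004e8) (.leaf 0x9000000000100526)) (.node (.leaf 0x90000000000002e3) (.leaf 0)))) (.node (.node (.node (.leaf 0x600000000010006c) (.leaf 0x7000000000000496)) (.node (.leaf 0xa000000000000241) (.leaf 0))) (.node (.node (.leaf 0x9000000000100444) (.leaf 0)) (.node (.leaf 0xb000000000200269) (.leaf 0))))) (.node (.node (.node (.node (.leaf 0x6000000000000036) (.leaf 0x9000000000100458)) (.node (.leaf 0xc000000000200304) (.leaf 0))) (.node (.node (.leaf 0x900000000020017e) (.leaf 0xb000000000100558)) (.node (.leaf 0x8000000000000548) (.leaf 0)))) (.node (.node (.node (.leaf 0xa000000000100039) (.leaf 0x9000000000100194)) (.node (.leaf 0x90000000001001a9) (.leaf 0))) (.node (.node (.leaf 0xc000000000200268) (.leaf 0)) (.node (.leaf 0x90000000001003c7) (.leaf 0)))))) (.node (.node (.node (.node (.node (.leaf 0x600000000020006c) (.leaf 0x8000000000200264))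 (.node (.leaf 0x8000000000100497) (.leaf 0))) (.node (.node (.leaf 0x90000000000000d4) (.leaf 0x80000000000004b7)) (.node (.leaf 0x8000000000000249) (.leaf 0)))) (.node (.node (.node (.leaf 0xb000000000200391) (.leaf 0x70000000001003f7)) (.node (.leaf 0x70000000002000bb) (.leaf 0))) (.node (.node (.leaf 0x8000000000000072) (.leaf 0)) (.node (.leaf 0x700000000020027d) (.leaf 0))))) (.node (.node (.node (.node (.leaf 0x9000000000100165) (.leaf 0xb000000000000228)) (.node (.leaf 0x90000000001001cb) (.leaf 0))) (.node (.node (.leaf 0x9000000000000178) (.leaf 0xa000000000200469)) (.node (.leaf 0x7000000000000114) (.leaf 0)))) (.node (.node (.node (.leaf 0x8000000000200019) (.leaf 0x9000000000100149)) (.node (.leaf 0xb0000000000003ef) (.leaf 0))) (.node (.node (.leaf 0xa00000000010057c) (.leaf 0)) (.node (.leaf 0x6000000000000498) (.leaf 0))))))))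

/-- part of a forest -/
def forest015 : Trie :=
  (.node (.node (.node (.node (.node (.node (.node (.leaf 0x600000000020000a) (.leaf 0xb000000000100410)) (.node (.leaf 0xa000000000000277) (.leaf 0))) (.node (.node (.leaf 0x700000000010010e) (.leaf 0xa00000000010056a)) (.node (.leaf 0x700000000020002a) (.leaf 0)))) (.node (.node (.node (.leaf 0x7000000000100090) (.leaf 0xb00000000010025f)) (.node (.leaf 0x7000000000100114) (.leaf 0))) (.node (.node (.leaf 0x90000000000000ec) (.leaf 0)) (.node (.leaf 0x9000000000200386) (.leaf 0))))) (.node (.node (.node (.node (.leaf 0x6000000000100052) (.leaf 0xb00000000000044e)) (.node (.leaf 0xa000000000100296) (.leaf 0))) (.node (.node (.leaf 0x800000000010014e) (.leaf 0xb0000000001004ff)) (.node (.leaf 0x9000000000000404) (.leaf 0)))) (.node (.node (.node (.leaf 0xa0000000001000ce) (.leaf 0xa00000000020049b)) (.node (.leaf 0x7000000000100496) (.leaf 0))) (.node (.node (.leaf 0x9000000000000240) (.leaf 0)) (.node (.leaf 0x90000000002003c5)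 (.leaf 0)))))) (.node (.node (.node (.node (.node (.leaf 0x4000000000000032) (.leaf 0x700000000010016b)) (.node (.leaf 0xa000000000100230) (.leaf 0))) (.node (.node (.leaf 0x700000000000002a) (.leaf 0xa00000000020034d)) (.node (.leaf 0xb000000000100330) (.leaf 0)))) (.node (.node (.node (.leaf 0x900000000000009f) (.leaf 0xb000000000100393)) (.node (.leaf 0xa0000000001002ae) (.leaf 0))) (.node (.node (.leaf 0x900000000020003d) (.leaf 0)) (.node (.leaf 0xa00000000020030a) (.leaf 0))))) (.node (.node (.node (.node (.leaf 0x400000000010002d) (.leaf 0xb000000000100470)) (.node (.leaf 0xa00000000010045a) (.leaf 0))) (.node (.node (.leaf 0x900000000010016e) (.leaf 0x80000000001004bf)) (.node (.leaf 0x9000000000100370) (.leaf 0)))) (.node (.node (.node (.leaf 0xc000000000000376) (.leaf 0x900000000000018d)) (.node (.leaf 0xa00000000010046e) (.leaf 0))) (.node (.node (.leaf 0xc0000000002001e7) (.leaf 0)) (.node (.leaf 0xa0000000001001e4) (.leaf 0))))))) (.node (.node (.node (.node (.node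 (.node (.leaf 0x700000000020010e) (.leaf 0x800000000010041e)) (.node (.leaf 0x9000000000100546) (.leaf 0))) (.node (.node (.leaf 0x90000000001002b9) (.leaf 0xa0000000002004f0)) (.node (.leaf 0xa000000000200111) (.leaf 0)))) (.node (.node (.node (.leaf 0x80000000001000a0) (.leaf 0xb0000000002003b2)) (.node (.leaf 0x90000000001002a0) (.leaf 0))) (.node (.node (.leaf 0x9000000000000318) (.leaf 0)) (.node (.leaf 0xc0000000001001b3) (.leaf 0))))) (.node (.node (.node (.node (.leaf 0xa000000000200062) (.leaf 0xa000000000100469)) (.node (.leaf 0xa000000000100260) (.leaf 0))) (.node (.node (.leaf 0xa00000000020015c) (.leaf 0x90000000002004b1)) (.node (.leaf 0x60000000001001a0) (.leaf 0)))) (.node (.node (.node (.leaf 0x90000000001000a1) (.leaf 0xb000000000000452)) (.node (.leaf 0xa00000000010052b) (.leaf 0))) (.node (.node (.leaf 0x900000000020013a) (.leaf 0)) (.node (.leaf 0xb000000000100156) (.leaf 0)))))) (.node (.node (.node (.node (.node (.leaf 0xa000000000200042) (.leaf 0xa000000000000231))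 (.node (.leaf 0x8000000000000425) (.leaf 0))) (.node (.node (.leaf 0x800000000000013e) (.leaf 0xa000000000000540)) (.node (.leaf 0xa0000000001004f7) (.leaf 0)))) (.node (.node (.node (.leaf 0x60000000000000dc) (.leaf 0x70000000001004be)) (.node (.leaf 0x60000000002000b0) (.leaf 0))) (.node (.node (.leaf 0xb000000000200475) (.leaf 0)) (.node (.leaf 0x8000000000200368) (.leaf 0))))) (.node (.node (.node (.node (.leaf 0x8000000000100080) (.leaf 0x900000000000047e)) (.node (.leaf 0xa000000000100280) (.leaf 0))) (.node (.node (.leaf 0xb000000000100076) (.leaf 0x900000000010056c)) (.node (.leaf 0x900000000020045b) (.leaf 0)))) (.node (.node (.node (.leaf 0xa00000000010022a) (.leaf 0xa000000000100500)) (.node (.leaf 0xb000000000100300) (.leaf 0))) (.node (.node (.leaf 0x60000000002002fd) (.leaf 0)) (.node (.leaf 0x90000000001004bc) (.leaf 0))))))))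

/-- a forest -/
def forest0 : Trie :=
  (.node (.node (.node (.node forest00 forest08) (.node forest04 forest012)) (.node (.node forest02 forest010) (.node forest06 forest014))) (.node (.node (.node forest01 forest09) (.node forest05 forest013)) (.node (.node forest03 forest011) (.node forest07 forest015))))

/-- part of a tree -/
def node1L0tree0 : Trie :=
  (.node (.node (.node (.node (.node (.node (.leaf 0x0) (.leaf 0x18)) (.node (.leaf 0xa) (.leaf 0x100027))) (.node (.node (.leaf 0x100004) (.leaf 0x10001d)) (.node (.leaf 0x10000f) (.leaf 0)))) (.node (.node (.node (.leaf 0x2) (.leaf 0x1a)) (.node (.leaf 0xd) (.leaf 0))) (.node (.node (.leaf 0x8) (.leaf 0x21)) (.node (.leaf 0x13) (.leaf 0))))) (.node (.node (.node (.node (.leaf 0x100000) (.leaf 0x19)) (.node (.leaf 0x10000b) (.leaf 0))) (.node (.node (.leaf 0x6) (.leaf 0x1f)) (.node (.leaf 0x11) (.leaf 0)))) (.node (.node (.node (.leaf 0x3) (.leaf 0x1b)) (.node (.leaf 0xe) (.leaf 0))) (.node (.node (.leaf 0x9) (.leaf 0x100024))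 (.node (.leaf 0x100014) (.leaf 0)))))) (.node (.node (.node (.node (.node (.leaf 0x0) (.leaf 0x100018)) (.node (.leaf 0xb) (.leaf 0x30))) (.node (.node (.leaf 0x5) (.leaf 0x10001e)) (.node (.leaf 0x100010) (.leaf 0)))) (.node (.node (.node (.leaf 0x100002) (.leaf 0x10001a)) (.node (.leaf 0x10000d) (.leaf 0))) (.node (.node (.leaf 0x100008) (.leaf 0x22)) (.node (.leaf 0x14) (.leaf 0))))) (.node (.node (.node (.node (.leaf 0x1) (.leaf 0x100019)) (.node (.leaf 0xc) (.leaf 0))) (.node (.node (.leaf 0x100006) (.leaf 0x20)) (.node (.leaf 0x100012) (.leaf 0)))) (.node (.node (.node (.leaf 0x100003) (.leaf 0x10001c)) (.node (.leaf 0xf) (.leaf 0))) (.node (.node (.leaf 0x100009) (.leaf 0x27)) (.node (.leaf 0x100016) (.leaf 0)))))))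

/-- a tree -/
def node1L0tree : Trie :=
  node1L0tree0

/-- part of transversal words -/
def node1L0word0 : Trie :=
  (.node (.node (.node (.node (.node (.node (.leaf 0x0) (.leaf 0x49148596cb321)) (.node (.leaf 0x3) (.leaf 0x9b4da6cb6642db))) (.node (.node (.leaf 0x69b2db) (.leaf 0x245135216cb2db)) (.node (.leaf 0x9148596cb321) (.leaf 0)))) (.node (.node (.node (.leaf 0xdb521) (.leaf 0x6a42db)) (.node (.leaf 0x12432165b2db) (.leaf 0))) (.node (.node (.leaf 0x9b2db) (.leaf 0x122b13699964b25)) (.node (.leaf 0x489b2db) (.leaf 0))))) (.node (.node (.node (.node (.leaf 0x24521) (.leaf 0x6da90b)) (.node (.leaf 0x1229148642db) (.leaf 0))) (.node (.node (.leaf 0x1b) (.leaf 0x145144cb6cc859)) (.node (.leaf 0x36a42db) (.leaf 0)))) (.node (.node (.node (.leaf 0xdb) (.leaf 0x85b2d96cc)) (.node (.leaf 0xcc864321) (.leaf 0))) (.node (.node (.leaf 0x6cc864321) (.leaf 0x243216642db)) (.node (.leaf 0x1a6d485b2db) (.leaf 0)))))) (.node (.node (.node (.node (.node (.leaf 0x4) (.leaf 0x22b13699964b25))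 (.node (.leaf 0x1b6a42db) (.leaf 0x89b4da6cb6642db))) (.node (.node (.leaf 0x490c864321) (.leaf 0x91489a6cc85b2db)) (.node (.leaf 0x12290b) (.leaf 0)))) (.node (.node (.node (.leaf 0x90c864321) (.leaf 0x1229136642db)) (.node (.leaf 0x9b2d96cc321) (.leaf 0))) (.node (.node (.leaf 0x2432165b2db) (.leaf 0xda90b)) (.node (.leaf 0x1b32165b2db) (.leaf 0))))) (.node (.node (.node (.node (.leaf 0x24) (.leaf 0x486432190b)) (.node (.leaf 0x89b2db) (.leaf 0))) (.node (.node (.leaf 0x48a42db) (.leaf 0x6d48596cb321)) (.node (.leaf 0x5b2d96cc) (.leaf 0)))) (.node (.node (.node (.leaf 0x914864) (.leaf 0x12291485b2db)) (.node (.leaf 0x16cb321) (.leaf 0))) (.node (.node (.leaf 0x196cb321) (.leaf 0x92291485b2db)) (.node (.leaf 0x48a42cc864321) (.leaf 0)))))))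

/-- transversal words -/
def node1L0word : Trie :=
  node1L0word0

/-- part of closing hints -/
def node1L0close0 : Trie :=
  (.node (.node (.node (.node (.node (.node (.node (.leaf 0x1) (.leaf 0x2b)) (.node (.leaf 0x0) (.leaf 0x31))) (.node (.node (.leaf 0xc) (.leaf 0x1004002003012)) (.node (.leaf 0x20) (.leaf 0)))) (.node (.node (.node (.leaf 0x1002024005) (.leaf 0x1000004001028)) (.node (.leaf 0x1d) (.leaf 0))) (.node (.node (.leaf 0x13) (.leaf 0x1001000022008)) (.node (.leaf 0x4005025021) (.leaf 0))))) (.node (.node (.node (.node (.leaf 0x4) (.leaf 0x2d)) (.node (.leaf 0x100400900b) (.leaf 0))) (.node (.node (.leaf 0x10) (.leaf 0x300100501f)) (.node (.leaf 0x24) (.leaf 0)))) (.node (.node (.node (.leaf 0xa) (.leaf 0x1023)) (.node (.leaf 0x1001001015002) (.leaf 0))) (.node (.node (.leaf 0x16) (.leaf 0x100000202500f)) (.node (.leaf 0x100300e025) (.leaf 0)))))) (.node (.node (.node (.node (.node (.leaf 0x3) (.leaf 0x2c)) (.node (.leaf 0x1a) (.leaf 0x4030))) (.node (.node (.leaf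 0xe) (.leaf 0x100000400301e)) (.node (.leaf 0x22) (.leaf 0)))) (.node (.node (.node (.leaf 0x9) (.leaf 0x3002001029)) (.node (.leaf 0x100400500000d) (.leaf 0))) (.node (.node (.leaf 0x14) (.leaf 0x4003025019)) (.node (.leaf 0x4004010027) (.leaf 0))))) (.node (.node (.node (.node (.leaf 0x6) (.leaf 0x100100301c01b)) (.node (.leaf 0x1c) (.leaf 0))) (.node (.node (.leaf 0x11) (.leaf 0x200500002e)) (.node (.leaf 0x26) (.leaf 0)))) (.node (.node (.node (.leaf 0x3002018007) (.leaf 0x2f)) (.node (.leaf 0x100100b018) (.leaf 0))) (.node (.node (.leaf 0x17) (.leaf 0x1004025015)) (.node (.leaf 0x2a) (.leaf 0))))))) (.node (.node (.node (.node (.node (.node (.leaf 0x2) (.leaf 0x100001601a)) (.node (.leaf 0x19) (.leaf 0x100000400101d))) (.node (.node (.leaf 0xd) (.leaf 0x301c)) (.node (.leaf 0x21) (.leaf 0)))) (.node (.node (.node (.leaf 0x8) (.leaf 0x2e)) (.node (.leaf 0x1e) (.leaf 0))) (.node (.node (.leaf 0x10) (.leaf 0x202b)) (.node (.leaf 0x27) (.leaf 0))))) (.node (.node (.node (.node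 (.leaf 0x5) (.leaf 0x400201b006)) (.node (.leaf 0x1b) (.leaf 0))) (.node (.node (.leaf 0x100400201f00a) (.leaf 0x200300a009)) (.node (.leaf 0x25) (.leaf 0)))) (.node (.node (.node (.leaf 0xb) (.leaf 0x100000501d014)) (.node (.leaf 0x1f) (.leaf 0))) (.node (.node (.leaf 0x200500d00e) (.leaf 0x1003001006017)) (.node (.leaf 0x29) (.leaf 0)))))) (.node (.node (.node (.node (.node (.leaf 0x2001016001) (.leaf 0x200500d02a)) (.node (.leaf 0x1002005026004) (.leaf 0x1003004010031))) (.node (.node (.leaf 0xf) (.leaf 0x100300001c02f)) (.node (.leaf 0x23) (.leaf 0)))) (.node (.node (.node (.leaf 0x100400000d003) (.leaf 0x100300001a02c)) (.node (.leaf 0x300001b011) (.leaf 0))) (.node (.node (.leaf 0x15) (.leaf 0x100100101602d)) (.node (.leaf 0x28) (.leaf 0))))) (.node (.node (.node (.node (.leaf 0x7) (.leaf 0x100300b013)) (.node (.leaf 0x100400201900c) (.leaf 0))) (.node (.node (.leaf 0x12) (.leaf 0x1003015020)) (.node (.leaf 0x100400201f022) (.leaf 0)))) (.node (.node (.node (.leaf 0x1003005001000)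 (.leaf 0x30)) (.node (.leaf 0x1002024016) (.leaf 0))) (.node (.node (.leaf 0x18) (.leaf 0x4000022026)) (.node (.leaf 0x100000301e024) (.leaf 0))))))))

/-- closing hints -/
def node1L0close : Trie :=
  node1L0close0

/-- a level -/
def node1L0 : SLev := ⟨4, [4, 0x24521], node1L0tree, node1L0word, 50, node1L0close, [(38, 0), (44, 1), (40, 1)]⟩

/-- part of a tree -/
def node1L1tree0 : Trie :=
  (.node (.node (.node (.node (.node (.node (.leaf 0x0) (.leaf 0x200015)) (.node (.leaf 0x8) (.leaf 0))) (.node (.node (.leaf 0x3) (.leaf 0x100021)) (.node (.leaf 0x10000e) (.leaf 0)))) (.node (.node (.node (.leaf 0x1) (.leaf 0x20001b)) (.node (.leaf 0xb) (.leaf 0))) (.node (.node (.leaf 0x5) (.leaf 0)) (.node (.leaf 0x200011) (.leaf 0))))) (.node (.node (.node (.node (.leaf 0x100000) (.leaf 0x200017)) (.node (.leaf 0x10000a) (.leaf 0))) (.node (.node (.leaf 0x200003) (.leaf 0)) (.node (.leaf 0xf) (.leaf 0)))) (.node (.node (.node (.leaf 0x2) (.leaf 0x1d)) (.node (.leaf 0x20000b) (.leaf 0)))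 (.node (.node (.leaf 0x200006) (.leaf 0)) (.node (.leaf 0x100013) (.leaf 0)))))) (.node (.node (.node (.node (.node (.leaf 0x0) (.leaf 0x200016)) (.node (.leaf 0xa) (.leaf 0))) (.node (.node (.leaf 0x100003) (.leaf 0x100027)) (.node (.leaf 0x20000e) (.leaf 0)))) (.node (.node (.node (.leaf 0x100001) (.leaf 0x1c)) (.node (.leaf 0x10000b) (.leaf 0))) (.node (.node (.leaf 0x100005) (.leaf 0)) (.node (.leaf 0x200012) (.leaf 0))))) (.node (.node (.node (.node (.leaf 0x200000) (.leaf 0x200018)) (.node (.leaf 0x20000a) (.leaf 0))) (.node (.node (.leaf 0x100004) (.leaf 0)) (.node (.leaf 0x11) (.leaf 0)))) (.node (.node (.node (.leaf 0x100002) (.leaf 0x200020)) (.node (.leaf 0xe) (.leaf 0))) (.node (.node (.leaf 0x200007) (.leaf 0)) (.node (.leaf 0x200013) (.leaf 0)))))))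

/-- a tree -/
def node1L1tree : Trie :=
  node1L1tree0

/-- part of transversal words -/
def node1L1word0 : Trie :=
  (.node (.node (.node (.node (.node (.node (.leaf 0x0) (.leaf 0x135245134cc321661)) (.node (.leaf 0x1145134d9864321) (.leaf 0))) (.node (.node (.leaf 0x69a9228a42d9659) (.leaf 0x5148a26a430c8616cc)) (.node (.leaf 0xa29149132cc30b) (.leaf 0)))) (.node (.node (.node (.leaf 0x4add69b65d6ec) (.leaf 0x136a595376595d)) (.node (.leaf 0x4d330c861659) (.leaf 0))) (.node (.node (.leaf 0x1452b69a94c2dbb2b) (.leaf 0)) (.node (.leaf 0x5145133216d96cb) (.leaf 0))))) (.node (.node (.node (.node (.leaf 0x44da6996cc85b) (.leaf 0xd36abb2cadd52c)) (.node (.leaf 0x12592c9626642e9) (.leaf 0))) (.node (.node (.leaf 0x6a42d990c2cb) (.leaf 0)) (.node (.leaf 0x35145226cb6cc2d9) (.leaf 0)))) (.node (.node (.node (.leaf 0x35228a190b664) (.leaf 0x26ab69d7532dd75d)) (.node (.leaf 0x8a269b5218642cc) (.leaf 0))) (.node (.node (.leaf 0x1a92269a964b2592c) (.leaf 0)) (.node (.leaf 0x26d44db2cc864)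 (.leaf 0)))))) (.node (.node (.node (.node (.node (.leaf 0x3b2589b66592b) (.leaf 0x85b2db2cb)) (.node (.leaf 0x369b2d96cb2cc) (.leaf 0))) (.node (.node (.leaf 0x245144d366190c864) (.leaf 0x8a29136998642cc)) (.node (.leaf 0x228a29136596cb6cc) (.leaf 0)))) (.node (.node (.node (.leaf 0x5142cb659861) (.leaf 0x1489b51486430b664)) (.node (.leaf 0x36a42d96596cc) (.leaf 0))) (.node (.node (.leaf 0x8a5925964aebaa4) (.leaf 0)) (.node (.leaf 0x1451452285966190c) (.leaf 0))))) (.node (.node (.node (.node (.leaf 0x513aecb2ba9d) (.leaf 0x132d96cb659)) (.node (.leaf 0x2296489d66432595b) (.leaf 0))) (.node (.node (.leaf 0x134ec8a274b2dbaec) (.leaf 0)) (.node (.leaf 0x44da91365990b) (.leaf 0)))) (.node (.node (.node (.leaf 0x489b32186190b) (.leaf 0x48642cb65b)) (.node (.leaf 0x4dd92c90b3252ec) (.leaf 0))) (.node (.node (.leaf 0x964965913aeb2eb) (.leaf 0)) (.node (.leaf 0x1456452c2eb2dd75d) (.leaf 0)))))))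

/-- transversal words -/
def node1L1word : Trie :=
  node1L1word0

/-- part of closing hints -/
def node1L1close0 : Trie :=
  (.node (.node (.node (.node (.node (.node (.node (.leaf 0x1) (.leaf 0x4)) (.node (.leaf 0x13) (.leaf 0x1003005018))) (.node (.node (.leaf 0xd) (.leaf 0x1000002002)) (.node (.leaf 0x3) (.leaf 0x100200301d)))) (.node (.node (.node (.leaf 0x1004005007) (.leaf 0x400501f)) (.node (.leaf 0x1) (.leaf 0x4004015))) (.node (.node (.leaf 0x10) (.leaf 0x100400001c)) (.node (.leaf 0x1d) (.leaf 0x100300201c))))) (.node (.node (.node (.node (.leaf 0x5) (.leaf 0x21)) (.node (.leaf 0x15) (.leaf 0x28))) (.node (.node (.leaf 0xe) (.leaf 0x25)) (.node (.leaf 0x500a) (.leaf 0x1004002004)))) (.node (.node (.node (.leaf 0x0) (.leaf 0x3013)) (.node (.leaf 0x19) (.leaf 0x2003023))) (.node (.node (.leaf 0x1002005010) (.leaf 0x100300401a)) (.node (.leaf 0x7) (.leaf 0x2001024)))))) (.node (.node (.node (.node (.node (.leaf 0x3) (.leaf 0x100400000e)) (.node (.leaf 0x15) (.leaf 0x27)))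 (.node (.node (.leaf 0xd) (.leaf 0x201b)) (.node (.leaf 0x3005008) (.leaf 0x3003021)))) (.node (.node (.node (.leaf 0x9) (.leaf 0x23)) (.node (.leaf 0x17) (.leaf 0x1002004023))) (.node (.node (.leaf 0x3002005) (.leaf 0x1004001022)) (.node (.leaf 0x1e) (.leaf 0x1017))))) (.node (.node (.node (.node (.leaf 0x6) (.leaf 0x1003005016)) (.node (.leaf 0x2002012) (.leaf 0x1001002019))) (.node (.node (.leaf 0x0) (.leaf 0x100200500c)) (.node (.leaf 0x2012) (.leaf 0x29)))) (.node (.node (.node (.leaf 0x100200400b) (.leaf 0x1004000009)) (.node (.leaf 0x100101a) (.leaf 0x1001026))) (.node (.node (.leaf 0x11) (.leaf 0x100200e)) (.node (.leaf 0x1001010) (.leaf 0))))))) (.node (.node (.node (.node (.node (.node (.leaf 0x2) (.leaf 0x20)) (.node (.leaf 0x14) (.leaf 0x1003005017))) (.node (.node (.leaf 0x1003004006) (.leaf 0xa)) (.node (.leaf 0x1002005003) (.leaf 0x1001002001)))) (.node (.node (.node (.leaf 0x8) (.leaf 0x100000301f)) (.node (.leaf 0x1000005011) (.leaf 0x1000027))) (.node (.node (.leaf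 0x300100f) (.leaf 0x1004005009)) (.node (.leaf 0x2001013) (.leaf 0x2004026))))) (.node (.node (.node (.node (.leaf 0x1003002000) (.leaf 0x1004000016)) (.node (.leaf 0x14) (.leaf 0x100501b))) (.node (.node (.leaf 0xb) (.leaf 0x1003003025)) (.node (.leaf 0x1c) (.leaf 0x4004024)))) (.node (.node (.node (.leaf 0xb) (.leaf 0x2004014)) (.node (.leaf 0x1a) (.leaf 0x1004002027))) (.node (.node (.leaf 0x400500d) (.leaf 0x1001002020)) (.node (.leaf 0x6) (.leaf 0x1003005028)))))) (.node (.node (.node (.node (.node (.leaf 0x4) (.leaf 0x1003005020)) (.node (.leaf 0x16) (.leaf 0x100200401d))) (.node (.node (.leaf 0xc) (.leaf 0x24)) (.node (.leaf 0x1b) (.leaf 0x2004021)))) (.node (.node (.node (.leaf 0xa) (.leaf 0x100300401e)) (.node (.leaf 0x18) (.leaf 0x100300101e))) (.node (.node (.leaf 0x100400000f) (.leaf 0x1019)) (.node (.leaf 0x1f) (.leaf 0x2029))))) (.node (.node (.node (.node (.leaf 0x7) (.leaf 0x22)) (.node (.leaf 0x2) (.leaf 0x3003022))) (.node (.node (.leaf 0xf) (.leaf 0x26)) (.node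 (.leaf 0x2011) (.leaf 0x3029)))) (.node (.node (.node (.leaf 0xc) (.leaf 0x1004000008)) (.node (.leaf 0x1000005018) (.leaf 0x1000004028))) (.node (.node (.leaf 0x12) (.leaf 0x2002025)) (.node (.leaf 0x5) (.leaf 0))))))))

/-- closing hints -/
def node1L1close : Trie :=
  node1L1close0

/-- a level -/
def node1L1 : SLev := ⟨6, [0x3b2589b66592b, 0x44da6996cc85b, 0x513aecb2ba9d], node1L1tree, node1L1word, 42, node1L1close, [(30, 1), (41, 0)]⟩

/-- part of a tree -/
def node1L2tree0 : Trie :=
  (.node (.node (.node (.leaf 0x0) (.leaf 0x2)) (.node (.leaf 0x100000) (.leaf 0))) (.node (.node (.leaf 0x0) (.leaf 0x100002)) (.node (.leaf 0x1) (.leaf 0))))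

/-- a tree -/
def node1L2tree : Trie :=
  node1L2tree0

/-- part of transversal words -/
def node1L2word0 : Trie :=
  (.node (.node (.node (.leaf 0x0) (.leaf 0x89a6a44cc8642cc)) (.node (.leaf 0x9b5144cc8642cc) (.leaf 0))) (.node (.node (.leaf 0x42d9861) (.leaf 0x9a91450c85b321)) (.node (.leaf 0x165990b) (.leaf 0))))

/-- transversal words -/
def node1L2word : Trie :=
  node1L2word0

/-- part of closing hints -/
def node1L2close0 : Trie :=
  (.node (.node (.node (.node (.leaf 0x1) (.leaf 0x1005)) (.node (.leaf 0x4) (.leaf 0))) (.node (.node (.leaf 0x3) (.leaf 0x1003002)) (.node (.leaf 0x0) (.leaf 0)))) (.node (.node (.node (.leaf 0x2) (.leaf 0x1004001)) (.node (.leaf 0x5) (.leaf 0))) (.node (.node (.leaf 0x2003) (.leaf 0x0)) (.node (.leaf 0x1000004) (.leaf 0)))))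

/-- closing hints -/
def node1L2close : Trie :=
  node1L2close0

/-- a level -/
def node1L2 : SLev := ⟨8, [0x42d9861, 0x9b5144cc8642cc], node1L2tree, node1L2word, 6, node1L2close, [(4, 0), (3, 1)]⟩

/-- part of a tree -/
def node1L3tree0 : Trie :=
  (.node (.node (.node (.leaf 0x0) (.leaf 0x2)) (.node (.leaf 0x1) (.leaf 0))) (.node (.node (.leaf 0x0) (.leaf 0)) (.node (.leaf 0x100001) (.leaf 0))))

/-- a tree -/
def node1L3tree : Trie :=
  node1L3tree0

/-- part of transversal words -/
def node1L3word0 : Trie :=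
  (.node (.node (.node (.leaf 0x0) (.leaf 0x5144d485b65b2cc)) (.node (.leaf 0x5134da6d990b30c) (.leaf 0))) (.node (.node (.leaf 0x1a69b2cc30b2cc) (.leaf 0)) (.node (.leaf 0x5132cc30b2cc) (.leaf 0))))

/-- transversal words -/
def node1L3word : Trie :=
  node1L3word0

/-- part of closing hints -/
def node1L3close0 : Trie :=
  (.node (.node (.node (.node (.leaf 0x1) (.leaf 0x1003)) (.node (.leaf 0x4) (.leaf 0))) (.node (.node (.leaf 0x2) (.leaf 0)) (.node (.leaf 0x1000) (.leaf 0)))) (.node (.node (.node (.leaf 0x1000) (.leaf 0x1002)) (.node (.leaf 0x1004) (.leaf 0))) (.node (.node (.leaf 0x3) (.leaf 0)) (.node (.leaf 0x1) (.leaf 0)))))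

/-- closing hints -/
def node1L3close : Trie :=
  node1L3close0

/-- a level -/
def node1L3 : SLev := ⟨9, [0x1a69b2cc30b2cc, 0x659659], node1L3tree, node1L3word, 5, node1L3close, [(4, 1)]⟩

/-- part of a tree -/
def node1L4tree0 : Trie :=
  (.node (.leaf 0x0) (.leaf 0x0))

/-- a tree -/
def node1L4tree : Trie :=
  node1L4tree0

/-- part of transversal words -/
def node1L4word0 : Trie :=
  (.node (.leaf 0x0) (.leaf 0x659659))

/-- transversal words -/
def node1L4word : Trie :=
  node1L4word0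

/-- part of closing hints -/
def node1L4close0 : Trie :=
  (.node (.leaf 0x1) (.leaf 0x0))

/-- closing hints -/
def node1L4close : Trie :=
  node1L4close0

/-- a level -/
def node1L4 : SLev := ⟨7, [0x659659], node1L4tree, node1L4word, 2, node1L4close, []⟩

/-- a chain -/
def node1 : List SLev := [node1L0, node1L1, node1L2, node1L3, node1L4]

/-- part of a forest -/
def forest10 : Trie :=
  (.node (.node (.node (.node (.node (.node (.node (.leaf 0x10000000000) (.leaf 0x90000a000010051e)) (.node (.leaf 0xa0000b0000000201) (.leaf 0))) (.node (.node (.leaf 0x80000a00000002fb) (.leaf 0x80000b0000100199)) (.node (.leaf 0x80000900000002ff) (.leaf 0)))) (.node (.node (.node (.leaf 0x500005000010031a) (.leaf 0x80000b0000100175)) (.node (.leaf 0x50000a00001002de) (.leaf 0))) (.node (.node (.leaf 0x90000a0000000181) (.leaf 0)) (.node (.leaf 0xa000090000000490) (.leaf 0))))) (.node (.node (.node (.node (.leaf 0x80000900001002b4) (.leaf 0x800008000010002d)) (.node (.leaf 0x70000a0000000241)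 (.leaf 0))) (.node (.node (.leaf 0x200006000010000c) (.leaf 0xa000090000000556)) (.node (.leaf 0xa0000a00000002c2) (.leaf 0)))) (.node (.node (.node (.leaf 0x70000600000000bf) (.leaf 0xa0000b0000100493)) (.node (.leaf 0x90000a0000000342) (.leaf 0))) (.node (.node (.leaf 0x90000a000010022e) (.leaf 0)) (.node (.leaf 0x80000a0000000368) (.leaf 0)))))) (.node (.node (.node (.node (.node (.leaf 0x600008000010001e) (.leaf 0x80000b0000000421)) (.node (.leaf 0x90000b00000001fe) (.leaf 0))) (.node (.node (.leaf 0x80000b0000000121) (.leaf 0x90000b0000100500)) (.node (.leaf 0x800005000010006a) (.leaf 0)))) (.node (.node (.node (.leaf 0x500006000000009f) (.leaf 0x80000900000004bd)) (.node (.leaf 0x400009000000029f) (.leaf 0))) (.node (.node (.leaf 0xa00009000000035f) (.leaf 0)) (.node (.leaf 0x6000090000000317) (.leaf 0))))) (.node (.node (.node (.node (.leaf 0x90000900001001a9) (.leaf 0x80000b0000100339)) (.node (.leaf 0x8000090000100137) (.leaf 0))) (.node (.node (.leaf 0x90000a000010019c)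 (.leaf 0x80000b0000100121)) (.node (.leaf 0x70000a000010001b) (.leaf 0)))) (.node (.node (.node (.leaf 0x80000a00001002e3) (.leaf 0xa0000b0000100434)) (.node (.leaf 0x40000900001001d0) (.leaf 0))) (.node (.node (.leaf 0x80000b00000001e1) (.leaf 0)) (.node (.leaf 0x70000b000010056e) (.leaf 0))))))) (.node (.node (.node (.node (.node (.node (.leaf 0x100009000000000f) (.leaf 0x800009000000040f)) (.node (.leaf 0xc0000a000010012c) (.leaf 0))) (.node (.node (.leaf 0x900009000010007a) (.leaf 0x50000b00001000ef)) (.node (.leaf 0x80000a0000100499) (.leaf 0)))) (.node (.node (.node (.leaf 0x500005000000008f) (.leaf 0x9000090000000260)) (.node (.leaf 0x70000a0000100299) (.leaf 0))) (.node (.node (.leaf 0x90000b00001000d3) (.leaf 0)) (.node (.leaf 0x40000b0000000195) (.leaf 0))))) (.node (.node (.node (.node (.leaf 0x6000060000000052) (.leaf 0x80000b00001004e1)) (.node (.leaf 0x90000a0000000217) (.leaf 0))) (.node (.node (.leaf 0x70000a000010052b) (.leaf 0x8000090000000515)) (.node (.leaf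 0xa0000900001000c2) (.leaf 0)))) (.node (.node (.node (.leaf 0x60000b00001004cf) (.leaf 0x90000b0000100305)) (.node (.leaf 0xa000090000100301) (.leaf 0))) (.node (.node (.leaf 0x30000900000001cf) (.leaf 0)) (.node (.leaf 0xa0000b00000001e7) (.leaf 0)))))) (.node (.node (.node (.node (.node (.leaf 0x400005000010004d) (.leaf 0x9000090000000327)) (.node (.leaf 0x80000a00001001d1) (.leaf 0))) (.node (.node (.leaf 0x500008000010031d) (.leaf 0x80000b00001001fc)) (.node (.leaf 0x50000b00001004bf) (.leaf 0)))) (.node (.node (.node (.leaf 0x70000700001000dd) (.leaf 0x90000a0000100292)) (.node (.leaf 0xa0000b000000026d) (.leaf 0))) (.node (.node (.leaf 0x40000b00000001b1) (.leaf 0)) (.node (.leaf 0x50000800001003b8) (.leaf 0))))) (.node (.node (.node (.node (.leaf 0xa000090000100276) (.leaf 0x80000b000000046f)) (.node (.leaf 0x80000b0000000271) (.leaf 0))) (.node (.node (.leaf 0xa0000b000010057c) (.leaf 0xa0000b000000056b)) (.node (.leaf 0xa00009000010005f) (.leaf 0)))) (.node (.node (.node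 (.leaf 0x50000b00000000ef) (.leaf 0x60000a00000004fa)) (.node (.leaf 0x9000090000100077) (.leaf 0))) (.node (.node (.leaf 0xa00009000010043f) (.leaf 0)) (.node (.leaf 0xb00009000000018a) (.leaf 0))))))))

/-- part of a forest -/
def forest18 : Trie :=
  (.node (.node (.node (.node (.node (.node (.node (.leaf 0x2000070000000009) (.leaf 0x80000b0000000358)) (.node (.leaf 0xa0000b00001004c9) (.leaf 0))) (.node (.node (.leaf 0x70000700001000ad) (.leaf 0x90000b0000000429)) (.node (.leaf 0x90000b00001000f3) (.leaf 0)))) (.node (.node (.node (.leaf 0x2000080000000089) (.leaf 0x90000900001000bd)) (.node (.leaf 0x80000b0000000289) (.leaf 0))) (.node (.node (.leaf 0x90000a000010014f) (.leaf 0)) (.node (.leaf 0x60000b0000000527) (.leaf 0))))) (.node (.node (.node (.node (.leaf 0x3000060000100140) (.leaf 0x700009000000048d)) (.node (.leaf 0x90000b000010035e) (.leaf 0))) (.node (.node (.leaf 0xa0000900001000ba) (.leaf 0x60000b00000004be)) (.node (.leaf 0xa000060000000347) (.leaf 0)))) (.node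 (.node (.node (.leaf 0x90000b000010039c) (.leaf 0xb0000b0000100170)) (.node (.leaf 0x90000a00001002bd) (.leaf 0))) (.node (.node (.leaf 0x80000900001001c6) (.leaf 0)) (.node (.leaf 0xa0000b0000000469) (.leaf 0)))))) (.node (.node (.node (.node (.node (.leaf 0x5000050000100030) (.leaf 0x900007000010002c)) (.node (.leaf 0x50000a0000100127) (.leaf 0))) (.node (.node (.leaf 0x7000090000000129) (.leaf 0x40000b000000038b)) (.node (.leaf 0x60000a000000036e) (.leaf 0)))) (.node (.node (.node (.leaf 0x70000800001000a9) (.leaf 0x80000b000010026e)) (.node (.leaf 0x80000900001002e8) (.leaf 0))) (.node (.node (.leaf 0x90000900000001a9) (.leaf 0)) (.node (.leaf 0x30000a000000037f) (.leaf 0))))) (.node (.node (.node (.node (.leaf 0x50000700001000ab) (.leaf 0x90000b0000000576)) (.node (.leaf 0xc0000b0000100565) (.leaf 0))) (.node (.node (.leaf 0x80000a0000000169) (.leaf 0x80000a00000004b9)) (.node (.leaf 0x70000a00001003f1) (.leaf 0)))) (.node (.node (.node (.leaf 0xb0000a0000100039) (.leaf 0x80000b0000000117))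 (.node (.leaf 0x70000900000002bf) (.leaf 0))) (.node (.node (.leaf 0x80000b00000001e9) (.leaf 0)) (.node (.leaf 0xb0000a00001004f1) (.leaf 0))))))) (.node (.node (.node (.node (.node (.node (.leaf 0x70000a00000002a9) (.leaf 0x800009000010007b)) (.node (.leaf 0x70000a0000000299) (.leaf 0))) (.node (.node (.leaf 0x70000b0000000501) (.leaf 0x90000a0000100396)) (.node (.leaf 0x60000a000000010e) (.leaf 0)))) (.node (.node (.node (.leaf 0x8000060000100099) (.leaf 0x60000a0000000496)) (.node (.leaf 0xb0000900001002d1) (.leaf 0))) (.node (.node (.leaf 0x80000b0000000199) (.leaf 0)) (.node (.leaf 0xa0000a0000000397) (.leaf 0))))) (.node (.node (.node (.node (.leaf 0x5000090000000057) (.leaf 0x80000b0000000457)) (.node (.leaf 0x60000a000010003e) (.leaf 0))) (.node (.node (.leaf 0xa0000b0000000159) (.leaf 0x90000a0000000557)) (.node (.leaf 0x70000b0000100564) (.leaf 0)))) (.node (.node (.node (.leaf 0x80000900000000d9) (.leaf 0xb0000900000003e9)) (.node (.leaf 0x90000a0000000168) (.leaf 0)))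 (.node (.node (.leaf 0xa0000900000001d7) (.leaf 0)) (.node (.leaf 0xa000090000100525) (.leaf 0)))))) (.node (.node (.node (.node (.node (.leaf 0xa000090000100394) (.leaf 0x70000b0000000553)) (.node (.leaf 0xa0000a0000100523) (.leaf 0))) (.node (.node (.leaf 0x60000a0000000139) (.leaf 0x90000b00000001e2)) (.node (.leaf 0x80000b0000000339) (.leaf 0)))) (.node (.node (.node (.leaf 0x80000900001000e1) (.leaf 0x60000a0000100189)) (.node (.leaf 0x80000b000000028d) (.leaf 0))) (.node (.node (.leaf 0x80000900001004c6) (.leaf 0)) (.node (.leaf 0x400008000010004a) (.leaf 0))))) (.node (.node (.node (.node (.leaf 0x80000a0000100232) (.leaf 0x9000090000000477)) (.node (.leaf 0x90000a000000029c) (.leaf 0))) (.node (.node (.leaf 0x80000b0000100332) (.leaf 0x90000b00001001fa)) (.node (.leaf 0x90000b0000100530) (.leaf 0)))) (.node (.node (.node (.leaf 0x70000b000000054e) (.leaf 0x80000a0000100053)) (.node (.leaf 0x80000b0000100334) (.leaf 0))) (.node (.node (.leaf 0xa0000b000000024b) (.leaf 0))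 (.node (.leaf 0x90000a0000000291) (.leaf 0))))))))

/-- part of a forest -/
def forest14 : Trie :=
  (.node (.node (.node (.node (.node (.node (.node (.leaf 0x50000000004) (.leaf 0x80000a0000000405)) (.node (.leaf 0x90000a0000100202) (.leaf 0))) (.node (.node (.leaf 0x30000a0000100414) (.leaf 0x70000b00001003de)) (.node (.leaf 0x90000b00000000f7) (.leaf 0)))) (.node (.node (.node (.leaf 0x60000800001003b7) (.leaf 0x80000b0000100451)) (.node (.leaf 0x9000090000100410) (.leaf 0))) (.node (.node (.leaf 0x6000080000000130) (.leaf 0)) (.node (.leaf 0x5000090000100126) (.leaf 0))))) (.node (.node (.node (.node (.leaf 0x7000070000100042) (.leaf 0xa0000b0000000197)) (.node (.leaf 0x60000b0000100509) (.leaf 0))) (.node (.node (.leaf 0x5000080000100049) (.leaf 0x60000a00001004ea)) (.node (.leaf 0xb000090000100345) (.leaf 0)))) (.node (.node (.node (.leaf 0xb00000000c4) (.leaf 0x90000a0000000551)) (.node (.leaf 0x60000900000002c3) (.leaf 0))) (.node (.node (.leaf 0x60000900000001c3) (.leaf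 0)) (.node (.leaf 0x6000050000100080) (.leaf 0)))))) (.node (.node (.node (.node (.node (.leaf 0x3000050000100254) (.leaf 0xb0000a0000000296)) (.node (.leaf 0x90000b0000000225) (.leaf 0))) (.node (.node (.leaf 0x6000090000000123) (.leaf 0xa000090000100512)) (.node (.leaf 0xa00009000010029a) (.leaf 0)))) (.node (.node (.node (.leaf 0x500006000010009e) (.leaf 0x80000b00000004a3)) (.node (.leaf 0x90000900000000d8) (.leaf 0))) (.node (.node (.leaf 0x60000900000001a5) (.leaf 0)) (.node (.leaf 0x90000a00000003a5) (.leaf 0))))) (.node (.node (.node (.node (.leaf 0x6000060000000063) (.leaf 0x80000b00000004b5)) (.node (.leaf 0x60000900001001c3) (.leaf 0))) (.node (.node (.leaf 0xa0000a000000005d) (.leaf 0x60000b000000054b)) (.node (.leaf 0x9000090000000363) (.leaf 0)))) (.node (.node (.node (.leaf 0x6000080000100144) (.leaf 0x90000900000002c6)) (.node (.leaf 0x80000a00000002e3) (.leaf 0))) (.node (.node (.leaf 0x90000b00001003d3) (.leaf 0)) (.node (.leaf 0x80000a00000003e3) (.leaf 0)))))))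 (.node (.node (.node (.node (.node (.node (.leaf 0x10000a0000000013) (.leaf 0x20000a0000000415)) (.node (.leaf 0x700009000010045e) (.leaf 0))) (.node (.node (.leaf 0x90000b0000100273) (.leaf 0x90000b0000000221)) (.node (.leaf 0x900009000000030f) (.leaf 0)))) (.node (.node (.node (.leaf 0x500005000010008e) (.leaf 0xa0000b0000000472)) (.node (.leaf 0x60000a000000033a) (.leaf 0))) (.node (.node (.leaf 0x20000b0000100389) (.leaf 0)) (.node (.leaf 0x9000090000100260) (.leaf 0))))) (.node (.node (.node (.node (.leaf 0x80000a0000000053) (.leaf 0x70000900001002bf)) (.node (.leaf 0x2000050000100006) (.leaf 0))) (.node (.node (.leaf 0x70000b0000000153) (.leaf 0x90000b000010046a)) (.node (.leaf 0xa000090000000355) (.leaf 0)))) (.node (.node (.node (.leaf 0x90000a000010010c) (.leaf 0x80000b000000044c)) (.node (.leaf 0x60000900001000db) (.leaf 0))) (.node (.node (.leaf 0x60000900000001d3) (.leaf 0)) (.node (.leaf 0xb0000900001004af) (.leaf 0)))))) (.node (.node (.node (.node (.node (.leaf 0x20000a0000100014)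 (.leaf 0x90000b0000000560)) (.node (.leaf 0xa0000900000004f2) (.leaf 0))) (.node (.node (.leaf 0x6000050000000090) (.leaf 0x90000b00001004fc)) (.node (.leaf 0x70000b0000000333) (.leaf 0)))) (.node (.node (.node (.leaf 0x80000800001000b2) (.leaf 0x80000b0000100547)) (.node (.leaf 0x700009000000049b) (.leaf 0))) (.node (.node (.leaf 0x70000a0000000233) (.leaf 0)) (.node (.leaf 0x4000060000000413) (.leaf 0))))) (.node (.node (.node (.node (.leaf 0xa0000a00000000d4) (.leaf 0x80000b000010042a)) (.node (.leaf 0x70000b00001001dc) (.leaf 0))) (.node (.node (.leaf 0x60000b000000035c) (.leaf 0xb000090000000402)) (.node (.leaf 0x80000b0000000451) (.leaf 0)))) (.node (.node (.node (.leaf 0x80000b00001002ba) (.leaf 0x90000b00001002f3)) (.node (.leaf 0x70000b000010015a) (.leaf 0))) (.node (.node (.leaf 0x80000b000000038e) (.leaf 0)) (.node (.leaf 0x60000a000010036e) (.leaf 0))))))))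

/-- part of a forest -/
def forest112 : Trie :=
  (.node (.node (.node (.node (.node (.node (.node (.leaf 0x1000060000000005) (.leaf 0x70000b00001004de)) (.node (.leaf 0xa0000b000000020d) (.leaf 0))) (.node (.node (.leaf 0x80000a000000014a) (.leaf 0x30000b000010038a)) (.node (.leaf 0xa00009000010035f) (.leaf 0)))) (.node (.node (.node (.leaf 0x20000500001000af) (.leaf 0x600009000010055b)) (.node (.leaf 0x90000b0000000399) (.leaf 0))) (.node (.node (.leaf 0x80000a000000018d) (.leaf 0)) (.node (.leaf 0x80000b000010028d) (.leaf 0))))) (.node (.node (.node (.node (.leaf 0x500006000010004f) (.leaf 0x70000b0000000377)) (.node (.leaf 0xb0000b0000000521) (.leaf 0))) (.node (.node (.leaf 0x8000090000100542) (.leaf 0x40000b000010050c)) (.node (.leaf 0x70000a0000100294) (.leaf 0)))) (.node (.node (.node (.leaf 0x80000b00001004d7) (.leaf 0xb0000b000000057d)) (.node (.leaf 0x6000070000100321) (.leaf 0))) (.node (.node (.leaf 0x50000a0000100281) (.leaf 0)) (.node (.leaf 0x90000b000010055f)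 (.leaf 0)))))) (.node (.node (.node (.node (.node (.leaf 0x8000070000000051) (.leaf 0x80000b00001003e0)) (.node (.leaf 0x4000090000000227) (.leaf 0))) (.node (.node (.leaf 0xb0000a000000012d) (.leaf 0x70000a000000052b)) (.node (.leaf 0x80000a0000100412) (.leaf 0)))) (.node (.node (.node (.leaf 0x70000700001000e6) (.leaf 0x8000090000000485)) (.node (.leaf 0x80000b0000000332) (.leaf 0))) (.node (.node (.leaf 0x80000b00001001e1) (.leaf 0)) (.node (.leaf 0x60000b00001001da) (.leaf 0))))) (.node (.node (.node (.node (.leaf 0x2000070000100009) (.leaf 0x70000a00000003f4)) (.node (.leaf 0x80000b000010044c) (.leaf 0))) (.node (.node (.leaf 0x40000a000000016d) (.leaf 0x90000b0000100429)) (.node (.leaf 0x90000a000000036b) (.leaf 0)))) (.node (.node (.node (.leaf 0x90000900000000b8) (.leaf 0x70000b00000004ed)) (.node (.leaf 0xa0000a0000000212) (.leaf 0))) (.node (.node (.leaf 0xa0000a000010029d) (.leaf 0)) (.node (.leaf 0xb0000a00000003eb) (.leaf 0))))))) (.node (.node (.node (.node (.node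 (.node (.leaf 0x50000a000010010f) (.leaf 0x8000050000100185)) (.node (.leaf 0x90000b000000021b) (.leaf 0))) (.node (.node (.leaf 0x80000b0000100117) (.leaf 0x70000900000004d5)) (.node (.leaf 0x400007000010031b) (.leaf 0)))) (.node (.node (.node (.leaf 0x2000060000100166) (.leaf 0x70000a00000004f0)) (.node (.leaf 0x80000a0000000232) (.leaf 0))) (.node (.node (.leaf 0x80000a00001001b4) (.leaf 0)) (.node (.leaf 0x80000b0000000433) (.leaf 0))))) (.node (.node (.node (.node (.leaf 0x600009000000022d) (.leaf 0x70000b00001001ad)) (.node (.leaf 0x80000a000000025b) (.leaf 0))) (.node (.node (.leaf 0x90000b0000100507) (.leaf 0x600009000000055b)) (.node (.leaf 0x50000b0000000445) (.leaf 0)))) (.node (.node (.node (.leaf 0x500008000000006d) (.leaf 0x80000b000000051d)) (.node (.leaf 0x80000a000000052c) (.leaf 0))) (.node (.node (.leaf 0x60000b00000001da) (.leaf 0)) (.node (.leaf 0xa0000a0000000519) (.leaf 0)))))) (.node (.node (.node (.node (.node (.leaf 0x60000900001001a5) (.leaf 0x70000b00000001ad))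 (.node (.leaf 0x70000a00001001a7) (.leaf 0))) (.node (.node (.leaf 0xb0000a000000013d) (.leaf 0x80000b00001000f8)) (.node (.leaf 0x9000090000100113) (.leaf 0)))) (.node (.node (.node (.leaf 0x70000a000010048b) (.leaf 0x6000090000100256)) (.node (.leaf 0x70000b00001001e6) (.leaf 0))) (.node (.node (.leaf 0x80000900000001cb) (.leaf 0)) (.node (.leaf 0x60000500001000a7) (.leaf 0))))) (.node (.node (.node (.node (.leaf 0x80000a00001000bc) (.leaf 0x50000b0000100390)) (.node (.leaf 0x30000a000010017e) (.leaf 0))) (.node (.node (.leaf 0xa0000b0000100373) (.leaf 0x90000b00001001e0)) (.node (.leaf 0x90000b0000100338) (.leaf 0)))) (.node (.node (.node (.leaf 0x700009000000022b) (.leaf 0x80000b00000004ec)) (.node (.leaf 0x60000900000002d6) (.leaf 0))) (.node (.node (.leaf 0x70000b000010047f) (.leaf 0)) (.node (.leaf 0x90000a0000000568) (.leaf 0))))))))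

/-- part of a forest -/
def forest12 : Trie :=
  (.node (.node (.node (.node (.node (.node (.node (.leaf 0x30000000002) (.leaf 0xa000090000100543)) (.node (.leaf 0x80000a00001001c2) (.leaf 0))) (.node (.node (.leaf 0x70000a000000005a) (.leaf 0xb0000b000010032f)) (.node (.leaf 0x700009000010048c) (.leaf 0)))) (.node (.node (.node (.leaf 0x7000060000100083) (.leaf 0x80000a0000000481)) (.node (.leaf 0x50000a0000000281) (.leaf 0))) (.node (.node (.leaf 0x70000a0000000183) (.leaf 0)) (.node (.leaf 0x50000a000010016c) (.leaf 0))))) (.node (.node (.node (.node (.leaf 0x6000070000100323) (.leaf 0x60000900001002b3)) (.node (.leaf 0x90000b0000100560) (.leaf 0))) (.node (.node (.leaf 0x60000600001000a0) (.leaf 0x70000900001001a4)) (.node (.leaf 0x80000a0000100481) (.leaf 0)))) (.node (.node (.node (.leaf 0x90000900001004f7) (.leaf 0x90000b00001004a8)) (.node (.leaf 0x90000a000010036b) (.leaf 0))) (.node (.node (.leaf 0x70000a00001002a9) (.leaf 0)) (.node (.leaf 0x50000700000000ab) (.leaf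 0)))))) (.node (.node (.node (.node (.node (.leaf 0x8000070000100108) (.leaf 0x80000b0000100118)) (.node (.leaf 0x90000b000010020b) (.leaf 0))) (.node (.node (.leaf 0x90000b00000003d3) (.leaf 0xa0000a000010014e)) (.node (.leaf 0x6000070000000323) (.leaf 0)))) (.node (.node (.node (.leaf 0x70000500001003c4) (.leaf 0xa0000900001003c7)) (.node (.leaf 0x90000a0000100017) (.leaf 0))) (.node (.node (.leaf 0x6000080000100130) (.leaf 0)) (.node (.leaf 0xb0000b00000003a3) (.leaf 0))))) (.node (.node (.node (.node (.leaf 0x7000060000000064) (.leaf 0x60000b0000000531)) (.node (.leaf 0x70000a00001002e2) (.leaf 0))) (.node (.node (.leaf 0xb0000a0000000161) (.leaf 0x60000b0000100452)) (.node (.leaf 0x90000a0000000361) (.leaf 0)))) (.node (.node (.node (.leaf 0x70000a000010016a) (.leaf 0x80000a000010023d)) (.node (.leaf 0x60000a0000100282) (.leaf 0))) (.node (.node (.leaf 0x80000b000010028b) (.leaf 0)) (.node (.leaf 0x60000a0000000382) (.leaf 0))))))) (.node (.node (.node (.node (.node (.node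 (.leaf 0x3000090000000011) (.leaf 0x70000a0000100257)) (.node (.leaf 0x90000a0000100181) (.leaf 0))) (.node (.node (.leaf 0x8000090000100076) (.leaf 0x90000900001001b9)) (.node (.leaf 0x9000090000000441) (.leaf 0)))) (.node (.node (.node (.leaf 0x7000070000100107) (.leaf 0x80000a0000000491)) (.node (.leaf 0x80000a0000000293) (.leaf 0))) (.node (.node (.leaf 0xa0000b0000000191) (.leaf 0)) (.node (.leaf 0x80000b0000100371) (.leaf 0))))) (.node (.node (.node (.node (.leaf 0x500006000000004f) (.leaf 0x50000b0000100445)) (.node (.leaf 0xa0000a00001001c1) (.leaf 0))) (.node (.node (.leaf 0x50000b0000100272) (.leaf 0xa000090000000543)) (.node (.leaf 0x50000a00001003a7) (.leaf 0)))) (.node (.node (.node (.leaf 0x90000b0000100399) (.leaf 0x80000b00001002b9)) (.node (.leaf 0x80000a0000100262) (.leaf 0))) (.node (.node (.leaf 0x80000a00000001d1) (.leaf 0)) (.node (.leaf 0x40000b00000000c7) (.leaf 0)))))) (.node (.node (.node (.node (.node (.leaf 0x300006000000009c) (.leaf 0x90000a0000000537))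 (.node (.leaf 0x70000a00001001ca) (.leaf 0))) (.node (.node (.leaf 0x9000070000100093) (.leaf 0x90000b00001002bb)) (.node (.leaf 0x70000b0000000331) (.leaf 0)))) (.node (.node (.node (.leaf 0x70000800001000e4) (.leaf 0xa0000900000004b3)) (.node (.leaf 0x9000090000100219) (.leaf 0))) (.node (.node (.leaf 0x70000b00000001b3) (.leaf 0)) (.node (.leaf 0x30000800001003b3) (.leaf 0))))) (.node (.node (.node (.node (.leaf 0xc000090000000071) (.leaf 0x90000b0000100513)) (.node (.leaf 0x40000b0000100446) (.leaf 0))) (.node (.node (.leaf 0xb0000b0000000171) (.leaf 0xb0000a00001004c5)) (.node (.leaf 0xa0000b0000000373) (.leaf 0)))) (.node (.node (.node (.leaf 0xb0000b000010011b) (.leaf 0x90000900001004a0)) (.node (.leaf 0x60000b0000100152) (.leaf 0))) (.node (.node (.leaf 0xa000090000100149) (.leaf 0)) (.node (.leaf 0x70000a00000003f1) (.leaf 0))))))))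

/-- part of a forest -/
def forest110 : Trie :=
  (.node (.node (.node (.node (.node (.node (.node (.leaf 0x8000000000a) (.leaf 0x80000b000000040b)) (.node (.leaf 0x30000b0000100194) (.leaf 0))) (.node (.node (.leaf 0x60000a0000100059) (.leaf 0x90000a00000001ef)) (.node (.leaf 0x500009000000014b) (.leaf 0)))) (.node (.node (.node (.leaf 0x300006000000008b) (.leaf 0x50000a000000016c)) (.node (.leaf 0x90000b00000004b4) (.leaf 0))) (.node (.node (.leaf 0xa00009000000018b) (.leaf 0)) (.node (.leaf 0x20000b0000000389) (.leaf 0))))) (.node (.node (.node (.node (.leaf 0x30000800000003b3) (.leaf 0xa0000a00001001eb)) (.node (.leaf 0x80000b00000001fc) (.leaf 0))) (.node (.node (.leaf 0x70000a00000001a7) (.leaf 0x40000b00001000c7)) (.node (.leaf 0x9000050000100320) (.leaf 0)))) (.node (.node (.node (.leaf 0x60000b000000047c) (.leaf 0x90000b0000000335)) (.node (.leaf 0x900009000010010d) (.leaf 0))) (.node (.node (.leaf 0x60000a0000100139) (.leaf 0)) (.node (.leaf 0xa0000b0000100465) (.leaf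 0)))))) (.node (.node (.node (.node (.node (.leaf 0x400007000000002b) (.leaf 0x70000b00001003ac)) (.node (.leaf 0xa0000900001004ad) (.leaf 0))) (.node (.node (.leaf 0x90000a00001002d2) (.leaf 0x60000900001002d6)) (.node (.leaf 0x9000090000000511) (.leaf 0)))) (.node (.node (.node (.leaf 0x70000700000003c3) (.leaf 0x90000b00000004ab)) (.node (.leaf 0x70000b000000053d) (.leaf 0))) (.node (.node (.leaf 0x70000a000010003d) (.leaf 0)) (.node (.leaf 0x60000b000010043b) (.leaf 0))))) (.node (.node (.node (.node (.leaf 0x7000050000000096) (.leaf 0x80000b000000045b)) (.node (.leaf 0xa0000b0000000269) (.leaf 0))) (.node (.node (.leaf 0x60000a0000000189) (.leaf 0x90000b00001000cd)) (.node (.leaf 0xb000090000000369) (.leaf 0)))) (.node (.node (.node (.leaf 0x90000900001003e5) (.leaf 0x50000a00000004e9)) (.node (.leaf 0x90000a00000002bd) (.leaf 0))) (.node (.node (.leaf 0x80000b00001003be) (.leaf 0)) (.node (.leaf 0xa0000900001003fa) (.leaf 0))))))) (.node (.node (.node (.node (.node (.node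 (.leaf 0x90000900000000b6) (.leaf 0x60000a00001001cc)) (.node (.leaf 0x90000b0000100335) (.leaf 0))) (.node (.node (.leaf 0x90000b0000100460) (.leaf 0x300009000010017d)) (.node (.leaf 0x4000050000000253) (.leaf 0)))) (.node (.node (.node (.leaf 0x60000800000003bb) (.leaf 0x80000a0000000499)) (.node (.leaf 0x900009000000043e) (.leaf 0))) (.node (.node (.leaf 0x60000b000000019b) (.leaf 0)) (.node (.leaf 0x80000b00001001e9) (.leaf 0))))) (.node (.node (.node (.node (.leaf 0x60000a0000000059) (.leaf 0x60000b000000026f)) (.node (.leaf 0x20000900001001ce) (.leaf 0))) (.node (.node (.leaf 0x60000b000010035c) (.leaf 0x90000b0000000530)) (.node (.leaf 0x60000b000010039d) (.leaf 0)))) (.node (.node (.node (.leaf 0x60000900000000db) (.leaf 0x80000b0000100271)) (.node (.leaf 0x90000900001002db) (.leaf 0))) (.node (.node (.leaf 0x50000b0000100528) (.leaf 0)) (.node (.leaf 0xa0000900001002b2) (.leaf 0)))))) (.node (.node (.node (.node (.node (.leaf 0xa0000a0000100160) (.leaf 0x90000b0000000288))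 (.node (.leaf 0x80000900000001a3) (.leaf 0))) (.node (.node (.leaf 0x90000900001004c7) (.leaf 0x60000b000010054b)) (.node (.leaf 0x50000a000010049f) (.leaf 0)))) (.node (.node (.node (.leaf 0x90000900001000d8) (.leaf 0xb000090000100324)) (.node (.leaf 0x70000b0000100174) (.leaf 0))) (.node (.node (.leaf 0xa0000900000001bb) (.leaf 0)) (.node (.leaf 0x6000060000100063) (.leaf 0))))) (.node (.node (.node (.node (.leaf 0x8000090000100515) (.leaf 0xa0000900001004e4)) (.node (.leaf 0x900009000010043e) (.leaf 0))) (.node (.node (.leaf 0x80000b000000017b) (.leaf 0xa0000b0000000579)) (.node (.leaf 0xa0000b000000037b) (.leaf 0)))) (.node (.node (.node (.leaf 0x80000b0000100504) (.leaf 0x50000a000000049f)) (.node (.leaf 0xa0000a0000000425) (.leaf 0))) (.node (.node (.leaf 0x80000b0000000275) (.leaf 0)) (.node (.leaf 0x9000090000100315) (.leaf 0))))))))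

/-- part of a forest -/
def forest16 : Trie :=
  (.node (.node (.node (.node (.node (.node (.node (.leaf 0x1000050000000004) (.leaf 0x700008000010009a)) (.node (.leaf 0xa0000b00001000f9) (.leaf 0))) (.node (.node (.leaf 0x80000800000000e5) (.leaf 0x70000b00001000d0)) (.node (.leaf 0xa0000b00001003cf) (.leaf 0)))) (.node (.node (.node (.leaf 0x5000070000000087) (.leaf 0xb0000a0000000398)) (.node (.leaf 0x80000a0000000262) (.leaf 0))) (.node (.node (.leaf 0x9000060000100025) (.leaf 0)) (.node (.leaf 0x90000a0000000387) (.leaf 0))))) (.node (.node (.node (.node (.leaf 0x6000050000100094) (.leaf 0x30000b0000000287)) (.node (.leaf 0x80000b0000100461) (.leaf 0))) (.node (.node (.leaf 0x700009000010049b) (.leaf 0x90000b000000021f)) (.node (.leaf 0x80000a00001003f2) (.leaf 0)))) (.node (.node (.node (.leaf 0x20000b00000000c5) (.leaf 0x7000090000100442)) (.node (.leaf 0x80000900000002c5) (.leaf 0))) (.node (.node (.leaf 0x7000090000100277) (.leaf 0)) (.node (.leaf 0x800009000010030e) (.leaf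 0)))))) (.node (.node (.node (.node (.node (.leaf 0x70000600000000a6) (.leaf 0xa000090000000427)) (.node (.leaf 0x70000b0000000375) (.leaf 0))) (.node (.node (.leaf 0x4000090000100136) (.leaf 0x90000a000010018f)) (.node (.leaf 0xa0000900001004f2) (.leaf 0)))) (.node (.node (.node (.leaf 0x600006000010004c) (.leaf 0x80000b0000100391)) (.node (.leaf 0x60000b00000000f0) (.leaf 0))) (.node (.node (.leaf 0x9000090000100040) (.leaf 0)) (.node (.leaf 0x80000900001001a3) (.leaf 0))))) (.node (.node (.node (.node (.leaf 0x70000800001001a2) (.leaf 0xa0000b0000000465)) (.node (.leaf 0xa0000a0000000180) (.leaf 0))) (.node (.node (.leaf 0x1000060000100005) (.leaf 0xa000090000000525)) (.node (.leaf 0x80000a0000000365) (.leaf 0)))) (.node (.node (.node (.leaf 0x6000070000000029) (.leaf 0x70000b00001000ca)) (.node (.leaf 0x90000a00000002e5) (.leaf 0))) (.node (.node (.leaf 0x60000b000010019b) (.leaf 0)) (.node (.leaf 0x90000900000003e5) (.leaf 0))))))) (.node (.node (.node (.node (.node (.node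 (.leaf 0x4000090000000015) (.leaf 0x80000a000010037e)) (.node (.leaf 0xa0000a00001001b6) (.leaf 0))) (.node (.node (.leaf 0x90000b0000000115) (.leaf 0x80000a0000100290)) (.node (.leaf 0x70000a000000032e) (.leaf 0)))) (.node (.node (.node (.leaf 0x6000050000100028) (.leaf 0x50000a00000002cf)) (.node (.leaf 0xa0000a00001003a4) (.leaf 0))) (.node (.node (.leaf 0x80000b00001004a3) (.leaf 0)) (.node (.leaf 0x80000a0000000395) (.leaf 0))))) (.node (.node (.node (.node (.leaf 0xa0000a0000000055) (.leaf 0xa0000b00001001df)) (.node (.leaf 0x5000090000000255) (.leaf 0))) (.node (.node (.leaf 0x80000b00000003df) (.leaf 0x9000090000000555)) (.node (.leaf 0x90000b00000002f8) (.leaf 0)))) (.node (.node (.node (.leaf 0x6000090000000058) (.leaf 0x60000b000000038f)) (.node (.leaf 0x5000090000100057) (.leaf 0))) (.node (.node (.leaf 0x80000900001000d9) (.leaf 0)) (.node (.leaf 0x50000a00000003a7) (.leaf 0)))))) (.node (.node (.node (.node (.node (.leaf 0x40000a0000000035) (.leaf 0x40000b000010011e))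 (.node (.leaf 0xb000090000000235) (.leaf 0))) (.node (.node (.leaf 0x30000900001001cf) (.leaf 0xa0000b000010037c)) (.node (.leaf 0x80000b0000000334) (.leaf 0)))) (.node (.node (.node (.leaf 0x80000900000000e7) (.leaf 0x90000b000010024a)) (.node (.leaf 0x70000a000000010a) (.leaf 0))) (.node (.node (.leaf 0x90000a00000001b5) (.leaf 0)) (.node (.leaf 0x4000080000100141) (.leaf 0))))) (.node (.node (.node (.node (.leaf 0x700009000010005c) (.leaf 0xa0000b0000000475)) (.node (.leaf 0x900009000010033e) (.leaf 0))) (.node (.node (.leaf 0x90000b0000100422) (.leaf 0x80000b0000000547)) (.node (.leaf 0xb0000b0000000223) (.leaf 0)))) (.node (.node (.node (.leaf 0xb0000b0000000444) (.leaf 0xa0000b00000001f9)) (.node (.leaf 0xb0000b00001003c9) (.leaf 0))) (.node (.node (.leaf 0x70000b0000100423) (.leaf 0)) (.node (.leaf 0x70000900001004bc) (.leaf 0))))))))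

/-- part of a forest -/
def forest114 : Trie :=
  (.node (.node (.node (.node (.node (.node (.node (.leaf 0x100008000000000a) (.leaf 0xa0000a0000100397)) (.node (.leaf 0x80000b0000000391) (.leaf 0))) (.node (.node (.leaf 0x50000a000000010f) (.leaf 0x80000b00001000cb)) (.node (.leaf 0x70000900000003a0) (.leaf 0)))) (.node (.node (.node (.leaf 0x4000050000100253) (.leaf 0x70000a00001003d5)) (.node (.leaf 0x60000b00000002b7) (.leaf 0))) (.node (.node (.leaf 0x70000a00001003e2) (.leaf 0)) (.node (.leaf 0x70000b00001002a6) (.leaf 0))))) (.node (.node (.node (.node (.leaf 0x2000050000000006) (.leaf 0x90000b000000053c)) (.node (.leaf 0xa0000a000010043d) (.leaf 0))) (.node (.node (.leaf 0x90000a000000014f) (.leaf 0x60000b0000100119)) (.node (.leaf 0x80000a000010034c) (.leaf 0)))) (.node (.node (.node (.leaf 0x80000b00000000cf) (.leaf 0x8000090000000302)) (.node (.leaf 0x90000a000000049a) (.leaf 0))) (.node (.node (.leaf 0x100009000010000f) (.leaf 0)) (.node (.leaf 0x80000b0000100506)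 (.leaf 0)))))) (.node (.node (.node (.node (.node (.leaf 0x600005000000002f) (.leaf 0xb0000a0000000279)) (.node (.leaf 0x80000a00001000e2) (.leaf 0))) (.node (.node (.leaf 0x70000500001000a3) (.leaf 0x70000b000000052d)) (.node (.leaf 0x60000a0000100352) (.leaf 0)))) (.node (.node (.node (.leaf 0x70000700000000ad) (.leaf 0xa0000900000004ad)) (.node (.leaf 0xa0000b000010035d) (.leaf 0))) (.node (.node (.leaf 0x90000b000010021f) (.leaf 0)) (.node (.leaf 0x90000b00000003bf) (.leaf 0))))) (.node (.node (.node (.node (.leaf 0x3000080000000031) (.leaf 0x900009000010014c)) (.node (.leaf 0x70000b0000100331) (.leaf 0))) (.node (.node (.leaf 0x80000a0000100240) (.leaf 0x60000b00001003dd)) (.node (.leaf 0x50000a00001002cf) (.leaf 0)))) (.node (.node (.node (.leaf 0x90000b00000000ed) (.leaf 0x9000090000100300)) (.node (.leaf 0x60000900000002ed) (.leaf 0))) (.node (.node (.leaf 0x8000090000000454) (.leaf 0)) (.node (.leaf 0x50000b00001003d2) (.leaf 0))))))) (.node (.node (.node (.node (.node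 (.node (.leaf 0x50000800001003b6) (.leaf 0x70000b000000041f)) (.node (.leaf 0x90000b00001000f4) (.leaf 0))) (.node (.node (.leaf 0x30000b00001000c6) (.leaf 0x80000a0000100405)) (.node (.leaf 0x7000060000100064) (.leaf 0)))) (.node (.node (.node (.leaf 0x4000060000100413) (.leaf 0x90000a000000049d)) (.node (.leaf 0x80000900000002e8) (.leaf 0))) (.node (.node (.leaf 0xa00009000000019f) (.leaf 0)) (.node (.leaf 0x60000b0000000569) (.leaf 0))))) (.node (.node (.node (.node (.leaf 0x90000a000000010c) (.leaf 0x600009000010022d)) (.node (.leaf 0xa0000a000000025d) (.leaf 0))) (.node (.node (.leaf 0x80000b00001001ff) (.leaf 0x90000b000000055d)) (.node (.leaf 0x80000b0000000245) (.leaf 0)))) (.node (.node (.node (.leaf 0x70000700000000dd) (.leaf 0x60000b0000000452)) (.node (.leaf 0x40000a000010013f) (.leaf 0))) (.node (.node (.leaf 0xa0000b000010045d) (.leaf 0)) (.node (.leaf 0x60000b00000003dd) (.leaf 0)))))) (.node (.node (.node (.node (.node (.leaf 0x50000a0000000103) (.leaf 0x800009000010056d))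 (.node (.leaf 0x60000900001001d3) (.leaf 0))) (.node (.node (.leaf 0xa0000900001001a6) (.leaf 0x90000a0000000366)) (.node (.leaf 0x800009000010017f) (.leaf 0)))) (.node (.node (.node (.leaf 0x70000900000002fc) (.leaf 0x50000b00000004bf)) (.node (.leaf 0x90000a00001000b7) (.leaf 0))) (.node (.node (.leaf 0x4000090000100227) (.leaf 0)) (.node (.leaf 0x70000b00000003ad) (.leaf 0))))) (.node (.node (.node (.node (.leaf 0x90000a000000007c) (.leaf 0x90000b000010055d)) (.node (.leaf 0x60000900001002c3) (.leaf 0))) (.node (.node (.leaf 0x20000a0000000014) (.leaf 0x40000b000010020a)) (.node (.leaf 0x70000a00000003d5) (.leaf 0)))) (.node (.node (.node (.leaf 0x80000900000000fd) (.leaf 0xa0000b00000004fd)) (.node (.leaf 0x70000a0000000258) (.leaf 0))) (.node (.node (.leaf 0x80000b00000001ff) (.leaf 0)) (.node (.leaf 0xa0000900000004a1) (.leaf 0))))))))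

/-- part of a forest -/
def forest11 : Trie :=
  (.node (.node (.node (.node (.node (.node (.node (.leaf 0x20000000001) (.leaf 0xa0000a0000100558)) (.node (.leaf 0x90000b000000050e) (.leaf 0))) (.node (.node (.leaf 0x70000900001000d6) (.leaf 0x60000b0000000119)) (.node (.leaf 0x9000090000000300) (.leaf 0)))) (.node (.node (.node (.leaf 0x6000050000000080) (.leaf 0x70000a000010032e)) (.node (.leaf 0x40000a000000013f) (.leaf 0))) (.node (.node (.leaf 0x80000a0000000182) (.leaf 0)) (.node (.leaf 0xb000090000000380) (.leaf 0))))) (.node (.node (.node (.node (.leaf 0x900009000000003f) (.leaf 0x8000090000000448)) (.node (.leaf 0x60000a0000000228) (.leaf 0))) (.node (.node (.leaf 0x3000080000000088) (.leaf 0x70000900001003a0)) (.node (.leaf 0x80000a0000100218) (.leaf 0)))) (.node (.node (.node (.leaf 0xa0000a000000010b) (.leaf 0xa0000b00000004c2)) (.node (.leaf 0x80000a0000100102) (.leaf 0))) (.node (.node (.leaf 0x90000a00001003e4) (.leaf 0)) (.node (.leaf 0x60000600001003b5) (.leaf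 0)))))) (.node (.node (.node (.node (.node (.leaf 0x70000700000003db) (.leaf 0x70000b0000000575)) (.node (.leaf 0x80000b0000100571) (.leaf 0))) (.node (.node (.leaf 0x70000b000010019a) (.leaf 0xa0000b0000100337)) (.node (.leaf 0x5000070000100087) (.leaf 0)))) (.node (.node (.node (.leaf 0x80000500001000a2) (.leaf 0x90000900000004a0)) (.node (.leaf 0x50000900000002a0) (.leaf 0))) (.node (.node (.leaf 0x5000080000000049) (.leaf 0)) (.node (.leaf 0xb0000b000010050d) (.leaf 0))))) (.node (.node (.node (.node (.leaf 0x800009000010051c) (.leaf 0x70000b0000000462)) (.node (.leaf 0xa0000a0000100449) (.leaf 0))) (.node (.node (.leaf 0xa0000a0000100518) (.leaf 0x70000b0000000548)) (.node (.leaf 0x80000a0000000360) (.leaf 0)))) (.node (.node (.node (.leaf 0x700009000000027e) (.leaf 0x70000b00001003ed)) (.node (.leaf 0x90000900000002a8) (.leaf 0))) (.node (.node (.leaf 0x70000b0000000564) (.leaf 0)) (.node (.leaf 0x90000b00000001ab) (.leaf 0))))))) (.node (.node (.node (.node (.node (.node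 (.leaf 0x2000090000000010) (.leaf 0x500006000000004b)) (.node (.leaf 0x90000a0000100100) (.leaf 0))) (.node (.node (.leaf 0x9000090000000112) (.leaf 0x80000900001002c5)) (.node (.leaf 0x80000a0000000316) (.leaf 0)))) (.node (.node (.node (.leaf 0x8000070000100092) (.leaf 0x70000a000010005a)) (.node (.leaf 0x80000a000010014a) (.leaf 0))) (.node (.node (.leaf 0x90000b0000100198) (.leaf 0)) (.node (.leaf 0x70000b000010035a) (.leaf 0))))) (.node (.node (.node (.node (.leaf 0x70000700000000e6) (.leaf 0x70000b000000035a)) (.node (.leaf 0xa0000a0000000250) (.leaf 0))) (.node (.node (.leaf 0xa0000b000000042b) (.leaf 0x80000a000000046c)) (.node (.leaf 0x60000a0000000352) (.leaf 0)))) (.node (.node (.node (.leaf 0xa0000b00000000d2) (.leaf 0x90000b00000004fc)) (.node (.leaf 0xa0000900001002a4) (.leaf 0))) (.node (.node (.leaf 0x70000a00000001cd) (.leaf 0)) (.node (.leaf 0x50000b00000003d2) (.leaf 0)))))) (.node (.node (.node (.node (.node (.leaf 0x200008000010000e) (.leaf 0xa0000a0000000432))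 (.node (.leaf 0x90000a0000100551) (.leaf 0))) (.node (.node (.leaf 0x80000700001000b0) (.leaf 0x50000b000000057e)) (.node (.leaf 0x60000b0000000330) (.leaf 0)))) (.node (.node (.node (.leaf 0x80000700000000b0) (.leaf 0x90000a000010016e)) (.node (.leaf 0xb0000900001003e9) (.leaf 0))) (.node (.node (.leaf 0x30000b0000100287) (.leaf 0)) (.node (.leaf 0x60000800000003b0) (.leaf 0))))) (.node (.node (.node (.node (.leaf 0xb000090000000070) (.leaf 0x90000b0000000470)) (.node (.leaf 0x70000b0000000423) (.leaf 0))) (.node (.node (.leaf 0xa0000b0000100545) (.leaf 0x70000b0000100244)) (.node (.leaf 0x70000b0000100562) (.leaf 0)))) (.node (.node (.node (.leaf 0xb0000b0000000539) (.leaf 0xa0000a00001003f5)) (.node (.leaf 0x8000090000100125) (.leaf 0))) (.node (.node (.leaf 0xa0000900001002e1) (.leaf 0)) (.node (.leaf 0x60000a00000004ea) (.leaf 0))))))))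

/-- part of a forest -/
def forest19 : Trie :=
  (.node (.node (.node (.node (.node (.node (.node (.leaf 0x1000070000000007) (.leaf 0x80000b0000100473)) (.node (.leaf 0x40000b000000020a) (.leaf 0))) (.node (.node (.leaf 0x6000050000100090) (.leaf 0x50000b00000004db)) (.node (.leaf 0x90000b0000100458) (.leaf 0)))) (.node (.node (.node (.leaf 0x100008000010000a) (.leaf 0xa000090000000488)) (.node (.leaf 0x70000b0000100388) (.leaf 0))) (.node (.node (.leaf 0x50000a00001004e9) (.leaf 0)) (.node (.leaf 0x10000b00001000c4) (.leaf 0))))) (.node (.node (.node (.node (.leaf 0x400008000000004a) (.leaf 0x90000a0000000482)) (.node (.leaf 0x90000b00001001f4) (.leaf 0))) (.node (.node (.leaf 0x90000900000004f7) (.leaf 0xb0000b00001003cd)) (.node (.leaf 0xa00005000000034a) (.leaf 0)))) (.node (.node (.node (.leaf 0xa0000b00000000c8) (.leaf 0x90000b000010050b)) (.node (.leaf 0x800009000000051c) (.leaf 0))) (.node (.node (.leaf 0x90000900000001c8) (.leaf 0)) (.node (.leaf 0xa0000b0000100190) (.leaf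 0)))))) (.node (.node (.node (.node (.node (.leaf 0x500007000000002a) (.leaf 0x80000b000000042a)) (.node (.leaf 0x80000a00000000e2) (.leaf 0))) (.node (.node (.leaf 0x6000090000000384) (.leaf 0xa0000a00000002c8)) (.node (.leaf 0x70000a0000000328) (.leaf 0)))) (.node (.node (.node (.leaf 0x60000800001001a1) (.leaf 0x90000b00001004da)) (.node (.leaf 0x60000a0000000282) (.leaf 0))) (.node (.node (.leaf 0x8000090000100101) (.leaf 0)) (.node (.leaf 0x90000b0000100420) (.leaf 0))))) (.node (.node (.node (.node (.leaf 0x800005000000006a) (.leaf 0x90000b000000045f)) (.node (.leaf 0x90000b0000100409) (.leaf 0))) (.node (.node (.leaf 0x70000a000000016a) (.leaf 0x50000b00001004db)) (.node (.leaf 0xa0000900000004eb) (.leaf 0)))) (.node (.node (.node (.leaf 0xa0000a00000002fd) (.leaf 0x40000a000010016d)) (.node (.leaf 0x900009000000007a) (.leaf 0))) (.node (.node (.leaf 0x70000b000010053a) (.leaf 0)) (.node (.leaf 0xa0000900001004ee) (.leaf 0))))))) (.node (.node (.node (.node (.node (.node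 (.leaf 0x70000900001002d4) (.leaf 0x30000a000010037f)) (.node (.leaf 0x80000900000004c6) (.leaf 0))) (.node (.node (.leaf 0x50000b000010054c) (.leaf 0x90000a000010025c)) (.node (.leaf 0x500005000000031a) (.leaf 0)))) (.node (.node (.node (.leaf 0x70000600001003ba) (.leaf 0x70000a0000000498)) (.node (.leaf 0x60000a00001003d6) (.leaf 0))) (.node (.node (.leaf 0x70000b000000019a) (.leaf 0)) (.node (.leaf 0x80000b00000001e5) (.leaf 0))))) (.node (.node (.node (.node (.leaf 0x50000a0000000127) (.leaf 0x90000b0000000458)) (.node (.leaf 0x70000900000001d4) (.leaf 0))) (.node (.node (.leaf 0x90000b00001002b8) (.leaf 0x50000b00001001b0)) (.node (.leaf 0x90000b0000100196) (.leaf 0)))) (.node (.node (.node (.leaf 0x70000900000000da) (.leaf 0x80000b000000041e)) (.node (.leaf 0x90000a0000100168) (.leaf 0))) (.node (.node (.leaf 0x90000900001002a8) (.leaf 0)) (.node (.leaf 0xa0000900000004fb) (.leaf 0)))))) (.node (.node (.node (.node (.node (.leaf 0xa0000a00000000d7) (.leaf 0x90000b000010039a))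 (.node (.leaf 0xa0000a0000100147) (.leaf 0))) (.node (.node (.leaf 0x50000a0000000036) (.leaf 0xa0000b0000000538)) (.node (.leaf 0x70000b000000045a) (.leaf 0)))) (.node (.node (.node (.leaf 0xa000090000100364) (.leaf 0x70000a00000004b8)) (.node (.leaf 0x70000b00001003ad) (.leaf 0))) (.node (.node (.leaf 0x8000090000100213) (.leaf 0)) (.node (.leaf 0x8000060000100026) (.leaf 0))))) (.node (.node (.node (.node (.leaf 0x90000a0000000100) (.leaf 0x40000b000000050c)) (.node (.leaf 0xa0000a0000000278) (.leaf 0))) (.node (.node (.leaf 0x80000b00000001b2) (.leaf 0x90000b00001004e5)) (.node (.leaf 0xb0000b000000037a) (.leaf 0)))) (.node (.node (.node (.leaf 0x90000b00000000fa) (.leaf 0x70000b00000002a6)) (.node (.leaf 0x90000b0000000408) (.leaf 0))) (.node (.node (.leaf 0x90000b000010045f) (.leaf 0)) (.node (.leaf 0xa000090000000430) (.leaf 0))))))))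

/-- part of a forest -/
def forest15 : Trie :=
  (.node (.node (.node (.node (.node (.node (.node (.leaf 0x60000000005) (.leaf 0x70000a0000100328)) (.node (.leaf 0xa00009000010027a) (.leaf 0))) (.node (.node (.leaf 0x90000700000000b1) (.leaf 0x90000b00000000f4)) (.node (.leaf 0x80000b00000001af) (.leaf 0)))) (.node (.node (.node (.leaf 0x400008000010009b) (.leaf 0x700009000000023e)) (.node (.leaf 0xa0000a00001002dd) (.leaf 0))) (.node (.node (.leaf 0x7000050000000134) (.leaf 0)) (.node (.leaf 0xa0000a0000000386) (.leaf 0))))) (.node (.node (.node (.node (.leaf 0x7000050000100046) (.leaf 0x40000b0000000446)) (.node (.leaf 0x70000b0000000244) (.leaf 0))) (.node (.node (.leaf 0x6000080000000144) (.leaf 0x90000b00000004d2)) (.node (.leaf 0xa000090000100165) (.leaf 0)))) (.node (.node (.node (.leaf 0x10000b00000000c4) (.leaf 0xa0000a000010050a)) (.node (.leaf 0x70000900000002c4) (.leaf 0))) (.node (.node (.leaf 0xa0000a00001002be) (.leaf 0)) (.node (.leaf 0x80000a0000100329) (.leaf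 0)))))) (.node (.node (.node (.node (.node (.leaf 0x8000060000000026) (.leaf 0x90000a00001001ef)) (.node (.leaf 0x80000b0000000226) (.leaf 0))) (.node (.node (.leaf 0x7000090000000124) (.leaf 0x900009000010029e)) (.node (.leaf 0xb000090000000324) (.leaf 0)))) (.node (.node (.node (.leaf 0x60000600000000a4) (.leaf 0x80000b0000100226)) (.node (.leaf 0x80000b00000002aa) (.leaf 0))) (.node (.node (.leaf 0x50000900000002e0) (.leaf 0)) (.node (.leaf 0x80000a00001000b5) (.leaf 0))))) (.node (.node (.node (.node (.leaf 0x60000800000003af) (.leaf 0x90000b0000000464)) (.node (.leaf 0x90000a00001000bb) (.leaf 0))) (.node (.node (.leaf 0x9000090000000077) (.leaf 0xb0000b000010057f)) (.node (.leaf 0x70000a0000000351) (.leaf 0)))) (.node (.node (.node (.leaf 0x70000800000000e4) (.leaf 0x80000b000010038e)) (.node (.leaf 0x80000a000010046d) (.leaf 0))) (.node (.node (.leaf 0x70000b00000001e6) (.leaf 0)) (.node (.leaf 0x80000900001000be) (.leaf 0))))))) (.node (.node (.node (.node (.node (.node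 (.leaf 0x300009000000025a) (.leaf 0x10000a0000100013)) (.node (.leaf 0xb0000a0000000216) (.leaf 0))) (.node (.node (.leaf 0x80000b00001002f4) (.leaf 0x7000090000000442)) (.node (.leaf 0x8000090000100541) (.leaf 0)))) (.node (.node (.node (.leaf 0x6000050000000094) (.leaf 0x80000b000010043c)) (.node (.leaf 0x9000090000100477) (.leaf 0))) (.node (.node (.leaf 0x30000b0000000194) (.leaf 0)) (.node (.leaf 0x70000a0000000487) (.leaf 0))))) (.node (.node (.node (.node (.leaf 0x90000a0000000054) (.leaf 0xa0000a0000000518)) (.node (.leaf 0x400009000010051a) (.leaf 0))) (.node (.node (.leaf 0x70000b00001004cb) (.leaf 0x8000090000100448)) (.node (.leaf 0x90000900000002db) (.leaf 0)))) (.node (.node (.node (.leaf 0x90000a0000000078) (.leaf 0x6000090000000256)) (.node (.leaf 0x70000900000002d4) (.leaf 0))) (.node (.node (.leaf 0x80000a00000001c2) (.leaf 0)) (.node (.leaf 0x60000a00000003d6) (.leaf 0)))))) (.node (.node (.node (.node (.node (.leaf 0x30000a0000000034) (.leaf 0xa0000b0000000434))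 (.node (.leaf 0xa0000900001004b3) (.leaf 0))) (.node (.node (.leaf 0x4000090000000136) (.leaf 0xb0000b0000000536)) (.node (.leaf 0x80000b0000100289) (.leaf 0)))) (.node (.node (.node (.leaf 0x70000a0000100318) (.leaf 0x70000b0000100153)) (.node (.leaf 0x80000a00000002b6) (.leaf 0))) (.node (.node (.leaf 0x80000a00000001b4) (.leaf 0)) (.node (.leaf 0x50000600000003b4) (.leaf 0))))) (.node (.node (.node (.node (.leaf 0x90000a00001004cd) (.leaf 0x90000b00001004a5)) (.node (.leaf 0x70000b00001004d6) (.leaf 0))) (.node (.node (.leaf 0x70000b0000000174) (.leaf 0x60000b0000000437)) (.node (.leaf 0x60000b000010039f) (.leaf 0)))) (.node (.node (.node (.leaf 0xb0000b000010026b) (.leaf 0x80000b0000000571)) (.node (.leaf 0xb0000b00000003cd) (.leaf 0))) (.node (.node (.leaf 0x90000b0000100576) (.leaf 0)) (.node (.leaf 0x90000a00001003c5) (.leaf 0))))))))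

/-- part of a forest -/
def forest113 : Trie :=
  (.node (.node (.node (.node (.node (.node (.node (.leaf 0x300005000000008c) (.leaf 0xa0000a0000000449)) (.node (.leaf 0x90000b000000020e) (.leaf 0))) (.node (.node (.leaf 0x8000090000000101) (.leaf 0xa0000b0000000359)) (.node (.leaf 0xa000090000100284) (.leaf 0)))) (.node (.node (.node (.leaf 0x300005000010008c) (.leaf 0x6000090000100313)) (.node (.leaf 0x70000b000000028e) (.leaf 0))) (.node (.node (.leaf 0x70000a00001004b8) (.leaf 0)) (.node (.leaf 0x80000b00001004b5) (.leaf 0))))) (.node (.node (.node (.node (.leaf 0x300005000000004e) (.leaf 0xa0000b000010047e)) (.node (.leaf 0xa0000a00000002ea) (.leaf 0))) (.node (.node (.leaf 0xa0000a0000100278) (.leaf 0xb0000b0000000476)) (.node (.leaf 0x80000a000000034c) (.leaf 0)))) (.node (.node (.node (.leaf 0x80000b00000002ba) (.leaf 0x80000a000010046c)) (.node (.leaf 0x70000700000002cc) (.leaf 0))) (.node (.node (.leaf 0x60000a00000001cc) (.leaf 0)) (.node (.leaf 0xa0000b0000100197)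 (.leaf 0)))))) (.node (.node (.node (.node (.node (.leaf 0x700008000000006f) (.leaf 0x8000090000000214)) (.node (.leaf 0x500009000000022c) (.leaf 0))) (.node (.node (.leaf 0xa0000a00000002d3) (.leaf 0x60000b0000000559)) (.node (.leaf 0x90000a000010007c) (.leaf 0)))) (.node (.node (.node (.leaf 0x60000700001003c2) (.leaf 0x90000900000004ac)) (.node (.leaf 0xb0000b00001003ab) (.leaf 0))) (.node (.node (.leaf 0x60000b0000100453) (.leaf 0)) (.node (.leaf 0x60000b00001003ee) (.leaf 0))))) (.node (.node (.node (.node (.leaf 0x400008000000006e) (.leaf 0x70000a000010041a)) (.node (.leaf 0x90000b000000026c) (.leaf 0))) (.node (.node (.leaf 0x30000a0000000414) (.leaf 0x700009000010055c)) (.node (.leaf 0x90000a00001003a5) (.leaf 0)))) (.node (.node (.node (.leaf 0x80000b00000004f9) (.leaf 0x60000b00000004cf)) (.node (.leaf 0x5000090000100016) (.leaf 0))) (.node (.node (.leaf 0x90000900000001ee) (.leaf 0)) (.node (.leaf 0x60000b00000003ee) (.leaf 0))))))) (.node (.node (.node (.node (.node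 (.node (.leaf 0x70000a000000001b) (.leaf 0x7000060000100142)) (.node (.leaf 0xa0000b000000021c) (.leaf 0))) (.node (.node (.leaf 0x40000b000000011e) (.leaf 0x70000b000000015a)) (.node (.leaf 0x400008000000009b) (.leaf 0)))) (.node (.node (.node (.leaf 0x300006000010009c) (.leaf 0x80000a000000049c)) (.node (.leaf 0x90000a0000100341) (.leaf 0))) (.node (.node (.leaf 0xb00009000000019e) (.leaf 0)) (.node (.leaf 0x50000b000010011d) (.leaf 0))))) (.node (.node (.node (.node (.leaf 0x90000a0000100286) (.leaf 0x90000b00001004dc)) (.node (.leaf 0x90000a000000025c) (.leaf 0))) (.node (.node (.leaf 0x90000b000000015e) (.leaf 0x80000b00001001e5)) (.node (.leaf 0x90000b000000035e) (.leaf 0)))) (.node (.node (.node (.leaf 0x6000070000100086) (.leaf 0x70000b0000100377)) (.node (.leaf 0x90000a00000002dc) (.leaf 0))) (.node (.node (.leaf 0x90000b000010051f) (.leaf 0)) (.node (.leaf 0x50000b000000054a) (.leaf 0)))))) (.node (.node (.node (.node (.node (.leaf 0x60000a000010048a) (.leaf 0x90000a0000000230))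 (.node (.leaf 0x70000a0000100351) (.leaf 0))) (.node (.node (.leaf 0xa0000a00001002a2) (.leaf 0x60000b000000043b)) (.node (.leaf 0x80000a00000001aa) (.leaf 0)))) (.node (.node (.node (.leaf 0x80000900000000be) (.leaf 0x70000900000004bc)) (.node (.leaf 0x80000a000010001d) (.leaf 0))) (.node (.node (.leaf 0x90000900000001bc) (.leaf 0)) (.node (.leaf 0x70000500000003bc) (.leaf 0))))) (.node (.node (.node (.node (.leaf 0x90000a00001002e4) (.leaf 0xa0000b000000047e)) (.node (.leaf 0x40000a000000027c) (.leaf 0))) (.node (.node (.leaf 0x2000090000100010) (.leaf 0xa0000b0000000459)) (.node (.leaf 0xb000090000000345) (.leaf 0)))) (.node (.node (.node (.leaf 0x700009000010022b) (.leaf 0x90000b0000100178)) (.node (.leaf 0x90000a000000033d) (.leaf 0))) (.node (.node (.leaf 0x90000b0000100225) (.leaf 0)) (.node (.leaf 0x90000a000010049d) (.leaf 0))))))))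

/-- part of a forest -/
def forest13 : Trie :=
  (.node (.node (.node (.node (.node (.node (.node (.leaf 0x40000000003) (.leaf 0xb000090000100402)) (.node (.leaf 0x90000a0000000202) (.leaf 0))) (.node (.node (.leaf 0x40000a0000000104) (.leaf 0xa0000b0000100471)) (.node (.leaf 0x80000a000000048e) (.leaf 0)))) (.node (.node (.node (.leaf 0x60000600001000a4) (.leaf 0x60000b00001002b7)) (.node (.leaf 0x9000090000000550) (.leaf 0))) (.node (.node (.leaf 0x60000a00001002df) (.leaf 0)) (.node (.leaf 0x60000a0000100382) (.leaf 0))))) (.node (.node (.node (.node (.leaf 0x70000700001003c3) (.leaf 0xa000090000000284)) (.node (.leaf 0x70000b000010041f) (.leaf 0))) (.node (.node (.leaf 0x70000600001003c1) (.leaf 0x90000900001004b7)) (.node (.leaf 0x70000600000002cb) (.leaf 0)))) (.node (.node (.node (.leaf 0x80000900000000e1) (.leaf 0xa0000b000000055e)) (.node (.leaf 0x50000900001002a0) (.leaf 0))) (.node (.node (.leaf 0x50000900001001be) (.leaf 0)) (.node (.leaf 0x60000700000003c2) (.leaf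 0)))))) (.node (.node (.node (.node (.node (.leaf 0x6000050000000319) (.leaf 0x60000b0000000510)) (.node (.leaf 0xa0000b0000000224) (.leaf 0))) (.node (.node (.leaf 0x50000900000001bf) (.leaf 0x90000a00001004e2)) (.node (.leaf 0x5000070000100097) (.leaf 0)))) (.node (.node (.node (.leaf 0x6000050000100319) (.leaf 0x70000b0000100375)) (.node (.leaf 0x80000a00001002b6) (.leaf 0))) (.node (.node (.leaf 0x70000900000001a4) (.leaf 0)) (.node (.leaf 0xa0000b000000056c) (.leaf 0))))) (.node (.node (.node (.node (.leaf 0x50000600001003b4) (.leaf 0x70000b00000003aa)) (.node (.leaf 0x7000090000000264) (.leaf 0))) (.node (.node (.leaf 0x70000900001002ee) (.leaf 0x60000b00001004be)) (.node (.leaf 0x800009000000056d) (.leaf 0)))) (.node (.node (.node (.leaf 0x80000a0000000240) (.leaf 0xa0000900000004e4)) (.node (.leaf 0x70000a00000002e2) (.leaf 0))) (.node (.node (.leaf 0x80000b00001000cf) (.leaf 0)) (.node (.leaf 0x70000a00000003e2) (.leaf 0))))))) (.node (.node (.node (.node (.node (.node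 (.leaf 0xa0000000013) (.leaf 0x3000060000000140)) (.node (.leaf 0x700009000000045e) (.leaf 0))) (.node (.node (.leaf 0x8000090000000263) (.leaf 0x80000b000010017b)) (.node (.leaf 0x50000900001002e0) (.leaf 0)))) (.node (.node (.node (.leaf 0x80000700001000aa) (.leaf 0x90000b00001004d9)) (.node (.leaf 0x70000a0000000294) (.leaf 0))) (.node (.node (.leaf 0x90000b00001004a4) (.leaf 0)) (.node (.leaf 0xb00009000010030c) (.leaf 0))))) (.node (.node (.node (.node (.leaf 0x70000a0000100233) (.leaf 0x50000b0000000209)) (.node (.leaf 0x3000050000000254) (.leaf 0))) (.node (.node (.leaf 0x60000b0000000152) (.leaf 0x60000b0000100437)) (.node (.leaf 0xb000090000100489) (.leaf 0)))) (.node (.node (.node (.leaf 0x80000b0000000438) (.leaf 0x80000b00001001b2)) (.node (.leaf 0x90000a00000002d2) (.leaf 0))) (.node (.node (.leaf 0x5000090000000016) (.leaf 0)) (.node (.leaf 0x80000b00000002b9) (.leaf 0)))))) (.node (.node (.node (.node (.node (.leaf 0x70000a0000000138) (.leaf 0x70000b00000003ed))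 (.node (.leaf 0x60000a0000100228) (.leaf 0))) (.node (.node (.leaf 0x9000070000100131) (.leaf 0x80000b00001004ec)) (.node (.leaf 0x60000b0000100330) (.leaf 0)))) (.node (.node (.node (.leaf 0x8000080000100406) (.leaf 0x90000900001002c6)) (.node (.leaf 0x500009000010022c) (.leaf 0))) (.node (.node (.leaf 0x60000b00001003d1) (.leaf 0)) (.node (.leaf 0x2000080000100089) (.leaf 0))))) (.node (.node (.node (.node (.leaf 0x8000090000100259) (.leaf 0x70000b0000100548)) (.node (.leaf 0x80000b0000000461) (.leaf 0))) (.node (.node (.leaf 0x90000b0000100484) (.leaf 0x90000b00000004d4)) (.node (.leaf 0x90000b0000000374) (.leaf 0)))) (.node (.node (.node (.leaf 0x80000b00001001af) (.leaf 0xa0000a00000003a4)) (.node (.leaf 0x80000b00000002f4) (.leaf 0))) (.node (.node (.leaf 0x90000900001002ef) (.leaf 0)) (.node (.leaf 0x9000090000100363) (.leaf 0))))))))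

/-- part of a forest -/
def forest111 : Trie :=
  (.node (.node (.node (.node (.node (.node (.node (.leaf 0x200008000000000e) (.leaf 0x70000b00001002f2)) (.node (.leaf 0x80000b000010051d) (.leaf 0))) (.node (.node (.leaf 0x90000a000010049a) (.leaf 0x80000b000000053b)) (.node (.leaf 0x600009000000030a) (.leaf 0)))) (.node (.node (.node (.leaf 0x200006000000000c) (.leaf 0x60000a000000048a)) (.node (.leaf 0x70000b00001001b3) (.leaf 0))) (.node (.node (.leaf 0x9000090000100555) (.leaf 0)) (.node (.leaf 0x30000b000000038a) (.leaf 0))))) (.node (.node (.node (.node (.leaf 0x4000060000100048) (.leaf 0x90000b0000000450)) (.node (.leaf 0x90000b00001004d3) (.leaf 0))) (.node (.node (.leaf 0x4000090000100015) (.leaf 0x50000b000000054c)) (.node (.leaf 0x80000a000010018e) (.leaf 0)))) (.node (.node (.node (.leaf 0x70000b00000000ca) (.leaf 0x60000b0000100510)) (.node (.leaf 0x6000060000100411) (.leaf 0))) (.node (.node (.leaf 0x7000090000000277) (.leaf 0)) (.node (.leaf 0xb0000b0000100444)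 (.leaf 0)))))) (.node (.node (.node (.node (.node (.leaf 0x3000070000100008) (.leaf 0x90000b000000042c)) (.node (.leaf 0x6000090000100123) (.leaf 0))) (.node (.node (.leaf 0x90000a00001001d5) (.leaf 0x60000a00000002df)) (.node (.leaf 0xa00009000000032a) (.leaf 0)))) (.node (.node (.node (.leaf 0x400007000010002b) (.leaf 0x80000b0000100358)) (.node (.leaf 0x90000b00000002ac) (.leaf 0))) (.node (.node (.leaf 0x80000b00001004dd) (.leaf 0)) (.node (.leaf 0xa0000b00000003ae) (.leaf 0))))) (.node (.node (.node (.node (.leaf 0x300007000000006c) (.leaf 0xb0000900000001f0)) (.node (.leaf 0xa0000b0000100459) (.leaf 0))) (.node (.node (.leaf 0x800009000000042f) (.leaf 0x90000b0000100115)) (.node (.leaf 0x80000a0000000329) (.leaf 0)))) (.node (.node (.node (.leaf 0x90000900001000b8) (.leaf 0x90000900001004ac)) (.node (.leaf 0x8000090000100163) (.leaf 0))) (.node (.node (.leaf 0x90000a00001000e3) (.leaf 0)) (.node (.leaf 0xa0000a00001002ce) (.leaf 0))))))) (.node (.node (.node (.node (.node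 (.node (.leaf 0x60000a000000001c) (.leaf 0x9000050000100069)) (.node (.leaf 0x80000b0000100243) (.leaf 0))) (.node (.node (.leaf 0xa0000b0000100520) (.leaf 0x400009000000051a)) (.node (.leaf 0x300007000010006c) (.leaf 0)))) (.node (.node (.node (.leaf 0x3000080000100031) (.leaf 0x60000900000002b3)) (.node (.leaf 0xa000090000100488) (.leaf 0))) (.node (.node (.leaf 0x50000b000010054a) (.leaf 0)) (.node (.leaf 0x90000b000000039c) (.leaf 0))))) (.node (.node (.node (.node (.leaf 0x700009000000005c) (.leaf 0x70000b0000100333)) (.node (.leaf 0x70000a0000100487) (.leaf 0))) (.node (.node (.leaf 0x80000b000000045c) (.leaf 0x500009000000051b)) (.node (.leaf 0xa0000b0000100122) (.leaf 0)))) (.node (.node (.node (.leaf 0x500009000010051b) (.leaf 0x40000b00001001b1)) (.node (.leaf 0x8000090000100302) (.leaf 0))) (.node (.node (.leaf 0xb0000b0000100151) (.leaf 0)) (.node (.leaf 0x6000070000000321) (.leaf 0)))))) (.node (.node (.node (.node (.node (.leaf 0x6000090000100384) (.leaf 0x50000b00000001b0))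 (.node (.leaf 0x90000900001004ce) (.leaf 0))) (.node (.node (.leaf 0xa00009000000013a) (.leaf 0x70000b000000053a)) (.node (.leaf 0xc00009000000019d) (.leaf 0)))) (.node (.node (.node (.leaf 0x80000a00000000bc) (.leaf 0xa000090000100407)) (.node (.leaf 0x80000b00000002bc) (.leaf 0))) (.node (.node (.leaf 0x9000090000000219) (.leaf 0)) (.node (.leaf 0x500008000000031d) (.leaf 0))))) (.node (.node (.node (.node (.leaf 0x700009000010027e) (.leaf 0x90000a00000003e4)) (.node (.leaf 0x900009000000042d) (.leaf 0))) (.node (.node (.leaf 0x70000b00001003aa) (.leaf 0x90000b00001001ea)) (.node (.leaf 0x90000b0000100336) (.leaf 0)))) (.node (.node (.node (.leaf 0xa0000b00000000f9) (.leaf 0x90000900000003c6)) (.node (.leaf 0x70000a0000100383) (.leaf 0))) (.node (.node (.leaf 0x90000b00000001fa) (.leaf 0)) (.node (.leaf 0xa0000900001004fb) (.leaf 0))))))))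

/-- part of a forest -/
def forest17 : Trie :=
  (.node (.node (.node (.node (.node (.node (.node (.leaf 0x70000000007) (.leaf 0x90000900001001c7)) (.node (.leaf 0xa0000b000010044f) (.leaf 0))) (.node (.node (.leaf 0x6000070000000086) (.leaf 0x80000b0000000371)) (.node (.leaf 0xa0000b0000000308) (.leaf 0)))) (.node (.node (.node (.leaf 0x400007000000031b) (.leaf 0x60000a000010027f)) (.node (.leaf 0x20000b00001000c5) (.leaf 0))) (.node (.node (.leaf 0x80000600001000c0) (.leaf 0)) (.node (.leaf 0x80000a0000100033) (.leaf 0))))) (.node (.node (.node (.node (.leaf 0x60000600000003b5) (.leaf 0xa00009000000046e)) (.node (.leaf 0x90000b0000000246) (.leaf 0))) (.node (.node (.leaf 0x90000a0000000416) (.leaf 0x70000b000010028e)) (.node (.leaf 0x90000600001003b9) (.leaf 0)))) (.node (.node (.node (.leaf 0x30000b00000000c6) (.leaf 0x800009000010005b)) (.node (.leaf 0xa0000a00001002c8) (.leaf 0))) (.node (.node (.leaf 0x8000090000100485) (.leaf 0)) (.node (.leaf 0x90000900001003a6) (.leaf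 0)))))) (.node (.node (.node (.node (.node (.leaf 0x4000050000100024) (.leaf 0x90000900000004c7)) (.node (.leaf 0x300009000000017d) (.leaf 0))) (.node (.node (.leaf 0x40000a0000000419) (.leaf 0x50000b0000000528)) (.node (.leaf 0x80000900001002ff) (.leaf 0)))) (.node (.node (.node (.leaf 0x5000050000000027) (.leaf 0xa0000b0000000193)) (.node (.leaf 0x90000a0000100230) (.leaf 0))) (.node (.node (.leaf 0x60000a000010033a) (.leaf 0)) (.node (.leaf 0x40000a00000003a8) (.leaf 0))))) (.node (.node (.node (.node (.leaf 0x7000070000100322) (.leaf 0x90000b00001001ac)) (.node (.leaf 0xa0000900000001d9) (.leaf 0))) (.node (.node (.leaf 0x7000090000100264) (.leaf 0xb0000900001003da)) (.node (.leaf 0xc0000900001002b1) (.leaf 0)))) (.node (.node (.node (.leaf 0x70000900001002fc) (.leaf 0xa0000b0000100579)) (.node (.leaf 0x90000a00001002a3) (.leaf 0))) (.node (.node (.leaf 0x90000b000010017a) (.leaf 0)) (.node (.leaf 0xa0000a0000000523) (.leaf 0))))))) (.node (.node (.node (.node (.node (.node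 (.leaf 0x80000a0000000018) (.leaf 0x9000090000000418)) (.node (.leaf 0x80000a0000000218) (.leaf 0))) (.node (.node (.leaf 0x70000b0000100563) (.leaf 0x90000a0000000516)) (.node (.leaf 0x500009000010014b) (.leaf 0)))) (.node (.node (.node (.leaf 0x400007000000006b) (.leaf 0xb0000900001001a0)) (.node (.leaf 0xa0000900001001c9) (.leaf 0))) (.node (.node (.leaf 0x90000b0000000196) (.leaf 0)) (.node (.leaf 0x90000a0000000396) (.leaf 0))))) (.node (.node (.node (.node (.leaf 0x4000090000100012) (.leaf 0x70000b0000100575)) (.node (.leaf 0x60000a0000000280) (.leaf 0))) (.node (.node (.leaf 0x90000b0000000156) (.leaf 0x80000a00000003f2)) (.node (.leaf 0xa0000b00001004c2) (.leaf 0)))) (.node (.node (.node (.leaf 0x90000a0000100387) (.leaf 0x70000b00000004d6)) (.node (.leaf 0xa0000900000001a8) (.leaf 0))) (.node (.node (.leaf 0x90000900000001d6) (.leaf 0)) (.node (.leaf 0xb000090000100326) (.leaf 0)))))) (.node (.node (.node (.node (.node (.leaf 0x9000090000100073) (.leaf 0x50000b0000000436))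 (.node (.leaf 0xc000090000100353) (.leaf 0))) (.node (.node (.leaf 0x700009000000003b) (.leaf 0x80000a0000000412)) (.node (.leaf 0x90000b0000000338) (.leaf 0)))) (.node (.node (.node (.leaf 0x80000a00000000b5) (.leaf 0x80000900000003f6)) (.node (.leaf 0x50000b0000000479) (.leaf 0))) (.node (.node (.leaf 0xa0000a00000001b6) (.leaf 0)) (.node (.leaf 0x50000800000003b6) (.leaf 0))))) (.node (.node (.node (.node (.leaf 0x8000090000000076) (.leaf 0x8000090000000137)) (.node (.leaf 0x60000900001002ed) (.leaf 0))) (.node (.node (.leaf 0xa0000b00001000d2) (.leaf 0x80000a000010052c)) (.node (.leaf 0x60000b0000100559) (.leaf 0)))) (.node (.node (.node (.leaf 0x80000b00000000f8) (.leaf 0x800009000000033f)) (.node (.leaf 0xa0000b00001002ab) (.leaf 0))) (.node (.node (.leaf 0x80000b00000001f6) (.leaf 0)) (.node (.leaf 0x900009000010003f) (.leaf 0))))))))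

/-- part of a forest -/
def forest115 : Trie :=
  (.node (.node (.node (.node (.node (.node (.node (.leaf 0x9000000000f) (.leaf 0x700009000000055c)) (.node (.leaf 0xb0000a000000044a) (.leaf 0))) (.node (.node (.leaf 0x40000a000010027c) (.leaf 0xa0000b00001001fd)) (.node (.leaf 0x800009000000030e) (.leaf 0)))) (.node (.node (.node (.leaf 0x400005000010008d) (.leaf 0xa0000900001003e6)) (.node (.leaf 0x90000b00000004e8) (.leaf 0))) (.node (.node (.leaf 0x80000a0000100368) (.leaf 0)) (.node (.leaf 0x50000b0000000390) (.leaf 0))))) (.node (.node (.node (.node (.leaf 0x400006000010008a) (.leaf 0x90000b00000002f3)) (.node (.leaf 0xa0000a00001000d7) (.leaf 0))) (.node (.node (.leaf 0x80000a0000000150) (.leaf 0x90000b00001004ab)) (.node (.leaf 0xb00009000010019e) (.leaf 0)))) (.node (.node (.node (.leaf 0x70000b0000000483) (.leaf 0x50000b0000100209)) (.node (.leaf 0x40000a0000100104) (.leaf 0))) (.node (.node (.leaf 0x20000900000001ce) (.leaf 0)) (.node (.leaf 0x90000b00000003ce) (.leaf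 0)))))) (.node (.node (.node (.node (.node (.leaf 0x5000050000000030) (.leaf 0x70000900001001d4)) (.node (.leaf 0x90000a000000022e) (.leaf 0))) (.node (.node (.leaf 0x60000800001000dc) (.leaf 0x80000b000000052e)) (.node (.leaf 0xa0000b00000002ab) (.leaf 0)))) (.node (.node (.node (.leaf 0x1000050000100004) (.leaf 0xa000090000000417)) (.node (.leaf 0xa0000b0000100116) (.leaf 0))) (.node (.node (.leaf 0x70000b0000100553) (.leaf 0)) (.node (.leaf 0x50000800000003b8) (.leaf 0))))) (.node (.node (.node (.node (.leaf 0x60000800000000dc) (.leaf 0x70000b000010053d)) (.node (.leaf 0x50000b0000100436) (.leaf 0))) (.node (.node (.leaf 0x80000a0000100293) (.leaf 0x60000b000010026f)) (.node (.leaf 0xa0000900001004a1) (.leaf 0)))) (.node (.node (.node (.leaf 0x40000b0000100195) (.leaf 0xa0000900000004ee)) (.node (.leaf 0x8000090000000128) (.leaf 0))) (.node (.node (.leaf 0x80000a00001003e3) (.leaf 0)) (.node (.leaf 0x80000b0000000463) (.leaf 0))))))) (.node (.node (.node (.node (.node (.node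 (.leaf 0x60000800001003bb) (.leaf 0x60000b0000000509)) (.node (.leaf 0x80000b0000100274) (.leaf 0))) (.node (.node (.leaf 0x90000b0000000120) (.leaf 0x80000b000000028b)) (.node (.leaf 0x7000050000100081) (.leaf 0)))) (.node (.node (.node (.leaf 0x400006000010009d) (.leaf 0x40000a00001003a8)) (.node (.leaf 0x300009000010025a) (.leaf 0))) (.node (.node (.leaf 0x9000090000100112) (.leaf 0)) (.node (.leaf 0x50000b000000011d) (.leaf 0))))) (.node (.node (.node (.node (.leaf 0x900009000010016b) (.leaf 0x80000b0000100421)) (.node (.leaf 0x90000900001003c6) (.leaf 0))) (.node (.node (.leaf 0x90000a000000019c) (.leaf 0x80000b000010046f)) (.node (.leaf 0x9000090000100327) (.leaf 0)))) (.node (.node (.node (.leaf 0x7000050000100109) (.leaf 0xb0000b00000004e0)) (.node (.leaf 0x50000a00000002de) (.leaf 0))) (.node (.node (.leaf 0x90000b0000100495) (.leaf 0)) (.node (.leaf 0x70000b00000003de) (.leaf 0)))))) (.node (.node (.node (.node (.node (.leaf 0x8000090000100263) (.leaf 0x900009000010042d))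 (.node (.leaf 0x700009000010023e) (.leaf 0))) (.node (.node (.leaf 0x30000a0000100034) (.leaf 0x90000a0000100311)) (.node (.leaf 0x70000900001004d5) (.leaf 0)))) (.node (.node (.node (.leaf 0x60000600000000a0) (.leaf 0x40000b000010038b)) (.node (.leaf 0x60000900000002a1) (.leaf 0))) (.node (.node (.leaf 0x400009000010029f) (.leaf 0)) (.node (.leaf 0x80000b00000003be) (.leaf 0))))) (.node (.node (.node (.node (.leaf 0x7000050000000081) (.leaf 0x60000b000010038f)) (.node (.leaf 0x50000a000010027d) (.leaf 0))) (.node (.node (.leaf 0x70000900000001c4) (.leaf 0xa0000b0000100538)) (.node (.leaf 0x20000a0000100415) (.leaf 0)))) (.node (.node (.node (.leaf 0x90000900000000fe) (.leaf 0xa0000b000010011f)) (.node (.leaf 0x700009000000052a) (.leaf 0))) (.node (.node (.leaf 0x70000b0000100462) (.leaf 0)) (.node (.leaf 0xb0000900000003fe) (.leaf 0))))))))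

/-- a forest -/
def forest1 : Trie :=
  (.node (.node (.node (.node forest10 forest18) (.node forest14 forest112)) (.node (.node forest12 forest110) (.node forest16 forest114))) (.node (.node (.node forest11 forest19) (.node forest15 forest113)) (.node (.node forest13 forest111) (.node forest17 forest115))))

/-- part of a tree -/
def node2L0tree0 : Trie :=
  (.node (.leaf 0x0) (.leaf 0x100000))

/-- a tree -/
def node2L0tree : Trie :=
  node2L0tree0

/-- part of transversal words -/
def node2L0word0 : Trie :=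
  (.node (.leaf 0x0) (.leaf 0x2a))

/-- transversal words -/
def node2L0word : Trie :=
  node2L0word0

/-- part of closing hints -/
def node2L0close0 : Trie :=
  (.node (.node (.leaf 0x1000) (.leaf 0x2001)) (.node (.leaf 0x1) (.leaf 0x0)))

/-- closing hints -/
def node2L0close : Trie :=
  node2L0close0

/-- a level -/
def node2L0 : SLev := ⟨0, [0x9badd6eb30b665, 42], node2L0tree, node2L0word, 2, node2L0close, [(0, 0), (1, 0)]⟩

/-- part of a tree -/
def node2L1tree0 : Trie :=
  (.node (.node (.node (.node (.node (.node (.leaf 0x0) (.leaf 0x13)) (.node (.leaf 0x100007) (.leaf 0))) (.node (.node (.leaf 0x100003) (.leaf 0x23)) (.node (.leaf 0xe) (.leaf 0)))) (.node (.node (.node (.leaf 0x100001) (.leaf 0x1e)) (.node (.leaf 0xb) (.leaf 0))) (.node (.node (.leaf 0x100005) (.leaf 0)) (.node (.leaf 0x10) (.leaf 0))))) (.node (.node (.node (.node (.leaf 0x100000) (.leaf 0x18)) (.node (.leaf 0x100009) (.leaf 0))) (.node (.node (.leaf 0x100004) (.leaf 0)) (.node (.leaf 0xf) (.leaf 0))))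 (.node (.node (.node (.leaf 0x100002) (.leaf 0x1f)) (.node (.leaf 0xd) (.leaf 0))) (.node (.node (.leaf 0x100006) (.leaf 0)) (.node (.leaf 0x11) (.leaf 0)))))) (.node (.node (.node (.node (.node (.leaf 0x0) (.leaf 0x100013)) (.node (.leaf 0x9) (.leaf 0))) (.node (.node (.leaf 0x4) (.leaf 0x100023)) (.node (.leaf 0x10000e) (.leaf 0)))) (.node (.node (.node (.leaf 0x2) (.leaf 0x10001e)) (.node (.leaf 0x10000b) (.leaf 0))) (.node (.node (.leaf 0x6) (.leaf 0)) (.node (.leaf 0x100010) (.leaf 0))))) (.node (.node (.node (.node (.leaf 0x1) (.leaf 0x19)) (.node (.leaf 0x10000a) (.leaf 0))) (.node (.node (.leaf 0x5) (.leaf 0)) (.node (.leaf 0x10000f) (.leaf 0)))) (.node (.node (.node (.leaf 0x3) (.leaf 0x22)) (.node (.leaf 0x10000d) (.leaf 0))) (.node (.node (.leaf 0x7) (.leaf 0)) (.node (.leaf 0x12) (.leaf 0)))))))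

/-- a tree -/
def node2L1tree : Trie :=
  node2L1tree0

/-- part of transversal words -/
def node2L1word0 : Trie :=
  (.node (.node (.node (.node (.node (.node (.leaf 0x0) (.leaf 0x4564b159626ebb21)) (.node (.leaf 0x9a6a290c8642cc) (.leaf 0))) (.node (.node (.leaf 0x113522914861659) (.leaf 0x28a45144cc861659)) (.node (.leaf 0x244da69b65b2cc) (.leaf 0)))) (.node (.node (.node (.leaf 0x137656ebacc32cacb) (.leaf 0x8a44d369990c30b)) (.node (.leaf 0x69a8a452190c861) (.leaf 0))) (.node (.node (.leaf 0x26a28a42d96d985b) (.leaf 0)) (.node (.leaf 0x9a91489b2cb661) (.leaf 0))))) (.node (.node (.node (.node (.leaf 0xdd6ec9142eb329) (.leaf 0x122914321859659)) (.node (.leaf 0x51489b659664) (.leaf 0))) (.node (.node (.leaf 0x89a6a285b65b661) (.leaf 0)) (.node (.leaf 0x8a26d352165b659) (.leaf 0)))) (.node (.node (.node (.leaf 0x8a48a26d4321659) (.leaf 0x4add69b65d6ec)) (.node (.leaf 0x489b32185b659) (.leaf 0))) (.node (.node (.leaf 0x9a8a26596d990c) (.leaf 0)) (.node (.leaf 0xa29648ac89b2dd2ec)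 (.leaf 0)))))) (.node (.node (.node (.node (.node (.leaf 0x9badd6eb30b665) (.leaf 0x34d48a26cb65b321)) (.node (.leaf 0x1430b2d96cb) (.leaf 0))) (.node (.node (.leaf 0x35145226cb6cc2d9) (.leaf 0xd369a6a16cb30c)) (.node (.leaf 0xd36a4861859661) (.leaf 0)))) (.node (.node (.node (.leaf 0x134da6d485b2cc85b) (.leaf 0x4b2592c96265b)) (.node (.leaf 0x4d351485b65b30b) (.leaf 0))) (.node (.node (.leaf 0x2269b4db2cb664) (.leaf 0)) (.node (.leaf 0xa45228a430b2cb) (.leaf 0))))) (.node (.node (.node (.node (.leaf 0x5149144d98642cb) (.leaf 0x134ecb142ebadd95b)) (.node (.leaf 0x4d351486432190c) (.leaf 0))) (.node (.node (.leaf 0x5134d430b6cb6cc) (.leaf 0)) (.node (.leaf 0x136a44d36642d96cb) (.leaf 0)))) (.node (.node (.node (.leaf 0xd45134cb6cc861) (.leaf 0x51489a6cc85b2d9)) (.node (.leaf 0x9144da6cc8642db) (.leaf 0))) (.node (.node (.leaf 0x9a6d491430b2cc) (.leaf 0)) (.node (.leaf 0x144d48a265b321861) (.leaf 0)))))))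

/-- transversal words -/
def node2L1word : Trie :=
  node2L1word0

/-- part of closing hints -/
def node2L1close0 : Trie :=
  (.node (.node (.node (.node (.node (.node (.node (.leaf 0x1) (.leaf 0x400300e)) (.node (.leaf 0x1c) (.leaf 0))) (.node (.node (.leaf 0x2005010) (.leaf 0x1012)) (.node (.leaf 0x22) (.leaf 0)))) (.node (.node (.node (.leaf 0x9) (.leaf 0x1001005017)) (.node (.leaf 0x4000021) (.leaf 0))) (.node (.node (.leaf 0x1000005015) (.leaf 0)) (.node (.leaf 0x3000006) (.leaf 0))))) (.node (.node (.node (.node (.leaf 0x5) (.leaf 0x27)) (.node (.leaf 0x1f) (.leaf 0))) (.node (.node (.leaf 0x5000) (.leaf 0)) (.node (.leaf 0x100100100a) (.leaf 0)))) (.node (.node (.node (.leaf 0xd) (.leaf 0x2004025)) (.node (.leaf 0x200401b) (.leaf 0))) (.node (.node (.leaf 0x18) (.leaf 0)) (.node (.leaf 0x24) (.leaf 0)))))) (.node (.node (.node (.node (.node (.leaf 0x3) (.leaf 0x400300c)) (.node (.leaf 0x1e) (.leaf 0))) (.node (.node (.leaf 0x11) (.leaf 0x1013)) (.node (.leaf 0x23) (.leaf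 0)))) (.node (.node (.node (.leaf 0xb) (.leaf 0x1001005019)) (.node (.leaf 0x4005002) (.leaf 0))) (.node (.node (.leaf 0x16) (.leaf 0)) (.node (.leaf 0x3000004) (.leaf 0))))) (.node (.node (.node (.node (.leaf 0x7) (.leaf 0x28)) (.node (.leaf 0x20) (.leaf 0))) (.node (.node (.leaf 0x14) (.leaf 0)) (.node (.leaf 0x1001001008) (.leaf 0)))) (.node (.node (.node (.leaf 0xf) (.leaf 0x1002005029)) (.node (.leaf 0x200401d) (.leaf 0))) (.node (.node (.leaf 0x1a) (.leaf 0)) (.node (.leaf 0x26) (.leaf 0))))))) (.node (.node (.node (.node (.node (.node (.leaf 0x2) (.leaf 0x400300d)) (.node (.leaf 0x1d) (.leaf 0))) (.node (.node (.leaf 0x200500f) (.leaf 0x1011)) (.node (.leaf 0x1001000022) (.leaf 0)))) (.node (.node (.node (.leaf 0xa) (.leaf 0x1001005016)) (.node (.leaf 0x4000020) (.leaf 0))) (.node (.node (.leaf 0x1000005014) (.leaf 0)) (.node (.leaf 0x3000005) (.leaf 0))))) (.node (.node (.node (.node (.leaf 0x6) (.leaf 0x2003027)) (.node (.leaf 0x100300201f) (.leaf 0))) (.node (.node (.leaf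 0x13) (.leaf 0)) (.node (.leaf 0x1001001009) (.leaf 0)))) (.node (.node (.node (.leaf 0xe) (.leaf 0x2004024)) (.node (.leaf 0x200401a) (.leaf 0))) (.node (.node (.leaf 0x19) (.leaf 0)) (.node (.leaf 0x25) (.leaf 0)))))) (.node (.node (.node (.node (.node (.leaf 0x4) (.leaf 0x400300b)) (.node (.leaf 0x100300201e) (.leaf 0))) (.node (.node (.leaf 0x12) (.leaf 0x1001000000)) (.node (.leaf 0x1001000023) (.leaf 0)))) (.node (.node (.node (.leaf 0xc) (.leaf 0x1001005018)) (.node (.leaf 0x4005001) (.leaf 0))) (.node (.node (.leaf 0x17) (.leaf 0)) (.node (.leaf 0x3000003) (.leaf 0))))) (.node (.node (.node (.node (.leaf 0x8) (.leaf 0x29)) (.node (.leaf 0x21) (.leaf 0))) (.node (.node (.leaf 0x15) (.leaf 0)) (.node (.leaf 0x1001001007) (.leaf 0)))) (.node (.node (.node (.leaf 0x10) (.leaf 0x1002005028)) (.node (.leaf 0x200401c) (.leaf 0))) (.node (.node (.leaf 0x1b) (.leaf 0)) (.node (.leaf 0x3002026) (.leaf 0))))))))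

/-- closing hints -/
def node2L1close : Trie :=
  node2L1close0

/-- a level -/
def node2L1 : SLev := ⟨6, [0x9badd6eb30b665, 0xdd6ec9142eb329], node2L1tree, node2L1word, 42, node2L1close, [(41, 0), (24, 1)]⟩

/-- part of a tree -/
def node2L2tree0 : Trie :=
  (.node (.node (.node (.leaf 0x0) (.leaf 0x3)) (.node (.leaf 0x1) (.leaf 0))) (.node (.node (.leaf 0x0) (.leaf 0x100004)) (.node (.leaf 0x2) (.leaf 0))))

/-- a tree -/
def node2L2tree : Trie :=
  node2L2tree0

/-- part of transversal words -/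
def node2L2word0 : Trie :=
  (.node (.node (.node (.leaf 0x0) (.leaf 0x135229142cb321)) (.node (.leaf 0x1a6a48a430b664) (.leaf 0))) (.node (.node (.leaf 0x136a28996cb661) (.leaf 0x4d36a48a42cc30c)) (.node (.leaf 0x1b52269b2db30c) (.leaf 0))))

/-- transversal words -/
def node2L2word : Trie :=
  node2L2word0

/-- part of closing hints -/
def node2L2close0 : Trie :=
  (.node (.node (.node (.node (.leaf 0x1) (.leaf 0x0)) (.node (.leaf 0x3) (.leaf 0))) (.node (.node (.leaf 0x2) (.leaf 0x2005)) (.node (.leaf 0x4) (.leaf 0)))) (.node (.node (.node (.leaf 0x1001000) (.leaf 0x5)) (.node (.leaf 0x1004001) (.leaf 0))) (.node (.node (.leaf 0x1002) (.leaf 0x4)) (.node (.leaf 0x1000003) (.leaf 0)))))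

/-- closing hints -/
def node2L2close : Trie :=
  node2L2close0

/-- a level -/
def node2L2 : SLev := ⟨8, [0x136a28996cb661, 0x4dd92591495b75b], node2L2tree, node2L2word, 6, node2L2close, [(1, 1), (0, 1)]⟩

/-- part of a tree -/
def node2L3tree0 : Trie :=
  (.node (.node (.node (.leaf 0x0) (.leaf 0x100002)) (.node (.leaf 0x1) (.leaf 0))) (.node (.node (.leaf 0x0) (.leaf 0)) (.node (.leaf 0x2) (.leaf 0))))

/-- a tree -/
def node2L3tree : Trie :=
  node2L3tree0

/-- part of transversal words -/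
def node2L3word0 : Trie :=
  (.node (.node (.node (.leaf 0x0) (.leaf 0x5132cc30b2cc)) (.node (.leaf 0x5134da6d990b30c) (.leaf 0))) (.node (.node (.leaf 0x1a69b2cc30b2cc) (.leaf 0)) (.node (.leaf 0x5144d485b65b2cc) (.leaf 0))))

/-- transversal words -/
def node2L3word : Trie :=
  node2L3word0

/-- part of closing hints -/
def node2L3close0 : Trie :=
  (.node (.node (.node (.node (.leaf 0x1) (.leaf 0x1000)) (.node (.leaf 0x3) (.leaf 0))) (.node (.node (.leaf 0x2) (.leaf 0)) (.node (.leaf 0x1004) (.leaf 0)))) (.node (.node (.node (.leaf 0x1001) (.leaf 0x2)) (.node (.leaf 0x4) (.leaf 0))) (.node (.node (.leaf 0x1000) (.leaf 0)) (.node (.leaf 0x1003) (.leaf 0)))))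

/-- closing hints -/
def node2L3close : Trie :=
  node2L3close0

/-- a level -/
def node2L3 : SLev := ⟨9, [0x1a69b2cc30b2cc, 0x4dd92591495b75b], node2L3tree, node2L3word, 5, node2L3close, [(3, 0)]⟩

/-- part of a tree -/
def node2L4tree0 : Trie :=
  (.node (.leaf 0x0) (.leaf 0x0))

/-- a tree -/
def node2L4tree : Trie :=
  node2L4tree0

/-- part of transversal words -/
def node2L4word0 : Trie :=
  (.node (.leaf 0x0) (.leaf 0x659659))

/-- transversal words -/
def node2L4word : Trie :=
  node2L4word0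

/-- part of closing hints -/
def node2L4close0 : Trie :=
  (.node (.leaf 0x1) (.leaf 0x0))

/-- closing hints -/
def node2L4close : Trie :=
  node2L4close0

/-- a level -/
def node2L4 : SLev := ⟨7, [0x659659], node2L4tree, node2L4word, 2, node2L4close, []⟩

/-- a chain -/
def node2 : List SLev := [node2L0, node2L1, node2L2, node2L3, node2L4]

/-- part of a forest -/
def forest20 : Trie :=
  (.node (.node (.node (.node (.node (.node (.node (.leaf 0xc0000000000) (.leaf 0xc0001700001000f2)) (.node (.leaf 0xa00016000000011e) (.leaf 0))) (.node (.node (.leaf 0xb00017000000018f) (.leaf 0xe000160000000527)) (.node (.leaf 0x8000140000000430) (.leaf 0)))) (.node (.node (.node (.leaf 0x5000100000000027) (.leaf 0xd00016000010048c)) (.node (.leaf 0x8000150000100026) (.leaf 0))) (.node (.node (.leaf 0xe000170000000239) (.leaf 0)) (.node (.leaf 0x900016000010045b) (.leaf 0))))) (.node (.node (.node (.node (.leaf 0xc000160000000148) (.leaf 0x5000140000100234)) (.node (.leaf 0xd0001700000003dc)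 (.leaf 0))) (.node (.node (.leaf 0x700015000010016d) (.leaf 0xc0001600000001cf)) (.node (.leaf 0xb0001700001004fc) (.leaf 0)))) (.node (.node (.node (.leaf 0x1000190000000025) (.leaf 0xc0001600001000da)) (.node (.leaf 0x5000150000000482) (.leaf 0))) (.node (.node (.leaf 0x7000170000100484) (.leaf 0)) (.node (.leaf 0x600011000000001b) (.leaf 0)))))) (.node (.node (.node (.node (.node (.leaf 0x20001400000001a1) (.leaf 0xc00016000010056d)) (.node (.leaf 0xf000170000100127) (.leaf 0))) (.node (.node (.leaf 0x900017000000053b) (.leaf 0x3000170000000573)) (.node (.leaf 0x40001800001000c1) (.leaf 0)))) (.node (.node (.node (.leaf 0x60001500001002c0) (.leaf 0x90001400001003b2)) (.node (.leaf 0x600016000000013a) (.leaf 0))) (.node (.node (.leaf 0x70001400001000e5) (.leaf 0)) (.node (.leaf 0x20001200001002cd) (.leaf 0))))) (.node (.node (.node (.node (.leaf 0xe0001600000002e8) (.leaf 0xd000170000000114)) (.node (.leaf 0x50001000000004fb) (.leaf 0))) (.node (.node (.leaf 0xa0001700001003df)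 (.leaf 0xa00017000010050a)) (.node (.leaf 0x700017000000049d) (.leaf 0)))) (.node (.node (.node (.leaf 0x1000110000100007) (.leaf 0x600017000000020d)) (.node (.leaf 0xb0001600000000c3) (.leaf 0))) (.node (.node (.leaf 0xd000160000100136) (.leaf 0)) (.node (.leaf 0xc0001600000000cb) (.leaf 0))))))) (.node (.node (.node (.node (.node (.node (.leaf 0x160000000010) (.leaf 0xa0001000000004ee)) (.node (.leaf 0x60001100000000e3) (.leaf 0))) (.node (.node (.leaf 0xa0001600000001be) (.leaf 0xe0001700000000ef)) (.node (.leaf 0x400015000000005e) (.leaf 0)))) (.node (.node (.node (.leaf 0x6000100000100344) (.leaf 0x900016000000037d)) (.node (.leaf 0xa000170000000250) (.leaf 0))) (.node (.node (.leaf 0x60001600000000f5) (.leaf 0)) (.node (.leaf 0x70001600001002a0) (.leaf 0))))) (.node (.node (.node (.node (.leaf 0x60001500000000bf) (.leaf 0xb000160000000465)) (.node (.leaf 0x90001700000002d9) (.leaf 0))) (.node (.node (.leaf 0x1000170000000014) (.leaf 0xd0001600001000c8)) (.node (.leaf 0xd00016000000027e)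 (.leaf 0)))) (.node (.node (.node (.leaf 0x70001600001001d4) (.leaf 0x6000160000100124)) (.node (.leaf 0xa00016000010056f) (.leaf 0))) (.node (.node (.leaf 0xd000160000000478) (.leaf 0)) (.node (.leaf 0xd0001700001003c5) (.leaf 0)))))) (.node (.node (.node (.node (.node (.leaf 0x1000180000000024) (.leaf 0x70001400001003bb)) (.node (.leaf 0xb0001700000001aa) (.leaf 0))) (.node (.node (.leaf 0x300014000010043f) (.leaf 0xa000170000000446)) (.node (.leaf 0x900017000000035d) (.leaf 0)))) (.node (.node (.node (.leaf 0xa0001100000000de) (.leaf 0x7000110000000056)) (.node (.leaf 0xd00017000000043b) (.leaf 0))) (.node (.node (.leaf 0xb00017000000057c) (.leaf 0)) (.node (.leaf 0x7000140000000066) (.leaf 0))))) (.node (.node (.node (.node (.leaf 0x200019000000005b) (.leaf 0x60001700000000f4)) (.node (.leaf 0x1000017000010027f) (.leaf 0))) (.node (.node (.leaf 0x90001700000001f5) (.leaf 0x700017000000041f)) (.node (.leaf 0x4000160000000325) (.leaf 0)))) (.node (.node (.node (.leaf 0xd0001600000004a8)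 (.leaf 0xd000170000100121)) (.node (.leaf 0x50001600001002a6) (.leaf 0))) (.node (.node (.leaf 0xe000160000000350) (.leaf 0)) (.node (.leaf 0x70001600000001d8) (.leaf 0))))))))

/-- part of a forest -/
def forest28 : Trie :=
  (.node (.node (.node (.node (.node (.node (.node (.leaf 0x800011000010010a) (.leaf 0xc000160000000538)) (.node (.leaf 0xe000160000000462) (.leaf 0))) (.node (.node (.leaf 0x8000110000000097) (.leaf 0xd00017000010037f)) (.node (.leaf 0xd00016000010019d) (.leaf 0)))) (.node (.node (.node (.leaf 0x90001400000003b2) (.leaf 0xe000160000000277)) (.node (.leaf 0x20001600000001db) (.leaf 0))) (.node (.node (.leaf 0x400018000010031f) (.leaf 0)) (.node (.leaf 0xc0001600000003cb) (.leaf 0))))) (.node (.node (.node (.node (.leaf 0x30001900000003b9) (.leaf 0x700016000000046b)) (.node (.leaf 0xc00017000010051e) (.leaf 0))) (.node (.node (.leaf 0xb0001600001004ff) (.leaf 0xa0001600000003de)) (.node (.leaf 0x400019000010019e) (.leaf 0)))) (.node (.node (.node (.leaf 0xc0001600000004d2)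 (.leaf 0xb000170000000578)) (.node (.leaf 0xa000170000000181) (.leaf 0))) (.node (.node (.leaf 0xe000160000000426) (.leaf 0)) (.node (.leaf 0x8000160000100442) (.leaf 0)))))) (.node (.node (.node (.node (.node (.leaf 0x40001000000003bc) (.leaf 0x500011000010034e)) (.node (.leaf 0xa00017000000036b) (.leaf 0))) (.node (.node (.leaf 0xb0001600000000b8) (.leaf 0x50001700000003a3)) (.node (.leaf 0x40001500001000a5) (.leaf 0)))) (.node (.node (.node (.leaf 0x40001400000000b3) (.leaf 0xc0001600000001ff)) (.node (.leaf 0x8000160000100562) (.leaf 0))) (.node (.node (.leaf 0x6000140000000394) (.leaf 0)) (.node (.leaf 0xb000170000100504) (.leaf 0))))) (.node (.node (.node (.node (.leaf 0x5000120000100016) (.leaf 0xc00017000000021d)) (.node (.leaf 0x90001700000001f6) (.leaf 0))) (.node (.node (.leaf 0x700017000000040d) (.leaf 0xc0001700000002a2)) (.node (.leaf 0x10000170000100502) (.leaf 0)))) (.node (.node (.node (.leaf 0x40001500000001c1) (.leaf 0xa0001600001001b8)) (.node (.leaf 0xd0001600000002b4)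 (.leaf 0))) (.node (.node (.leaf 0xb0001700001001aa) (.leaf 0)) (.node (.leaf 0x800017000000012c) (.leaf 0))))))) (.node (.node (.node (.node (.node (.node (.leaf 0xc000170000000518) (.leaf 0xa0001600001004b5)) (.node (.leaf 0xe000170000000240) (.leaf 0))) (.node (.node (.leaf 0x7000170000000484) (.leaf 0xb000170000100578)) (.node (.leaf 0xf0001700000003d5) (.leaf 0)))) (.node (.node (.node (.leaf 0x9000150000000143) (.leaf 0xc000170000100514)) (.node (.leaf 0x8000160000000363) (.leaf 0))) (.node (.node (.leaf 0xa0001600001001bd) (.leaf 0)) (.node (.leaf 0x6000170000000346) (.leaf 0))))) (.node (.node (.node (.node (.leaf 0xb0001600000002c3) (.leaf 0xc00016000000017c)) (.node (.leaf 0x8000170000000303) (.leaf 0))) (.node (.node (.leaf 0x8000170000000570) (.leaf 0x100001700000002a7)) (.node (.leaf 0x9000160000000473) (.leaf 0)))) (.node (.node (.node (.leaf 0x900016000010021f) (.leaf 0x700010000000003f)) (.node (.leaf 0xd000170000000075) (.leaf 0))) (.node (.node (.leaf 0x600016000010039f)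 (.leaf 0)) (.node (.leaf 0x2000160000000213) (.leaf 0)))))) (.node (.node (.node (.node (.node (.leaf 0x90001600000004ce) (.leaf 0xd00017000000039d)) (.node (.leaf 0x80001100001002cc) (.leaf 0))) (.node (.node (.leaf 0x500017000000022e) (.leaf 0xb0001600000004ff)) (.node (.leaf 0xf0001700001004c4) (.leaf 0)))) (.node (.node (.node (.leaf 0xa0001600001004ed) (.leaf 0xe00017000010038a)) (.node (.leaf 0xd0001700001002d2) (.leaf 0))) (.node (.node (.leaf 0x9000160000000298) (.leaf 0)) (.node (.leaf 0x5000130000000106) (.leaf 0))))) (.node (.node (.node (.node (.leaf 0x40001800000000c1) (.leaf 0xc000160000100538)) (.node (.leaf 0x8000170000000168) (.leaf 0))) (.node (.node (.leaf 0xd0001600001001d3) (.leaf 0xa0001700000004e7)) (.node (.leaf 0xa00016000000035c) (.leaf 0)))) (.node (.node (.node (.leaf 0xc0001600001000fc) (.leaf 0x9000170000100475)) (.node (.leaf 0x100001700001002dc) (.leaf 0))) (.node (.node (.leaf 0xb0001600000004e8) (.leaf 0)) (.node (.leaf 0x60001100001000ac) (.leaf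 0))))))))

/-- part of a forest -/
def forest24 : Trie :=
  (.node (.node (.node (.node (.node (.node (.node (.leaf 0x10000e0000100002) (.leaf 0x7000150000000074)) (.node (.leaf 0x5000130000100106) (.leaf 0))) (.node (.node (.leaf 0x8000150000000229) (.leaf 0xa000170000000464)) (.node (.leaf 0x900016000000054d) (.leaf 0)))) (.node (.node (.node (.leaf 0x9000140000000144) (.leaf 0x6000170000000528)) (.node (.leaf 0xa00016000000052a) (.leaf 0))) (.node (.node (.leaf 0x800014000010034f) (.leaf 0)) (.node (.leaf 0xb0001600000004d5) (.leaf 0))))) (.node (.node (.node (.node (.leaf 0x2000110000000107) (.leaf 0x7000160000100101)) (.node (.leaf 0xb00017000010023c) (.leaf 0))) (.node (.node (.leaf 0x80001400000003b0) (.leaf 0xa0001700000001eb)) (.node (.leaf 0x50001000000002b2) (.leaf 0)))) (.node (.node (.node (.leaf 0x9000160000000461) (.leaf 0xe000170000000211)) (.node (.leaf 0x900016000000022d) (.leaf 0))) (.node (.node (.leaf 0xa00016000010035c) (.leaf 0)) (.node (.leaf 0x60001000001004bc)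 (.leaf 0)))))) (.node (.node (.node (.node (.node (.leaf 0x180000000024) (.leaf 0xa000170000100330)) (.node (.leaf 0x6000170000100386) (.leaf 0))) (.node (.node (.leaf 0x500016000000036a) (.leaf 0xd0001600000004f2)) (.node (.leaf 0x7000100000100023) (.leaf 0)))) (.node (.node (.node (.leaf 0x700015000010022f) (.leaf 0xa0001600000004b5)) (.node (.leaf 0x80001000000001bb) (.leaf 0))) (.node (.node (.leaf 0x6000120000100321) (.leaf 0)) (.node (.leaf 0xd0001700000004e2) (.leaf 0))))) (.node (.node (.node (.node (.leaf 0x70001500000003ba) (.leaf 0x9000170000100281)) (.node (.leaf 0xb0001600001000fb) (.leaf 0))) (.node (.node (.leaf 0xb0001700000001b5) (.leaf 0x9000170000000174)) (.node (.leaf 0xd000160000000403) (.leaf 0)))) (.node (.node (.node (.leaf 0xa000140000000145) (.leaf 0x70001400001003b6)) (.node (.leaf 0x80001700000001c0) (.leaf 0))) (.node (.node (.leaf 0xa000170000000243) (.leaf 0)) (.node (.leaf 0xb00017000000001c) (.leaf 0))))))) (.node (.node (.node (.node (.node (.node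 (.leaf 0x170000000014) (.leaf 0xa000170000000486)) (.node (.leaf 0xc0001600000003f7) (.leaf 0))) (.node (.node (.leaf 0xc00017000010014d) (.leaf 0xb000170000000287)) (.node (.leaf 0xd000160000100458) (.leaf 0)))) (.node (.node (.node (.leaf 0x700010000010022a) (.leaf 0x70001700000001ae)) (.node (.leaf 0x70001100001000b1) (.leaf 0))) (.node (.node (.leaf 0xa0001600001003e5) (.leaf 0)) (.node (.leaf 0x5000140000000327) (.leaf 0))))) (.node (.node (.node (.node (.leaf 0x900017000000041a) (.leaf 0xb00016000010015c)) (.node (.leaf 0x70001000001000be) (.leaf 0))) (.node (.node (.leaf 0xa000170000000336) (.leaf 0xc0001700000001e6)) (.node (.leaf 0xc00016000010026a) (.leaf 0)))) (.node (.node (.node (.leaf 0xd00017000010043b) (.leaf 0xb00017000000045c)) (.node (.leaf 0xe000160000000550) (.leaf 0))) (.node (.node (.leaf 0x60001600000004b7) (.leaf 0)) (.node (.leaf 0xc000160000000076) (.leaf 0)))))) (.node (.node (.node (.node (.node (.leaf 0xe00017000010044c) (.leaf 0x7000170000100398))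 (.node (.leaf 0x4000140000000057) (.leaf 0))) (.node (.node (.leaf 0x500010000000007f) (.leaf 0x90001700001002e4)) (.node (.leaf 0x9000170000000119) (.leaf 0)))) (.node (.node (.node (.leaf 0x60001400001004b2) (.leaf 0xf000170000000579)) (.node (.leaf 0xc00016000000027b) (.leaf 0))) (.node (.node (.leaf 0xb0001700001003ed) (.leaf 0)) (.node (.leaf 0x800015000010025c) (.leaf 0))))) (.node (.node (.node (.node (.leaf 0x6000150000000412) (.leaf 0x90001600000003c8)) (.node (.leaf 0x8000170000100360) (.leaf 0))) (.node (.node (.leaf 0x8000170000000434) (.leaf 0xb000160000100247)) (.node (.leaf 0xe000170000000221) (.leaf 0)))) (.node (.node (.node (.leaf 0x50001700000003ca) (.leaf 0xa00017000000051d)) (.node (.leaf 0xe00016000000054b) (.leaf 0))) (.node (.node (.leaf 0xb00017000000040b) (.leaf 0)) (.node (.leaf 0x50001100000003f1) (.leaf 0))))))))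

/-- part of a forest -/
def forest212 : Trie :=
  (.node (.node (.node (.node (.node (.node (.node (.leaf 0x15000000000c) (.leaf 0xf00017000000026c)) (.node (.leaf 0xe000170000100529) (.leaf 0))) (.node (.node (.leaf 0x70001100000003c0) (.leaf 0x8000170000000222)) (.node (.leaf 0x6000100000100080) (.leaf 0)))) (.node (.node (.node (.leaf 0x80001000001004d8) (.leaf 0xc000160000000058)) (.node (.leaf 0x90001700000001dd) (.leaf 0))) (.node (.node (.leaf 0xc000170000100472) (.leaf 0)) (.node (.leaf 0xc000170000100526) (.leaf 0))))) (.node (.node (.node (.node (.leaf 0x40001500000002cb) (.leaf 0xd0001700000003cd)) (.node (.leaf 0xb0001600001004d5) (.leaf 0))) (.node (.node (.leaf 0xa000160000100377) (.leaf 0xc000170000000359)) (.node (.leaf 0x700011000000003e) (.leaf 0)))) (.node (.node (.node (.leaf 0xc00017000000020a) (.leaf 0xc00017000010014f)) (.node (.leaf 0x7000110000000022) (.leaf 0))) (.node (.node (.leaf 0xc00017000000001d) (.leaf 0)) (.node (.leaf 0xc0001700001002fb) (.leaf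 0)))))) (.node (.node (.node (.node (.node (.leaf 0x10000f0000100003) (.leaf 0xc000170000000514)) (.node (.leaf 0xc00016000000046e) (.leaf 0))) (.node (.node (.leaf 0x7000170000100193) (.leaf 0xc00017000000019c)) (.node (.leaf 0xa00017000000012a) (.leaf 0)))) (.node (.node (.node (.leaf 0x5000110000000021) (.leaf 0x800016000010050d)) (.node (.leaf 0xe00017000000028e) (.leaf 0))) (.node (.node (.leaf 0xd0001600000002bc) (.leaf 0)) (.node (.leaf 0x9000170000100557) (.leaf 0))))) (.node (.node (.node (.node (.leaf 0x7000110000100056) (.leaf 0x5000150000000328)) (.node (.leaf 0xe0001700000000f9) (.leaf 0))) (.node (.node (.leaf 0xa000170000100249) (.leaf 0xd0001600000003e0)) (.node (.leaf 0xb0001700000001ef) (.leaf 0)))) (.node (.node (.node (.leaf 0x7000160000100190) (.leaf 0xd0001600000004d6)) (.node (.leaf 0x8000170000000360) (.leaf 0))) (.node (.node (.leaf 0xc00017000000014f) (.leaf 0)) (.node (.leaf 0xd000170000000416) (.leaf 0))))))) (.node (.node (.node (.node (.node (.node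 (.leaf 0xa0001700000002fa) (.leaf 0x600010000000008f)) (.node (.leaf 0xc00017000000015e) (.leaf 0))) (.node (.node (.leaf 0xa00016000000057d) (.leaf 0x400016000000033e)) (.node (.leaf 0x80001100000000aa) (.leaf 0)))) (.node (.node (.node (.leaf 0x8000150000100316) (.leaf 0x7000150000100047)) (.node (.leaf 0xc0001700001004c8) (.leaf 0))) (.node (.node (.leaf 0xb00017000010045c) (.leaf 0)) (.node (.leaf 0x900016000010037d) (.leaf 0))))) (.node (.node (.node (.node (.leaf 0xd00016000000047a) (.leaf 0xa000170000000170)) (.node (.leaf 0x7000150000000499) (.leaf 0))) (.node (.node (.leaf 0xa00016000000039a) (.leaf 0xc0001600000001c6)) (.node (.leaf 0x900016000000056e) (.leaf 0)))) (.node (.node (.node (.leaf 0x7000140000100236) (.leaf 0x3000170000000335)) (.node (.leaf 0xf000170000000217) (.leaf 0))) (.node (.node (.leaf 0x900016000010023a) (.leaf 0)) (.node (.leaf 0xc000170000000147) (.leaf 0)))))) (.node (.node (.node (.node (.node (.leaf 0xb0001600000002d0) (.leaf 0x800017000010046d))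 (.node (.leaf 0xa00017000000053e) (.leaf 0))) (.node (.node (.leaf 0xe000170000100357) (.leaf 0x60001600001004b7)) (.node (.leaf 0xe000160000000524) (.leaf 0)))) (.node (.node (.node (.leaf 0xa000170000000079) (.leaf 0x500010000000014b)) (.node (.leaf 0xc00016000010027b) (.leaf 0))) (.node (.node (.leaf 0x5000120000100105) (.leaf 0)) (.node (.leaf 0x3000100000100301) (.leaf 0))))) (.node (.node (.node (.node (.leaf 0x60001500000002c0) (.leaf 0xb000160000000194)) (.node (.leaf 0x60001700001001b1) (.leaf 0))) (.node (.node (.leaf 0xb000160000100543) (.leaf 0xa00017000000047d)) (.node (.leaf 0xf0001700000000d1) (.leaf 0)))) (.node (.node (.node (.leaf 0xb00016000000049b) (.leaf 0xa00017000000039b)) (.node (.leaf 0xa00016000010011e) (.leaf 0))) (.node (.node (.leaf 0x40001700000004dc) (.leaf 0)) (.node (.leaf 0xc0001700000003e4) (.leaf 0))))))))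

/-- part of a forest -/
def forest22 : Trie :=
  (.node (.node (.node (.node (.node (.node (.node (.leaf 0xe0000000002) (.leaf 0xd000160000100246)) (.node (.leaf 0xd00017000000032d) (.leaf 0))) (.node (.node (.leaf 0xd0001700001000cc) (.leaf 0xf0001700000002ac)) (.node (.leaf 0x700016000000013e) (.leaf 0)))) (.node (.node (.node (.leaf 0x700015000000009e) (.leaf 0x4000150000000169)) (.node (.leaf 0xa0001700001004e5) (.leaf 0))) (.node (.node (.leaf 0xe0001700000003a4) (.leaf 0)) (.node (.leaf 0xc0001700001001ab) (.leaf 0))))) (.node (.node (.node (.node (.leaf 0x5000110000000091) (.leaf 0x7000160000000101)) (.node (.leaf 0xd000160000100227) (.leaf 0))) (.node (.node (.leaf 0x100015000000000c) (.leaf 0x80001600001004cb)) (.node (.leaf 0xc000170000100191) (.leaf 0)))) (.node (.node (.node (.leaf 0x30001900001003b9) (.leaf 0xd000170000100568)) (.node (.leaf 0x80001700000003e2) (.leaf 0))) (.node (.node (.leaf 0xa000170000100120) (.leaf 0)) (.node (.leaf 0x500011000010049f) (.leaf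 0)))))) (.node (.node (.node (.node (.node (.leaf 0x60001100001003f4) (.leaf 0xa00017000010036b)) (.node (.leaf 0x700017000010012b) (.leaf 0))) (.node (.node (.leaf 0xb00017000010020f) (.leaf 0xb0001700000002bd)) (.node (.leaf 0x700011000010010e) (.leaf 0)))) (.node (.node (.node (.leaf 0x7000100000000090) (.leaf 0x90001600001003d2)) (.node (.leaf 0xb00017000010040b) (.leaf 0))) (.node (.node (.leaf 0x8000140000000141) (.leaf 0)) (.node (.leaf 0xa000170000000483) (.leaf 0))))) (.node (.node (.node (.node (.leaf 0x400015000010005e) (.leaf 0xd00016000010029a)) (.node (.leaf 0x700017000000027c) (.leaf 0))) (.node (.node (.leaf 0xf00017000010053a) (.leaf 0x7000160000000190)) (.node (.leaf 0xa000170000100564) (.leaf 0)))) (.node (.node (.node (.leaf 0xc00017000010056a) (.leaf 0xc0001700001004f9)) (.node (.leaf 0x9000150000100343) (.leaf 0))) (.node (.node (.leaf 0xc0001700001002fe) (.leaf 0)) (.node (.leaf 0x7000170000000487) (.leaf 0))))))) (.node (.node (.node (.node (.node (.node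 (.leaf 0x5000100000100028) (.leaf 0x50001500000000e8)) (.node (.leaf 0xa000170000000054) (.leaf 0))) (.node (.node (.leaf 0x7000140000000267) (.leaf 0x90001400000003f3)) (.node (.leaf 0x80001400001003b0) (.leaf 0)))) (.node (.node (.node (.leaf 0x4000110000100279) (.leaf 0xc0001700001002f6)) (.node (.leaf 0x20001300001003b1) (.leaf 0))) (.node (.node (.leaf 0xe0001700001003ec) (.leaf 0)) (.node (.leaf 0x7000170000000470) (.leaf 0))))) (.node (.node (.node (.node (.leaf 0x50001500001000e8) (.leaf 0xa000170000100250)) (.node (.leaf 0xe000170000000202) (.leaf 0))) (.node (.node (.leaf 0xd00016000010018a) (.leaf 0xb000160000100200)) (.node (.leaf 0x9000150000100143) (.leaf 0)))) (.node (.node (.node (.leaf 0x700017000010049d) (.leaf 0xb0001600001002c3)) (.node (.leaf 0xc0001700000001d1) (.leaf 0))) (.node (.node (.leaf 0xa0001700000003fd) (.leaf 0)) (.node (.leaf 0x800016000000050d) (.leaf 0)))))) (.node (.node (.node (.node (.node (.leaf 0x8000150000000099) (.leaf 0x900011000010031c))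 (.node (.leaf 0x9000170000000258) (.leaf 0))) (.node (.node (.leaf 0x3000110000000044) (.leaf 0xb000160000000155)) (.node (.leaf 0xe0001600000004c9) (.leaf 0)))) (.node (.node (.node (.leaf 0x80001400001000db) (.leaf 0x5000140000000234)) (.node (.leaf 0x40001000000000b9) (.leaf 0))) (.node (.node (.leaf 0x80001600001003f9) (.leaf 0)) (.node (.leaf 0x800014000000009a) (.leaf 0))))) (.node (.node (.node (.node (.leaf 0x9000160000000441) (.leaf 0xb0001700000003d3)) (.node (.leaf 0xc0001600000004a3) (.leaf 0))) (.node (.node (.leaf 0xa0001600000004ed) (.leaf 0x7000170000000285)) (.node (.leaf 0xa000160000100072) (.leaf 0)))) (.node (.node (.node (.leaf 0xb000170000000452) (.leaf 0xc00016000000007a)) (.node (.leaf 0xd0001600001000d6) (.leaf 0))) (.node (.node (.leaf 0xb0001600001001ad) (.leaf 0)) (.node (.leaf 0x500011000000034e) (.leaf 0))))))))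

/-- part of a forest -/
def forest210 : Trie :=
  (.node (.node (.node (.node (.node (.node (.node (.leaf 0x13000000000a) (.leaf 0xd0001600001002d1)) (.node (.leaf 0xb000170000000422) (.leaf 0))) (.node (.node (.leaf 0x7000110000000210) (.leaf 0x90001700000002ec)) (.node (.leaf 0x30001200001003db) (.leaf 0)))) (.node (.node (.node (.leaf 0x7000150000100074) (.leaf 0xa000170000000519)) (.node (.leaf 0x80001600000004fd) (.leaf 0))) (.node (.node (.leaf 0xc0001600000000fc) (.leaf 0)) (.node (.leaf 0xd0001700000000f7) (.leaf 0))))) (.node (.node (.node (.node (.leaf 0x6000140000100394) (.leaf 0xb0001700001003d3)) (.node (.leaf 0xd000160000100263) (.leaf 0))) (.node (.node (.leaf 0x6000110000100051) (.leaf 0xa0001700001004f3)) (.node (.leaf 0x40001000001000b9) (.leaf 0)))) (.node (.node (.node (.leaf 0xc000160000100058) (.leaf 0xb000160000000493)) (.node (.leaf 0xa0001600000003e5) (.leaf 0))) (.node (.node (.leaf 0x30001700000002e5) (.leaf 0)) (.node (.leaf 0x4000170000000225) (.leaf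 0)))))) (.node (.node (.node (.node (.node (.leaf 0x800011000010034c) (.leaf 0x90001600001001ce)) (.node (.leaf 0x60001000000002c6) (.leaf 0))) (.node (.node (.leaf 0x900017000010050c) (.leaf 0x900016000010054d)) (.node (.leaf 0x7000100000000315) (.leaf 0)))) (.node (.node (.node (.leaf 0x7000110000100210) (.leaf 0xa00016000010055b)) (.node (.leaf 0xb0001700000003be) (.leaf 0))) (.node (.node (.leaf 0xa0001700000001c5) (.leaf 0)) (.node (.leaf 0xc0001600001004c7) (.leaf 0))))) (.node (.node (.node (.node (.leaf 0x7000100000000096) (.leaf 0xb0001700001000bc)) (.node (.leaf 0xb0001600000000d3) (.leaf 0))) (.node (.node (.leaf 0x8000170000000361) (.leaf 0xb0001700000001e4)) (.node (.leaf 0x4000160000100421) (.leaf 0)))) (.node (.node (.node (.leaf 0xc0001600001004a7) (.leaf 0xf000170000000182)) (.node (.leaf 0xd00017000010017a) (.leaf 0))) (.node (.node (.leaf 0x4000160000000467) (.leaf 0)) (.node (.leaf 0x7000100000000037) (.leaf 0))))))) (.node (.node (.node (.node (.node (.node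 (.leaf 0x600014000010001e) (.leaf 0x8000170000100439)) (.node (.leaf 0xb00017000010048a) (.leaf 0))) (.node (.node (.leaf 0xa0001600001001c7) (.leaf 0x8000140000100141)) (.node (.leaf 0x800010000010032a) (.leaf 0)))) (.node (.node (.node (.leaf 0x7000140000100267) (.leaf 0xd0001700001004cf)) (.node (.leaf 0xc000160000000427) (.leaf 0))) (.node (.node (.leaf 0x700016000000053c) (.leaf 0)) (.node (.leaf 0x9000160000100317) (.leaf 0))))) (.node (.node (.node (.node (.leaf 0x40001300000002b6) (.leaf 0x8000170000000439)) (.node (.leaf 0x9000160000000113) (.leaf 0))) (.node (.node (.leaf 0xe00016000010005c) (.leaf 0xd000160000100540)) (.node (.leaf 0xb0001700000004fc) (.leaf 0)))) (.node (.node (.node (.leaf 0xb000160000000418) (.leaf 0xa0001600000001dc)) (.node (.leaf 0x700016000010026b) (.leaf 0))) (.node (.node (.leaf 0x6000170000100138) (.leaf 0)) (.node (.leaf 0x3000140000100020) (.leaf 0)))))) (.node (.node (.node (.node (.node (.leaf 0x1000180000100024) (.leaf 0xd000160000100214))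 (.node (.leaf 0x80001600000000ec) (.leaf 0))) (.node (.node (.leaf 0x50001600001001ea) (.leaf 0xe0001700000002b0)) (.node (.leaf 0x90001700001001f6) (.leaf 0)))) (.node (.node (.node (.leaf 0xa0001600000004a2) (.leaf 0xa0001600000003fb)) (.node (.leaf 0x90001600001002eb) (.leaf 0))) (.node (.node (.leaf 0xb000160000100333) (.leaf 0)) (.node (.leaf 0x6000150000100412) (.leaf 0))))) (.node (.node (.node (.node (.leaf 0xb00016000010011c) (.leaf 0xc000160000000235)) (.node (.leaf 0x3000100000100319) (.leaf 0))) (.node (.node (.leaf 0xc00017000000035a) (.leaf 0x700017000000053d)) (.node (.leaf 0xa000170000000330) (.leaf 0)))) (.node (.node (.node (.leaf 0xc000170000000122) (.leaf 0x70001100001003c3)) (.node (.leaf 0x9000170000100436) (.leaf 0))) (.node (.node (.leaf 0x7000170000000193) (.leaf 0)) (.node (.leaf 0x400010000000007b) (.leaf 0))))))))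

/-- part of a forest -/
def forest26 : Trie :=
  (.node (.node (.node (.node (.node (.node (.node (.leaf 0x100000000006) (.leaf 0x700014000000004a)) (.node (.leaf 0xa0001600000000c4) (.leaf 0))) (.node (.node (.leaf 0x4000130000000049) (.leaf 0xd0001700001001ec)) (.node (.leaf 0xf00016000000019b) (.leaf 0)))) (.node (.node (.node (.leaf 0x30001200000003db) (.leaf 0x900017000010045a)) (.node (.leaf 0xe00017000000048b) (.leaf 0))) (.node (.node (.leaf 0x5000150000100482) (.leaf 0)) (.node (.leaf 0x500017000000024d) (.leaf 0))))) (.node (.node (.node (.node (.leaf 0xa0001000000000df) (.leaf 0x90001700001002ec)) (.node (.leaf 0xc000160000000201) (.leaf 0))) (.node (.node (.leaf 0x100014000010000b) (.leaf 0xc000160000000450)) (.node (.leaf 0x5000170000000516) (.leaf 0)))) (.node (.node (.node (.leaf 0xd0001700000003ee) (.leaf 0xc000160000100117)) (.node (.leaf 0x5000100000100027) (.leaf 0))) (.node (.node (.leaf 0xb000160000000110) (.leaf 0)) (.node (.leaf 0x7000160000100563) (.leaf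 0)))))) (.node (.node (.node (.node (.node (.leaf 0x70001500000000a6) (.leaf 0xd000160000000263)) (.node (.leaf 0x8000160000000179) (.leaf 0))) (.node (.node (.leaf 0xb00016000010028d) (.leaf 0xb000170000000491)) (.node (.leaf 0xb0001600000003a6) (.leaf 0)))) (.node (.node (.node (.leaf 0x6000150000100329) (.leaf 0xa0001700001004b9)) (.node (.leaf 0x4000160000000273) (.leaf 0))) (.node (.node (.leaf 0x7000140000000236) (.leaf 0)) (.node (.leaf 0xa000160000100304) (.leaf 0))))) (.node (.node (.node (.node (.leaf 0x600014000010025f) (.leaf 0xb0001600001002ca)) (.node (.leaf 0x800015000000012d) (.leaf 0))) (.node (.node (.leaf 0x8000150000100404) (.leaf 0xb00016000000019f)) (.node (.leaf 0xb000170000100530) (.leaf 0)))) (.node (.node (.node (.leaf 0x70001100001003c0) (.leaf 0x80001700000000ee)) (.node (.leaf 0x80001700001001fa) (.leaf 0))) (.node (.node (.leaf 0xb0001700001001ef) (.leaf 0)) (.node (.leaf 0xc0001600001004c1) (.leaf 0))))))) (.node (.node (.node (.node (.node (.node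 (.leaf 0x400012000000030a) (.leaf 0xc000170000000526)) (.node (.leaf 0xb000170000100154) (.leaf 0))) (.node (.node (.leaf 0xe0001700000004be) (.leaf 0x40001700000001ca)) (.node (.leaf 0x700015000000007c) (.leaf 0)))) (.node (.node (.node (.leaf 0x60001000001003d9) (.leaf 0x900015000010009d)) (.node (.leaf 0xd00017000000013d) (.leaf 0))) (.node (.node (.leaf 0xa0001600001003e9) (.leaf 0)) (.node (.leaf 0x7000110000100323) (.leaf 0))))) (.node (.node (.node (.node (.leaf 0x60001100000003f4) (.leaf 0xd000160000000408)) (.node (.leaf 0xa000160000000380) (.leaf 0))) (.node (.node (.leaf 0xc00017000010036c) (.leaf 0xa0001600001003ad)) (.node (.leaf 0x7000170000000271) (.leaf 0)))) (.node (.node (.node (.leaf 0xc000160000000128) (.leaf 0xc00016000000047c)) (.node (.leaf 0xc0001600001003cb) (.leaf 0))) (.node (.node (.leaf 0xc000160000100201) (.leaf 0)) (.node (.leaf 0x2000150000000103) (.leaf 0)))))) (.node (.node (.node (.node (.node (.leaf 0x500015000010004c) (.leaf 0x8000170000000356))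 (.node (.leaf 0x600014000000005f) (.leaf 0))) (.node (.node (.leaf 0xc000160000000326) (.leaf 0xc000160000000553)) (.node (.leaf 0x900017000000041e) (.leaf 0)))) (.node (.node (.node (.leaf 0x1000100000100006) (.leaf 0x100001600001001c9)) (.node (.leaf 0x30001300001003af) (.leaf 0))) (.node (.node (.leaf 0x200018000000003a) (.leaf 0)) (.node (.leaf 0x600014000000006f) (.leaf 0))))) (.node (.node (.node (.node (.leaf 0xb0001600001000d3) (.leaf 0xd00017000000047f)) (.node (.leaf 0xa000160000100474) (.leaf 0))) (.node (.node (.leaf 0x1000170000100014) (.leaf 0x400016000010033e)) (.node (.leaf 0x80001600000004d3) (.leaf 0)))) (.node (.node (.node (.leaf 0xe000160000100019) (.leaf 0xe0001600001003fe)) (.node (.leaf 0xb00017000000026d) (.leaf 0))) (.node (.node (.leaf 0x80001700000000d2) (.leaf 0)) (.node (.leaf 0xa0001600000001b8) (.leaf 0))))))))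

/-- part of a forest -/
def forest214 : Trie :=
  (.node (.node (.node (.node (.node (.node (.node (.leaf 0x8000140000100112) (.leaf 0xc00017000000044a)) (.node (.leaf 0xc0001600000004a5) (.leaf 0))) (.node (.node (.leaf 0x60001100000004cd) (.leaf 0xd000160000100283)) (.node (.leaf 0xe000160000100115) (.leaf 0)))) (.node (.node (.node (.leaf 0x600010000000002f) (.leaf 0x8000170000100494)) (.node (.leaf 0xd0001700000004fe) (.leaf 0))) (.node (.node (.leaf 0x90001100001000dd) (.leaf 0)) (.node (.leaf 0xc000160000000466) (.leaf 0))))) (.node (.node (.node (.node (.leaf 0x50001000001003fa) (.leaf 0x7000170000100487)) (.node (.leaf 0x8000110000100093) (.leaf 0))) (.node (.node (.leaf 0xa000170000100334) (.leaf 0xc0001600000001e5)) (.node (.leaf 0x4000110000000013) (.leaf 0)))) (.node (.node (.node (.leaf 0x50001700000001fc) (.leaf 0x80001600001004fd)) (.node (.leaf 0x3000180000100349) (.leaf 0))) (.node (.node (.leaf 0x800016000000016b) (.leaf 0)) (.node (.leaf 0x90001600001000ff)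 (.leaf 0)))))) (.node (.node (.node (.node (.node (.leaf 0x6000100000000134) (.leaf 0x9000170000000557)) (.node (.leaf 0x40001700001004dc) (.leaf 0))) (.node (.node (.leaf 0x8000100000000081) (.leaf 0x800017000000057a)) (.node (.leaf 0xc0001700001002aa) (.leaf 0)))) (.node (.node (.node (.leaf 0x80001100001004b0) (.leaf 0x60001600000002f0)) (.node (.leaf 0xe00016000000024a) (.leaf 0))) (.node (.node (.leaf 0x600017000010043d) (.leaf 0)) (.node (.leaf 0xa000170000100241) (.leaf 0))))) (.node (.node (.node (.node (.leaf 0x8000140000100497) (.leaf 0xb0001600000004ba)) (.node (.leaf 0xc000160000000429) (.leaf 0))) (.node (.node (.leaf 0x60001300001003b8) (.leaf 0x8000160000100302)) (.node (.leaf 0x900017000010053b) (.leaf 0)))) (.node (.node (.node (.leaf 0x700017000010040d) (.leaf 0x900010000010012e)) (.node (.leaf 0xb000160000100493) (.leaf 0))) (.node (.node (.leaf 0x90001600000000eb) (.leaf 0)) (.node (.leaf 0xc000170000000471) (.leaf 0))))))) (.node (.node (.node (.node (.node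 (.node (.leaf 0x50001400000000a8) (.leaf 0x8000170000100262)) (.node (.leaf 0x8000170000100572) (.leaf 0))) (.node (.node (.leaf 0x900016000000045b) (.leaf 0xb000170000000257)) (.node (.leaf 0x5000190000100111) (.leaf 0)))) (.node (.node (.node (.leaf 0x6000150000000052) (.leaf 0x700017000010041f)) (.node (.leaf 0x8000140000100406) (.leaf 0))) (.node (.node (.leaf 0x3000190000000070) (.leaf 0)) (.node (.leaf 0xf000170000100252) (.leaf 0))))) (.node (.node (.node (.node (.leaf 0x3000150000000231) (.leaf 0x8000160000100179)) (.node (.leaf 0x900011000000018d) (.leaf 0))) (.node (.node (.leaf 0xb0001700000004a6) (.leaf 0xb00017000000011b)) (.node (.leaf 0xb000170000100290) (.leaf 0)))) (.node (.node (.node (.leaf 0x900011000010018d) (.leaf 0xd0001600000000c8)) (.node (.leaf 0x8000110000100097) (.leaf 0))) (.node (.node (.leaf 0x9000160000000269) (.leaf 0)) (.node (.leaf 0x900016000010022d) (.leaf 0)))))) (.node (.node (.node (.node (.node (.leaf 0x6000110000100042) (.leaf 0xb0001600001002ad))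 (.node (.leaf 0xc0001600000000d9) (.leaf 0))) (.node (.node (.leaf 0x60001600001000f5) (.leaf 0x9000170000000293)) (.node (.leaf 0x30001600000003d8) (.leaf 0)))) (.node (.node (.node (.leaf 0x60001000000003d9) (.leaf 0xd000170000000121)) (.node (.leaf 0xa00017000010024b) (.leaf 0))) (.node (.node (.leaf 0x9000160000000061) (.leaf 0)) (.node (.leaf 0xa00017000010053e) (.leaf 0))))) (.node (.node (.node (.node (.leaf 0x8000170000100356) (.leaf 0xc000160000100566)) (.node (.leaf 0xc000160000100429) (.leaf 0))) (.node (.node (.leaf 0x9000170000100158) (.leaf 0xd0001600000002ab)) (.node (.leaf 0xb00017000000023d) (.leaf 0)))) (.node (.node (.node (.leaf 0xa000160000100521) (.leaf 0xc000170000100147)) (.node (.leaf 0xb000170000000228) (.leaf 0))) (.node (.node (.leaf 0xe00016000000044f) (.leaf 0)) (.node (.leaf 0xd0001600000001d6) (.leaf 0))))))))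

/-- part of a forest -/
def forest21 : Trie :=
  (.node (.node (.node (.node (.node (.node (.node (.leaf 0xd0000000001) (.leaf 0xb000170000000212)) (.node (.leaf 0xb00016000000044b) (.leaf 0))) (.node (.node (.leaf 0x6000160000000124) (.leaf 0xe00016000010042f)) (.node (.leaf 0x20001000000000b6) (.leaf 0)))) (.node (.node (.node (.leaf 0x70001000000003c4) (.leaf 0x70001700000000d5)) (.node (.leaf 0x8000170000000572) (.leaf 0))) (.node (.node (.leaf 0x900017000010052e) (.leaf 0)) (.node (.leaf 0xe0001600001001ac) (.leaf 0))))) (.node (.node (.node (.node (.leaf 0xc000160000100450) (.leaf 0x800016000010019a)) (.node (.leaf 0x9000170000000139) (.leaf 0))) (.node (.node (.leaf 0x70001400000003bb) (.leaf 0x600010000010008f)) (.node (.leaf 0xf00017000010057b) (.leaf 0)))) (.node (.node (.node (.leaf 0x30001800000001b6) (.leaf 0xb0001600000004a4)) (.node (.leaf 0xd00017000000029c) (.leaf 0))) (.node (.node (.leaf 0x30001500001003b5) (.leaf 0)) (.node (.leaf 0x8000150000100229) (.leaf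 0)))))) (.node (.node (.node (.node (.node (.leaf 0x40001100000000ad) (.leaf 0x300016000000045f)) (.node (.leaf 0xd0001700000000c7) (.leaf 0))) (.node (.node (.leaf 0xc0001700000004c8) (.leaf 0x9000160000000451)) (.node (.leaf 0x5000120000000105) (.leaf 0)))) (.node (.node (.node (.leaf 0x900010000000012e) (.leaf 0x8000140000000497)) (.node (.leaf 0xd0001600000002d6) (.leaf 0))) (.node (.node (.leaf 0x100014000000000b) (.leaf 0)) (.node (.leaf 0xb000160000000206) (.leaf 0))))) (.node (.node (.node (.node (.leaf 0x8000160000000515) (.leaf 0x8000160000100489)) (.node (.leaf 0x70001100001000ab) (.leaf 0))) (.node (.node (.leaf 0xd0001700000001ec) (.leaf 0xd0001600001002b4)) (.node (.leaf 0x70001700001004e0) (.leaf 0)))) (.node (.node (.node (.leaf 0xb0001600000001a5) (.leaf 0xd00016000010042d)) (.node (.leaf 0x90001400001001a2) (.leaf 0))) (.node (.node (.leaf 0x5000160000000423) (.leaf 0)) (.node (.leaf 0xc0001700000001f4) (.leaf 0))))))) (.node (.node (.node (.node (.node (.node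 (.leaf 0xb000160000100172) (.leaf 0x600015000010046c)) (.node (.leaf 0xd0001700001000cf) (.leaf 0))) (.node (.node (.leaf 0x400019000000019e) (.leaf 0x90001000000002a4)) (.node (.leaf 0x3000110000100044) (.leaf 0)))) (.node (.node (.node (.leaf 0x4000110000000132) (.leaf 0xa000170000100268)) (.node (.leaf 0x800017000000046d) (.leaf 0))) (.node (.node (.leaf 0xb000170000000154) (.leaf 0)) (.node (.leaf 0x9000160000100313) (.leaf 0))))) (.node (.node (.node (.node (.leaf 0x5000110000000092) (.leaf 0x80001600000004cb)) (.node (.leaf 0xe0001700000003ec) (.leaf 0))) (.node (.node (.leaf 0x80001600001002b1) (.leaf 0x90001700000002c2)) (.node (.leaf 0x8000150000000404) (.leaf 0)))) (.node (.node (.node (.leaf 0xe000170000100202) (.leaf 0x90001700001002c2)) (.node (.leaf 0xc0001600000004f7) (.leaf 0))) (.node (.node (.leaf 0xb00017000000053f) (.leaf 0)) (.node (.leaf 0xf000170000100251) (.leaf 0)))))) (.node (.node (.node (.node (.node (.leaf 0x80001400001001a6) (.leaf 0x800011000000034c))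 (.node (.leaf 0x2000150000100142) (.leaf 0))) (.node (.node (.leaf 0x8000110000100183) (.leaf 0x90001700001002d9)) (.node (.leaf 0xa000170000100365) (.leaf 0)))) (.node (.node (.node (.leaf 0x6000110000000042) (.leaf 0x90001700000002e6)) (.node (.leaf 0x7000160000000137) (.leaf 0))) (.node (.node (.leaf 0x5000170000000307) (.leaf 0)) (.node (.leaf 0x100013000000000a) (.leaf 0))))) (.node (.node (.node (.node (.leaf 0xb000160000100548) (.leaf 0xb00017000010018f)) (.node (.leaf 0x6000170000100346) (.leaf 0))) (.node (.node (.leaf 0x90001600001002d7) (.leaf 0xd000160000000469)) (.node (.leaf 0xb00017000010001c) (.leaf 0)))) (.node (.node (.node (.leaf 0xf000170000000275) (.leaf 0xd000170000100468)) (.node (.leaf 0xc0001600000001bf) (.leaf 0))) (.node (.node (.leaf 0xe00016000000048d) (.leaf 0)) (.node (.leaf 0x4000110000100132) (.leaf 0))))))))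

/-- part of a forest -/
def forest29 : Trie :=
  (.node (.node (.node (.node (.node (.node (.node (.leaf 0x120000000009) (.leaf 0xc000160000000532)) (.node (.leaf 0xc00017000000056b) (.leaf 0))) (.node (.node (.leaf 0x1000100000000006) (.leaf 0x70001700000001da)) (.node (.leaf 0x900017000010016a) (.leaf 0)))) (.node (.node (.node (.leaf 0x7000140000100073) (.leaf 0x70001600000002c5)) (.node (.leaf 0xa0001700000004d1) (.leaf 0))) (.node (.node (.leaf 0xf00017000010026c) (.leaf 0)) (.node (.leaf 0xe00016000000056c) (.leaf 0))))) (.node (.node (.node (.node (.leaf 0x30001300000003af) (.leaf 0x7000150000100187)) (.node (.leaf 0x9000170000000159) (.leaf 0))) (.node (.node (.leaf 0x50001400001000a8) (.leaf 0xd0001600001002ff)) (.node (.leaf 0x2000180000000030) (.leaf 0)))) (.node (.node (.node (.leaf 0xe000170000100059) (.leaf 0xd0001600000001af)) (.node (.leaf 0x90001600000004ac) (.leaf 0))) (.node (.node (.leaf 0xf0001600000001f1) (.leaf 0)) (.node (.leaf 0x6000160000000505) (.leaf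 0)))))) (.node (.node (.node (.node (.node (.leaf 0x4000110000100013) (.leaf 0xb000160000000333)) (.node (.leaf 0x700015000000016d) (.leaf 0))) (.node (.node (.leaf 0xf000160000100389) (.leaf 0xd0001700000002d3)) (.node (.leaf 0x5000150000000310) (.leaf 0)))) (.node (.node (.node (.leaf 0x40001400001002ef) (.leaf 0xd0001700000000cc)) (.node (.leaf 0x8000170000000481) (.leaf 0))) (.node (.node (.leaf 0xc0001600001003a1) (.leaf 0)) (.node (.leaf 0x9000160000000459) (.leaf 0))))) (.node (.node (.node (.node (.leaf 0x400018000000031f) (.leaf 0xc000160000100326)) (.node (.leaf 0x8000160000000157) (.leaf 0))) (.node (.node (.leaf 0x30001500000003d6) (.leaf 0xc0001600001000e1)) (.node (.leaf 0x90001600001003bf) (.leaf 0)))) (.node (.node (.node (.leaf 0xd000170000000537) (.leaf 0xe00017000000049a)) (.node (.leaf 0xc0001600001000cb) (.leaf 0))) (.node (.node (.leaf 0xd000160000100040) (.leaf 0)) (.node (.leaf 0x9000160000000525) (.leaf 0))))))) (.node (.node (.node (.node (.node (.node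 (.leaf 0xd00016000000029a) (.leaf 0x100001700000002dc)) (.node (.leaf 0xd0001600000002ff) (.leaf 0))) (.node (.node (.leaf 0x8000170000000392) (.leaf 0x9000170000100174)) (.node (.leaf 0x2000100000000109) (.leaf 0)))) (.node (.node (.node (.leaf 0x70001500000000a0) (.leaf 0x60001500001000bf)) (.node (.leaf 0x800017000010057a) (.leaf 0))) (.node (.node (.leaf 0x9000170000100291) (.leaf 0)) (.node (.leaf 0x10000170000100318) (.leaf 0))))) (.node (.node (.node (.node (.leaf 0xd000170000000382) (.leaf 0x8000160000000390)) (.node (.leaf 0xa00016000000048f) (.leaf 0))) (.node (.node (.leaf 0x800017000010005d) (.leaf 0xf0001700000003ab)) (.node (.leaf 0xb000170000000331) (.leaf 0)))) (.node (.node (.node (.leaf 0xb00016000010055d) (.leaf 0xd0001700000001e2)) (.node (.leaf 0x8000170000000262) (.leaf 0))) (.node (.node (.leaf 0xd0001600001001b3) (.leaf 0)) (.node (.leaf 0x50001000000003fa) (.leaf 0)))))) (.node (.node (.node (.node (.node (.leaf 0xb000170000100289) (.leaf 0x70001700000004e0))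 (.node (.leaf 0xd0001700001003ee) (.leaf 0))) (.node (.node (.leaf 0x800017000000049e) (.leaf 0x700016000000026b)) (.node (.leaf 0xc0001600001003f7) (.leaf 0)))) (.node (.node (.node (.leaf 0x3000100000000301) (.leaf 0x90001700000003e8)) (.node (.leaf 0x50001600000001ea) (.leaf 0))) (.node (.node (.leaf 0xe000160000100456) (.leaf 0)) (.node (.leaf 0x20001900000000c0) (.leaf 0))))) (.node (.node (.node (.node (.leaf 0x9000170000000299) (.leaf 0xa0001600001001be)) (.node (.leaf 0x30001100000003e3) (.leaf 0))) (.node (.node (.leaf 0x7000160000000563) (.leaf 0xe0001700000002a5)) (.node (.leaf 0xa000170000100232) (.leaf 0)))) (.node (.node (.node (.leaf 0xd0001700000004cf) (.leaf 0xb0001700000002f3)) (.node (.leaf 0xe00017000000052d) (.leaf 0))) (.node (.node (.leaf 0x80001600000004c3) (.leaf 0)) (.node (.leaf 0x70001600000002a0) (.leaf 0))))))))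

/-- part of a forest -/
def forest25 : Trie :=
  (.node (.node (.node (.node (.node (.node (.node (.leaf 0x10000c0000100000) (.leaf 0x700017000010053d)) (.node (.leaf 0xc000160000100532) (.leaf 0))) (.node (.node (.leaf 0x4000120000000086) (.leaf 0x500016000010051c)) (.node (.leaf 0x70001700001003a5) (.leaf 0)))) (.node (.node (.node (.leaf 0x500013000010005a) (.leaf 0xa0001600001003a9)) (.node (.leaf 0x60001700001000ce) (.leaf 0))) (.node (.node (.leaf 0x30001800001001b6) (.leaf 0)) (.node (.leaf 0x50001700001003a3) (.leaf 0))))) (.node (.node (.node (.node (.leaf 0x700010000000008e) (.leaf 0x90001600000003d2)) (.node (.leaf 0xc000170000100401) (.leaf 0))) (.node (.node (.leaf 0x90001400001003f3) (.leaf 0xc0001700000001e8)) (.node (.leaf 0x9000160000100459) (.leaf 0)))) (.node (.node (.node (.leaf 0x50001700001002e3) (.leaf 0x8000170000100118)) (.node (.leaf 0x60001600001001e1) (.leaf 0))) (.node (.node (.leaf 0x900017000000007e) (.leaf 0)) (.node (.leaf 0xc0001700000002fe) (.leaf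 0)))))) (.node (.node (.node (.node (.node (.leaf 0x190000000025) (.leaf 0x9000150000000351)) (.node (.leaf 0x30001700001002e5) (.leaf 0))) (.node (.node (.leaf 0x20001900001000c0) (.leaf 0x80001600001004c3)) (.node (.leaf 0x3000160000100288) (.leaf 0)))) (.node (.node (.node (.leaf 0x30001500000003b5) (.leaf 0xb0001600001004ba)) (.node (.leaf 0xd000170000100075) (.leaf 0))) (.node (.node (.leaf 0xa000160000000345) (.leaf 0)) (.node (.leaf 0x600017000000052b) (.leaf 0))))) (.node (.node (.node (.node (.leaf 0x4000140000000130) (.leaf 0xa0001600001002c9)) (.node (.leaf 0xa000170000000365) (.leaf 0))) (.node (.node (.leaf 0x60001600001002b9) (.leaf 0x8000160000000444)) (.node (.leaf 0x900017000000034d) (.leaf 0)))) (.node (.node (.node (.leaf 0x600014000000001e) (.leaf 0x9000170000000436)) (.node (.leaf 0x2000170000000150) (.leaf 0))) (.node (.node (.leaf 0xb0001600001001a5) (.leaf 0)) (.node (.leaf 0x9000160000000317) (.leaf 0))))))) (.node (.node (.node (.node (.node (.node (.leaf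 0xb000160000100175) (.leaf 0xa0001700001004db)) (.node (.leaf 0xd00017000010042c) (.leaf 0))) (.node (.node (.leaf 0xd000160000000435) (.leaf 0x70001600001003c9)) (.node (.leaf 0x6000100000100134) (.leaf 0)))) (.node (.node (.node (.leaf 0x3000100000000319) (.leaf 0xb000160000100256)) (.node (.leaf 0xd000160000000041) (.leaf 0))) (.node (.node (.leaf 0xd0001700001003fc) (.leaf 0)) (.node (.leaf 0x500015000010004b) (.leaf 0))))) (.node (.node (.node (.node (.leaf 0xc00017000000014d) (.leaf 0xb000170000000424)) (.node (.leaf 0x800010000010006a) (.leaf 0))) (.node (.node (.leaf 0xa0001600001000fd) (.leaf 0xd0001600000001d3)) (.node (.leaf 0x9000160000100269) (.leaf 0)))) (.node (.node (.node (.leaf 0x60001700001000f4) (.leaf 0xa000160000000355)) (.node (.leaf 0x900016000010028a) (.leaf 0))) (.node (.node (.leaf 0x8000170000100509) (.leaf 0)) (.node (.leaf 0xe0001700000000d4) (.leaf 0)))))) (.node (.node (.node (.node (.node (.leaf 0x900017000000016a) (.leaf 0xc000160000000453)) (.node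 (.leaf 0xb0001600000004bb) (.leaf 0))) (.node (.node (.leaf 0x9000160000100226) (.leaf 0x9000160000100113)) (.node (.leaf 0x2000170000100150) (.leaf 0)))) (.node (.node (.node (.leaf 0x7000150000100050) (.leaf 0x9000160000000153)) (.node (.leaf 0xd00017000010054c) (.leaf 0))) (.node (.node (.leaf 0xa00017000010039b) (.leaf 0)) (.node (.leaf 0x2000150000000142) (.leaf 0))))) (.node (.node (.node (.node (.leaf 0xc00017000000037e) (.leaf 0x80001700000001fa)) (.node (.leaf 0xe000170000000476) (.leaf 0))) (.node (.node (.leaf 0xa00016000000039c) (.leaf 0xb000170000100228)) (.node (.leaf 0x9000160000100061) (.leaf 0)))) (.node (.node (.node (.leaf 0x5000160000000576) (.leaf 0x8000170000000509)) (.node (.leaf 0xd00016000000026e) (.leaf 0))) (.node (.node (.leaf 0x80001700001003e2) (.leaf 0)) (.node (.leaf 0xb000170000100287) (.leaf 0))))))))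

/-- part of a forest -/
def forest213 : Trie :=
  (.node (.node (.node (.node (.node (.node (.node (.leaf 0x80001000000000a2) (.leaf 0x600017000000043d)) (.node (.leaf 0x5000170000100516) (.leaf 0))) (.node (.node (.leaf 0x900014000000051a) (.leaf 0x70001600000004d0)) (.node (.leaf 0x600014000010006f) (.leaf 0)))) (.node (.node (.node (.leaf 0x8000100000000045) (.leaf 0xd0001600000000bd)) (.node (.leaf 0xa000160000000535) (.leaf 0))) (.node (.node (.leaf 0x80001100000004b0) (.leaf 0)) (.node (.leaf 0xa0001700001004b1) (.leaf 0))))) (.node (.node (.node (.node (.leaf 0x7000100000100037) (.leaf 0x9000170000100139)) (.node (.leaf 0x4000170000100520) (.leaf 0))) (.node (.node (.leaf 0xb00017000000032c) (.leaf 0x80001600000000d0)) (.node (.leaf 0x800017000000005d) (.leaf 0)))) (.node (.node (.node (.leaf 0xb000160000100284) (.leaf 0x500011000000049f)) (.node (.leaf 0x1000120000000009) (.leaf 0))) (.node (.node (.leaf 0xb00017000010026d) (.leaf 0)) (.node (.leaf 0xc000170000100100)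 (.leaf 0)))))) (.node (.node (.node (.node (.node (.leaf 0x10000d0000100001) (.leaf 0xc0001600000002ee)) (.node (.leaf 0x80001600000002b1) (.leaf 0))) (.node (.node (.leaf 0x700015000010009e) (.leaf 0xd00017000000021c)) (.node (.leaf 0xc0001700000003f5) (.leaf 0)))) (.node (.node (.node (.leaf 0x30001100001003e3) (.leaf 0xe000160000000555)) (.node (.leaf 0xa000160000000171) (.leaf 0))) (.node (.node (.leaf 0xa0001600000001de) (.leaf 0)) (.node (.leaf 0x900016000000052f) (.leaf 0))))) (.node (.node (.node (.node (.leaf 0x4000140000100057) (.leaf 0x70001700000003e7)) (.node (.leaf 0xa000170000000249) (.leaf 0))) (.node (.node (.leaf 0x6000150000000329) (.leaf 0xb0001600000002fc)) (.node (.leaf 0x2000110000100107) (.leaf 0)))) (.node (.node (.node (.leaf 0x8000170000100481) (.leaf 0x9000160000000151)) (.node (.leaf 0xe00016000010046f) (.leaf 0))) (.node (.node (.leaf 0x9000160000100451) (.leaf 0)) (.node (.leaf 0xa0001700000003ac) (.leaf 0))))))) (.node (.node (.node (.node (.node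 (.node (.leaf 0xb0001700001001e4) (.leaf 0x9000150000100351)) (.node (.leaf 0xb000170000100212) (.leaf 0))) (.node (.node (.leaf 0xa00017000000044d) (.leaf 0x900017000000045a)) (.node (.leaf 0x5000140000100327) (.leaf 0)))) (.node (.node (.node (.leaf 0x8000150000000082) (.leaf 0x6000170000000138)) (.node (.leaf 0x9000110000100108) (.leaf 0))) (.node (.node (.leaf 0xc000160000000264) (.leaf 0)) (.node (.leaf 0xc00017000010037e) (.leaf 0))))) (.node (.node (.node (.node (.leaf 0x700017000000012b) (.leaf 0xd000160000000547)) (.node (.leaf 0xa000170000100483) (.leaf 0))) (.node (.node (.leaf 0xd00016000010055c) (.leaf 0xa00016000000056f)) (.node (.leaf 0x8000170000000494) (.leaf 0)))) (.node (.node (.node (.leaf 0x80001100000002cc) (.leaf 0xb000170000000504)) (.node (.leaf 0xa000150000000352) (.leaf 0))) (.node (.node (.leaf 0x8000170000100168) (.leaf 0)) (.node (.leaf 0xd00016000010022c) (.leaf 0)))))) (.node (.node (.node (.node (.node (.leaf 0xc0001700001001b0) (.leaf 0x50001700000002e3))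 (.node (.leaf 0xa000170000100243) (.leaf 0))) (.node (.node (.leaf 0xc00017000000051e) (.leaf 0x60001700000001b1)) (.node (.leaf 0xc00017000010015e) (.leaf 0)))) (.node (.node (.node (.leaf 0xc0001600001001ff) (.leaf 0xc00016000000051b)) (.node (.leaf 0xa000170000000035) (.leaf 0))) (.node (.node (.leaf 0x900016000000023a) (.leaf 0)) (.node (.leaf 0x8000100000000254) (.leaf 0))))) (.node (.node (.node (.node (.leaf 0xd000170000100209) (.leaf 0x90001700001003e8)) (.node (.leaf 0x90001100000002de) (.leaf 0))) (.node (.node (.leaf 0xc0001600001001e3) (.leaf 0x9000160000100298)) (.node (.leaf 0x8000160000000489) (.leaf 0)))) (.node (.node (.node (.leaf 0x90001600000001ce) (.leaf 0x70001600000003c9)) (.node (.leaf 0xd000170000000018) (.leaf 0))) (.node (.node (.leaf 0x5000160000100370) (.leaf 0)) (.node (.leaf 0x90001700001004f5) (.leaf 0))))))))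

/-- part of a forest -/
def forest23 : Trie :=
  (.node (.node (.node (.node (.node (.node (.node (.leaf 0xf0000000003) (.leaf 0xc0001600000001ba)) (.node (.leaf 0xc000170000000216) (.leaf 0))) (.node (.node (.leaf 0x100015000010000c) (.leaf 0x90001700000004e6)) (.node (.leaf 0x7000170000100470) (.leaf 0)))) (.node (.node (.node (.leaf 0xa00015000000041d) (.leaf 0x900017000000052e)) (.node (.leaf 0xc0001600000002e0) (.leaf 0))) (.node (.node (.leaf 0x700011000000014a) (.leaf 0)) (.node (.leaf 0xc000170000000517) (.leaf 0))))) (.node (.node (.node (.node (.leaf 0xa00011000000006b) (.leaf 0x700014000010009b)) (.node (.leaf 0x900017000000050c) (.leaf 0))) (.node (.node (.leaf 0x8000150000000064) (.leaf 0xa00016000000013b)) (.node (.leaf 0x8000150000000140) (.leaf 0)))) (.node (.node (.node (.leaf 0xa0001600001000c4) (.leaf 0x700016000000017b)) (.node (.leaf 0xa0001600000002c9) (.leaf 0))) (.node (.node (.leaf 0xa000160000100445) (.leaf 0)) (.node (.leaf 0x60001100000000ac) (.leaf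 0)))))) (.node (.node (.node (.node (.node (.leaf 0x600010000000041b) (.leaf 0x4000160000000421)) (.node (.leaf 0xd000160000000388) (.leaf 0))) (.node (.node (.leaf 0xd000160000000567) (.leaf 0xd0001700000003fc)) (.node (.leaf 0x6000110000000051) (.leaf 0)))) (.node (.node (.node (.leaf 0x8000100000100407) (.leaf 0xb000160000000172)) (.node (.leaf 0xb000170000000282) (.leaf 0))) (.node (.node (.leaf 0x700010000010002e) (.leaf 0)) (.node (.leaf 0x4000170000000520) (.leaf 0))))) (.node (.node (.node (.node (.leaf 0x500015000000004b) (.leaf 0xb000170000000379)) (.node (.leaf 0xc00016000000003c) (.leaf 0))) (.node (.node (.leaf 0x8000160000100539) (.leaf 0x60001600000001e1)) (.node (.leaf 0x7000160000000165) (.leaf 0)))) (.node (.node (.node (.leaf 0x5000110000100091) (.leaf 0xd0001600000000d6)) (.node (.leaf 0x4000170000000397) (.leaf 0))) (.node (.node (.leaf 0xb0001600000004da) (.leaf 0)) (.node (.leaf 0x20001100000000e0) (.leaf 0))))))) (.node (.node (.node (.node (.node (.node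 (.leaf 0x300011000000036d) (.leaf 0x90001500000003c1)) (.node (.leaf 0x1000160000000010) (.leaf 0))) (.node (.node (.leaf 0x80001600000003c6) (.leaf 0xe0001700001002c1)) (.node (.leaf 0x80001600000002da) (.leaf 0)))) (.node (.node (.node (.leaf 0x7000110000000087) (.leaf 0xa000160000000474)) (.node (.leaf 0x8000170000100392) (.leaf 0))) (.node (.node (.leaf 0x60001700000000c5) (.leaf 0)) (.node (.leaf 0x90001600001001f9) (.leaf 0))))) (.node (.node (.node (.node (.leaf 0x100013000010000a) (.leaf 0xb000160000100110)) (.node (.leaf 0x90001000000000a3) (.leaf 0))) (.node (.node (.leaf 0x80001600001003f0) (.leaf 0xb000160000100259)) (.node (.leaf 0x9000140000100144) (.leaf 0)))) (.node (.node (.node (.leaf 0xa0001600000003a9) (.leaf 0x700016000010046b)) (.node (.leaf 0xc0001700000003a8) (.leaf 0))) (.node (.node (.leaf 0xc000160000000011) (.leaf 0)) (.node (.leaf 0xa000170000000268) (.leaf 0)))))) (.node (.node (.node (.node (.node (.leaf 0x2000180000100030) (.leaf 0xb000160000100297))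 (.node (.leaf 0xa000170000100336) (.leaf 0))) (.node (.node (.leaf 0x60001100001003f2) (.leaf 0xd000170000100203)) (.node (.leaf 0xa000160000000373) (.leaf 0)))) (.node (.node (.node (.leaf 0x3000140000000020) (.leaf 0x40001400001000b3)) (.node (.leaf 0x90001000001003bd) (.leaf 0))) (.node (.node (.leaf 0xc00016000000037b) (.leaf 0)) (.node (.leaf 0x80001400000000dc) (.leaf 0))))) (.node (.node (.node (.node (.leaf 0x600014000000025f) (.leaf 0x8000160000100448)) (.node (.leaf 0x3000160000000288) (.leaf 0))) (.node (.node (.leaf 0xa000160000100490) (.leaf 0x2000170000000176)) (.node (.leaf 0x9000160000000376) (.leaf 0)))) (.node (.node (.node (.leaf 0xb0001600001003ff) (.leaf 0x900017000000024f)) (.node (.leaf 0xa00017000010013f) (.leaf 0))) (.node (.node (.leaf 0xe000160000100223) (.leaf 0)) (.node (.leaf 0x800014000000034f) (.leaf 0))))))))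

/-- part of a forest -/
def forest211 : Trie :=
  (.node (.node (.node (.node (.node (.node (.node (.leaf 0x14000000000b) (.leaf 0xa0001700000004e5)) (.node (.leaf 0xb000160000000247) (.leaf 0))) (.node (.node (.leaf 0xe0001700000002c1) (.leaf 0xc000170000100230)) (.node (.leaf 0xe000160000100507) (.leaf 0)))) (.node (.node (.node (.leaf 0x5000150000100310) (.leaf 0xd00017000000052c)) (.node (.leaf 0xa000170000100551) (.leaf 0))) (.node (.node (.leaf 0x700010000010041c) (.leaf 0)) (.node (.leaf 0xb0001600001004bb) (.leaf 0))))) (.node (.node (.node (.node (.leaf 0x40001500000000a5) (.leaf 0xa00016000010013b)) (.node (.leaf 0x90001700000004f5) (.leaf 0))) (.node (.node (.leaf 0x400010000000027a) (.leaf 0xd00016000000038e)) (.node (.leaf 0x8000150000100064) (.leaf 0)))) (.node (.node (.node (.leaf 0xb000160000000198) (.leaf 0x7000160000000337)) (.node (.leaf 0x30001500001003d6) (.leaf 0))) (.node (.node (.leaf 0xc00016000010020b) (.leaf 0)) (.node (.leaf 0xb0001600000000fb) (.leaf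 0)))))) (.node (.node (.node (.node (.node (.leaf 0x800011000010010c) (.leaf 0xc0001600000001e3)) (.node (.leaf 0xd00016000010054e) (.leaf 0))) (.node (.node (.leaf 0x6000170000000385) (.leaf 0x50001700001001fc)) (.node (.leaf 0xc0001600001002bb) (.leaf 0)))) (.node (.node (.node (.leaf 0x60001100000003c2) (.leaf 0xd00017000010032d)) (.node (.leaf 0xc0001600000004ca) (.leaf 0))) (.node (.node (.leaf 0xb00017000000028f) (.leaf 0)) (.node (.leaf 0xe000170000100240) (.leaf 0))))) (.node (.node (.node (.node (.leaf 0x900011000000031c) (.leaf 0x60001600000001d7)) (.node (.leaf 0x600016000000039f) (.leaf 0))) (.node (.node (.leaf 0x7000160000100337) (.leaf 0xb000170000100265)) (.node (.leaf 0x90001700000001d5) (.leaf 0)))) (.node (.node (.node (.leaf 0x8000160000000442) (.leaf 0xc00016000010037b)) (.node (.leaf 0x80001600000003f9) (.leaf 0))) (.node (.node (.leaf 0x9000170000100119) (.leaf 0)) (.node (.leaf 0x600015000010009f) (.leaf 0))))))) (.node (.node (.node (.node (.node (.node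 (.leaf 0x5000110000100021) (.leaf 0x50001000001002b2)) (.node (.leaf 0xa00016000010025a) (.leaf 0))) (.node (.node (.leaf 0xa000170000100079) (.leaf 0xb000160000000485)) (.node (.leaf 0x80001100000000e6) (.leaf 0)))) (.node (.node (.node (.leaf 0x600014000000031d) (.leaf 0xa000160000100373)) (.node (.leaf 0xf000160000100208) (.leaf 0))) (.node (.node (.leaf 0xe000160000000561) (.leaf 0)) (.node (.leaf 0x900017000000021e) (.leaf 0))))) (.node (.node (.node (.node (.leaf 0x1000190000100025) (.leaf 0x8000160000000562)) (.node (.leaf 0x9000150000000266) (.leaf 0))) (.node (.node (.leaf 0xc000170000000371) (.leaf 0x900016000000045e)) (.node (.leaf 0xc00016000010051b) (.leaf 0)))) (.node (.node (.node (.leaf 0x700014000000030d) (.leaf 0x900017000000043c)) (.node (.leaf 0xd00016000000042d) (.leaf 0))) (.node (.node (.leaf 0x1000160000100010) (.leaf 0)) (.node (.leaf 0x20001200000002cd) (.leaf 0)))))) (.node (.node (.node (.node (.node (.leaf 0x4000120000100086) (.leaf 0xc000170000000575))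 (.node (.leaf 0x70001600000004ae) (.leaf 0))) (.node (.node (.leaf 0x90001600000002a8) (.leaf 0x800017000000044e)) (.node (.leaf 0x600014000010012f) (.leaf 0)))) (.node (.node (.node (.leaf 0xa00017000000036e) (.leaf 0xa0001600000000fd)) (.node (.leaf 0xb00016000000055d) (.leaf 0))) (.node (.node (.leaf 0x700010000010008e) (.leaf 0)) (.node (.leaf 0x600014000000012f) (.leaf 0))))) (.node (.node (.node (.node (.leaf 0x3000100000000447) (.leaf 0xc0001700001001f4)) (.node (.leaf 0xb000160000000556) (.leaf 0))) (.node (.node (.leaf 0x60001600001001d7) (.leaf 0xe000170000000195)) (.node (.leaf 0xb000160000000378) (.leaf 0)))) (.node (.node (.node (.leaf 0xa0001600000003ad) (.leaf 0x4000100000100095)) (.node (.leaf 0xb000170000000265) (.leaf 0))) (.node (.node (.leaf 0xa0001600001002c4) (.leaf 0)) (.node (.leaf 0x9000160000100565) (.leaf 0))))))))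

/-- part of a forest -/
def forest27 : Trie :=
  (.node (.node (.node (.node (.node (.node (.node (.leaf 0x110000000007) (.leaf 0x70001000000000be)) (.node (.leaf 0xc0001700000004d4) (.leaf 0))) (.node (.node (.leaf 0x1000110000000007) (.leaf 0xd00016000000020e)) (.node (.leaf 0x40001700001001ca) (.leaf 0)))) (.node (.node (.node (.leaf 0x60001100001004cd) (.leaf 0x60001700000000d7)) (.node (.leaf 0xa000170000000503) (.leaf 0))) (.node (.node (.leaf 0x600015000000009f) (.leaf 0)) (.node (.leaf 0xe0001700000002fd) (.leaf 0))))) (.node (.node (.node (.node (.leaf 0x6000150000000186) (.leaf 0x2000100000100109)) (.node (.leaf 0xa000160000000304) (.leaf 0))) (.node (.node (.leaf 0xb00017000000016f) (.leaf 0xc00016000010046e)) (.node (.leaf 0x4000150000100169) (.leaf 0)))) (.node (.node (.node (.leaf 0xc0001700000001ab) (.leaf 0xb0001600000001c4)) (.node (.leaf 0xa00011000000018e) (.leaf 0))) (.node (.node (.leaf 0x90001600000002d7) (.leaf 0)) (.node (.leaf 0x20001400001001a1) (.leaf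 0)))))) (.node (.node (.node (.node (.node (.leaf 0x4000100000000095) (.leaf 0xb000160000100378)) (.node (.leaf 0xc000160000000574) (.leaf 0))) (.node (.node (.leaf 0xe0001700000000e9) (.leaf 0xd000160000100567)) (.node (.leaf 0x40001400000002ef) (.leaf 0)))) (.node (.node (.node (.leaf 0x6000100000100260) (.leaf 0xb00016000000015c)) (.node (.leaf 0xf000170000000387) (.leaf 0))) (.node (.node (.leaf 0x6000150000100063) (.leaf 0)) (.node (.leaf 0x80001100000004fa) (.leaf 0))))) (.node (.node (.node (.node (.leaf 0x90001100000000dd) (.leaf 0x30001600001003d8)) (.node (.leaf 0x6000140000000149) (.leaf 0))) (.node (.node (.leaf 0xa000160000100358) (.leaf 0xc000160000000384)) (.node (.leaf 0xc0001600001004ca) (.leaf 0)))) (.node (.node (.node (.leaf 0x8000100000000407) (.leaf 0x900017000010034d)) (.node (.leaf 0xd000170000100545) (.leaf 0))) (.node (.node (.leaf 0xa0001600001001ee) (.leaf 0)) (.node (.leaf 0x6000170000100528) (.leaf 0))))))) (.node (.node (.node (.node (.node (.node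 (.leaf 0x4000130000100049) (.leaf 0xe00016000010044f)) (.node (.leaf 0xe0001700001000f9) (.leaf 0))) (.node (.node (.leaf 0xb000160000000479) (.leaf 0xb00017000010057c)) (.node (.leaf 0x80001600000003f0) (.leaf 0)))) (.node (.node (.node (.leaf 0x70001100000003c3) (.leaf 0x700014000000001a)) (.node (.leaf 0xa0001600000001bd) (.leaf 0))) (.node (.node (.leaf 0xa000160000100038) (.leaf 0)) (.node (.leaf 0x3000170000100573) (.leaf 0))))) (.node (.node (.node (.node (.leaf 0x30001400000003c7) (.leaf 0xd00016000000035b)) (.node (.leaf 0xa00017000010051d) (.leaf 0))) (.node (.node (.leaf 0x7000160000100137) (.leaf 0x8000170000000405)) (.node (.leaf 0xd0001700000000cf) (.leaf 0)))) (.node (.node (.node (.leaf 0x50001700001003ca) (.leaf 0xe000170000100523)) (.node (.leaf 0x8000160000000302) (.leaf 0))) (.node (.node (.leaf 0x5000160000000370) (.leaf 0)) (.node (.leaf 0xf0001600001002f4) (.leaf 0)))))) (.node (.node (.node (.node (.node (.leaf 0x60001000000004bc) (.leaf 0xa00017000010042e))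 (.node (.leaf 0x8000100000100081) (.leaf 0))) (.node (.node (.leaf 0x6000160000000477) (.leaf 0xc0001700001004dd)) (.node (.leaf 0x60001600000002b9) (.leaf 0)))) (.node (.node (.node (.leaf 0xe0001700000002d8) (.leaf 0x500016000000051c)) (.node (.leaf 0xb0001600001000ba) (.leaf 0))) (.node (.node (.leaf 0xf000170000100116) (.leaf 0)) (.node (.leaf 0x70001400001001a8) (.leaf 0))))) (.node (.node (.node (.node (.leaf 0x4000190000100048) (.leaf 0x5000160000100423)) (.node (.leaf 0xd00016000010020e) (.leaf 0))) (.node (.node (.leaf 0xc000170000100164) (.leaf 0xb0001700001004f4)) (.node (.leaf 0x90001600000001b2) (.leaf 0)))) (.node (.node (.node (.leaf 0xc000170000000463) (.leaf 0xb0001600001004a4)) (.node (.leaf 0xd0001600000000f8) (.leaf 0))) (.node (.node (.leaf 0xb0001700001002c8) (.leaf 0)) (.node (.leaf 0xb000160000000543) (.leaf 0))))))))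

/-- part of a forest -/
def forest215 : Trie :=
  (.node (.node (.node (.node (.node (.node (.node (.leaf 0x1000120000100009) (.leaf 0xc000160000000454)) (.node (.leaf 0xa0001700000004b9) (.leaf 0))) (.node (.node (.leaf 0xb00017000000020f) (.leaf 0x9000170000100278)) (.node (.leaf 0x900010000010008d) (.leaf 0)))) (.node (.node (.node (.leaf 0x5000100000000028) (.leaf 0x9000160000100376)) (.node (.leaf 0xa0001700001001c5) (.leaf 0))) (.node (.node (.leaf 0xa00017000000013f) (.leaf 0)) (.node (.leaf 0xc00016000000024c) (.leaf 0))))) (.node (.node (.node (.node (.leaf 0x3000190000100070) (.leaf 0xd00016000000054f)) (.node (.leaf 0x8000170000100570) (.leaf 0))) (.node (.node (.leaf 0xb00017000000016c) (.leaf 0xc000160000100128)) (.node (.leaf 0x7000140000000073) (.leaf 0)))) (.node (.node (.node (.leaf 0xc0001700000004dd) (.leaf 0xc0001700000004f9)) (.node (.leaf 0xd00017000000033d) (.leaf 0))) (.node (.node (.leaf 0xb000160000000259) (.leaf 0)) (.node (.leaf 0xd0001600001004bd)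 (.leaf 0)))))) (.node (.node (.node (.node (.node (.leaf 0x500010000010014b) (.leaf 0xd0001600000004eb)) (.node (.leaf 0x6000150000000395) (.leaf 0))) (.node (.node (.leaf 0x5000140000000065) (.leaf 0x8000160000100363)) (.node (.leaf 0xe000170000100296) (.leaf 0)))) (.node (.node (.node (.leaf 0x80001000001003ea) (.leaf 0xb000160000000297)) (.node (.leaf 0x70001600001004ae) (.leaf 0))) (.node (.node (.leaf 0xc00016000010003c) (.leaf 0)) (.node (.leaf 0x20001300000003b1) (.leaf 0))))) (.node (.node (.node (.node (.leaf 0x50001400000000a9) (.leaf 0xd000160000000458)) (.node (.leaf 0x800016000010023b) (.leaf 0))) (.node (.node (.leaf 0xa000170000100170) (.leaf 0x9000160000000565)) (.node (.leaf 0xe0001600001004de) (.leaf 0)))) (.node (.node (.node (.leaf 0xd00017000000015b) (.leaf 0x80001000000003ea)) (.node (.leaf 0x300014000000043f) (.leaf 0))) (.node (.node (.leaf 0xa0001700000004b1) (.leaf 0)) (.node (.leaf 0xb000170000100544) (.leaf 0))))))) (.node (.node (.node (.node (.node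 (.node (.leaf 0xa000140000000088) (.leaf 0x60001700000000ce)) (.node (.leaf 0x800016000000019a) (.leaf 0))) (.node (.node (.leaf 0xb000170000100414) (.leaf 0xb0001600001003f6)) (.node (.leaf 0x3000180000000349) (.leaf 0)))) (.node (.node (.node (.leaf 0x500015000000004c) (.leaf 0x4000110000000279)) (.node (.leaf 0xe000160000100571) (.leaf 0))) (.node (.node (.leaf 0xa0001600001001de) (.leaf 0)) (.node (.leaf 0x50001600000002a6) (.leaf 0))))) (.node (.node (.node (.node (.leaf 0x5000140000100065) (.leaf 0x2000160000100213)) (.node (.leaf 0x50001400000004b3) (.leaf 0))) (.node (.node (.leaf 0xd00017000010015b) (.leaf 0x90001600001000eb)) (.node (.leaf 0x4000160000100273) (.leaf 0)))) (.node (.node (.node (.leaf 0x90001000001004ef) (.leaf 0xf0001600000002ae)) (.node (.leaf 0xd0001700001000c7) (.leaf 0))) (.node (.node (.leaf 0xb0001700000004f4) (.leaf 0)) (.node (.leaf 0x9000170000000475) (.leaf 0)))))) (.node (.node (.node (.node (.node (.leaf 0x6000100000000344) (.leaf 0x2000140000000146))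 (.node (.leaf 0xa000140000000353) (.leaf 0))) (.node (.node (.leaf 0x9000170000000281) (.leaf 0xa000170000000232)) (.node (.leaf 0xc0001600001004a3) (.leaf 0)))) (.node (.node (.node (.leaf 0x5000150000000062) (.leaf 0xc0001700001002a3)) (.node (.leaf 0x90001000000004ef) (.leaf 0))) (.node (.node (.leaf 0xb0001600000002ca) (.leaf 0)) (.node (.leaf 0x80001600000002af) (.leaf 0))))) (.node (.node (.node (.node (.leaf 0x400010000010007b) (.leaf 0xc0001700001003e4)) (.node (.leaf 0xf0001700000004e9) (.leaf 0))) (.node (.node (.leaf 0xb0001600001004da) (.leaf 0xd0001600000000ca)) (.node (.leaf 0xc000170000000100) (.leaf 0)))) (.node (.node (.node (.leaf 0x8000160000000448) (.leaf 0xa000160000000375)) (.node (.leaf 0xc00016000000017f) (.leaf 0))) (.node (.node (.leaf 0xb00016000000011c) (.leaf 0)) (.node (.leaf 0xa0001600000001ed) (.leaf 0))))))))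

/-- a forest -/
def forest2 : Trie :=
  (.node (.node (.node (.node forest20 forest28) (.node forest24 forest212)) (.node (.node forest22 forest210) (.node forest26 forest214))) (.node (.node (.node forest21 forest29) (.node forest25 forest213)) (.node (.node forest23 forest211) (.node forest27 forest215))))

/-- part of a tree -/
def node3L0tree0 : Trie :=
  (.node (.node (.node (.node (.node (.leaf 0x0) (.leaf 0xc)) (.node (.leaf 0x300004) (.leaf 0x12))) (.node (.node (.leaf 0x200001) (.leaf 0x30000f)) (.node (.leaf 0x8) (.leaf 0x300015)))) (.node (.node (.node (.leaf 0x200000) (.leaf 0xe)) (.node (.leaf 0x6) (.leaf 0x300014))) (.node (.node (.leaf 0x300002) (.leaf 0x11)) (.node (.leaf 0xa) (.leaf 0x300019))))) (.node (.node (.node (.node (.leaf 0x100000) (.leaf 0xd)) (.node (.leaf 0x5) (.leaf 0x300012))) (.node (.node (.leaf 0x300001) (.leaf 0x10)) (.node (.leaf 0x9) (.leaf 0x300017)))) (.node (.node (.node (.leaf 0x300000) (.leaf 0xf)) (.node (.leaf 0x7) (.leaf 0x15))) (.node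 (.node (.leaf 0x3) (.leaf 0x300011)) (.node (.leaf 0xb) (.leaf 0x30001c))))))

/-- a tree -/
def node3L0tree : Trie :=
  node3L0tree0

/-- part of transversal words -/
def node3L0word0 : Trie :=
  (.node (.node (.node (.node (.node (.leaf 0x0) (.leaf 0x764b2294c864)) (.node (.leaf 0x369d75a75d6da929) (.leaf 0x3522b136eb764))) (.node (.node (.leaf 0x149) (.leaf 0x4ecb256dd75bb22)) (.node (.leaf 0x89b4d350c96574c) (.leaf 0x8ab6a592bad994c)))) (.node (.node (.node (.leaf 0x5) (.leaf 0x226eb76432174c864)) (.node (.leaf 0x89b4d330c96574c) (.leaf 0x9b51452190baec))) (.node (.node (.leaf 0x369d75a75d6d9929) (.leaf 0x1a91586592b764)) (.node (.leaf 0x764b2194c864) (.leaf 0xa28a2914b29959))))) (.node (.node (.node (.node (.leaf 0x9) (.leaf 0x226eb6a432c85bb2b)) (.node (.leaf 0x11369a6a16dd2ec) (.leaf 0x8ab6a592bada94c))) (.node (.node (.leaf 0x6d3aeb4ebadb321) (.leaf 0x226eb76452174c864)) (.node (.leaf 0x3b25914a64325) (.leaf 0x9b51432190baec)))) (.node (.node (.node (.leaf 0x6d3aeb2ebadb321)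 (.leaf 0x1a9158a592b764)) (.node (.leaf 0x3b2590ca64325) (.leaf 0x3522b0b6eb764))) (.node (.node (.leaf 0x11369a6616dd2ec) (.leaf 0x4ecb256dd75bb21)) (.node (.leaf 0x226eb6a452c85bb2b) (.leaf 0xa28a290cb29959))))))

/-- transversal words -/
def node3L0word : Trie :=
  node3L0word0

/-- part of closing hints -/
def node3L0close0 : Trie :=
  (.node (.node (.node (.node (.node (.node (.node (.leaf 0x2004016000) (.leaf 0x15)) (.node (.leaf 0xc) (.leaf 0x6))) (.node (.node (.leaf 0x2004016004) (.leaf 0x2014)) (.node (.leaf 0x10) (.leaf 0x201c)))) (.node (.node (.node (.leaf 0x2004016002) (.leaf 0x18)) (.node (.leaf 0xe) (.leaf 0x101a))) (.node (.node (.leaf 0xa) (.leaf 0x5)) (.node (.leaf 0x12) (.leaf 0x101e))))) (.node (.node (.node (.node (.leaf 0x2004016001) (.leaf 0x16)) (.node (.leaf 0xd) (.leaf 0x2019))) (.node (.node (.leaf 0x9) (.leaf 0x1b)) (.node (.leaf 0x11) (.leaf 0x101d)))) (.node (.node (.node (.leaf 0x7) (.leaf 0x3)) (.node (.leaf 0xf) (.leaf 0x8))) (.node (.node (.leaf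 0xb) (.leaf 0x2017)) (.node (.leaf 0x13) (.leaf 0x101f)))))) (.node (.node (.node (.node (.node (.leaf 0x2) (.leaf 0xd)) (.node (.leaf 0x5) (.leaf 0x13))) (.node (.node (.leaf 0x1) (.leaf 0x19)) (.node (.leaf 0x9) (.leaf 0x17)))) (.node (.node (.node (.leaf 0x0) (.leaf 0xf)) (.node (.leaf 0x7) (.leaf 0x1e))) (.node (.node (.leaf 0x3) (.leaf 0x1b)) (.node (.leaf 0xb) (.leaf 0x1a))))) (.node (.node (.node (.node (.leaf 0x4) (.leaf 0x15)) (.node (.leaf 0xc) (.leaf 0x14))) (.node (.node (.leaf 0x8) (.leaf 0x11)) (.node (.leaf 0x10) (.leaf 0x1f)))) (.node (.node (.node (.leaf 0x6) (.leaf 0x18)) (.node (.leaf 0xe) (.leaf 0x16))) (.node (.node (.leaf 0xa) (.leaf 0x1c)) (.node (.leaf 0x12) (.leaf 0x1d))))))) (.node (.node (.node (.node (.node (.node (.leaf 0x1) (.leaf 0xe)) (.node (.leaf 0x6) (.leaf 0x1b))) (.node (.node (.leaf 0x2) (.leaf 0x17)) (.node (.leaf 0xa) (.leaf 0x19)))) (.node (.node (.node (.leaf 0x4) (.leaf 0x15)) (.node (.leaf 0xc) (.leaf 0x1d))) (.node (.node (.leaf 0x8)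 (.leaf 0x13)) (.node (.leaf 0x10) (.leaf 0x1f))))) (.node (.node (.node (.node (.leaf 0x0) (.leaf 0xf)) (.node (.leaf 0x7) (.leaf 0x1c))) (.node (.node (.leaf 0x3) (.leaf 0x12)) (.node (.leaf 0xb) (.leaf 0x1a)))) (.node (.node (.node (.leaf 0x5) (.leaf 0x16)) (.node (.leaf 0xd) (.leaf 0x18))) (.node (.node (.leaf 0x9) (.leaf 0x14)) (.node (.leaf 0x11) (.leaf 0x1e)))))) (.node (.node (.node (.node (.node (.leaf 0x3) (.leaf 0x1004004019015)) (.node (.leaf 0x100100201a004) (.leaf 0x100000d018))) (.node (.node (.leaf 0x8) (.leaf 0x1a)) (.node (.leaf 0x100400400e00c) (.leaf 0x1f)))) (.node (.node (.node (.leaf 0x6) (.leaf 0x19)) (.node (.leaf 0x100400400e00a) (.leaf 0x400002500b))) (.node (.node (.leaf 0x100100201a002) (.leaf 0x100000d016)) (.node (.leaf 0x1004004019012) (.leaf 0x400002500e))))) (.node (.node (.node (.node (.leaf 0x5) (.leaf 0x17)) (.node (.leaf 0x100400400e009) (.leaf 0x1e))) (.node (.node (.leaf 0x100100201a001) (.leaf 0x1c)) (.node (.leaf 0x1004004019011) (.leaf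 0x400002500d)))) (.node (.node (.node (.leaf 0x100100201a000) (.leaf 0x100000d013)) (.node (.leaf 0x100400401900f) (.leaf 0x100000d01b))) (.node (.node (.leaf 0x100400400e007) (.leaf 0x1d)) (.node (.leaf 0x14) (.leaf 0x4000025010))))))))

/-- closing hints -/
def node3L0close : Trie :=
  node3L0close0

/-- a level -/
def node3L0 : SLev := ⟨0, [0x5149144d985b661, 9, 5, 0x6d3aeb2ebadb321], node3L0tree, node3L0word, 32, node3L0close, [(29, 0), (28, 0)]⟩

/-- part of a tree -/
def node3L1tree0 : Trie :=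
  (.node (.node (.node (.node (.node (.node (.leaf 0x0) (.leaf 0x14)) (.node (.leaf 0x100007) (.leaf 0))) (.node (.node (.leaf 0x100003) (.leaf 0x1f)) (.node (.leaf 0xc) (.leaf 0)))) (.node (.node (.node (.leaf 0x100001) (.leaf 0x100018)) (.node (.leaf 0xa) (.leaf 0))) (.node (.node (.leaf 0x100005) (.leaf 0)) (.node (.leaf 0x10000f) (.leaf 0))))) (.node (.node (.node (.node (.leaf 0x100000) (.leaf 0x16)) (.node (.leaf 0x100008) (.leaf 0))) (.node (.node (.leaf 0x100004) (.leaf 0)) (.node (.leaf 0x10000d) (.leaf 0)))) (.node (.node (.node (.leaf 0x100002) (.leaf 0x100019)) (.node (.leaf 0xb) (.leaf 0))) (.node (.node (.leaf 0x100006) (.leaf 0)) (.node (.leaf 0x11) (.leaf 0)))))) (.node (.node (.node (.node (.node (.leaf 0x0) (.leaf 0x100015)) (.node (.leaf 0x8) (.leaf 0))) (.node (.node (.leaf 0x4) (.leaf 0x21)) (.node (.leaf 0xd) (.leaf 0)))) (.node (.node (.node (.leaf 0x2) (.leaf 0x19)) (.node (.leaf 0x10000a) (.leaf 0))) (.node (.node (.leaf 0x6) (.leaf 0)) (.node (.leaf 0x10)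 (.leaf 0))))) (.node (.node (.node (.node (.leaf 0x1) (.leaf 0x18)) (.node (.leaf 0x100009) (.leaf 0))) (.node (.node (.leaf 0x5) (.leaf 0)) (.node (.leaf 0xe) (.leaf 0)))) (.node (.node (.node (.leaf 0x3) (.leaf 0x1b)) (.node (.leaf 0x10000b) (.leaf 0))) (.node (.node (.leaf 0x7) (.leaf 0)) (.node (.leaf 0x12) (.leaf 0)))))))

/-- a tree -/
def node3L1tree : Trie :=
  node3L1tree0

/-- part of transversal words -/
def node3L1word0 : Trie :=
  (.node (.node (.node (.node (.node (.node (.leaf 0x0) (.leaf 0x52591495ba5bad9)) (.node (.leaf 0x1b2d96cb65b) (.leaf 0))) (.node (.node (.leaf 0x34d56d595baea92b) (.leaf 0x9a6996cb6cc)) (.node (.leaf 0x1148a29132cc30b) (.leaf 0)))) (.node (.node (.node (.leaf 0x1134d450b6cb659) (.leaf 0x9a89b52290b659659)) (.node (.leaf 0x9b4da69b2cc30c) (.leaf 0))) (.node (.node (.leaf 0x452269b5216cb2cc) (.leaf 0)) (.node (.leaf 0x45136a190b664) (.leaf 0))))) (.node (.node (.node (.node (.leaf 0x291352452190c30b) (.leaf 0x269b4da6596cb6cc)) (.node (.leaf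 0x14964b25859865) (.leaf 0))) (.node (.node (.leaf 0x1456269d6eb764) (.leaf 0)) (.node (.leaf 0x34d45226d9859664) (.leaf 0)))) (.node (.node (.node (.leaf 0x1a91430b2cc859) (.leaf 0x24b2292b74b75b)) (.node (.leaf 0x75d6a489d75bb2b) (.leaf 0))) (.node (.node (.leaf 0x144da8a16596cc) (.leaf 0)) (.node (.leaf 0x42db2d96cb) (.leaf 0)))))) (.node (.node (.node (.node (.node (.leaf 0x9a91489b321861) (.leaf 0x35245228a190c861)) (.node (.leaf 0x4d44da6d96642d9) (.leaf 0))) (.node (.node (.leaf 0x28a489b32190b) (.leaf 0x1226d36a430b65b)) (.node (.leaf 0x1451489b4cc321661) (.leaf 0)))) (.node (.node (.node (.leaf 0x6a489a9132d9861) (.leaf 0x229148a42cc85b)) (.node (.leaf 0x1148a289990c861) (.leaf 0))) (.node (.node (.leaf 0x34d489a6cc85990c) (.leaf 0)) (.node (.leaf 0x44da8a42d990b) (.leaf 0))))) (.node (.node (.node (.node (.leaf 0x4964b2592c4cc) (.leaf 0x135144cb2db2cc)) (.node (.leaf 0x1136a275badd6ea) (.leaf 0))) (.node (.node (.leaf 0x244da9142d96cc) (.leaf 0)) (.node (.leaf 0x69a8a190b664)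 (.leaf 0)))) (.node (.node (.node (.leaf 0x350cadd6eb764) (.leaf 0x3321659)) (.node (.leaf 0x2275b4eba596ebae9) (.leaf 0))) (.node (.node (.leaf 0x9a69b5216cb661) (.leaf 0)) (.node (.leaf 0x226d45226cb2d96cb) (.leaf 0)))))))

/-- transversal words -/
def node3L1word : Trie :=
  node3L1word0

/-- part of closing hints -/
def node3L1close0 : Trie :=
  (.node (.node (.node (.node (.node (.node (.node (.leaf 0x1) (.leaf 0x1003010)) (.node (.leaf 0x1d) (.leaf 0))) (.node (.node (.leaf 0x11) (.leaf 0x1004000004)) (.node (.leaf 0x23) (.leaf 0)))) (.node (.node (.node (.leaf 0x9) (.leaf 0x2001024)) (.node (.leaf 0x20) (.leaf 0))) (.node (.node (.leaf 0x18) (.leaf 0)) (.node (.leaf 0x100100100c) (.leaf 0))))) (.node (.node (.node (.node (.leaf 0x5) (.leaf 0x2)) (.node (.leaf 0x1f) (.leaf 0))) (.node (.node (.leaf 0x14) (.leaf 0)) (.node (.leaf 0x100501a) (.leaf 0)))) (.node (.node (.node (.leaf 0xd) (.leaf 0x100000001c)) (.node (.leaf 0x22) (.leaf 0))) (.node (.node (.leaf 0x1b) (.leaf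 0)) (.node (.leaf 0x1004005021) (.leaf 0)))))) (.node (.node (.node (.node (.node (.leaf 0x3) (.leaf 0x29)) (.node (.leaf 0x1e) (.leaf 0))) (.node (.node (.leaf 0x1002000012) (.leaf 0x1004004008)) (.node (.leaf 0x25) (.leaf 0)))) (.node (.node (.node (.leaf 0xb) (.leaf 0x1001000013)) (.node (.leaf 0x200100e) (.leaf 0))) (.node (.node (.leaf 0x19) (.leaf 0)) (.node (.leaf 0x100000400a) (.leaf 0))))) (.node (.node (.node (.node (.leaf 0x7) (.leaf 0x3026)) (.node (.leaf 0x3000006) (.leaf 0))) (.node (.node (.leaf 0x16) (.leaf 0)) (.node (.leaf 0x27) (.leaf 0)))) (.node (.node (.node (.leaf 0xf) (.leaf 0x1004002017)) (.node (.leaf 0x1002004015) (.leaf 0))) (.node (.node (.leaf 0x0) (.leaf 0)) (.node (.leaf 0x28) (.leaf 0))))))) (.node (.node (.node (.node (.node (.node (.leaf 0x2) (.leaf 0x1004004019)) (.node (.leaf 0x1001004018) (.leaf 0))) (.node (.node (.leaf 0x12) (.leaf 0x1003005020)) (.node (.leaf 0x24) (.leaf 0)))) (.node (.node (.node (.leaf 0xa) (.leaf 0x100200201f)) (.node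 (.leaf 0x2004003) (.leaf 0))) (.node (.node (.leaf 0x4001009) (.leaf 0)) (.node (.leaf 0x101e) (.leaf 0))))) (.node (.node (.node (.node (.leaf 0x6) (.leaf 0x1004000022)) (.node (.leaf 0x501b) (.leaf 0))) (.node (.node (.leaf 0x15) (.leaf 0)) (.node (.leaf 0x1003004025) (.leaf 0)))) (.node (.node (.node (.leaf 0xe) (.leaf 0x2029)) (.node (.leaf 0x1003005000) (.leaf 0))) (.node (.node (.leaf 0x3001016) (.leaf 0)) (.node (.leaf 0x4003027) (.leaf 0)))))) (.node (.node (.node (.node (.node (.leaf 0x4) (.leaf 0x1)) (.node (.leaf 0x1001001011) (.leaf 0))) (.node (.node (.leaf 0x13) (.leaf 0x1001001028)) (.node (.leaf 0x26) (.leaf 0)))) (.node (.node (.node (.leaf 0xc) (.leaf 0x400300b)) (.node (.leaf 0x21) (.leaf 0))) (.node (.node (.leaf 0x1a) (.leaf 0)) (.node (.leaf 0x3002005) (.leaf 0))))) (.node (.node (.node (.node (.leaf 0x8) (.leaf 0x200300f)) (.node (.leaf 0x100100501d) (.leaf 0))) (.node (.node (.leaf 0x17) (.leaf 0)) (.node (.leaf 0x2003014) (.leaf 0)))) (.node (.node (.node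 (.leaf 0x10) (.leaf 0x1023)) (.node (.leaf 0x100400500d) (.leaf 0))) (.node (.node (.leaf 0x1c) (.leaf 0)) (.node (.leaf 0x3007) (.leaf 0))))))))

/-- closing hints -/
def node3L1close : Trie :=
  node3L1close0

/-- a level -/
def node3L1 : SLev := ⟨6, [0x9a91489b321861, 0x291352452190c30b], node3L1tree, node3L1word, 42, node3L1close, [(39, 1), (17, 1)]⟩

/-- part of a tree -/
def node3L2tree0 : Trie :=
  (.node (.node (.node (.leaf 0x0) (.leaf 0x2)) (.node (.leaf 0x1) (.leaf 0))) (.node (.node (.leaf 0x0) (.leaf 0x100003)) (.node (.leaf 0x100001) (.leaf 0))))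

/-- a tree -/
def node3L2tree : Trie :=
  node3L2tree0

/-- part of transversal words -/
def node3L2word0 : Trie :=
  (.node (.node (.node (.leaf 0x0) (.leaf 0x136a28996cb661)) (.node (.leaf 0x135229142cb321) (.leaf 0))) (.node (.node (.leaf 0x1a6a48a430b664) (.leaf 0x9a9136cb661)) (.node (.leaf 0x6d48596cc859) (.leaf 0))))

/-- transversal words -/
def node3L2word : Trie :=
  node3L2word0

/-- part of closing hints -/
def node3L2close0 : Trie :=
  (.node (.node (.node (.node (.leaf 0x1) (.leaf 0x1000003)) (.node (.leaf 0x4) (.leaf 0))) (.node (.node (.leaf 0x2) (.leaf 0x1001005)) (.node (.leaf 0x1000000) (.leaf 0)))) (.node (.node (.node (.leaf 0x1001001) (.leaf 0x3004)) (.node (.leaf 0x1000) (.leaf 0))) (.node (.node (.leaf 0x3) (.leaf 0x2002)) (.node (.leaf 0x5) (.leaf 0)))))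

/-- closing hints -/
def node3L2close : Trie :=
  node3L2close0

/-- a level -/
def node3L2 : SLev := ⟨8, [0x1a6a48a430b664, 0x144da9144d9859659], node3L2tree, node3L2word, 6, node3L2close, [(2, 1), (5, 0)]⟩

/-- part of a tree -/
def node3L3tree0 : Trie :=
  (.node (.node (.node (.leaf 0x0) (.leaf 0x100002)) (.node (.leaf 0x100001) (.leaf 0))) (.node (.node (.leaf 0x0) (.leaf 0)) (.node (.leaf 0x2) (.leaf 0))))

/-- a tree -/
def node3L3tree : Trie :=
  node3L3tree0

/-- part of transversal words -/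
def node3L3word0 : Trie :=
  (.node (.node (.node (.leaf 0x0) (.leaf 0x34d45226d96cb30c)) (.node (.leaf 0x291369b66190b) (.leaf 0))) (.node (.node (.leaf 0x4dd92591495b75b) (.leaf 0)) (.node (.leaf 0x1a8a269986430c) (.leaf 0))))

/-- transversal words -/
def node3L3word : Trie :=
  node3L3word0

/-- part of closing hints -/
def node3L3close0 : Trie :=
  (.node (.node (.node (.node (.leaf 0x1) (.leaf 0x1004)) (.node (.leaf 0x3) (.leaf 0))) (.node (.node (.leaf 0x0) (.leaf 0)) (.node (.leaf 0x2) (.leaf 0)))) (.node (.node (.node (.leaf 0x1001) (.leaf 0x1003)) (.node (.leaf 0x4) (.leaf 0))) (.node (.node (.leaf 0x2) (.leaf 0)) (.node (.leaf 0x0) (.leaf 0)))))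

/-- closing hints -/
def node3L3close : Trie :=
  node3L3close0

/-- a level -/
def node3L3 : SLev := ⟨9, [0x4dd92591495b75b, 0x1a69b2cc30b2cc], node3L3tree, node3L3word, 5, node3L3close, [(4, 0)]⟩

/-- part of a tree -/
def node3L4tree0 : Trie :=
  (.node (.leaf 0x0) (.leaf 0x0))

/-- a tree -/
def node3L4tree : Trie :=
  node3L4tree0

/-- part of transversal words -/
def node3L4word0 : Trie :=
  (.node (.leaf 0x0) (.leaf 0x659659))

/-- transversal words -/
def node3L4word : Trie :=
  node3L4word0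

/-- part of closing hints -/
def node3L4close0 : Trie :=
  (.node (.leaf 0x1) (.leaf 0x0))

/-- closing hints -/
def node3L4close : Trie :=
  node3L4close0

/-- a level -/
def node3L4 : SLev := ⟨7, [0x659659], node3L4tree, node3L4word, 2, node3L4close, []⟩

/-- a chain -/
def node3 : List SLev := [node3L0, node3L1, node3L2, node3L3, node3L4]

/-- part of a forest -/
def forest30 : Trie :=
  (.node (.node (.node (.node (.node (.node (.node (.leaf 0x1a0000000000) (.leaf 0xb0001d000030042e)) (.node (.leaf 0xa0001d00000001de) (.leaf 0))) (.node (.node (.leaf 0xa0001d00000002ea) (.leaf 0x90001d00003002ba)) (.node (.leaf 0x90001d0000300216) (.leaf 0)))) (.node (.node (.node (.leaf 0x60001c000000002f) (.leaf 0x90001d000000028a)) (.node (.leaf 0x40001c0000000351) (.leaf 0))) (.node (.node (.leaf 0x80001d00003002a4) (.leaf 0)) (.node (.leaf 0x90001c0000000354) (.leaf 0))))) (.node (.node (.node (.node (.leaf 0x50001c00003000e8) (.leaf 0x60001c00003002f9)) (.node (.leaf 0x80001d00000001c0)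 (.leaf 0))) (.node (.node (.leaf 0xa0001d00000003b4) (.leaf 0x90001c000030003e)) (.node (.leaf 0x70001d000000036e) (.leaf 0)))) (.node (.node (.node (.leaf 0x60001a00003003b9) (.leaf 0x80001d00000004a4)) (.node (.leaf 0x60001c000000025c) (.leaf 0))) (.node (.node (.leaf 0x70001d0000000127) (.leaf 0)) (.node (.leaf 0x90001c0000000294) (.leaf 0)))))) (.node (.node (.node (.node (.node (.leaf 0x60001c00000000a9) (.leaf 0xb0001d00000004fd)) (.node (.leaf 0x80001c0000000309) (.leaf 0))) (.node (.node (.leaf 0x90001c0000000439) (.leaf 0x80001c00000001ae)) (.node (.leaf 0x60001b0000000069) (.leaf 0)))) (.node (.node (.node (.leaf 0xa0001d0000300172) (.leaf 0x80001d0000300340)) (.node (.leaf 0x70001c00003002c0) (.leaf 0))) (.node (.node (.leaf 0x90001d000000033b) (.leaf 0)) (.node (.leaf 0x60001b00003001bc) (.leaf 0))))) (.node (.node (.node (.node (.leaf 0x60001c000030010a) (.leaf 0x70001c00003000a3)) (.node (.leaf 0xc0001d00000003d9) (.leaf 0))) (.node (.node (.leaf 0xa0001d000000014d)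 (.leaf 0x80001c0000000471)) (.node (.leaf 0x80001d00003004b9) (.leaf 0)))) (.node (.node (.node (.leaf 0x20001c0000200031) (.leaf 0x80001c00000004c8)) (.node (.leaf 0x80001c0000000011) (.leaf 0))) (.node (.node (.leaf 0x90001d00000001b3) (.leaf 0)) (.node (.leaf 0xa0001d00000001f8) (.leaf 0))))))) (.node (.node (.node (.node (.node (.node (.leaf 0x70001c00003003a7) (.leaf 0xd0001d000000018b)) (.node (.leaf 0x60001c00003001f1) (.leaf 0))) (.node (.node (.leaf 0x80001c0000300074) (.leaf 0x80001c0000300335)) (.node (.leaf 0xa0001c0000000404) (.leaf 0)))) (.node (.node (.node (.leaf 0x20001c000000008e) (.leaf 0x70001c0000300284)) (.node (.leaf 0xa0001d0000300182) (.leaf 0))) (.node (.node (.leaf 0x80001d00000000c8) (.leaf 0)) (.node (.leaf 0x60001d00000004de) (.leaf 0))))) (.node (.node (.node (.node (.leaf 0x10001d0000100007) (.leaf 0x90001d0000000208)) (.node (.leaf 0xb0001d0000000262) (.leaf 0))) (.node (.node (.leaf 0x70001d000030036e) (.leaf 0x70001c0000000284)) (.node (.leaf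 0xa0001c000030047a) (.leaf 0)))) (.node (.node (.node (.leaf 0x70001d000030039c) (.leaf 0x90001d0000300409)) (.node (.leaf 0xa0001c00000004af) (.leaf 0))) (.node (.node (.leaf 0x80001c00000001cf) (.leaf 0)) (.node (.leaf 0x70001c0000300476) (.leaf 0)))))) (.node (.node (.node (.node (.node (.leaf 0x70001b0000000320) (.leaf 0x90001d000000001a)) (.node (.leaf 0xa0001d0000000182) (.leaf 0))) (.node (.node (.leaf 0x20001c000010008e) (.leaf 0x80001c0000300254)) (.node (.leaf 0x70001c00003000ef) (.leaf 0)))) (.node (.node (.node (.leaf 0x90001d0000300372) (.leaf 0x70001c00003001b9)) (.node (.leaf 0x60001c0000000174) (.leaf 0))) (.node (.node (.leaf 0x90001c00003000d2) (.leaf 0)) (.node (.leaf 0x50001c00003001fc) (.leaf 0))))) (.node (.node (.node (.node (.leaf 0x60001b00000000c2) (.leaf 0x60001c0000000573)) (.node (.leaf 0x90001c00003003a2) (.leaf 0))) (.node (.node (.leaf 0x80001c00003004a9) (.leaf 0x80001c0000300513)) (.node (.leaf 0x80001c0000300364) (.leaf 0)))) (.node (.node (.node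 (.leaf 0xa0001d0000000535) (.leaf 0xb0001d0000000383)) (.node (.leaf 0xa0001c0000000427) (.leaf 0))) (.node (.node (.leaf 0x80001c000000036f) (.leaf 0)) (.node (.leaf 0x70001c000000040f) (.leaf 0))))))))

/-- part of a forest -/
def forest38 : Trie :=
  (.node (.node (.node (.node (.node (.node (.node (.leaf 0xa0001d000030044f) (.leaf 0x70001d0000300445)) (.node (.leaf 0x80001d0000300569) (.leaf 0))) (.node (.node (.leaf 0x50001d0000000093) (.leaf 0x70001c00000002b0)) (.node (.leaf 0xa0001d0000300032) (.leaf 0)))) (.node (.node (.node (.leaf 0x40001c0000000145) (.leaf 0xb0001c00000003fe)) (.node (.leaf 0x40001d00000002b9) (.leaf 0))) (.node (.node (.leaf 0x20001a0000300003) (.leaf 0)) (.node (.leaf 0x90001d000000038f) (.leaf 0))))) (.node (.node (.node (.node (.leaf 0x30001a000000031e) (.leaf 0x90001c00000001c7)) (.node (.leaf 0x70001c0000000392) (.leaf 0))) (.node (.node (.leaf 0x80001c00003002a8) (.leaf 0xa0001d0000300411)) (.node (.leaf 0x70001a00003000c0) (.leaf 0)))) (.node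 (.node (.node (.leaf 0x70001d0000000390) (.leaf 0x70001c000000054a)) (.node (.leaf 0xb0001d000000052c) (.leaf 0))) (.node (.node (.leaf 0x80001c000030034b) (.leaf 0)) (.node (.leaf 0xb0001d00000001db) (.leaf 0)))))) (.node (.node (.node (.node (.node (.leaf 0x60001c000000041b) (.leaf 0xc0001d0000300223)) (.node (.leaf 0x80001d00003003e2) (.leaf 0))) (.node (.node (.leaf 0x90001c000000014c) (.leaf 0x70001c0000300080)) (.node (.leaf 0xa0001c0000300297) (.leaf 0)))) (.node (.node (.node (.leaf 0x40001c00000003b3) (.leaf 0xb0001d000000017b)) (.node (.leaf 0x70001c000030037d) (.leaf 0))) (.node (.node (.leaf 0xb0001d000000030d) (.leaf 0)) (.node (.leaf 0x90001d000000040d) (.leaf 0))))) (.node (.node (.node (.node (.leaf 0x40001a00000003db) (.leaf 0x90001c0000300510)) (.node (.leaf 0x70001c0000300470) (.leaf 0))) (.node (.node (.leaf 0x90001d0000300360) (.leaf 0x90001d000030001a)) (.node (.leaf 0xa0001d000000034d) (.leaf 0)))) (.node (.node (.node (.leaf 0x40001c000020000d) (.leaf 0x90001d0000300435))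 (.node (.leaf 0x90001c00000002e0) (.leaf 0))) (.node (.node (.leaf 0x80001c00000003ac) (.leaf 0)) (.node (.leaf 0x60001d0000000382) (.leaf 0))))))) (.node (.node (.node (.node (.node (.node (.leaf 0x50001d000030049d) (.leaf 0x90001c0000000454)) (.node (.leaf 0x80001d000000032d) (.leaf 0))) (.node (.node (.leaf 0xa0001c0000000468) (.leaf 0xb0001d000030005d)) (.node (.leaf 0xa0001d000030048b) (.leaf 0)))) (.node (.node (.node (.leaf 0x90001d00000000a6) (.leaf 0x90001d0000300258)) (.node (.leaf 0x90001c00000004e3) (.leaf 0))) (.node (.node (.leaf 0x90001d0000300044) (.leaf 0)) (.node (.leaf 0x70001d000030012c) (.leaf 0))))) (.node (.node (.node (.node (.leaf 0x50001c0000300213) (.leaf 0x70001d00003004a5)) (.node (.leaf 0x80001d0000300416) (.leaf 0))) (.node (.node (.leaf 0x20001c000030008e) (.leaf 0x60001d000000023c)) (.node (.leaf 0x80001d0000300458) (.leaf 0)))) (.node (.node (.node (.leaf 0xa0001c0000000113) (.leaf 0x90001d0000000315)) (.node (.leaf 0x80001d0000300537) (.leaf 0)))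 (.node (.node (.leaf 0x90001c000000048c) (.leaf 0)) (.node (.leaf 0x90001c00003001c4) (.leaf 0)))))) (.node (.node (.node (.node (.node (.leaf 0x60001c00003001d6) (.leaf 0x60001c00003000ce)) (.node (.leaf 0x70001c0000000210) (.leaf 0))) (.node (.node (.leaf 0xb0001d0000300443) (.leaf 0x90001d0000300343)) (.node (.leaf 0x50001c0000300046) (.leaf 0)))) (.node (.node (.node (.leaf 0x90001c0000300370) (.leaf 0xb0001d00000002c1)) (.node (.leaf 0x80001c000000021e) (.leaf 0))) (.node (.node (.leaf 0x80001c00003000fe) (.leaf 0)) (.node (.leaf 0x50001b0000000049) (.leaf 0))))) (.node (.node (.node (.node (.leaf 0x30001a0000000188) (.leaf 0x60001c0000300036)) (.node (.leaf 0x90001d00003002ef) (.leaf 0))) (.node (.node (.leaf 0x20001d0000300323) (.leaf 0x70001c0000000470)) (.node (.leaf 0x80001d00000004da) (.leaf 0)))) (.node (.node (.node (.leaf 0x90001d0000000304) (.leaf 0xb0001d0000000491)) (.node (.leaf 0x70001c00000000ef) (.leaf 0))) (.node (.node (.leaf 0x90001d0000000117) (.leaf 0))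 (.node (.leaf 0x70001c0000300060) (.leaf 0))))))))

/-- part of a forest -/
def forest34 : Trie :=
  (.node (.node (.node (.node (.node (.node (.node (.leaf 0x10001a0000200000) (.leaf 0x90001c0000000316)) (.node (.leaf 0x50001a000030016e) (.leaf 0))) (.node (.node (.leaf 0x60001c000000049c) (.leaf 0x50001c0000300088)) (.node (.leaf 0x80001d0000300546) (.leaf 0)))) (.node (.node (.node (.leaf 0x20001c00000000b4) (.leaf 0x70001c000000050b)) (.node (.leaf 0x60001c0000000205) (.leaf 0))) (.node (.node (.leaf 0x80001c0000300209) (.leaf 0)) (.node (.leaf 0xa0001c0000300345) (.leaf 0))))) (.node (.node (.node (.node (.leaf 0x80001d0000000092) (.leaf 0x80001d00003000e6)) (.node (.leaf 0x90001c0000000159) (.leaf 0))) (.node (.node (.leaf 0x60001c0000000141) (.leaf 0x90001d0000300075)) (.node (.leaf 0xb0001d000000032a) (.leaf 0)))) (.node (.node (.node (.leaf 0x90001d00000001af) (.leaf 0xa0001d000000018f)) (.node (.leaf 0x60001c000030049c) (.leaf 0))) (.node (.node (.leaf 0x80001c00003002b1)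 (.leaf 0)) (.node (.leaf 0x80001c0000300460) (.leaf 0)))))) (.node (.node (.node (.node (.node (.leaf 0x40001b000000031f) (.leaf 0x80001d00003001c2)) (.node (.leaf 0x80001c00000003ed) (.leaf 0))) (.node (.node (.leaf 0x90001c0000000277) (.leaf 0x70001c00000002d5)) (.node (.leaf 0xc0001d00003002a7) (.leaf 0)))) (.node (.node (.node (.leaf 0x60001d00000003c1) (.leaf 0x70001d0000000155)) (.node (.leaf 0x70001d0000000407) (.leaf 0))) (.node (.node (.leaf 0x40001b0000000016) (.leaf 0)) (.node (.leaf 0x70001d00003002e6) (.leaf 0))))) (.node (.node (.node (.node (.leaf 0x90001d0000000099) (.leaf 0x90001c000030021a)) (.node (.leaf 0x90001c000000033c) (.leaf 0))) (.node (.node (.leaf 0x40001d00003003c7) (.leaf 0x80001c00003001fa)) (.node (.leaf 0x70001c00003004b7) (.leaf 0)))) (.node (.node (.node (.leaf 0x30001c0000100090) (.leaf 0x40001d00002003ba)) (.node (.leaf 0x70001d000030005f) (.leaf 0))) (.node (.node (.leaf 0x50001c000000050c) (.leaf 0)) (.node (.leaf 0x50001d000000049d) (.leaf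 0))))))) (.node (.node (.node (.node (.node (.node (.leaf 0x70001d0000000558) (.leaf 0x80001d00003001c0)) (.node (.leaf 0x90001c00003004e3) (.leaf 0))) (.node (.node (.leaf 0x80001c000030021e) (.leaf 0x80001c00003003ac)) (.node (.leaf 0x90001c00003004d5) (.leaf 0)))) (.node (.node (.node (.leaf 0x70001c00000000a3) (.leaf 0x50001c00003000c9)) (.node (.leaf 0x80001c00000003f8) (.leaf 0))) (.node (.node (.leaf 0x40001d000000017c) (.leaf 0)) (.node (.leaf 0xb0001d00003002fe) (.leaf 0))))) (.node (.node (.node (.node (.leaf 0x70001d00000002e6) (.leaf 0x80001c00000003a6)) (.node (.leaf 0x70001c000030020d) (.leaf 0))) (.node (.node (.leaf 0x60001c00003003b0) (.leaf 0x70001c000000020d)) (.node (.leaf 0x80001c0000000490) (.leaf 0)))) (.node (.node (.node (.leaf 0x90001d000030033b) (.leaf 0x70001c0000300028)) (.node (.leaf 0x70001c000030051b) (.leaf 0))) (.node (.node (.leaf 0xa0001c00000002eb) (.leaf 0)) (.node (.leaf 0x60001c0000000040) (.leaf 0)))))) (.node (.node (.node (.node (.node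 (.leaf 0x80001d0000000416) (.leaf 0x60001c00003003e1)) (.node (.leaf 0x90001d0000300291) (.leaf 0))) (.node (.node (.leaf 0x70001c000000008c) (.leaf 0x80001c0000300089)) (.node (.leaf 0x60001c0000000338) (.leaf 0)))) (.node (.node (.node (.leaf 0x10001c0000300006) (.leaf 0x70001c000000015b)) (.node (.leaf 0x90001c0000000556) (.leaf 0))) (.node (.node (.leaf 0x90001d00000001c5) (.leaf 0)) (.node (.leaf 0x90001d0000000343) (.leaf 0))))) (.node (.node (.node (.node (.leaf 0x70001c0000000352) (.leaf 0xa0001d000000043a)) (.node (.leaf 0x90001c0000300520) (.leaf 0))) (.node (.node (.leaf 0x50001c000030011f) (.leaf 0x90001c000000049b)) (.node (.leaf 0x80001c000030046a) (.leaf 0)))) (.node (.node (.node (.leaf 0x60001c000030004e) (.leaf 0x60001c000000039d)) (.node (.leaf 0xa0001d0000300501) (.leaf 0))) (.node (.node (.leaf 0x70001c0000300144) (.leaf 0)) (.node (.leaf 0x30001c000000018d) (.leaf 0))))))))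

/-- part of a forest -/
def forest312 : Trie :=
  (.node (.node (.node (.node (.node (.node (.node (.leaf 0xa0001d000030031b) (.leaf 0x80001c00003001f6)) (.node (.leaf 0x90001c00003002ac) (.leaf 0))) (.node (.node (.leaf 0xa0001c000000001b) (.leaf 0x40001c0000000509)) (.node (.leaf 0xa0001d00000004fb) (.leaf 0)))) (.node (.node (.node (.leaf 0x60001c000000004e) (.leaf 0x80001c0000000010)) (.node (.leaf 0x60001c00003000a9) (.leaf 0))) (.node (.node (.leaf 0x90001d00003002d8) (.leaf 0)) (.node (.leaf 0x80001c00000001fa) (.leaf 0))))) (.node (.node (.node (.node (.leaf 0x80001d000030037b) (.leaf 0x50001c00003000a7)) (.node (.leaf 0x90001d0000300190) (.leaf 0))) (.node (.node (.leaf 0x80001c0000300552) (.leaf 0x70001c0000000331)) (.node (.leaf 0xa0001c000000034e) (.leaf 0)))) (.node (.node (.node (.leaf 0x90001c00000001e8) (.leaf 0x90001c000030057c)) (.node (.leaf 0xc0001d000030045b) (.leaf 0))) (.node (.node (.leaf 0x70001d0000300303) (.leaf 0)) (.node (.leaf 0x80001c00000004d7)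 (.leaf 0)))))) (.node (.node (.node (.node (.node (.leaf 0x20001b0000200002) (.leaf 0x80001c00003004f9)) (.node (.leaf 0x70001c0000300056) (.leaf 0))) (.node (.node (.leaf 0x60001d00000003f5) (.leaf 0xa0001d00003004fb)) (.node (.leaf 0xc0001d0000000250) (.leaf 0)))) (.node (.node (.node (.leaf 0x50001d000030015d) (.leaf 0xa0001c00003003c0)) (.node (.leaf 0x80001c0000000287) (.leaf 0))) (.node (.node (.leaf 0x50001d0000300143) (.leaf 0)) (.node (.leaf 0x70001c00003004dd) (.leaf 0))))) (.node (.node (.node (.node (.leaf 0x90001d000030055a) (.leaf 0x80001c00003002a0)) (.node (.leaf 0x50001c00000001fc) (.leaf 0))) (.node (.node (.leaf 0xb0001d000000053e) (.leaf 0x70001d0000000269)) (.node (.leaf 0xb0001d0000000342) (.leaf 0)))) (.node (.node (.node (.leaf 0x90001c0000000071) (.leaf 0x60001d000000021f)) (.node (.leaf 0x90001d00003003d5) (.leaf 0))) (.node (.node (.leaf 0xb0001d00003002bf) (.leaf 0)) (.node (.leaf 0xb0001d0000300299) (.leaf 0))))))) (.node (.node (.node (.node (.node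 (.node (.leaf 0xa0001d000030014b) (.leaf 0x20001c00003000b4)) (.node (.leaf 0x50001c000030004d) (.leaf 0))) (.node (.node (.leaf 0x40001d000030017c) (.leaf 0x50001c0000300280)) (.node (.leaf 0x70001d00003004ca) (.leaf 0)))) (.node (.node (.node (.leaf 0x80001d000000008b) (.leaf 0x50001c00000002dd)) (.node (.leaf 0xa0001d00003002fa) (.leaf 0))) (.node (.node (.leaf 0xa0001d00003002a9) (.leaf 0)) (.node (.leaf 0x60001d000030047e) (.leaf 0))))) (.node (.node (.node (.node (.leaf 0xa0001c0000300325) (.leaf 0x70001c0000300579)) (.node (.leaf 0x50001c00003003f2) (.leaf 0))) (.node (.node (.leaf 0x90001d0000000444) (.leaf 0x90001c0000000326)) (.node (.leaf 0x60001d00003001f9) (.leaf 0)))) (.node (.node (.node (.leaf 0x70001c000000006e) (.leaf 0x80001c0000300578)) (.node (.leaf 0x80001d0000300014) (.leaf 0))) (.node (.node (.leaf 0x70001d0000300273) (.leaf 0)) (.node (.leaf 0xb0001d000030030c) (.leaf 0)))))) (.node (.node (.node (.node (.node (.leaf 0x90001c0000300543) (.leaf 0x80001c00000002f6))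 (.node (.leaf 0x50001d0000000251) (.leaf 0))) (.node (.node (.leaf 0xb0001d0000000189) (.leaf 0x60001d000030026f)) (.node (.leaf 0x80001c00000000fd) (.leaf 0)))) (.node (.node (.node (.leaf 0xc0001d000000013c) (.leaf 0x20001d0000200323)) (.node (.leaf 0x70001d000000054e) (.leaf 0))) (.node (.node (.leaf 0x50001b00003001a4) (.leaf 0)) (.node (.leaf 0x90001c000030011d) (.leaf 0))))) (.node (.node (.node (.node (.leaf 0xa0001c00003002b4) (.leaf 0x60001d00000001ac)) (.node (.leaf 0x30001d00003004bc) (.leaf 0))) (.node (.node (.leaf 0x30001d0000000178) (.leaf 0x80001c0000000513)) (.node (.leaf 0x70001c000030009b) (.leaf 0)))) (.node (.node (.node (.leaf 0x90001c0000000165) (.leaf 0x50001c00003000a8)) (.node (.leaf 0x50001c000000046b) (.leaf 0))) (.node (.node (.leaf 0x40001c0000300066) (.leaf 0)) (.node (.leaf 0x70001d00000002d2) (.leaf 0))))))))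

/-- part of a forest -/
def forest32 : Trie :=
  (.node (.node (.node (.node (.node (.node (.node (.leaf 0x10001b0000100001) (.leaf 0x80001c00003001a5)) (.node (.leaf 0x80001d0000300397) (.leaf 0))) (.node (.node (.leaf 0xa0001d00003001a0) (.leaf 0x70001c0000300193)) (.node (.leaf 0x70001c00000003d4) (.leaf 0)))) (.node (.node (.node (.leaf 0x70001d00000000a5) (.leaf 0xa0001c00000003d6)) (.node (.leaf 0xb0001d000000016f) (.leaf 0))) (.node (.node (.leaf 0x90001d0000000180) (.leaf 0)) (.node (.leaf 0x50001d00003002b2) (.leaf 0))))) (.node (.node (.node (.node (.leaf 0x40001d0000000132) (.leaf 0x80001c00000003e5)) (.node (.leaf 0x70001d00003001fe) (.leaf 0))) (.node (.node (.leaf 0x90001d000030021b) (.leaf 0xb0001c00003002d0)) (.node (.leaf 0xa0001d0000000568) (.leaf 0)))) (.node (.node (.node (.leaf 0x50001b0000000077) (.leaf 0x60001c000030001f)) (.node (.leaf 0xa0001d0000300181) (.leaf 0))) (.node (.node (.leaf 0x70001d000030037e) (.leaf 0)) (.node (.leaf 0x80001d00003004a3) (.leaf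 0)))))) (.node (.node (.node (.node (.node (.leaf 0xb0001d00003000f0) (.leaf 0x60001c00003001e4)) (.node (.leaf 0x60001c000030041b) (.leaf 0))) (.node (.node (.leaf 0x80001c000000045c) (.leaf 0xc0001d00000002c8)) (.node (.leaf 0x90001d00000003c2) (.leaf 0)))) (.node (.node (.node (.leaf 0x40001c00003003d1) (.leaf 0x60001c00000001f1)) (.node (.leaf 0x80001d0000000492) (.leaf 0))) (.node (.node (.leaf 0x70001c00003001da) (.leaf 0)) (.node (.leaf 0x80001c000000039b) (.leaf 0))))) (.node (.node (.node (.node (.leaf 0x50001d0000100042) (.leaf 0x70001d0000000273)) (.node (.leaf 0xa0001d00000004e9) (.leaf 0))) (.node (.node (.leaf 0xb0001d00003002c2) (.leaf 0x90001d00000002ba)) (.node (.leaf 0x90001d0000000075) (.leaf 0)))) (.node (.node (.node (.leaf 0x80001d00000002e7) (.leaf 0x70001d0000300079)) (.node (.leaf 0x70001c0000000104) (.leaf 0))) (.node (.node (.leaf 0x70001c0000000334) (.leaf 0)) (.node (.leaf 0x70001d00000003e8) (.leaf 0))))))) (.node (.node (.node (.node (.node (.node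 (.leaf 0xa0001d000000014b) (.leaf 0xa0001c00003002e9)) (.node (.leaf 0x90001d00003002a2) (.leaf 0))) (.node (.node (.leaf 0xa0001d00003000d4) (.leaf 0xb0001d0000300160)) (.node (.leaf 0xa0001d0000000267) (.leaf 0)))) (.node (.node (.node (.leaf 0x70001d00000000aa) (.leaf 0x70001d0000300407)) (.node (.leaf 0x60001a0000300204) (.leaf 0))) (.node (.node (.leaf 0x70001c0000300392) (.leaf 0)) (.node (.leaf 0x60001c000030028b) (.leaf 0))))) (.node (.node (.node (.node (.leaf 0x90001d0000300505) (.leaf 0x60001c000000053b)) (.node (.leaf 0xc0001d00000003dc) (.leaf 0))) (.node (.node (.leaf 0xa0001d0000300391) (.leaf 0x70001c000000037d)) (.node (.leaf 0x60001c000000016d) (.leaf 0)))) (.node (.node (.node (.leaf 0x80001c000030045c) (.leaf 0x90001d0000300208)) (.node (.leaf 0x60001d0000300353) (.leaf 0))) (.node (.node (.leaf 0xa0001d00000001b4) (.leaf 0)) (.node (.leaf 0xb0001d0000000389) (.leaf 0)))))) (.node (.node (.node (.node (.node (.leaf 0x90001d00003001e3) (.leaf 0x90001c00000003e3))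 (.node (.leaf 0xa0001d0000000278) (.leaf 0))) (.node (.node (.leaf 0x30001d0000000107) (.leaf 0x70001d000030009d)) (.node (.leaf 0xa0001d0000000173) (.leaf 0)))) (.node (.node (.node (.leaf 0x70001c000000009b) (.leaf 0xa0001d0000000057)) (.node (.leaf 0x40001d0000200132) (.leaf 0))) (.node (.node (.leaf 0xb0001d00000004df) (.leaf 0)) (.node (.leaf 0x60001c000000004a) (.leaf 0))))) (.node (.node (.node (.node (.leaf 0x80001c0000300238) (.leaf 0x80001c0000000119)) (.node (.leaf 0xa0001d0000000461) (.leaf 0))) (.node (.node (.leaf 0x90001d0000300099) (.leaf 0xb0001d00000002e3)) (.node (.leaf 0x80001d0000300092) (.leaf 0)))) (.node (.node (.node (.leaf 0x90001c000030043c) (.leaf 0xa0001c00003000fc)) (.node (.leaf 0xb0001d00003000ad) (.leaf 0))) (.node (.node (.leaf 0x70001c0000000256) (.leaf 0)) (.node (.leaf 0x40001c0000300449) (.leaf 0))))))))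

/-- part of a forest -/
def forest310 : Trie :=
  (.node (.node (.node (.node (.node (.node (.node (.leaf 0x60001b00000003b8) (.leaf 0xa0001d0000300052)) (.node (.leaf 0x80001c0000000484) (.leaf 0))) (.node (.node (.leaf 0x50001c000020006f) (.leaf 0xb0001d0000000415)) (.node (.leaf 0x10001b0000300001) (.leaf 0)))) (.node (.node (.node (.leaf 0xa0001d0000000032) (.leaf 0xa0001d00003002df)) (.node (.leaf 0x80001d00000004a3) (.leaf 0))) (.node (.node (.leaf 0x60001c000000052a) (.leaf 0)) (.node (.leaf 0x80001c0000300119) (.leaf 0))))) (.node (.node (.node (.node (.leaf 0x50001c00000000a8) (.leaf 0x80001d0000300497)) (.node (.leaf 0x90001d00000002ad) (.leaf 0))) (.node (.node (.leaf 0x50001c000000025e) (.leaf 0x60001c000000026c)) (.node (.leaf 0x60001c0000300338) (.leaf 0)))) (.node (.node (.node (.leaf 0xa0001d0000300500) (.leaf 0x60001d000000026f)) (.node (.leaf 0x80001c00003002da) (.leaf 0))) (.node (.node (.leaf 0xa0001d0000300267) (.leaf 0)) (.node (.leaf 0x90001c0000000114)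 (.leaf 0)))))) (.node (.node (.node (.node (.node (.leaf 0x60001d00000000ac) (.leaf 0x80001d0000300246)) (.node (.leaf 0x50001d0000300251) (.leaf 0))) (.node (.node (.leaf 0xb0001d0000000487) (.leaf 0x50001c000030025e)) (.node (.leaf 0xa0001d000000007b) (.leaf 0)))) (.node (.node (.node (.leaf 0x60001d0000000108) (.leaf 0xb0001d0000300083)) (.node (.leaf 0x70001c000030047f) (.leaf 0))) (.node (.node (.leaf 0xb0001d000000024d) (.leaf 0)) (.node (.leaf 0x70001d00000004ec) (.leaf 0))))) (.node (.node (.node (.node (.leaf 0x60001c00000000a1) (.leaf 0x70001c000000047f)) (.node (.leaf 0x70001d000030053c) (.leaf 0))) (.node (.node (.leaf 0xa0001d0000300498) (.leaf 0x70001c0000000116)) (.node (.leaf 0x70001c00003000c3) (.leaf 0)))) (.node (.node (.node (.leaf 0x90001c0000300167) (.leaf 0x80001d00000003a4)) (.node (.leaf 0x90001d0000000211) (.leaf 0))) (.node (.node (.leaf 0x80001d00000002bc) (.leaf 0)) (.node (.leaf 0xa0001d00000004d8) (.leaf 0))))))) (.node (.node (.node (.node (.node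 (.node (.leaf 0x80001d0000000327) (.leaf 0x80001d00000001c2)) (.node (.leaf 0x80001c00000002aa) (.leaf 0))) (.node (.node (.leaf 0x80001d0000000495) (.leaf 0xb0001d00000004a1)) (.node (.leaf 0xb0001c00000003bd) (.leaf 0)))) (.node (.node (.node (.leaf 0x80001c00000001a2) (.leaf 0xb0001d0000300059)) (.node (.leaf 0x70001c0000300104) (.leaf 0))) (.node (.node (.leaf 0xb0001d0000300247) (.leaf 0)) (.node (.leaf 0x90001d000030035b) (.leaf 0))))) (.node (.node (.node (.node (.leaf 0x30001a0000000017) (.leaf 0x80001c0000000335)) (.node (.leaf 0x80001c000030022f) (.leaf 0))) (.node (.node (.leaf 0x90001d00003001b3) (.leaf 0x80001d0000000553)) (.node (.leaf 0x80001c0000300309) (.leaf 0)))) (.node (.node (.node (.leaf 0xa0001c000030023e) (.leaf 0x70001d00003000aa)) (.node (.leaf 0x70001c00000002c4) (.leaf 0))) (.node (.node (.leaf 0x60001c000030004a) (.leaf 0)) (.node (.leaf 0xd0001d0000300486) (.leaf 0)))))) (.node (.node (.node (.node (.node (.leaf 0x40001a0000000078) (.leaf 0x90001d00000004c0))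 (.node (.leaf 0x90001c0000300402) (.leaf 0))) (.node (.node (.leaf 0x90001c00003002db) (.leaf 0x90001c000030057a)) (.node (.leaf 0x80001d00003003a4) (.leaf 0)))) (.node (.node (.node (.leaf 0xa0001c000000013a) (.leaf 0x80001c0000000550)) (.node (.leaf 0x80001d00000000d0) (.leaf 0))) (.node (.node (.leaf 0x90001c0000000543) (.leaf 0)) (.node (.leaf 0x30001d0000100107) (.leaf 0))))) (.node (.node (.node (.node (.leaf 0x90001c0000300277) (.leaf 0x90001c00000002c9)) (.node (.leaf 0x80001d00000002a4) (.leaf 0))) (.node (.node (.leaf 0x80001c0000000192) (.leaf 0x80001c00000004f9)) (.node (.leaf 0x90001c0000000170) (.leaf 0)))) (.node (.node (.node (.leaf 0x90001c00000004f5) (.leaf 0x40001c0000300351)) (.node (.leaf 0x90001d0000000147) (.leaf 0))) (.node (.node (.leaf 0x70001c0000300334) (.leaf 0)) (.node (.leaf 0x60001d0000300382) (.leaf 0))))))))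

/-- part of a forest -/
def forest36 : Trie :=
  (.node (.node (.node (.node (.node (.node (.node (.leaf 0x1c0000000006) (.leaf 0x70001c0000000020)) (.node (.leaf 0x70001d000030056e) (.leaf 0))) (.node (.node (.leaf 0x60001b00003003b8) (.leaf 0x70001c00000004dd)) (.node (.leaf 0x90001d00003003c2) (.leaf 0)))) (.node (.node (.node (.leaf 0x50001a0000000068) (.leaf 0xc0001d0000300512)) (.node (.leaf 0x90001d0000300551) (.leaf 0))) (.node (.node (.leaf 0xa0001d00003000cb) (.leaf 0)) (.node (.leaf 0x90001d0000000216) (.leaf 0))))) (.node (.node (.node (.node (.leaf 0x40001c0000000023) (.leaf 0x90001c0000000379)) (.node (.leaf 0x70001d000000039c) (.leaf 0))) (.node (.node (.leaf 0xb0001d000030032a) (.leaf 0x70001d000030047c)) (.node (.leaf 0xb0001d000000048a) (.leaf 0)))) (.node (.node (.node (.leaf 0x50001c00003000a2) (.leaf 0xa0001c00000003d8)) (.node (.leaf 0x80001d0000300492) (.leaf 0))) (.node (.node (.leaf 0xb0001c000030022d) (.leaf 0)) (.node (.leaf 0x80001c0000300393) (.leaf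 0)))))) (.node (.node (.node (.node (.node (.leaf 0x80001d00003002f5) (.leaf 0x90001c000030056d)) (.node (.leaf 0x60001d00000001f9) (.leaf 0))) (.node (.node (.leaf 0x60001c00003001c1) (.leaf 0xb0001d00000003e7)) (.node (.leaf 0x80001c0000000485) (.leaf 0)))) (.node (.node (.node (.leaf 0x80001d0000000082) (.leaf 0x60001c000000028b)) (.node (.leaf 0x70001d0000300269) (.leaf 0))) (.node (.node (.leaf 0x20001d0000200050) (.leaf 0)) (.node (.leaf 0x70001c0000000417) (.leaf 0))))) (.node (.node (.node (.node (.leaf 0x30001c0000000084) (.leaf 0x60001d00000000f6)) (.node (.leaf 0x90001c0000000229) (.leaf 0))) (.node (.node (.leaf 0xb0001d000030040a) (.leaf 0x70001c0000300256)) (.node (.leaf 0x70001d000000027f) (.leaf 0)))) (.node (.node (.node (.leaf 0x70001d000000002a) (.leaf 0x60001c000030039d)) (.node (.leaf 0x60001d0000000018) (.leaf 0))) (.node (.node (.leaf 0x40001c00003000e4) (.leaf 0)) (.node (.leaf 0x80001c00003002e2) (.leaf 0))))))) (.node (.node (.node (.node (.node (.node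 (.leaf 0x30001b000000003b) (.leaf 0x70001d0000000079)) (.node (.leaf 0x80001d000030029e) (.leaf 0))) (.node (.node (.leaf 0x60001c0000300081) (.leaf 0x80001d0000000537)) (.node (.leaf 0x80001c0000000499) (.leaf 0)))) (.node (.node (.node (.leaf 0x40001c0000300145) (.leaf 0x60001c0000300040)) (.node (.leaf 0xb0001d000030023f) (.leaf 0))) (.node (.node (.leaf 0x50001d000000015d) (.leaf 0)) (.node (.leaf 0xa0001c000030017f) (.leaf 0))))) (.node (.node (.node (.node (.leaf 0x60001c000020006d) (.leaf 0x80001d0000000458)) (.node (.leaf 0x60001c000000051c) (.leaf 0))) (.node (.node (.leaf 0x80001c000030015e) (.leaf 0x80001c000030036f)) (.node (.leaf 0x60001c00000003e1) (.leaf 0)))) (.node (.node (.node (.leaf 0x60001c00000003f6) (.leaf 0x50001d0000000194)) (.node (.leaf 0x80001c0000000524) (.leaf 0))) (.node (.node (.leaf 0x50001c0000000137) (.leaf 0)) (.node (.leaf 0x90001c000030025a) (.leaf 0)))))) (.node (.node (.node (.node (.node (.leaf 0x50001c000020004d) (.leaf 0x80001c0000000307))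 (.node (.leaf 0xa0001d00000001a0) (.leaf 0))) (.node (.node (.leaf 0x80001c00003003f0) (.leaf 0x90001d000000021b)) (.node (.leaf 0x90001c000030041f) (.leaf 0)))) (.node (.node (.node (.leaf 0x10001d0000200007) (.leaf 0x90001d0000300378)) (.node (.leaf 0x10001a0000300000) (.leaf 0))) (.node (.node (.leaf 0x60001a00003000c1) (.leaf 0)) (.node (.leaf 0xa0001c00003000cc) (.leaf 0))))) (.node (.node (.node (.node (.leaf 0x80001c00000000fe) (.leaf 0x60001c000030026c)) (.node (.leaf 0xb0001c00000001cb) (.leaf 0))) (.node (.node (.leaf 0x70001c000000035e) (.leaf 0xa0001d0000000479)) (.node (.leaf 0x90001d00000002f7) (.leaf 0)))) (.node (.node (.node (.leaf 0x50001d0000300288) (.leaf 0x80001d000000056c)) (.node (.leaf 0x70001c000030034a) (.leaf 0))) (.node (.node (.leaf 0x70001c0000300331) (.leaf 0)) (.node (.leaf 0x50001c00000001ee) (.leaf 0))))))))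

/-- part of a forest -/
def forest314 : Trie :=
  (.node (.node (.node (.node (.node (.node (.node (.leaf 0x40001c0000000066) (.leaf 0x90001d00000002dc)) (.node (.leaf 0x70001d000000054f) (.leaf 0))) (.node (.node (.leaf 0x60001c000000014a) (.leaf 0xa0001d0000000450)) (.node (.leaf 0x80001c000030049f) (.leaf 0)))) (.node (.node (.node (.leaf 0x10001c0000000006) (.leaf 0xa0001d0000000544)) (.node (.leaf 0x40001c000030000d) (.leaf 0))) (.node (.node (.leaf 0xb0001c0000000396) (.leaf 0)) (.node (.leaf 0xa0001d000030057e) (.leaf 0))))) (.node (.node (.node (.node (.leaf 0x50001c000030028e) (.leaf 0x40001c0000300027)) (.node (.leaf 0x80001c0000300010) (.leaf 0))) (.node (.node (.leaf 0xb0001d00003000b7) (.leaf 0x60001d000030057f)) (.node (.leaf 0x90001c000030030e) (.leaf 0)))) (.node (.node (.node (.leaf 0x50001c0000000533) (.leaf 0xa0001c0000000489)) (.node (.leaf 0x70001a00003001b6) (.leaf 0))) (.node (.node (.leaf 0xa0001c0000300574) (.leaf 0)) (.node (.leaf 0x80001d0000000179)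 (.leaf 0)))))) (.node (.node (.node (.node (.node (.leaf 0xa0001c000000007f) (.leaf 0xa0001d000030034d)) (.node (.leaf 0xa0001d00000002a9) (.leaf 0))) (.node (.node (.leaf 0x90001c00000003c4) (.leaf 0x70001c000030035e)) (.node (.leaf 0xb0001d0000000405) (.leaf 0)))) (.node (.node (.node (.leaf 0x90001d00000000b1) (.leaf 0x90001c000030046c)) (.node (.leaf 0xa0001d000030039a) (.leaf 0))) (.node (.node (.leaf 0x70001c0000000305) (.leaf 0)) (.node (.leaf 0x80001c0000300134) (.leaf 0))))) (.node (.node (.node (.node (.leaf 0x60001c0000300199) (.leaf 0x90001c00000001c8)) (.node (.leaf 0x70001d0000300421) (.leaf 0))) (.node (.node (.leaf 0x40001a000000005a) (.leaf 0x60001d00003000f6)) (.node (.leaf 0x60001d000030023c) (.leaf 0)))) (.node (.node (.node (.leaf 0x80001c00003003ee) (.leaf 0xa0001d00003002bd)) (.node (.leaf 0x90001c0000300229) (.leaf 0))) (.node (.node (.leaf 0x40001c0000300425) (.leaf 0)) (.node (.leaf 0x70001c0000300422) (.leaf 0))))))) (.node (.node (.node (.node (.node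 (.node (.leaf 0x80001c000030054c) (.leaf 0x50001c0000300483)) (.node (.leaf 0x70001c0000000434) (.leaf 0))) (.node (.node (.leaf 0x80001d000030020e) (.leaf 0xb0001d00000002c2)) (.node (.leaf 0x20001a0000300004) (.leaf 0)))) (.node (.node (.node (.leaf 0xb0001d000000000c) (.leaf 0xc0001d0000000529)) (.node (.leaf 0x70001d00000002e1) (.leaf 0))) (.node (.node (.leaf 0x70001b0000300125) (.leaf 0)) (.node (.leaf 0x90001c00000000ed) (.leaf 0))))) (.node (.node (.node (.node (.leaf 0x90001c000000025b) (.leaf 0x90001c00000000eb)) (.node (.leaf 0x40001c00000003f4) (.leaf 0))) (.node (.node (.leaf 0x70001c0000000154) (.leaf 0x90001c00003000f9)) (.node (.leaf 0x60001c00000004fc) (.leaf 0)))) (.node (.node (.node (.leaf 0xa0001d000000006c) (.leaf 0x50001d0000300429)) (.node (.leaf 0x70001c000030033f) (.leaf 0))) (.node (.node (.leaf 0x90001d0000000409) (.leaf 0)) (.node (.leaf 0x90001d00000003ce) (.leaf 0)))))) (.node (.node (.node (.node (.node (.leaf 0x80001c000000049f) (.leaf 0xa0001c0000000325))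 (.node (.leaf 0x90001c00003001b8) (.leaf 0))) (.node (.node (.leaf 0x70001c0000300496) (.leaf 0xa0001d0000300257)) (.node (.leaf 0xa0001c0000300489) (.leaf 0)))) (.node (.node (.node (.leaf 0xb0001d0000300055) (.leaf 0x90001c00000001df)) (.node (.leaf 0xb0001d000030023d) (.leaf 0))) (.node (.node (.leaf 0x80001c0000300355) (.leaf 0)) (.node (.leaf 0x90001c00000000d2) (.leaf 0))))) (.node (.node (.node (.node (.leaf 0xa0001d000000003d) (.leaf 0x50001d0000000288)) (.node (.leaf 0xa0001c0000300441) (.leaf 0))) (.node (.node (.leaf 0x80001d000030030f) (.leaf 0x90001d00003001af)) (.node (.leaf 0x60001d00003003e4) (.leaf 0)))) (.node (.node (.node (.leaf 0x70001c000000033f) (.leaf 0x70001c00003004e6)) (.node (.leaf 0xa0001d000000053f) (.leaf 0))) (.node (.node (.leaf 0x60001d0000000196) (.leaf 0)) (.node (.leaf 0xa0001c0000300259) (.leaf 0))))))))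

/-- part of a forest -/
def forest31 : Trie :=
  (.node (.node (.node (.node (.node (.node (.node (.leaf 0x1b0000000001) (.leaf 0x70001d000000037e)) (.node (.leaf 0x90001d000030038f) (.leaf 0))) (.node (.node (.leaf 0xa0001c00000002b4) (.leaf 0x90001d000030052f)) (.node (.leaf 0x30001d0000200107) (.leaf 0)))) (.node (.node (.node (.leaf 0x50001c00000000a2) (.leaf 0xa0001d00000002df)) (.node (.leaf 0xb0001d0000000230) (.leaf 0))) (.node (.node (.leaf 0x90001d00003000e2) (.leaf 0)) (.node (.leaf 0x80001c0000000552) (.leaf 0))))) (.node (.node (.node (.node (.leaf 0x90001c00003000bd) (.leaf 0x90001c0000000136)) (.node (.leaf 0xb0001d00000002b5) (.leaf 0))) (.node (.node (.leaf 0x50001c0000000088) (.leaf 0xd0001d000030012b)) (.node (.leaf 0x80001d0000000397) (.leaf 0)))) (.node (.node (.node (.leaf 0x50001a000000003a) (.leaf 0x80001d0000300082)) (.node (.leaf 0xa0001d00000004c5) (.leaf 0))) (.node (.node (.leaf 0x50001c00003001ee) (.leaf 0)) (.node (.leaf 0x50001d00003001e7) (.leaf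 0)))))) (.node (.node (.node (.node (.node (.leaf 0x80001d000000031c) (.leaf 0x60001d00000003a9)) (.node (.leaf 0x60001c0000300174) (.leaf 0))) (.node (.node (.leaf 0x50001c00000001e6) (.leaf 0xa0001d0000300536)) (.node (.leaf 0x60001a0000000086) (.leaf 0)))) (.node (.node (.node (.leaf 0x50001c0000000096) (.leaf 0xa0001d000000010d)) (.node (.leaf 0xa0001c00000001d9) (.leaf 0))) (.node (.node (.leaf 0x90001c000030050f) (.leaf 0)) (.node (.leaf 0xa0001d000000024c) (.leaf 0))))) (.node (.node (.node (.node (.leaf 0x90001c0000300442) (.leaf 0x90001d000030028a)) (.node (.leaf 0x60001c00000004cd) (.leaf 0))) (.node (.node (.leaf 0xb0001d0000300232) (.leaf 0x90001d000030004c)) (.node (.leaf 0xc0001d00000001ec) (.leaf 0)))) (.node (.node (.node (.leaf 0x90001c0000000072) (.leaf 0xa0001d0000000538)) (.node (.leaf 0x60001d00003001ef) (.leaf 0))) (.node (.node (.leaf 0x80001d000000037b) (.leaf 0)) (.node (.leaf 0x50001c000000021d) (.leaf 0))))))) (.node (.node (.node (.node (.node (.node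 (.leaf 0x70001c0000300169) (.leaf 0x90001d000030028d)) (.node (.leaf 0x80001d0000300398) (.leaf 0))) (.node (.node (.leaf 0x20001b0000300002) (.leaf 0x80001d0000300366)) (.node (.leaf 0x60001c000030052a) (.leaf 0)))) (.node (.node (.node (.leaf 0xa0001d000000031b) (.leaf 0xa0001d00000002a3)) (.node (.leaf 0x80001d0000300327) (.leaf 0))) (.node (.node (.leaf 0x70001c0000000476) (.leaf 0)) (.node (.leaf 0x90001d0000000423) (.leaf 0))))) (.node (.node (.node (.node (.leaf 0x80001d0000300157) (.leaf 0xa0001d00003000b0)) (.node (.leaf 0x40001d0000300301) (.leaf 0))) (.node (.node (.leaf 0x60001d00003004de) (.leaf 0x80001d0000000340)) (.node (.leaf 0x30001c000030018d) (.leaf 0)))) (.node (.node (.node (.leaf 0x80001c000000052d) (.leaf 0x90001c00000004d9)) (.node (.leaf 0x70001c0000300352) (.leaf 0))) (.node (.node (.leaf 0x80001d00000001cc) (.leaf 0)) (.node (.leaf 0x30001c0000300090) (.leaf 0)))))) (.node (.node (.node (.node (.node (.leaf 0x10001c0000100006) (.leaf 0xb0001c000000027d))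 (.node (.leaf 0x20001c000020008e) (.leaf 0))) (.node (.node (.leaf 0x80001d00003004da) (.leaf 0xa0001c000030057b)) (.node (.leaf 0x60001c000030053b) (.leaf 0)))) (.node (.node (.node (.leaf 0x80001d00000000e6) (.leaf 0xc0001d0000300518)) (.node (.leaf 0x70001c000000051b) (.leaf 0))) (.node (.node (.leaf 0x70001c000030008c) (.leaf 0)) (.node (.leaf 0x70001b0000300106) (.leaf 0))))) (.node (.node (.node (.node (.leaf 0x80001c0000300395) (.leaf 0x70001c00000001da)) (.node (.leaf 0x80001c00000001ab) (.leaf 0))) (.node (.node (.leaf 0xa0001d0000300197) (.leaf 0xa0001d0000300459)) (.node (.leaf 0x80001c0000300095) (.leaf 0)))) (.node (.node (.node (.leaf 0x80001c0000300094) (.leaf 0xa0001d0000000517)) (.node (.leaf 0x90001c000030024e) (.leaf 0))) (.node (.node (.leaf 0x50001c00003000e3) (.leaf 0)) (.node (.leaf 0x70001c0000000261) (.leaf 0))))))))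

/-- part of a forest -/
def forest39 : Trie :=
  (.node (.node (.node (.node (.node (.node (.node (.leaf 0x70001a0000000321) (.leaf 0x80001d0000000153)) (.node (.leaf 0x70001c00003003b2) (.leaf 0))) (.node (.node (.leaf 0x80001c0000000254) (.leaf 0x30001c0000000158)) (.node (.leaf 0x70001c00003004f4) (.leaf 0)))) (.node (.node (.node (.leaf 0x70001c0000000144) (.leaf 0x90001c00003001d7)) (.node (.leaf 0x50001c000030021d) (.leaf 0))) (.node (.node (.leaf 0xa0001d00003002e5) (.leaf 0)) (.node (.leaf 0xa0001d000000044f) (.leaf 0))))) (.node (.node (.node (.node (.leaf 0x40001b0000000085) (.leaf 0x30001c00003000e0)) (.node (.leaf 0x60001c0000300121) (.leaf 0))) (.node (.node (.leaf 0xb0001d00003001ca) (.leaf 0x90001d000000055a)) (.node (.leaf 0x80001b0000300185) (.leaf 0)))) (.node (.node (.node (.leaf 0x40001c0000300509) (.leaf 0x90001d000000045d)) (.node (.leaf 0x80001c00000002d4) (.leaf 0))) (.node (.node (.leaf 0x80001c00000002a0) (.leaf 0)) (.node (.leaf 0x70001d000000047c) (.leaf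 0)))))) (.node (.node (.node (.node (.node (.leaf 0x90001d0000000051) (.leaf 0x40001d000000054b)) (.node (.leaf 0x80001c000000022f) (.leaf 0))) (.node (.node (.leaf 0x60001c00000001d6) (.leaf 0xb0001d000030029c)) (.node (.leaf 0xc0001c00000001a7) (.leaf 0)))) (.node (.node (.node (.leaf 0x50001c00003001e6) (.leaf 0x70001c0000000193)) (.node (.leaf 0x90001d000000041a) (.leaf 0))) (.node (.node (.leaf 0x80001c0000000364) (.leaf 0)) (.node (.leaf 0x50001d0000300194) (.leaf 0))))) (.node (.node (.node (.node (.leaf 0x50001b0000000024) (.leaf 0xa0001d000000039a)) (.node (.leaf 0x60001d000000057f) (.leaf 0))) (.node (.node (.leaf 0x60001c00000001c1) (.leaf 0x70001d00000004ff)) (.node (.leaf 0x80001c0000300566) (.leaf 0)))) (.node (.node (.node (.leaf 0xc0001d000030051e) (.leaf 0x90001d00003003a5)) (.node (.leaf 0x90001c00000001a9) (.leaf 0))) (.node (.node (.leaf 0x70001d00003000a5) (.leaf 0)) (.node (.leaf 0x90001c0000300136) (.leaf 0))))))) (.node (.node (.node (.node (.node (.node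 (.leaf 0xa0001c0000300123) (.leaf 0xb0001d0000300481)) (.node (.leaf 0x90001c0000000369) (.leaf 0))) (.node (.node (.leaf 0x70001c0000000177) (.leaf 0xa0001d0000000285)) (.node (.leaf 0x80001c0000000094) (.leaf 0)))) (.node (.node (.node (.leaf 0x80001d00000003b5) (.leaf 0x70001c0000000496)) (.node (.leaf 0xa0001d000030003d) (.leaf 0))) (.node (.node (.leaf 0x50001c000030006f) (.leaf 0)) (.node (.leaf 0x90001c00003002a5) (.leaf 0))))) (.node (.node (.node (.node (.leaf 0xa0001d000030033d) (.leaf 0x90001d0000000457)) (.node (.leaf 0x90001c0000300354) (.leaf 0))) (.node (.node (.leaf 0x80001c0000300287) (.leaf 0x80001c0000300065)) (.node (.leaf 0x80001c0000000460) (.leaf 0)))) (.node (.node (.node (.leaf 0x50001c0000000213) (.leaf 0x80001c0000300268)) (.node (.leaf 0xb0001d0000300318) (.leaf 0))) (.node (.node (.leaf 0x90001c000000025a) (.leaf 0)) (.node (.leaf 0xb0001d000000030c) (.leaf 0)))))) (.node (.node (.node (.node (.node (.leaf 0xb0001d000030046d) (.leaf 0x80001c000000038d))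 (.node (.leaf 0x80001d000030032d) (.leaf 0))) (.node (.node (.leaf 0xa0001d000030040e) (.leaf 0xa0001d00003004d2)) (.node (.leaf 0x70001d000030035c) (.leaf 0)))) (.node (.node (.node (.leaf 0x90001d000000027a) (.leaf 0x70001d000000012c)) (.node (.leaf 0x30001d00003002cb) (.leaf 0))) (.node (.node (.leaf 0x60001c000030014a) (.leaf 0)) (.node (.leaf 0x50001a0000000025) (.leaf 0))))) (.node (.node (.node (.node (.leaf 0x60001d00003003f5) (.leaf 0x90001d0000000378)) (.node (.leaf 0x90001c000000024e) (.leaf 0))) (.node (.node (.leaf 0x70001d0000000445) (.leaf 0x60001c0000000199)) (.node (.leaf 0x80001c0000000330) (.leaf 0)))) (.node (.node (.node (.leaf 0x80001c00000001b1) (.leaf 0x70001c0000000579)) (.node (.leaf 0x50001c000030000e) (.leaf 0))) (.node (.node (.leaf 0x50001d000000011c) (.leaf 0)) (.node (.leaf 0x90001c000000029b) (.leaf 0))))))))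

/-- part of a forest -/
def forest35 : Trie :=
  (.node (.node (.node (.node (.node (.node (.node (.leaf 0x10001b0000200001) (.leaf 0xa0001d00000002cf)) (.node (.leaf 0x50001c00003002dd) (.leaf 0))) (.node (.node (.leaf 0x70001a0000300321) (.leaf 0x80001d0000000473)) (.node (.leaf 0x60001c0000000504) (.leaf 0)))) (.node (.node (.node (.leaf 0x30001b00000003af) (.leaf 0x70001c0000300129)) (.node (.leaf 0x90001d000030020f) (.leaf 0))) (.node (.node (.leaf 0x70001b0000300320) (.leaf 0)) (.node (.leaf 0xa0001d0000000386) (.leaf 0))))) (.node (.node (.node (.node (.leaf 0x80001c0000000095) (.leaf 0x60001d00003003a9)) (.node (.leaf 0x70001c0000300356) (.leaf 0))) (.node (.node (.leaf 0x30001c00003000df) (.leaf 0x80001c000000056a)) (.node (.leaf 0x90001c0000000381) (.leaf 0)))) (.node (.node (.node (.leaf 0x80001c0000300176) (.leaf 0x90001d00003004a0)) (.node (.leaf 0x80001c00000002da) (.leaf 0))) (.node (.node (.leaf 0x80001d00003004e2) (.leaf 0)) (.node (.leaf 0x80001d0000000014) (.leaf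 0)))))) (.node (.node (.node (.node (.node (.leaf 0x40001a0000000048) (.leaf 0x30001c0000200090)) (.node (.leaf 0x80001c0000000268) (.leaf 0))) (.node (.node (.leaf 0x60001b00003000c2) (.leaf 0x90001c00000002ca)) (.node (.leaf 0x90001c00003001be) (.leaf 0)))) (.node (.node (.node (.leaf 0x60001d00003002af) (.leaf 0x60001d000000047e)) (.node (.leaf 0x80001c0000000554) (.leaf 0))) (.node (.node (.leaf 0x70001c0000000129) (.leaf 0)) (.node (.leaf 0x80001d00003002e7) (.leaf 0))))) (.node (.node (.node (.node (.leaf 0x70001c00000003b2) (.leaf 0xa0001d0000000306)) (.node (.leaf 0xb0001d0000300405) (.leaf 0))) (.node (.node (.leaf 0x80001c0000300499) (.leaf 0xb0001d0000000465)) (.node (.leaf 0xa0001d000000048b) (.leaf 0)))) (.node (.node (.node (.leaf 0x80001c00000000dc) (.leaf 0x70001c00000004a6)) (.node (.leaf 0x90001d0000000228) (.leaf 0))) (.node (.node (.leaf 0xa0001d000030024a) (.leaf 0)) (.node (.leaf 0x70001c00000000d6) (.leaf 0))))))) (.node (.node (.node (.node (.node (.node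 (.leaf 0x90001c00000001c9) (.leaf 0xa0001d000030010d)) (.node (.leaf 0xb0001d0000000385) (.leaf 0))) (.node (.node (.leaf 0x90001d0000300051) (.leaf 0x80001c0000300490)) (.node (.leaf 0x80001d000000030f) (.leaf 0)))) (.node (.node (.node (.leaf 0x70001c000000006a) (.leaf 0x70001d00003004ff)) (.node (.leaf 0x70001c00003003d4) (.leaf 0))) (.node (.node (.leaf 0x80001c000030039b) (.leaf 0)) (.node (.leaf 0x70001c00000002c0) (.leaf 0))))) (.node (.node (.node (.node (.leaf 0xa0001d00003000b9) (.leaf 0x90001d0000000360)) (.node (.leaf 0xa0001d00003004f3) (.leaf 0))) (.node (.node (.leaf 0x60001d0000300108) (.leaf 0xa0001c000000023e)) (.node (.leaf 0x70001c0000000060) (.leaf 0)))) (.node (.node (.node (.leaf 0xc0001d0000300447) (.leaf 0x80001c00000001f2)) (.node (.leaf 0x60001c00000002fc) (.leaf 0))) (.node (.node (.leaf 0xa0001d0000300386) (.leaf 0)) (.node (.leaf 0x80001d00000004e2) (.leaf 0)))))) (.node (.node (.node (.node (.node (.leaf 0x90001d0000000239) (.leaf 0x80001d0000000546))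 (.node (.leaf 0xa0001c000030013a) (.leaf 0))) (.node (.node (.leaf 0x60001c000030016d) (.leaf 0x90001d00003001fd)) (.node (.leaf 0x70001c0000000438) (.leaf 0)))) (.node (.node (.node (.leaf 0x10001c0000200006) (.leaf 0xa0001d0000300480)) (.node (.leaf 0xa0001d0000300057) (.leaf 0))) (.node (.node (.leaf 0x90001d00000001d1) (.leaf 0)) (.node (.leaf 0x70001d00000000a4) (.leaf 0))))) (.node (.node (.node (.node (.leaf 0x80001d0000000366) (.leaf 0x90001c000000020a)) (.node (.leaf 0xa0001c000000044d) (.leaf 0))) (.node (.node (.leaf 0x60001d00000002af) (.leaf 0x90001c00003001f7)) (.node (.leaf 0xa0001d00000004e8) (.leaf 0)))) (.node (.node (.node (.leaf 0xb0001d000000050e) (.leaf 0x80001c000030035d)) (.node (.leaf 0x70001d00003000a4) (.leaf 0))) (.node (.node (.leaf 0x70001c0000300438) (.leaf 0)) (.node (.leaf 0x50001d0000000164) (.leaf 0))))))))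

/-- part of a forest -/
def forest313 : Trie :=
  (.node (.node (.node (.node (.node (.node (.node (.leaf 0x30001c0000000090) (.leaf 0x80001d0000300150)) (.node (.leaf 0x60001c00003000a1) (.leaf 0))) (.node (.node (.leaf 0x90001d00000004a0) (.leaf 0xa0001d0000000561)) (.node (.leaf 0xa0001d00003003a8) (.leaf 0)))) (.node (.node (.node (.leaf 0x90001c000000008f) (.leaf 0x80001c00000002a8)) (.node (.leaf 0x80001d00000001dc) (.leaf 0))) (.node (.node (.leaf 0x20001c00003000b5) (.leaf 0)) (.node (.leaf 0x70001c00000004e6) (.leaf 0))))) (.node (.node (.node (.node (.leaf 0x40001c000000000d) (.leaf 0x90001c0000000122)) (.node (.leaf 0xa0001d000030018f) (.leaf 0))) (.node (.node (.leaf 0x90001d000030033a) (.leaf 0x90001d0000000190)) (.node (.leaf 0x90001d0000000291) (.leaf 0)))) (.node (.node (.node (.leaf 0x70001d00003004ec) (.leaf 0x50001c00000003f2)) (.node (.leaf 0x80001a0000300105) (.leaf 0))) (.node (.node (.leaf 0x90001d000030036b) (.leaf 0)) (.node (.leaf 0x70001c0000300434)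 (.leaf 0)))))) (.node (.node (.node (.node (.node (.leaf 0x20001a0000200003) (.leaf 0xa0001c00000000ec)) (.node (.leaf 0xa0001c0000300298) (.leaf 0))) (.node (.node (.leaf 0x90001c000000046c) (.leaf 0x70001c00000003ab)) (.node (.leaf 0x70001d0000300523) (.leaf 0)))) (.node (.node (.node (.leaf 0xa0001d000000002b) (.leaf 0x80001c0000000302)) (.node (.leaf 0x80001d0000300495) (.leaf 0))) (.node (.node (.leaf 0xa0001d00000000cb) (.leaf 0)) (.node (.leaf 0x90001d000000035b) (.leaf 0))))) (.node (.node (.node (.node (.leaf 0x50001c000010004d) (.leaf 0xa0001d00003002ea)) (.node (.leaf 0x80001c0000300248) (.leaf 0))) (.node (.node (.leaf 0x50001c0000000280) (.leaf 0x80001c00000002d7)) (.node (.leaf 0xb0001c0000300101) (.leaf 0)))) (.node (.node (.node (.leaf 0x80001c0000000357) (.leaf 0x80001d0000000242)) (.node (.leaf 0x90001c00000001d0) (.leaf 0))) (.node (.node (.leaf 0x70001c00000004b7) (.leaf 0)) (.node (.leaf 0x70001c0000300221) (.leaf 0))))))) (.node (.node (.node (.node (.node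 (.node (.leaf 0xb0001d0000300262) (.leaf 0xa0001d000030002b)) (.node (.leaf 0x40001c000000043b) (.leaf 0))) (.node (.node (.leaf 0x80001c000000054c) (.leaf 0x50001c000000044e)) (.node (.leaf 0x80001c00000000b2) (.leaf 0)))) (.node (.node (.node (.leaf 0x60001d00003001ac) (.leaf 0x40001d000000027c)) (.node (.leaf 0x80001c0000000238) (.leaf 0))) (.node (.node (.leaf 0x90001c000030025b) (.leaf 0)) (.node (.leaf 0x50001c000030050c) (.leaf 0))))) (.node (.node (.node (.node (.leaf 0xa0001d00003001b4) (.leaf 0x80001d000030031c)) (.node (.leaf 0xc0001d000000012a) (.leaf 0))) (.node (.node (.leaf 0x40001d0000300132) (.leaf 0x90001d0000000505)) (.node (.leaf 0x70001c00003002b0) (.leaf 0)))) (.node (.node (.node (.leaf 0x90001d0000300444) (.leaf 0x60001c0000000289)) (.node (.leaf 0x40001c000030017d) (.leaf 0))) (.node (.node (.leaf 0x80001c0000300245) (.leaf 0)) (.node (.leaf 0xa0001d0000300322) (.leaf 0)))))) (.node (.node (.node (.node (.node (.leaf 0x90001d00003001d1) (.leaf 0xb0001d0000000102))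 (.node (.leaf 0xa0001d0000000286) (.leaf 0))) (.node (.node (.leaf 0xb0001d000030048e) (.leaf 0x90001c0000000271)) (.node (.leaf 0x90001d000030041a) (.leaf 0)))) (.node (.node (.node (.leaf 0x80001c0000000566) (.leaf 0x90001c00003002ca)) (.node (.leaf 0x90001d0000300315) (.leaf 0))) (.node (.node (.leaf 0x70001c0000300210) (.leaf 0)) (.node (.leaf 0xa0001c0000000253) (.leaf 0))))) (.node (.node (.node (.node (.leaf 0xb0001d0000300112) (.leaf 0x90001c00003001df)) (.node (.leaf 0xa0001c0000300540) (.leaf 0))) (.node (.node (.leaf 0x30001c0000300231) (.leaf 0xa0001d000030015a)) (.node (.leaf 0x60001c00003000d9) (.leaf 0)))) (.node (.node (.node (.leaf 0x70001c0000300311) (.leaf 0xa0001d00003004e8)) (.node (.leaf 0xc0001d0000000138) (.leaf 0))) (.node (.node (.leaf 0x80001d0000300553) (.leaf 0)) (.node (.leaf 0x90001d0000000341) (.leaf 0))))))))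

/-- part of a forest -/
def forest33 : Trie :=
  (.node (.node (.node (.node (.node (.node (.node (.leaf 0x10001a0000100000) (.leaf 0x80001c00003003e5)) (.node (.leaf 0x70001d00003003fa) (.leaf 0))) (.node (.node (.leaf 0xb0001c000000007c) (.leaf 0x60001c0000300141)) (.node (.leaf 0x60001d0000300018) (.leaf 0)))) (.node (.node (.node (.leaf 0xa0001d0000300493) (.leaf 0x40001c00000003d1)) (.node (.leaf 0x90001c00000004ba) (.leaf 0))) (.node (.node (.leaf 0x30001c0000200130) (.leaf 0)) (.node (.leaf 0xa0001d00000003a8) (.leaf 0))))) (.node (.node (.node (.node (.leaf 0xb0001d0000000008) (.leaf 0xa0001d0000300035)) (.node (.leaf 0x80001c000030052e) (.leaf 0))) (.node (.node (.leaf 0x40001d0000100132) (.leaf 0x80001c0000300295)) (.node (.leaf 0x80001d0000000413) (.leaf 0)))) (.node (.node (.node (.leaf 0x60001c00000000d9) (.leaf 0x90001d00000004c1)) (.node (.leaf 0xa0001c00003001ba) (.leaf 0))) (.node (.node (.leaf 0xa0001c000000045e) (.leaf 0)) (.node (.leaf 0xa0001d0000000322) (.leaf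 0)))))) (.node (.node (.node (.node (.node (.leaf 0x30001c0000300158) (.leaf 0x80001d00003003c9)) (.node (.leaf 0xb0001d0000300008) (.leaf 0))) (.node (.node (.leaf 0x90001c00000001be) (.leaf 0x60001d00000003e4)) (.node (.leaf 0x10001d0000000007) (.leaf 0)))) (.node (.node (.node (.leaf 0x60001c0000000081) (.leaf 0x70001d000000053c)) (.node (.leaf 0x90001d00000002a2) (.leaf 0))) (.node (.node (.leaf 0xa0001d0000300430) (.leaf 0)) (.node (.leaf 0x90001c0000300243) (.leaf 0))))) (.node (.node (.node (.node (.leaf 0xa0001d0000000052) (.leaf 0x60001c000030002f)) (.node (.leaf 0x70001c00003004a2) (.leaf 0))) (.node (.node (.leaf 0x90001c00003004ad) (.leaf 0x80001d00000000d3)) (.node (.leaf 0xa0001c0000000345) (.leaf 0)))) (.node (.node (.node (.leaf 0x40001c00002000e4) (.leaf 0x80001c0000000355)) (.node (.leaf 0xa0001d000000040e) (.leaf 0))) (.node (.node (.leaf 0x80001d000030008b) (.leaf 0)) (.node (.leaf 0x80001c00000002de) (.leaf 0))))))) (.node (.node (.node (.node (.node (.node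 (.leaf 0x80001c00000003f1) (.leaf 0x70001d0000300390)) (.node (.leaf 0x40001c000000017d) (.leaf 0))) (.node (.node (.leaf 0x90001c0000300326) (.leaf 0x70001c0000000221)) (.node (.leaf 0x90001c00000001d7) (.leaf 0)))) (.node (.node (.node (.leaf 0x40001d000030054b) (.leaf 0x90001d0000000377)) (.node (.leaf 0xb0001d0000000368) (.leaf 0))) (.node (.node (.leaf 0x60001c00000002f3) (.leaf 0)) (.node (.leaf 0x70001c000030018a) (.leaf 0))))) (.node (.node (.node (.node (.leaf 0x50001a000000016e) (.leaf 0x60001d0000300062)) (.node (.leaf 0x90001c00003003ae) (.leaf 0))) (.node (.node (.leaf 0x70001d0000300175) (.leaf 0x70001d0000300466)) (.node (.leaf 0x50001d0000200143) (.leaf 0)))) (.node (.node (.node (.leaf 0x70001d00000004ca) (.leaf 0x60001d00003000ac)) (.node (.leaf 0x80001d00000003fc) (.leaf 0))) (.node (.node (.leaf 0x70001c000000016b) (.leaf 0)) (.node (.leaf 0x30001c0000300084) (.leaf 0)))))) (.node (.node (.node (.node (.node (.leaf 0x60001a00000000c1) (.leaf 0xa0001d0000300098))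 (.node (.leaf 0x80001d0000300401) (.leaf 0))) (.node (.node (.leaf 0xb0001d000030000c) (.leaf 0x40001c0000300023)) (.node (.leaf 0x90001d0000300304) (.leaf 0)))) (.node (.node (.node (.leaf 0xa0001c00000001a1) (.leaf 0xb0001d0000300102)) (.node (.leaf 0xc0001d00000000e7) (.leaf 0))) (.node (.node (.leaf 0x80001d0000000206) (.leaf 0)) (.node (.leaf 0x30001c000030041c) (.leaf 0))))) (.node (.node (.node (.node (.leaf 0xb0001d0000000112) (.leaf 0x70001d0000300151)) (.node (.leaf 0x60001d00003004d6) (.leaf 0))) (.node (.node (.leaf 0x90001d000000011e) (.leaf 0x50001c000000028e)) (.node (.leaf 0xa0001d00000003bf) (.leaf 0)))) (.node (.node (.node (.leaf 0xa0001d00000004c3) (.leaf 0x90001d00000004ea)) (.node (.leaf 0x50001c0000000483) (.leaf 0))) (.node (.node (.leaf 0x80001c00003003f1) (.leaf 0)) (.node (.leaf 0xb0001d00003001a3) (.leaf 0))))))))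

/-- part of a forest -/
def forest311 : Trie :=
  (.node (.node (.node (.node (.node (.node (.node (.leaf 0x90001c000000001e) (.leaf 0x90001c0000000359)) (.node (.leaf 0xa0001d0000300376) (.leaf 0))) (.node (.node (.leaf 0xb0001d000000029c) (.leaf 0x60001c0000300573)) (.node (.leaf 0x90001c0000300013) (.leaf 0)))) (.node (.node (.node (.leaf 0x70001d000000009d) (.leaf 0x90001d0000000414)) (.node (.leaf 0x50001c000000011f) (.leaf 0))) (.node (.node (.leaf 0xc0001d0000300146) (.leaf 0)) (.node (.leaf 0xa0001d0000000527) (.leaf 0))))) (.node (.node (.node (.node (.leaf 0xa0001d0000300549) (.leaf 0x70001d0000000466)) (.node (.leaf 0x90001c00003004d9) (.leaf 0))) (.node (.node (.leaf 0x90001d000030017e) (.leaf 0x30001d0000300107)) (.node (.leaf 0x70001c00003002c4) (.leaf 0)))) (.node (.node (.node (.leaf 0x90001d000030009c) (.leaf 0xa0001d00003001de)) (.node (.leaf 0x20001d0000100323) (.leaf 0))) (.node (.node (.leaf 0xa0001c0000000123) (.leaf 0)) (.node (.leaf 0xb0001d0000000375)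 (.leaf 0)))))) (.node (.node (.node (.node (.node (.leaf 0x90001d00003000a6) (.leaf 0x70001d000000056e)) (.node (.leaf 0xa0001c0000300163) (.leaf 0))) (.node (.node (.leaf 0xc0001d00003000e7) (.leaf 0xb0001d0000000481)) (.node (.leaf 0x90001c000030014c) (.leaf 0)))) (.node (.node (.node (.leaf 0xb0001d00000003c3) (.leaf 0x80001c00003004b4)) (.node (.leaf 0xa0001d00000004c9) (.leaf 0))) (.node (.node (.leaf 0x70001c00000004f4) (.leaf 0)) (.node (.leaf 0x60001c0000300494) (.leaf 0))))) (.node (.node (.node (.node (.leaf 0x90001d00003001e1) (.leaf 0x40001c00003003f4)) (.node (.leaf 0x90001d00003004ed) (.leaf 0))) (.node (.node (.leaf 0x60001c00003003f6) (.leaf 0x90001c000000043c)) (.node (.leaf 0x80001d0000000398) (.leaf 0)))) (.node (.node (.node (.leaf 0x80001c00003002d7) (.leaf 0xa0001c0000000061)) (.node (.leaf 0x90001c000000048d) (.leaf 0))) (.node (.node (.leaf 0xa0001d0000000257) (.leaf 0)) (.node (.leaf 0x80001c000030029a) (.leaf 0))))))) (.node (.node (.node (.node (.node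 (.node (.leaf 0x90001c00003001a9) (.leaf 0x50001c00000000a7)) (.node (.leaf 0x80001d00003003b5) (.leaf 0))) (.node (.node (.leaf 0x80001c0000300484) (.leaf 0x60001c00003002fc)) (.node (.leaf 0x90001d0000000021) (.leaf 0)))) (.node (.node (.node (.leaf 0x60001c00003004fc) (.leaf 0x80001c00000003f0)) (.node (.leaf 0x80001c00000002ff) (.leaf 0))) (.node (.node (.leaf 0x90001d00003003ce) (.leaf 0)) (.node (.leaf 0x70001c00003003ef) (.leaf 0))))) (.node (.node (.node (.node (.leaf 0x30001b0000000111) (.leaf 0xb0001d000000051f)) (.node (.leaf 0x80001c0000000395) (.leaf 0))) (.node (.node (.leaf 0x60001c000000051d) (.leaf 0x80001c00000002b1)) (.node (.leaf 0x80001d00000000cd) (.leaf 0)))) (.node (.node (.node (.leaf 0xc0001d0000000146) (.leaf 0x60001c000030006d)) (.node (.leaf 0x80001c000000048f) (.leaf 0))) (.node (.node (.leaf 0xa0001d000000026b) (.leaf 0)) (.node (.leaf 0x30001a000030002d) (.leaf 0)))))) (.node (.node (.node (.node (.node (.leaf 0x20001b000000030a) (.leaf 0x30001c0000300130))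 (.node (.leaf 0xa0001c000000003c) (.leaf 0))) (.node (.node (.leaf 0x70001c0000300261) (.leaf 0x50001c00000000c9)) (.node (.leaf 0x80001d0000000497) (.leaf 0)))) (.node (.node (.node (.leaf 0xc0001d0000000281) (.leaf 0x80001c0000000393)) (.node (.leaf 0xb0001d0000000451) (.leaf 0))) (.node (.node (.leaf 0x90001d0000300180) (.leaf 0)) (.node (.leaf 0xa0001c00000003b7) (.leaf 0))))) (.node (.node (.node (.node (.leaf 0x90001d0000000511) (.leaf 0xb0001d000030030d)) (.node (.leaf 0x80001c00003002d4) (.leaf 0))) (.node (.node (.leaf 0xa0001d0000000388) (.leaf 0x90001c00000001f7)) (.node (.leaf 0x70001d000000035c) (.leaf 0)))) (.node (.node (.node (.leaf 0xa0001d00003004c9) (.leaf 0x90001d0000300516)) (.node (.leaf 0xc0001d000000010b) (.leaf 0))) (.node (.node (.leaf 0xa0001d0000000480) (.leaf 0)) (.node (.leaf 0x90001c00003001c7) (.leaf 0))))))))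

/-- part of a forest -/
def forest37 : Trie :=
  (.node (.node (.node (.node (.node (.node (.node (.leaf 0x1d0000000007) (.leaf 0x60001d000000022a)) (.node (.leaf 0xa0001c000030053a) (.leaf 0))) (.node (.node (.leaf 0x20001d0000000323) (.leaf 0x50001d0000300042)) (.node (.leaf 0x70001c0000300020) (.leaf 0)))) (.node (.node (.node (.leaf 0x70001d0000300155) (.leaf 0xa0001d000000018c)) (.node (.leaf 0x70001c000030050b) (.leaf 0))) (.node (.node (.leaf 0x90001d000000004c) (.leaf 0)) (.node (.leaf 0xc0001d0000000215) (.leaf 0))))) (.node (.node (.node (.node (.leaf 0xb0001d000000041d) (.leaf 0xb0001d00000001a3)) (.node (.leaf 0xa0001d00000004d2) (.leaf 0))) (.node (.node (.leaf 0x80001d00003003fc) (.leaf 0x80001d0000300179)) (.node (.leaf 0xc0001d00003004aa) (.leaf 0)))) (.node (.node (.node (.leaf 0x60001c00000000ce) (.leaf 0x80001c000030048f)) (.node (.leaf 0x50001c00000004fa) (.leaf 0))) (.node (.node (.leaf 0x80001c00000001d3) (.leaf 0)) (.node (.leaf 0x30001d00002002cb) (.leaf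 0)))))) (.node (.node (.node (.node (.node (.leaf 0x30001c000000041c) (.leaf 0x90001c00000004c7)) (.node (.leaf 0x90001c00003002c9) (.leaf 0))) (.node (.node (.leaf 0x60001d000030022a) (.leaf 0x90001d0000300021)) (.node (.leaf 0x70001d0000300558) (.leaf 0)))) (.node (.node (.node (.leaf 0x40001c0000000027) (.leaf 0x80001d000030026a)) (.node (.leaf 0xb0001d000000016a) (.leaf 0))) (.node (.node (.leaf 0xb0001c0000000328) (.leaf 0)) (.node (.leaf 0x60001c00000002c7) (.leaf 0))))) (.node (.node (.node (.node (.leaf 0xc0001d0000000133) (.leaf 0x90001d000000056f)) (.node (.leaf 0x90001d00000002ef) (.leaf 0))) (.node (.node (.leaf 0x80001c000030036a) (.leaf 0x70001c000030010e)) (.node (.leaf 0x80001c00003002de) (.leaf 0)))) (.node (.node (.node (.leaf 0xb0001d0000300487) (.leaf 0x90001c0000000243)) (.node (.leaf 0x70001d00003003e8) (.leaf 0))) (.node (.node (.leaf 0x40001d00003003ba) (.leaf 0)) (.node (.leaf 0xa0001d000030007b) (.leaf 0))))))) (.node (.node (.node (.node (.node (.node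 (.leaf 0x20001a00000002b6) (.leaf 0x60001c00003004cd)) (.node (.leaf 0x90001d00000003a5) (.leaf 0))) (.node (.node (.leaf 0x80001d0000300413) (.leaf 0x90001d00000003d5)) (.node (.leaf 0x90001c0000300076) (.leaf 0)))) (.node (.node (.node (.leaf 0xa0001d0000300198) (.leaf 0x70001d00003002d2)) (.node (.leaf 0x90001c0000300316) (.leaf 0))) (.node (.node (.leaf 0x90001d0000300547) (.leaf 0)) (.node (.leaf 0x70001d0000000303) (.leaf 0))))) (.node (.node (.node (.node (.leaf 0x90001d00003004ea) (.leaf 0x80001d00003000c8)) (.node (.leaf 0x90001d0000300147) (.leaf 0))) (.node (.node (.leaf 0x70001d000030002a) (.leaf 0xb0001d0000000519)) (.node (.leaf 0x70001c000030006a) (.leaf 0)))) (.node (.node (.node (.leaf 0x70001d00003002e1) (.leaf 0x70001c00000000c7)) (.node (.leaf 0x70001c00003002d5) (.leaf 0))) (.node (.node (.leaf 0x80001c0000300302) (.leaf 0)) (.node (.leaf 0x90001c000030033c) (.leaf 0)))))) (.node (.node (.node (.node (.node (.leaf 0xa0001d000030053f) (.leaf 0x80001c000000015e))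 (.node (.leaf 0xd0001d000030037f) (.leaf 0))) (.node (.node (.leaf 0x40001c0000300183) (.leaf 0x70001d000030027f)) (.node (.leaf 0xa0001d0000000333) (.leaf 0)))) (.node (.node (.node (.leaf 0xa0001d000000024f) (.leaf 0x60001c0000000058)) (.node (.leaf 0xb0001d0000000576) (.leaf 0))) (.node (.node (.leaf 0x90001d000030027a) (.leaf 0)) (.node (.leaf 0x90001c0000300559) (.leaf 0))))) (.node (.node (.node (.node (.leaf 0x40001b000000005b) (.leaf 0xa0001c00003004af)) (.node (.leaf 0x80001c0000000295) (.leaf 0))) (.node (.node (.leaf 0x60001c000000041e) (.leaf 0xb0001d0000000318)) (.node (.leaf 0x80001d0000300339) (.leaf 0)))) (.node (.node (.node (.leaf 0x90001c0000300122) (.leaf 0x90001c000000027b)) (.node (.leaf 0x80001d00003000d3) (.leaf 0))) (.node (.node (.leaf 0x80001c00000001f5) (.leaf 0)) (.node (.leaf 0x90001c0000300556) (.leaf 0))))))))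

/-- part of a forest -/
def forest315 : Trie :=
  (.node (.node (.node (.node (.node (.node (.node (.leaf 0x50001b00000001a4) (.leaf 0x60001c0000300058)) (.node (.leaf 0x80001d00000000d7) (.leaf 0))) (.node (.node (.leaf 0x60001d000030003f) (.leaf 0x80001c0000300406)) (.node (.leaf 0x70001d00000003fa) (.leaf 0)))) (.node (.node (.node (.leaf 0x80001c0000000134) (.leaf 0x70001c0000300038)) (.node (.leaf 0x90001c00003004dc) (.leaf 0))) (.node (.node (.leaf 0x90001d0000000551) (.leaf 0)) (.node (.leaf 0x80001d00000002f5) (.leaf 0))))) (.node (.node (.node (.node (.leaf 0x60001a00000003b9) (.leaf 0x90001d00000004a7)) (.node (.leaf 0x90001d00003002d3) (.leaf 0))) (.node (.node (.leaf 0xb0001d00003002e3) (.leaf 0x60001d00003003c1)) (.node (.leaf 0xc0001d000030047b) (.leaf 0)))) (.node (.node (.node (.leaf 0x90001c000000017a) (.leaf 0x70001c00000003ef)) (.node (.leaf 0x90001d0000300511) (.leaf 0))) (.node (.node (.leaf 0x70001c000030040f) (.leaf 0)) (.node (.leaf 0x70001d0000000175)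 (.leaf 0)))))) (.node (.node (.node (.node (.node (.leaf 0x50001c0000000046) (.leaf 0xa0001c000000046e)) (.node (.leaf 0x70001c0000000169) (.leaf 0))) (.node (.node (.leaf 0x90001c0000000184) (.leaf 0x80001d00000001e9)) (.node (.leaf 0x90001c00003000e5) (.leaf 0)))) (.node (.node (.node (.leaf 0x70001c0000300463) (.leaf 0x90001c0000000515)) (.node (.leaf 0x50001d0000000429) (.leaf 0))) (.node (.node (.leaf 0x80001d00003002bc) (.leaf 0)) (.node (.leaf 0x20001b0000300005) (.leaf 0))))) (.node (.node (.node (.node (.leaf 0x40001c000010000d) (.leaf 0x80001d000030042b)) (.node (.leaf 0x50001d00000001e7) (.leaf 0))) (.node (.node (.leaf 0xa0001d0000000181) (.leaf 0x80001d000000042b)) (.node (.leaf 0x70001c0000000038) (.leaf 0)))) (.node (.node (.node (.leaf 0x60001c0000300289) (.leaf 0xb0001d0000000037)) (.node (.leaf 0x80001d000000029e) (.leaf 0))) (.node (.node (.leaf 0x50001d00003004e4) (.leaf 0)) (.node (.leaf 0x60001c0000000494) (.leaf 0))))))) (.node (.node (.node (.node (.node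 (.node (.leaf 0x50001c000000000e) (.leaf 0x80001c00000004cf)) (.node (.leaf 0x50001d0000300093) (.leaf 0))) (.node (.node (.leaf 0x40001c00000003d3) (.leaf 0xa0001d000000055d)) (.node (.leaf 0x30001b000030002c) (.leaf 0)))) (.node (.node (.node (.leaf 0x80001d00003001e9) (.leaf 0x70001c00000003a7)) (.node (.leaf 0xa0001c0000300219) (.leaf 0))) (.node (.node (.leaf 0xa0001c0000300015) (.leaf 0)) (.node (.leaf 0xb0001d00000003dd) (.leaf 0))))) (.node (.node (.node (.node (.leaf 0x60001d0000200062) (.leaf 0x80001d00003004a4)) (.node (.leaf 0xc0001d00000003f3) (.leaf 0))) (.node (.node (.leaf 0xa0001d00000002bd) (.leaf 0xb0001d000030057d)) (.node (.leaf 0xa0001c0000300418) (.leaf 0)))) (.node (.node (.node (.leaf 0x20001c0000300031) (.leaf 0xa0001d000000024a)) (.node (.leaf 0x90001d0000000516) (.leaf 0))) (.node (.node (.leaf 0x80001c00003002f8) (.leaf 0)) (.node (.leaf 0x80001c00003001a2) (.leaf 0)))))) (.node (.node (.node (.node (.node (.leaf 0x50001d0000200042) (.leaf 0xa0001d0000300278))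 (.node (.leaf 0xa0001d0000000430) (.leaf 0))) (.node (.node (.leaf 0xc0001d0000000282) (.leaf 0x90001d0000000258)) (.node (.leaf 0x60001c00003002c7) (.leaf 0)))) (.node (.node (.node (.leaf 0x90001d000000009c) (.leaf 0x90001c0000300271)) (.node (.leaf 0xa0001d00003001b7) (.leaf 0))) (.node (.node (.leaf 0xa0001c0000000124) (.leaf 0)) (.node (.leaf 0x90001d000000052f) (.leaf 0))))) (.node (.node (.node (.node (.leaf 0x90001c00003001e8) (.leaf 0x60001c000030051d)) (.node (.leaf 0x60001d00000001ef) (.leaf 0))) (.node (.node (.leaf 0x90001c000030029d) (.leaf 0x50001d000030011c)) (.node (.leaf 0xc0001d00000004f0) (.leaf 0)))) (.node (.node (.node (.leaf 0x80001c0000300485) (.leaf 0x60001d0000300196)) (.node (.leaf 0x70001c000000018a) (.leaf 0))) (.node (.node (.leaf 0xb0001d0000000548) (.leaf 0)) (.node (.leaf 0xa0001c000030046e) (.leaf 0))))))))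

/-- a forest -/
def forest3 : Trie :=
  (.node (.node (.node (.node forest30 forest38) (.node forest34 forest312)) (.node (.node forest32 forest310) (.node forest36 forest314))) (.node (.node (.node forest31 forest39) (.node forest35 forest313)) (.node (.node forest33 forest311) (.node forest37 forest315))))

/-- part of a tree -/
def node4L0tree0 : Trie :=
  (.node (.node (.leaf 0x0) (.leaf 0x200000)) (.node (.leaf 0x100000) (.leaf 0x200001)))

/-- a tree -/
def node4L0tree : Trie :=
  node4L0tree0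

/-- part of transversal words -/
def node4L0word0 : Trie :=
  (.node (.node (.leaf 0x0) (.leaf 0x134d36a42dd659)) (.node (.leaf 0x149) (.leaf 0x9a69b32c2dd659)))

/-- transversal words -/
def node4L0word : Trie :=
  node4L0word0

/-- part of closing hints -/
def node4L0close0 : Trie :=
  (.node (.node (.node (.node (.leaf 0x1021000) (.leaf 0x2000)) (.node (.leaf 0x0) (.leaf 0))) (.node (.node (.leaf 0x2) (.leaf 0x2)) (.node (.leaf 0x1002) (.leaf 0)))) (.node (.node (.node (.leaf 0x1) (.leaf 0x1003)) (.node (.leaf 0x3) (.leaf 0))) (.node (.node (.leaf 0x1021001) (.leaf 0x2001)) (.node (.leaf 0x3) (.leaf 0)))))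

/-- closing hints -/
def node4L0close : Trie :=
  node4L0close0

/-- a level -/
def node4L0 : SLev := ⟨0, [0x51491366430c, 329, 0x134d36a42dd659], node4L0tree, node4L0word, 4, node4L0close, [(2, 0), (3, 2)]⟩

/-- part of a tree -/
def node4L1tree0 : Trie :=
  (.node (.node (.node (.node (.node (.node (.leaf 0x0) (.leaf 0x19)) (.node (.leaf 0x8) (.leaf 0))) (.node (.node (.leaf 0x100003) (.leaf 0)) (.node (.leaf 0xd) (.leaf 0)))) (.node (.node (.node (.leaf 0x100001) (.leaf 0)) (.node (.leaf 0xb) (.leaf 0))) (.node (.node (.leaf 0x100005) (.leaf 0)) (.node (.leaf 0x100010) (.leaf 0))))) (.node (.node (.node (.node (.leaf 0x100000) (.leaf 0x1a)) (.node (.leaf 0x9) (.leaf 0))) (.node (.node (.leaf 0x100004) (.leaf 0)) (.node (.leaf 0xf) (.leaf 0)))) (.node (.node (.node (.leaf 0x100002) (.leaf 0)) (.node (.leaf 0xc) (.leaf 0))) (.node (.node (.leaf 0x7) (.leaf 0)) (.node (.leaf 0x14) (.leaf 0)))))) (.node (.node (.node (.node (.node (.leaf 0x0) (.leaf 0x100019)) (.node (.leaf 0x100008)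 (.leaf 0))) (.node (.node (.leaf 0x4) (.leaf 0)) (.node (.leaf 0x10000e) (.leaf 0)))) (.node (.node (.node (.leaf 0x2) (.leaf 0)) (.node (.leaf 0x10000b) (.leaf 0))) (.node (.node (.leaf 0x6) (.leaf 0)) (.node (.leaf 0x13) (.leaf 0))))) (.node (.node (.node (.node (.leaf 0x1) (.leaf 0x1d)) (.node (.leaf 0xa) (.leaf 0))) (.node (.node (.leaf 0x5) (.leaf 0)) (.node (.leaf 0x10) (.leaf 0)))) (.node (.node (.node (.leaf 0x3) (.leaf 0)) (.node (.leaf 0x10000c) (.leaf 0))) (.node (.node (.leaf 0x100007) (.leaf 0)) (.node (.leaf 0x18) (.leaf 0)))))))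

/-- a tree -/
def node4L1tree : Trie :=
  node4L1tree0

/-- part of transversal words -/
def node4L1word0 : Trie :=
  (.node (.node (.node (.node (.node (.node (.leaf 0x0) (.leaf 0x1b5226a432190c)) (.node (.leaf 0x142cc85b2cb) (.leaf 0))) (.node (.node (.leaf 0x369a69b65965b) (.leaf 0)) (.node (.leaf 0x1430c85b30b) (.leaf 0)))) (.node (.node (.node (.leaf 0x69a6d485b659) (.leaf 0)) (.node (.leaf 0x1489b321861659) (.leaf 0))) (.node (.node (.leaf 0x145144cc85990c) (.leaf 0)) (.node (.leaf 0x51352265b659664) (.leaf 0))))) (.node (.node (.node (.node (.leaf 0x9132cb65b321) (.leaf 0x8642cc85b)) (.node (.leaf 0x6d485b2cb30c) (.leaf 0))) (.node (.node (.leaf 0x145134da6618596cb) (.leaf 0)) (.node (.leaf 0x861659) (.leaf 0)))) (.node (.node (.node (.leaf 0x4da91486185b) (.leaf 0)) (.node (.leaf 0x1489a69b661659) (.leaf 0))) (.node (.node (.leaf 0x85990b6cb) (.leaf 0)) (.node (.leaf 0x136a289a90c2cb30c) (.leaf 0)))))) (.node (.node (.node (.node (.node (.leaf 0x85b65b30b) (.leaf 0x4d36a26cb6cc861))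 (.node (.leaf 0x145134cb6642d9) (.leaf 0))) (.node (.node (.leaf 0x51489b659664) (.leaf 0)) (.node (.leaf 0x244da89b6642cc) (.leaf 0)))) (.node (.node (.node (.leaf 0x4d36a48a42cc861) (.leaf 0)) (.node (.leaf 0x132cb2d96cb) (.leaf 0))) (.node (.node (.leaf 0x1a89b4db2cc85b) (.leaf 0)) (.node (.leaf 0x5145226cb65b30b) (.leaf 0))))) (.node (.node (.node (.node (.leaf 0x229226d365b30b) (.leaf 0x8a28a452190c861)) (.node (.leaf 0x1451489b321861) (.leaf 0))) (.node (.node (.leaf 0x269a8acaebb252eb) (.leaf 0)) (.node (.leaf 0x2290c861861) (.leaf 0)))) (.node (.node (.node (.leaf 0x226a452190b6cb) (.leaf 0)) (.node (.leaf 0x229135216d96cb) (.leaf 0))) (.node (.node (.leaf 0x226642d9659) (.leaf 0)) (.node (.leaf 0x48a289b661864) (.leaf 0)))))))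

/-- transversal words -/
def node4L1word : Trie :=
  node4L1word0

/-- part of closing hints -/
def node4L1close0 : Trie :=
  (.node (.node (.node (.node (.node (.node (.node (.leaf 0x1) (.leaf 0x1004008)) (.node (.leaf 0x1b) (.leaf 0))) (.node (.node (.leaf 0x10) (.leaf 0)) (.node (.leaf 0x1f) (.leaf 0)))) (.node (.node (.node (.leaf 0x9) (.leaf 0)) (.node (.leaf 0x1e) (.leaf 0))) (.node (.node (.leaf 0x16) (.leaf 0)) (.node (.leaf 0x3017) (.leaf 0))))) (.node (.node (.node (.node (.leaf 0x5) (.leaf 0x401c)) (.node (.leaf 0x200c) (.leaf 0))) (.node (.node (.leaf 0x13) (.leaf 0)) (.node (.leaf 0x22) (.leaf 0)))) (.node (.node (.node (.leaf 0xd) (.leaf 0)) (.node (.leaf 0x2004) (.leaf 0))) (.node (.node (.leaf 0x0) (.leaf 0)) (.node (.leaf 0x2) (.leaf 0)))))) (.node (.node (.node (.node (.node (.leaf 0x3) (.leaf 0x1006)) (.node (.leaf 0x1002011) (.leaf 0))) (.node (.node (.leaf 0x12) (.leaf 0)) (.node (.leaf 0x20) (.leaf 0)))) (.node (.node (.node (.leaf 0xb) (.leaf 0)) (.node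 (.leaf 0x100200a) (.leaf 0))) (.node (.node (.leaf 0x18) (.leaf 0)) (.node (.leaf 0x23) (.leaf 0))))) (.node (.node (.node (.node (.leaf 0x7) (.leaf 0x3015)) (.node (.leaf 0x1d) (.leaf 0))) (.node (.node (.leaf 0x14) (.leaf 0)) (.node (.leaf 0x1001019) (.leaf 0)))) (.node (.node (.node (.leaf 0xe) (.leaf 0)) (.node (.leaf 0x100f) (.leaf 0))) (.node (.node (.leaf 0x1a) (.leaf 0)) (.node (.leaf 0x1021) (.leaf 0))))))) (.node (.node (.node (.node (.node (.node (.leaf 0x2) (.leaf 0x2022)) (.node (.leaf 0x1c) (.leaf 0))) (.node (.node (.leaf 0x11) (.leaf 0)) (.node (.leaf 0x100100d) (.leaf 0)))) (.node (.node (.node (.leaf 0xa) (.leaf 0)) (.node (.leaf 0x100101b) (.leaf 0))) (.node (.node (.leaf 0x17) (.leaf 0)) (.node (.leaf 0x1016) (.leaf 0))))) (.node (.node (.node (.node (.leaf 0x6) (.leaf 0x23)) (.node (.leaf 0x1018) (.leaf 0))) (.node (.node (.leaf 0x1) (.leaf 0)) (.node (.leaf 0x100001d) (.leaf 0)))) (.node (.node (.node (.leaf 0x0) (.leaf 0)) (.node (.leaf 0x1010) (.leaf 0)))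 (.node (.node (.leaf 0x19) (.leaf 0)) (.node (.leaf 0x301a) (.leaf 0)))))) (.node (.node (.node (.node (.node (.leaf 0x4) (.leaf 0xe)) (.node (.leaf 0x3) (.leaf 0))) (.node (.node (.leaf 0x400b) (.leaf 0)) (.node (.leaf 0x21) (.leaf 0)))) (.node (.node (.node (.leaf 0xc) (.leaf 0)) (.node (.leaf 0x4009) (.leaf 0))) (.node (.node (.leaf 0x1003012) (.leaf 0)) (.node (.leaf 0x201e) (.leaf 0))))) (.node (.node (.node (.node (.leaf 0x8) (.leaf 0x2020)) (.node (.leaf 0x3007) (.leaf 0))) (.node (.node (.leaf 0x15) (.leaf 0)) (.node (.leaf 0x1f) (.leaf 0)))) (.node (.node (.node (.leaf 0xf) (.leaf 0)) (.node (.leaf 0x5) (.leaf 0))) (.node (.node (.leaf 0x1002013) (.leaf 0)) (.node (.leaf 0x1004014) (.leaf 0))))))))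

/-- closing hints -/
def node4L1close : Trie :=
  node4L1close0

/-- a level -/
def node4L1 : SLev := ⟨6, [0x85b65b30b, 0x9132cb65b321], node4L1tree, node4L1word, 36, node4L1close, [(18, 1), (29, 1)]⟩

/-- part of a tree -/
def node4L2tree0 : Trie :=
  (.node (.node (.node (.leaf 0x0) (.leaf 0x3)) (.node (.leaf 0x100000) (.leaf 0))) (.node (.node (.leaf 0x0) (.leaf 0)) (.node (.leaf 0x100001) (.leaf 0))))

/-- a tree -/
def node4L2tree : Trie :=
  node4L2tree0

/-- part of transversal words -/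
def node4L2word0 : Trie :=
  (.node (.node (.node (.leaf 0x0) (.leaf 0x1452289a66190c30c)) (.node (.leaf 0x9a9136cb661) (.leaf 0))) (.node (.node (.leaf 0x4d330c2cb30c) (.leaf 0)) (.node (.leaf 0x5135226d96cb30c) (.leaf 0))))

/-- transversal words -/
def node4L2word : Trie :=
  node4L2word0

/-- part of closing hints -/
def node4L2close0 : Trie :=
  (.node (.node (.node (.node (.leaf 0x1) (.leaf 0x3)) (.node (.leaf 0x1002) (.leaf 0))) (.node (.node (.leaf 0x0) (.leaf 0)) (.node (.leaf 0x4) (.leaf 0)))) (.node (.node (.node (.leaf 0x2) (.leaf 0x1004)) (.node (.leaf 0x0) (.leaf 0))) (.node (.node (.leaf 0x3) (.leaf 0)) (.node (.leaf 0x1) (.leaf 0)))))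

/-- closing hints -/
def node4L2close : Trie :=
  node4L2close0

/-- a level -/
def node4L2 : SLev := ⟨8, [0x4d330c2cb30c, 0x9a9136cb661], node4L2tree, node4L2word, 5, node4L2close, [(4, 1)]⟩

/-- part of a tree -/
def node4L3tree0 : Trie :=
  (.node (.leaf 0x0) (.leaf 0x0))

/-- a tree -/
def node4L3tree : Trie :=
  node4L3tree0

/-- part of transversal words -/
def node4L3word0 : Trie :=
  (.node (.leaf 0x0) (.leaf 0x659659))

/-- transversal words -/
def node4L3word : Trie :=
  node4L3word0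

/-- part of closing hints -/
def node4L3close0 : Trie :=
  (.node (.leaf 0x1) (.leaf 0x0))

/-- closing hints -/
def node4L3close : Trie :=
  node4L3close0

/-- a level -/
def node4L3 : SLev := ⟨7, [0x659659], node4L3tree, node4L3word, 2, node4L3close, []⟩

/-- a chain -/
def node4 : List SLev := [node4L0, node4L1, node4L2, node4L3]

/-- part of a forest -/
def forest40 : Trie :=
  (.node (.node (.node (.node (.node (.node (.node (.leaf 0x1e0000000000) (.leaf 0x9000290000200569)) (.node (.leaf 0x50002500000003ad) (.leaf 0))) (.node (.node (.leaf 0x90002900000003e4) (.leaf 0x70002900000003bf)) (.node (.leaf 0x6000230000000267) (.leaf 0)))) (.node (.node (.node (.leaf 0x3000280000200036) (.leaf 0x900025000020030f)) (.node (.leaf 0x70002400002000ee) (.leaf 0))) (.node (.node (.leaf 0x7000290000000424) (.leaf 0)) (.node (.leaf 0x30002600002004cf) (.leaf 0))))) (.node (.node (.node (.node (.leaf 0x70002600002000c9) (.leaf 0x7000240000200540)) (.node (.leaf 0x500029000000040e) (.leaf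 0))) (.node (.node (.leaf 0x60002500002004f0) (.leaf 0x60002400002003b2)) (.node (.leaf 0x900029000020043a) (.leaf 0)))) (.node (.node (.node (.leaf 0x20002c0000200078) (.leaf 0x8000290000200180)) (.node (.leaf 0x6000240000200335) (.leaf 0))) (.node (.node (.leaf 0x70002900002004ca) (.leaf 0)) (.node (.leaf 0x40002200000003a7) (.leaf 0)))))) (.node (.node (.node (.node (.node (.leaf 0x600024000020048c) (.leaf 0x5000230000000553)) (.node (.leaf 0x90002600002002c4) (.leaf 0))) (.node (.node (.leaf 0x70002600000003e1) (.leaf 0x8000220000000559)) (.node (.leaf 0x30002a00002001bc) (.leaf 0)))) (.node (.node (.node (.leaf 0x60002500000000a4) (.leaf 0x60002300000003f3)) (.node (.leaf 0x700026000000027b) (.leaf 0))) (.node (.node (.leaf 0x4000230000200561) (.leaf 0)) (.node (.leaf 0x10002a0000000016) (.leaf 0))))) (.node (.node (.node (.node (.leaf 0x7000260000200289) (.leaf 0xa0002600002001f0)) (.node (.leaf 0x70002500002003d2) (.leaf 0))) (.node (.node (.leaf 0x600029000000046d) (.leaf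 0xa0002600000000cf)) (.node (.leaf 0x700025000020009e) (.leaf 0)))) (.node (.node (.node (.leaf 0x1000220000100006) (.leaf 0x5000240000200499)) (.node (.leaf 0x7000260000000543) (.leaf 0))) (.node (.node (.leaf 0x9000290000000505) (.leaf 0)) (.node (.leaf 0x700029000000039a) (.leaf 0))))))) (.node (.node (.node (.node (.node (.node (.leaf 0x260000000010) (.leaf 0x6000250000200563)) (.node (.leaf 0x6000220000200121) (.leaf 0))) (.node (.node (.leaf 0x600022000020000d) (.leaf 0x800024000000021c)) (.node (.leaf 0x900024000000012d) (.leaf 0)))) (.node (.node (.node (.leaf 0x6000220000000094) (.leaf 0x5000260000200513)) (.node (.leaf 0x80002900002001b3) (.leaf 0))) (.node (.node (.leaf 0x500023000020033b) (.leaf 0)) (.node (.leaf 0xa000290000200491) (.leaf 0))))) (.node (.node (.node (.node (.leaf 0x70002500002004b9) (.leaf 0x8000230000000538)) (.node (.leaf 0x7000290000000492) (.leaf 0))) (.node (.node (.leaf 0x500023000000040d) (.leaf 0x9000260000200531)) (.node (.leaf 0x70002600002004fc)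 (.leaf 0)))) (.node (.node (.node (.leaf 0x300029000000011a) (.leaf 0x90002900002004c5)) (.node (.leaf 0x8000260000200271) (.leaf 0))) (.node (.node (.leaf 0x80002600000002c9) (.leaf 0)) (.node (.leaf 0x40002200002003a7) (.leaf 0)))))) (.node (.node (.node (.node (.node (.leaf 0x10001f0000200001) (.leaf 0x50002300002000c4)) (.node (.leaf 0x80002900000004b8) (.leaf 0))) (.node (.node (.leaf 0x60002400000000a8) (.leaf 0x900026000000045c)) (.node (.leaf 0x7000260000000305) (.leaf 0)))) (.node (.node (.node (.leaf 0x2000230000200239) (.leaf 0x7000220000000261)) (.node (.leaf 0x90002200002003f8) (.leaf 0))) (.node (.node (.leaf 0x9000260000200219) (.leaf 0)) (.node (.leaf 0x60002400000003b2) (.leaf 0))))) (.node (.node (.node (.node (.leaf 0x2000200000200005) (.leaf 0x8000260000200295)) (.node (.leaf 0x6000220000000274) (.leaf 0))) (.node (.node (.leaf 0x8000220000200311) (.leaf 0x50002600002001b9)) (.node (.leaf 0x700022000020008e) (.leaf 0)))) (.node (.node (.node (.leaf 0x7000290000000547)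 (.leaf 0x50002500000003fd)) (.node (.leaf 0xa0002600002001f4) (.leaf 0))) (.node (.node (.leaf 0x90002600002000c5) (.leaf 0)) (.node (.leaf 0x500026000020043c) (.leaf 0))))))))

/-- part of a forest -/
def forest48 : Trie :=
  (.node (.node (.node (.node (.node (.node (.node (.leaf 0x800023000020033a) (.leaf 0x4000290000000376)) (.node (.leaf 0x7000290000200162) (.leaf 0))) (.node (.node (.leaf 0x500023000020040d) (.leaf 0x20002600002002d7)) (.node (.leaf 0x1000290000200014) (.leaf 0)))) (.node (.node (.node (.leaf 0x6000240000200448) (.leaf 0x7000260000200119)) (.node (.leaf 0x70002900002002a3) (.leaf 0))) (.node (.node (.leaf 0x30002c000010031e) (.leaf 0)) (.node (.leaf 0x7000290000200278) (.leaf 0))))) (.node (.node (.node (.node (.leaf 0x20002c000020003a) (.leaf 0x5000240000000552)) (.node (.leaf 0x80002400000004d7) (.leaf 0))) (.node (.node (.leaf 0x5000260000200154) (.leaf 0x500029000000021f)) (.node (.leaf 0x10002c0000000025) (.leaf 0)))) (.node (.node (.node (.leaf 0xa000290000200346)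 (.leaf 0x9000260000000504)) (.node (.leaf 0xa000290000000018) (.leaf 0))) (.node (.node (.leaf 0x3000260000200508) (.leaf 0)) (.node (.leaf 0x8000250000200301) (.leaf 0)))))) (.node (.node (.node (.node (.node (.leaf 0x1000280000100013) (.leaf 0x70002300002003e7)) (.node (.leaf 0x900029000020015d) (.leaf 0))) (.node (.node (.leaf 0x30002600000004f7) (.leaf 0x3000240000200352)) (.node (.leaf 0x6000240000000449) (.leaf 0)))) (.node (.node (.node (.leaf 0x50002400002002b1) (.leaf 0x600025000020018b)) (.node (.leaf 0x700026000020011d) (.leaf 0))) (.node (.node (.leaf 0x200027000020008a) (.leaf 0)) (.node (.leaf 0x900029000000022e) (.leaf 0))))) (.node (.node (.node (.node (.leaf 0x10002b0000100017) (.leaf 0x5000240000000331)) (.node (.leaf 0x8000260000200040) (.leaf 0))) (.node (.node (.leaf 0x8000250000200050) (.leaf 0x60002500002000a5)) (.node (.leaf 0x600029000020038f) (.leaf 0)))) (.node (.node (.node (.leaf 0x6000240000200468) (.leaf 0x600029000000040a)) (.node (.leaf 0xa000260000000489)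 (.leaf 0))) (.node (.node (.leaf 0xa000240000200482) (.leaf 0)) (.node (.leaf 0x6000290000000075) (.leaf 0))))))) (.node (.node (.node (.node (.node (.node (.leaf 0x9000290000000296) (.leaf 0x3000240000200406)) (.node (.leaf 0x900029000020055d) (.leaf 0))) (.node (.node (.leaf 0x90002600002001c7) (.leaf 0x700029000000013c)) (.node (.leaf 0xa000290000000034) (.leaf 0)))) (.node (.node (.node (.leaf 0x600025000000004b) (.leaf 0x400025000000024d)) (.node (.leaf 0x40002600000001f1) (.leaf 0))) (.node (.node (.leaf 0x700029000020013c) (.leaf 0)) (.node (.leaf 0x4000290000200153) (.leaf 0))))) (.node (.node (.node (.node (.leaf 0x70002600002002f8) (.leaf 0x50002300000000c4)) (.node (.leaf 0x7000250000000568) (.leaf 0))) (.node (.node (.leaf 0x90002600002001f2) (.leaf 0x5000290000200576)) (.node (.leaf 0x20002300002001a6) (.leaf 0)))) (.node (.node (.node (.leaf 0xa0002600002001fc) (.leaf 0x40002500000002c6)) (.node (.leaf 0x500025000000018c) (.leaf 0))) (.node (.node (.leaf 0x70002600000001c3)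 (.leaf 0)) (.node (.leaf 0x4000240000000556) (.leaf 0)))))) (.node (.node (.node (.node (.node (.leaf 0x700026000000017d) (.leaf 0x80002600002002c9)) (.node (.leaf 0x3000220000100081) (.leaf 0))) (.node (.node (.leaf 0xb000290000000127) (.leaf 0x7000230000000535)) (.node (.leaf 0x50002600000003ca) (.leaf 0)))) (.node (.node (.node (.leaf 0x800022000020002e) (.leaf 0x700029000020020e)) (.node (.leaf 0x900026000020005c) (.leaf 0))) (.node (.node (.leaf 0x800026000000051c) (.leaf 0)) (.node (.leaf 0x30002d00000003af) (.leaf 0))))) (.node (.node (.node (.node (.leaf 0x10002c0000200025) (.leaf 0x6000220000200253)) (.node (.leaf 0x6000290000000240) (.leaf 0))) (.node (.node (.leaf 0x9000290000000546) (.leaf 0x30002600000003d1)) (.node (.leaf 0x80002900002002bd) (.leaf 0)))) (.node (.node (.node (.leaf 0x7000290000000115) (.leaf 0x500025000020041d)) (.node (.leaf 0x600026000020033c) (.leaf 0))) (.node (.node (.leaf 0x90002900000000f6) (.leaf 0)) (.node (.leaf 0x80002200000000e3) (.leaf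 0))))))))

/-- part of a forest -/
def forest44 : Trie :=
  (.node (.node (.node (.node (.node (.node (.node (.leaf 0x1000210000100003) (.leaf 0x80002400002004e5)) (.node (.leaf 0x20002b0000200068) (.leaf 0))) (.node (.node (.leaf 0x90002400002004ab) (.leaf 0x80002600000004bf)) (.node (.leaf 0x4000290000000153) (.leaf 0)))) (.node (.node (.node (.leaf 0x600024000020036f) (.leaf 0x8000260000200011)) (.node (.leaf 0xa000260000000345) (.leaf 0))) (.node (.node (.leaf 0x7000240000200283) (.leaf 0)) (.node (.leaf 0x90002600000003ff) (.leaf 0))))) (.node (.node (.node (.node (.leaf 0x6000230000200150) (.leaf 0x40002900000000d0)) (.node (.leaf 0x90002400002003eb) (.leaf 0))) (.node (.node (.leaf 0x100024000000000b) (.leaf 0x400029000020045f)) (.node (.leaf 0x7000250000000255) (.leaf 0)))) (.node (.node (.node (.leaf 0x4000230000000561) (.leaf 0x7000290000000160)) (.node (.leaf 0x8000260000200434) (.leaf 0))) (.node (.node (.leaf 0x700024000000022c) (.leaf 0)) (.node (.leaf 0x60002200002000ba)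 (.leaf 0)))))) (.node (.node (.node (.node (.node (.leaf 0x10002a0000200016) (.leaf 0x600029000000048e)) (.node (.leaf 0xa0002600002002f1) (.leaf 0))) (.node (.node (.leaf 0x7000260000200371) (.leaf 0x60002400002001a2)) (.node (.leaf 0x70002500002004a8) (.leaf 0)))) (.node (.node (.node (.leaf 0x500025000020018c) (.leaf 0x8000290000000495)) (.node (.leaf 0x50002500002004de) (.leaf 0))) (.node (.node (.leaf 0x30002a000000030a) (.leaf 0)) (.node (.leaf 0x3000230000200093) (.leaf 0))))) (.node (.node (.node (.node (.leaf 0x2000250000000052) (.leaf 0xb0002600000003ae)) (.node (.leaf 0x6000260000000235) (.leaf 0))) (.node (.node (.leaf 0x8000290000200208) (.leaf 0x7000240000200395)) (.node (.leaf 0x60002200002000a2) (.leaf 0)))) (.node (.node (.node (.leaf 0x2000240000200313) (.leaf 0x4000230000100107)) (.node (.leaf 0x20002500000000bb) (.leaf 0))) (.node (.node (.leaf 0x80002400000004e5) (.leaf 0)) (.node (.leaf 0x8000290000200445) (.leaf 0))))))) (.node (.node (.node (.node (.node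 (.node (.leaf 0x290000000014) (.leaf 0xa00029000020019b)) (.node (.leaf 0x9000260000200199) (.leaf 0))) (.node (.node (.leaf 0x900024000000046a) (.leaf 0x8000220000200183)) (.node (.leaf 0x4000220000000259) (.leaf 0)))) (.node (.node (.node (.leaf 0x50002200002002da) (.leaf 0xa000260000200213)) (.node (.leaf 0x8000220000000396) (.leaf 0))) (.node (.node (.leaf 0x50002900002001c2) (.leaf 0)) (.node (.leaf 0x700023000020026b) (.leaf 0))))) (.node (.node (.node (.node (.leaf 0x60002900002003a9) (.leaf 0x8000260000000040)) (.node (.leaf 0x60002200002003f9) (.leaf 0))) (.node (.node (.leaf 0x4000260000200380) (.leaf 0xa0002600000001f5)) (.node (.leaf 0x800022000020004e) (.leaf 0)))) (.node (.node (.node (.leaf 0x60002900000002a9) (.leaf 0x300024000000040c)) (.node (.leaf 0xa00026000000051b) (.leaf 0))) (.node (.node (.leaf 0xa000260000000129) (.leaf 0)) (.node (.leaf 0x5000260000000566) (.leaf 0)))))) (.node (.node (.node (.node (.node (.leaf 0x900029000020039c) (.leaf 0x70002600002003fb))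 (.node (.leaf 0x8000230000200538) (.leaf 0))) (.node (.node (.leaf 0x300022000000006a) (.leaf 0x700022000020010a)) (.node (.leaf 0x5000240000000483) (.leaf 0)))) (.node (.node (.node (.leaf 0x400024000000006e) (.leaf 0x400024000020022f)) (.node (.leaf 0x2000220000000113) (.leaf 0))) (.node (.node (.leaf 0xb000290000000397) (.leaf 0)) (.node (.leaf 0x400025000000009f) (.leaf 0))))) (.node (.node (.node (.node (.leaf 0x4000280000200080) (.leaf 0x60002300002003f3)) (.node (.leaf 0x500022000000035d) (.leaf 0))) (.node (.node (.leaf 0x60002600002004af) (.leaf 0x7000240000000524)) (.node (.leaf 0x40002400000004d4) (.leaf 0)))) (.node (.node (.node (.leaf 0x900026000000053a) (.leaf 0x80002200002002c7)) (.node (.leaf 0x90002900002000e2) (.leaf 0))) (.node (.node (.leaf 0x90002600002001b8) (.leaf 0)) (.node (.leaf 0x60002200002004dd) (.leaf 0))))))))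

/-- part of a forest -/
def forest412 : Trie :=
  (.node (.node (.node (.node (.node (.node (.node (.leaf 0x25000000000c) (.leaf 0x2000240000200103)) (.node (.leaf 0x3000260000000508) (.leaf 0))) (.node (.node (.leaf 0x80002200002003ac) (.leaf 0x80002600002002a8)) (.node (.leaf 0x3000270000000037) (.leaf 0)))) (.node (.node (.node (.leaf 0x70002200000003c4) (.leaf 0x500024000000018a)) (.node (.leaf 0x40002600002001f1) (.leaf 0))) (.node (.node (.leaf 0x4000250000200142) (.leaf 0)) (.node (.leaf 0x7000260000200477) (.leaf 0))))) (.node (.node (.node (.node (.leaf 0x30002700002001a8) (.leaf 0x600026000000050f)) (.node (.leaf 0x80002300000003cb) (.leaf 0))) (.node (.node (.leaf 0x8000240000000442) (.leaf 0x3000220000000309)) (.node (.leaf 0x400022000020054c) (.leaf 0)))) (.node (.node (.node (.leaf 0x800026000000056a) (.leaf 0xa00026000020033f)) (.node (.leaf 0x600023000000031c) (.leaf 0))) (.node (.node (.leaf 0x9000290000000290) (.leaf 0)) (.node (.leaf 0x300022000020014a) (.leaf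 0)))))) (.node (.node (.node (.node (.node (.leaf 0x10001f0000100001) (.leaf 0x800026000000038c)) (.node (.leaf 0x600024000020031d) (.leaf 0))) (.node (.node (.leaf 0x40002900002000d0) (.leaf 0x30002900000002ec)) (.node (.leaf 0x4000250000000537) (.leaf 0)))) (.node (.node (.node (.leaf 0x8000230000000131) (.leaf 0xb00026000000048d)) (.node (.leaf 0xa0002600000001f4) (.leaf 0))) (.node (.node (.leaf 0x900029000020043d) (.leaf 0)) (.node (.leaf 0x7000220000200210) (.leaf 0))))) (.node (.node (.node (.node (.leaf 0x2000270000000043) (.leaf 0x60002400002004e0)) (.node (.leaf 0x50002200002003e3) (.leaf 0))) (.node (.node (.leaf 0x40002500002000bf) (.leaf 0x9000290000000451)) (.node (.leaf 0x8000290000200435) (.leaf 0)))) (.node (.node (.node (.leaf 0x50002200000002da) (.leaf 0x8000290000200366)) (.node (.leaf 0x2000290000200308) (.leaf 0))) (.node (.node (.leaf 0x8000290000000216) (.leaf 0)) (.node (.leaf 0x6000290000200433) (.leaf 0))))))) (.node (.node (.node (.node (.node (.node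 (.leaf 0x20002900002000d3) (.leaf 0x40002200002004ba)) (.node (.leaf 0x7000240000200328) (.leaf 0))) (.node (.node (.leaf 0x6000290000000433) (.leaf 0x70002600000000da)) (.node (.leaf 0x50002300000003c3) (.leaf 0)))) (.node (.node (.node (.leaf 0x70002500000003ba) (.leaf 0x700024000020026d)) (.node (.leaf 0x80002900002003de) (.leaf 0))) (.node (.node (.leaf 0x9000290000000522) (.leaf 0)) (.node (.leaf 0x80002900002002dc) (.leaf 0))))) (.node (.node (.node (.node (.leaf 0x80002600000002a0) (.leaf 0x800026000000035e)) (.node (.leaf 0x5000240000200374) (.leaf 0))) (.node (.node (.leaf 0x7000290000200368) (.leaf 0x80002600000001d7)) (.node (.leaf 0x8000250000000527) (.leaf 0)))) (.node (.node (.node (.leaf 0x300024000020030b) (.leaf 0x9000260000200205)) (.node (.leaf 0x7000290000200201) (.leaf 0))) (.node (.node (.leaf 0x90002500002000b6) (.leaf 0)) (.node (.leaf 0x600023000000014d) (.leaf 0)))))) (.node (.node (.node (.node (.node (.leaf 0x80002600002004d9) (.leaf 0x4000260000000509))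 (.node (.leaf 0x6000230000000150) (.leaf 0))) (.node (.node (.leaf 0x60002900000000d7) (.leaf 0x7000230000200300)) (.node (.leaf 0x50002600000001d6) (.leaf 0)))) (.node (.node (.node (.leaf 0x4000230000200107) (.leaf 0x600025000020024a)) (.node (.leaf 0xb00029000000042b) (.leaf 0))) (.node (.node (.leaf 0x20002a0000200024) (.leaf 0)) (.node (.leaf 0x50002200002000bd) (.leaf 0))))) (.node (.node (.node (.node (.leaf 0x400028000020007f) (.leaf 0x7000290000000175)) (.node (.leaf 0x70002900002004e8) (.leaf 0))) (.node (.node (.leaf 0x8000290000200385) (.leaf 0x900026000020023e)) (.node (.leaf 0xb00026000020007a) (.leaf 0)))) (.node (.node (.node (.leaf 0x5000260000200195) (.leaf 0x6000260000000359)) (.node (.leaf 0x5000260000200207) (.leaf 0))) (.node (.node (.leaf 0x900026000020037d) (.leaf 0)) (.node (.leaf 0x1000290000000014) (.leaf 0))))))))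

/-- part of a forest -/
def forest42 : Trie :=
  (.node (.node (.node (.node (.node (.node (.node (.leaf 0x200000000002) (.leaf 0x7000240000200088)) (.node (.leaf 0x7000290000200115) (.leaf 0))) (.node (.node (.leaf 0x50002900000001c2) (.leaf 0x70002600002003a6)) (.node (.leaf 0x8000260000000485) (.leaf 0)))) (.node (.node (.node (.leaf 0x500027000020010d) (.leaf 0x9000240000200422)) (.node (.leaf 0x60002300002003c2) (.leaf 0))) (.node (.node (.leaf 0x5000290000200444) (.leaf 0)) (.node (.leaf 0x800029000020015c) (.leaf 0))))) (.node (.node (.node (.node (.leaf 0x4000270000000322) (.leaf 0x70002400002000e5)) (.node (.leaf 0x9000290000200382) (.leaf 0))) (.node (.node (.leaf 0x3000250000000064) (.leaf 0xa0002600000002d5)) (.node (.leaf 0xc00029000020015a) (.leaf 0)))) (.node (.node (.node (.leaf 0x30002d0000200106) (.leaf 0x7000220000000336)) (.node (.leaf 0x90002900000001ef) (.leaf 0))) (.node (.node (.leaf 0x40002900000001eb) (.leaf 0)) (.node (.leaf 0x5000230000000133) (.leaf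 0)))))) (.node (.node (.node (.node (.node (.leaf 0x6000230000200387) (.leaf 0x8000240000200280)) (.node (.leaf 0xa000260000000446) (.leaf 0))) (.node (.node (.leaf 0x9000260000000470) (.leaf 0x80002900000002e3)) (.node (.leaf 0x300027000000006c) (.leaf 0)))) (.node (.node (.node (.leaf 0x50002200002003f6) (.leaf 0x30002400002000e4)) (.node (.leaf 0x60002900000003a5) (.leaf 0))) (.node (.node (.leaf 0x500024000020018a) (.leaf 0)) (.node (.leaf 0x6000220000200431) (.leaf 0))))) (.node (.node (.node (.node (.leaf 0x5000270000000343) (.leaf 0x8000290000200383)) (.node (.leaf 0x70002300002000b1) (.leaf 0))) (.node (.node (.leaf 0x6000290000000059) (.leaf 0x6000290000000194)) (.node (.leaf 0x500023000000036b) (.leaf 0)))) (.node (.node (.node (.leaf 0x80002900002000f0) (.leaf 0x900029000000053e)) (.node (.leaf 0x400028000000005e) (.leaf 0))) (.node (.node (.leaf 0x8000260000200124) (.leaf 0)) (.node (.leaf 0x9000290000200378) (.leaf 0))))))) (.node (.node (.node (.node (.node (.node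 (.leaf 0x270000000012) (.leaf 0x900024000020046a)) (.node (.leaf 0x5000290000200408) (.leaf 0))) (.node (.node (.leaf 0x6000230000200421) (.leaf 0x7000230000200474)) (.node (.leaf 0x700023000020026a) (.leaf 0)))) (.node (.node (.node (.leaf 0x4000230000200361) (.leaf 0x600029000020044b)) (.node (.leaf 0x40002b000000005a) (.leaf 0))) (.node (.node (.leaf 0x9000260000200367) (.leaf 0)) (.node (.leaf 0x9000260000200355) (.leaf 0))))) (.node (.node (.node (.node (.leaf 0x100025000000000c) (.leaf 0x800026000020019f)) (.node (.leaf 0x70002900000002a2) (.leaf 0))) (.node (.node (.leaf 0x50002500002003fa) (.leaf 0x4000240000000418)) (.node (.leaf 0x2000240000100144) (.leaf 0)))) (.node (.node (.node (.leaf 0x5000260000000579) (.leaf 0x50002900000001e7)) (.node (.leaf 0x70002900002001ad) (.leaf 0))) (.node (.node (.leaf 0xa0002900000003a8) (.leaf 0)) (.node (.leaf 0x6000250000000467) (.leaf 0)))))) (.node (.node (.node (.node (.node (.leaf 0x50002500000000a6) (.leaf 0x600022000000018d))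 (.node (.leaf 0x90002900002000cb) (.leaf 0))) (.node (.node (.leaf 0x80002300002004f1) (.leaf 0x5000290000000179)) (.node (.leaf 0x700023000020029e) (.leaf 0)))) (.node (.node (.node (.leaf 0x700024000020023a) (.leaf 0x8000230000200332)) (.node (.leaf 0x6000250000200467) (.leaf 0))) (.node (.node (.leaf 0x4000230000200149) (.leaf 0)) (.node (.leaf 0x50002400000003bb) (.leaf 0))))) (.node (.node (.node (.node (.leaf 0xa000260000200503) (.leaf 0x500022000020034c)) (.node (.leaf 0xa0002900002002e7) (.leaf 0))) (.node (.node (.leaf 0x8000290000200250) (.leaf 0x7000230000000365)) (.node (.leaf 0x90002900002001ec) (.leaf 0)))) (.node (.node (.node (.leaf 0x6000260000200148) (.leaf 0x7000260000200287)) (.node (.leaf 0x6000290000000501) (.leaf 0))) (.node (.node (.leaf 0x8000260000000060) (.leaf 0)) (.node (.leaf 0x50002200002004a6) (.leaf 0))))))))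

/-- part of a forest -/
def forest410 : Trie :=
  (.node (.node (.node (.node (.node (.node (.node (.leaf 0x1000200000200002) (.leaf 0x5000290000000576)) (.node (.leaf 0xa00026000000054a) (.leaf 0))) (.node (.node (.leaf 0x60002200000004fa) (.leaf 0x9000290000200197)) (.node (.leaf 0x20002a00000003a0) (.leaf 0)))) (.node (.node (.node (.leaf 0x1000270000100012) (.leaf 0x90002900002000cd)) (.node (.leaf 0xa00029000020023d) (.leaf 0))) (.node (.node (.leaf 0x40002400000004a2) (.leaf 0)) (.node (.leaf 0x6000260000200325) (.leaf 0))))) (.node (.node (.node (.node (.leaf 0x50002400000000a9) (.leaf 0x40002900002002a6)) (.node (.leaf 0x50002500002004d8) (.leaf 0))) (.node (.node (.leaf 0x200022000010002f) (.leaf 0x90002600000003cd)) (.node (.leaf 0x6000220000000095) (.leaf 0)))) (.node (.node (.node (.leaf 0x60002900002002ea) (.leaf 0x60002900002002be)) (.node (.leaf 0x60002200000000ec) (.leaf 0))) (.node (.node (.leaf 0x9000290000000230) (.leaf 0)) (.node (.leaf 0x400026000000040b)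 (.leaf 0)))))) (.node (.node (.node (.node (.node (.leaf 0x300023000020053f) (.leaf 0x600025000020032a)) (.node (.leaf 0x90002500002003c8) (.leaf 0))) (.node (.node (.leaf 0x70002900000002fe) (.leaf 0x4000260000000128)) (.node (.leaf 0x50002500000004d8) (.leaf 0)))) (.node (.node (.node (.leaf 0x700023000020036e) (.leaf 0x5000290000200529)) (.node (.leaf 0x6000260000200256) (.leaf 0))) (.node (.node (.leaf 0x2000230000000239) (.leaf 0)) (.node (.leaf 0x5000290000000409) (.leaf 0))))) (.node (.node (.node (.node (.leaf 0x2000220000200113) (.leaf 0x8000240000200316)) (.node (.leaf 0x60002300000004a7) (.leaf 0))) (.node (.node (.leaf 0x50002500002003b4) (.leaf 0x7000260000000287)) (.node (.leaf 0x40002200000000c3) (.leaf 0)))) (.node (.node (.node (.leaf 0x400022000020008d) (.leaf 0x60002500000004f8)) (.node (.leaf 0x50002900002000f5) (.leaf 0))) (.node (.node (.leaf 0xb00029000000044f) (.leaf 0)) (.node (.leaf 0x40002500002003dd) (.leaf 0))))))) (.node (.node (.node (.node (.node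 (.node (.leaf 0x5000270000200343) (.leaf 0x70002900002002f2)) (.node (.leaf 0xa00026000000057c) (.leaf 0))) (.node (.node (.leaf 0x2000290000000308) (.leaf 0x600023000020051f)) (.node (.leaf 0x400022000000008f) (.leaf 0)))) (.node (.node (.node (.leaf 0x70002400002003c6) (.leaf 0x3000290000200196)) (.node (.leaf 0xa00026000020047f) (.leaf 0))) (.node (.node (.leaf 0x20002500002001a3) (.leaf 0)) (.node (.leaf 0x600029000000044b) (.leaf 0))))) (.node (.node (.node (.node (.leaf 0x30002b0000000204) (.leaf 0xa0002600000002f6)) (.node (.leaf 0x6000260000000148) (.leaf 0))) (.node (.node (.leaf 0xb0002900000001e9) (.leaf 0x70002500000004a8)) (.node (.leaf 0x6000220000000245) (.leaf 0)))) (.node (.node (.node (.leaf 0x60002600000003d7) (.leaf 0x5000290000000408)) (.node (.leaf 0x4000220000200109) (.leaf 0))) (.node (.node (.leaf 0xc0002600000000c6) (.leaf 0)) (.node (.leaf 0x7000230000000327) (.leaf 0)))))) (.node (.node (.node (.node (.node (.leaf 0x10002c0000100025) (.leaf 0x8000290000200455))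 (.node (.leaf 0x6000240000000448) (.leaf 0))) (.node (.node (.leaf 0xa0002600002002b8) (.leaf 0x800026000020046b)) (.node (.leaf 0x7000230000200067) (.leaf 0)))) (.node (.node (.node (.leaf 0x500022000020031a) (.leaf 0x30002200000002b4)) (.node (.leaf 0x600029000020013f) (.leaf 0))) (.node (.node (.leaf 0x9000260000200439) (.leaf 0)) (.node (.leaf 0x600025000020016a) (.leaf 0))))) (.node (.node (.node (.node (.leaf 0xa000260000200192) (.leaf 0x800026000000013b)) (.node (.leaf 0x60002500002002bb) (.leaf 0))) (.node (.node (.leaf 0xa00026000000015b) (.leaf 0xb0002600002002d4)) (.node (.leaf 0x700024000020025b) (.leaf 0)))) (.node (.node (.node (.leaf 0x60002600002000fc) (.leaf 0x50002200000003c0)) (.node (.leaf 0x9000290000200493) (.leaf 0))) (.node (.node (.leaf 0x70002400000000ed) (.leaf 0)) (.node (.leaf 0x4000250000200507) (.leaf 0))))))))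

/-- part of a forest -/
def forest46 : Trie :=
  (.node (.node (.node (.node (.node (.node (.node (.leaf 0x220000000006) (.leaf 0x2000240000000144)) (.node (.leaf 0x8000290000000521) (.leaf 0))) (.node (.node (.leaf 0x20002d000020005b) (.leaf 0x6000260000200317)) (.node (.leaf 0x900029000000046f) (.leaf 0)))) (.node (.node (.node (.leaf 0x20002b0000000105) (.leaf 0x8000290000000180)) (.node (.leaf 0xa00029000020011e) (.leaf 0))) (.node (.node (.leaf 0x800025000020049e) (.leaf 0)) (.node (.leaf 0x9000290000000257) (.leaf 0))))) (.node (.node (.node (.node (.leaf 0x6000220000200426) (.leaf 0x90002600000002f3)) (.node (.leaf 0x8000250000200260) (.leaf 0))) (.node (.node (.leaf 0x9000230000200450) (.leaf 0x8000290000000288)) (.node (.leaf 0x9000290000000517) (.leaf 0)))) (.node (.node (.node (.leaf 0xb0002600002001ee) (.leaf 0xa0002600000001cb)) (.node (.leaf 0x300025000020019a) (.leaf 0))) (.node (.node (.leaf 0xc0002600002000c6) (.leaf 0)) (.node (.leaf 0x600024000020004a) (.leaf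 0)))))) (.node (.node (.node (.node (.node (.leaf 0x20002500002000bb) (.leaf 0x50002200002000df)) (.node (.leaf 0x800029000020037e) (.leaf 0))) (.node (.node (.leaf 0x30002600002003d1) (.leaf 0xa0002900000001cc)) (.node (.leaf 0x70002200002000a1) (.leaf 0)))) (.node (.node (.node (.leaf 0x40002500000000bf) (.leaf 0x400022000000054c)) (.node (.leaf 0x300029000020001c) (.leaf 0))) (.node (.node (.leaf 0x1000230000100007) (.leaf 0)) (.node (.leaf 0x600026000020056b) (.leaf 0))))) (.node (.node (.node (.node (.leaf 0x60002400002001ce) (.leaf 0x900023000020034f)) (.node (.leaf 0x8000240000200564) (.leaf 0))) (.node (.node (.leaf 0x6000250000000411) (.leaf 0x40002600002004e7)) (.node (.leaf 0x7000290000200571) (.leaf 0)))) (.node (.node (.node (.leaf 0x30002300002001aa) (.leaf 0x8000260000000176)) (.node (.leaf 0x8000230000200428) (.leaf 0))) (.node (.node (.leaf 0xb0002600000000f1) (.leaf 0)) (.node (.leaf 0x6000220000000426) (.leaf 0))))))) (.node (.node (.node (.node (.node (.node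 (.leaf 0x2a0000000016) (.leaf 0x5000250000000498)) (.node (.leaf 0x70002900000002a3) (.leaf 0))) (.node (.node (.leaf 0xa000260000000122) (.leaf 0xb00029000020017b)) (.node (.leaf 0x7000240000000395) (.leaf 0)))) (.node (.node (.node (.leaf 0x4000220000000134) (.leaf 0x4000240000200528)) (.node (.leaf 0x80002900000001c0) (.leaf 0))) (.node (.node (.leaf 0x20002900001003fc) (.leaf 0)) (.node (.leaf 0x70002200002003a2) (.leaf 0))))) (.node (.node (.node (.node (.leaf 0x4000280000200089) (.leaf 0x800029000020012a)) (.node (.leaf 0x500026000000040f) (.leaf 0))) (.node (.node (.leaf 0x700026000000038a) (.leaf 0x3000240000000567)) (.node (.leaf 0x40002200000003cc) (.leaf 0)))) (.node (.node (.node (.leaf 0xa000260000000163) (.leaf 0x700025000020027a)) (.node (.leaf 0x200022000020002f) (.leaf 0))) (.node (.node (.leaf 0x400026000020040b) (.leaf 0)) (.node (.leaf 0x40002400001001a1) (.leaf 0)))))) (.node (.node (.node (.node (.node (.leaf 0x2000280000200028) (.leaf 0x60002600000000d2))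 (.node (.leaf 0x7000230000000300) (.leaf 0))) (.node (.node (.leaf 0xa0002600002001ab) (.leaf 0x6000290000200102)) (.node (.leaf 0x600022000020018d) (.leaf 0)))) (.node (.node (.node (.leaf 0x80002500002004d6) (.leaf 0xc0002900002001b4)) (.node (.leaf 0x40002b0000200321) (.leaf 0))) (.node (.node (.leaf 0x30002c0000200048) (.leaf 0)) (.node (.leaf 0x8000240000200442) (.leaf 0))))) (.node (.node (.node (.node (.leaf 0xa0002600002000cf) (.leaf 0x7000220000000471)) (.node (.leaf 0x5000220000200096) (.leaf 0))) (.node (.node (.leaf 0x70002600002001c3) (.leaf 0x40002900000004d3)) (.node (.leaf 0x3000290000000373) (.leaf 0)))) (.node (.node (.node (.leaf 0x800029000000050d) (.leaf 0x8000230000200394)) (.node (.leaf 0x9000260000000437) (.leaf 0))) (.node (.node (.leaf 0x5000240000000374) (.leaf 0)) (.node (.leaf 0x40002200000004bd) (.leaf 0))))))))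

/-- part of a forest -/
def forest414 : Trie :=
  (.node (.node (.node (.node (.node (.node (.node (.leaf 0x800024000020035f) (.leaf 0x400029000000049a)) (.node (.leaf 0x6000290000200558) (.leaf 0))) (.node (.node (.leaf 0x200028000020006d) (.leaf 0x70002500002004fb)) (.node (.leaf 0x7000260000200174) (.leaf 0)))) (.node (.node (.node (.leaf 0x600022000020023b) (.leaf 0x50002900002000fb)) (.node (.leaf 0x8000260000200058) (.leaf 0))) (.node (.node (.leaf 0x6000220000200245) (.leaf 0)) (.node (.leaf 0x600029000000035b) (.leaf 0))))) (.node (.node (.node (.node (.leaf 0x7000220000000090) (.leaf 0x90002600000003a3)) (.node (.leaf 0x600022000020026c) (.leaf 0))) (.node (.node (.leaf 0x500023000000051e) (.leaf 0xc000290000200516)) (.node (.leaf 0x40002200002003cc) (.leaf 0)))) (.node (.node (.node (.leaf 0x400026000020022b) (.leaf 0x4000260000000380)) (.node (.leaf 0x20002c0000100348) (.leaf 0))) (.node (.node (.leaf 0x50002400002000b4) (.leaf 0)) (.node (.leaf 0x800029000000047e)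 (.leaf 0)))))) (.node (.node (.node (.node (.node (.leaf 0x7000220000200364) (.leaf 0x30002900000001d5)) (.node (.leaf 0x8000290000000039) (.leaf 0))) (.node (.node (.leaf 0x500022000020036a) (.leaf 0x9000260000200302)) (.node (.leaf 0x5000290000000398) (.leaf 0)))) (.node (.node (.node (.leaf 0x70002300002003dc) (.leaf 0xb0002600000001be)) (.node (.leaf 0xb0002900000001af) (.leaf 0))) (.node (.node (.leaf 0x900026000000028e) (.leaf 0)) (.node (.leaf 0xa000260000000192) (.leaf 0))))) (.node (.node (.node (.node (.leaf 0x3000240000200567) (.leaf 0xa000260000000213)) (.node (.leaf 0x6000230000200430) (.leaf 0))) (.node (.node (.leaf 0x20002b0000200105) (.leaf 0xa000290000000333)) (.node (.leaf 0x6000230000200087) (.leaf 0)))) (.node (.node (.node (.leaf 0x600024000000021e) (.leaf 0x9000250000200247)) (.node (.leaf 0x2000260000200357) (.leaf 0))) (.node (.node (.leaf 0xa0002600000002f1) (.leaf 0)) (.node (.leaf 0x70002400000000ee) (.leaf 0))))))) (.node (.node (.node (.node (.node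 (.node (.leaf 0x300028000020001b) (.leaf 0x50002400002003d6)) (.node (.leaf 0x50002400000004b4) (.leaf 0))) (.node (.node (.leaf 0x9000290000200230) (.leaf 0x40002300000003a4)) (.node (.leaf 0x20002c0000000348) (.leaf 0)))) (.node (.node (.node (.leaf 0x6000250000200416) (.leaf 0x7000250000200098)) (.node (.leaf 0x60002300002004a7) (.leaf 0))) (.node (.node (.leaf 0x20002d00001003b1) (.leaf 0)) (.node (.leaf 0x8000260000000120) (.leaf 0))))) (.node (.node (.node (.node (.leaf 0x30002800002003bd) (.leaf 0x9000260000200504)) (.node (.leaf 0x7000220000200336) (.leaf 0))) (.node (.node (.leaf 0x900026000000021d) (.leaf 0x7000260000200543)) (.node (.leaf 0x7000260000000221) (.leaf 0)))) (.node (.node (.node (.leaf 0x7000230000200365) (.leaf 0x40002500002002c6)) (.node (.leaf 0x700022000020035a) (.leaf 0))) (.node (.node (.leaf 0x9000290000000226) (.leaf 0)) (.node (.leaf 0x70002900000000ca) (.leaf 0)))))) (.node (.node (.node (.node (.node (.leaf 0x300028000000001b) (.leaf 0xb0002600000002d1))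 (.node (.leaf 0x800026000020035e) (.leaf 0))) (.node (.node (.leaf 0x900026000020024b) (.leaf 0x800029000000027c)) (.node (.leaf 0xa000260000200118) (.leaf 0)))) (.node (.node (.node (.leaf 0x60002500000002a4) (.leaf 0x6000240000200329)) (.node (.leaf 0x500029000000044a) (.leaf 0))) (.node (.node (.leaf 0xa0002600000000fe) (.leaf 0)) (.node (.leaf 0xa00026000020045e) (.leaf 0))))) (.node (.node (.node (.node (.leaf 0x7000250000200347) (.leaf 0x7000290000200211)) (.node (.leaf 0x8000240000200440) (.leaf 0))) (.node (.node (.leaf 0x9000290000200423) (.leaf 0x6000290000000548)) (.node (.leaf 0x70002900002002f7) (.leaf 0)))) (.node (.node (.node (.leaf 0x9000260000200484) (.leaf 0xb00026000000021a)) (.node (.leaf 0x6000290000000182) (.leaf 0))) (.node (.node (.leaf 0x6000290000200182) (.leaf 0)) (.node (.leaf 0x7000220000200254) (.leaf 0))))))))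

/-- part of a forest -/
def forest41 : Trie :=
  (.node (.node (.node (.node (.node (.node (.node (.leaf 0x1f0000000001) (.leaf 0x7000250000200140)) (.node (.leaf 0x6000290000200240) (.leaf 0))) (.node (.node (.leaf 0x70002600002003e1) (.leaf 0x500029000020044a)) (.node (.leaf 0x7000250000200377) (.leaf 0)))) (.node (.node (.node (.leaf 0x200022000000002f) (.leaf 0x400023000020002a)) (.node (.leaf 0x7000290000000203) (.leaf 0))) (.node (.node (.leaf 0x700029000000012b) (.leaf 0)) (.node (.leaf 0x8000260000200159) (.leaf 0))))) (.node (.node (.node (.node (.leaf 0x700022000020034a) (.leaf 0x50002400002003bb)) (.node (.leaf 0x600029000020035b) (.leaf 0))) (.node (.node (.leaf 0x60002400002001bf) (.leaf 0x70002500000000be)) (.node (.leaf 0x90002900000001ec) (.leaf 0)))) (.node (.node (.node (.leaf 0x30002c00002000c0) (.leaf 0x7000230000200327)) (.node (.leaf 0x8000290000200521) (.leaf 0))) (.node (.node (.leaf 0x5000240000200483) (.leaf 0)) (.node (.leaf 0x80002500002002fd) (.leaf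 0)))))) (.node (.node (.node (.node (.node (.leaf 0x400027000020030c) (.leaf 0x50002300000004a5)) (.node (.leaf 0x60002600002002fc) (.leaf 0))) (.node (.node (.leaf 0x50002200000003d0) (.leaf 0x70002900002001d1)) (.node (.leaf 0x30002b0000200204) (.leaf 0)))) (.node (.node (.node (.leaf 0x6000220000000027) (.leaf 0x5000230000200553)) (.node (.leaf 0x90002600000002db) (.leaf 0))) (.node (.node (.leaf 0x3000240000000406) (.leaf 0)) (.node (.leaf 0x700025000020014b) (.leaf 0))))) (.node (.node (.node (.node (.leaf 0x300024000000030b) (.leaf 0xb00029000000028a)) (.node (.leaf 0x6000220000000279) (.leaf 0))) (.node (.node (.leaf 0xb000290000000286) (.leaf 0x3000230000000358)) (.node (.leaf 0x30002300002000b0) (.leaf 0)))) (.node (.node (.node (.leaf 0x6000260000000325) (.leaf 0x600029000000038f)) (.node (.leaf 0x3000230000100093) (.leaf 0))) (.node (.node (.leaf 0x7000290000000536) (.leaf 0)) (.node (.leaf 0x6000260000000463) (.leaf 0))))))) (.node (.node (.node (.node (.node (.node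 (.leaf 0x700026000020044c) (.leaf 0x50002500000003b5)) (.node (.leaf 0x6000290000200549) (.leaf 0))) (.node (.node (.leaf 0x30002d00001003af) (.leaf 0x60002500000003d9)) (.node (.leaf 0x700022000000049f) (.leaf 0)))) (.node (.node (.node (.leaf 0x5000230000200481) (.leaf 0x9000290000200456)) (.node (.leaf 0xa000290000000228) (.leaf 0))) (.node (.node (.leaf 0xb0002600000004cc) (.leaf 0)) (.node (.leaf 0x60002500002004ef) (.leaf 0))))) (.node (.node (.node (.node (.leaf 0x500023000020036b) (.leaf 0x80002900000002f5)) (.node (.leaf 0x3000290000200373) (.leaf 0))) (.node (.node (.leaf 0x6000250000000473) (.leaf 0xb000290000200272)) (.node (.leaf 0x80002400002004d7) (.leaf 0)))) (.node (.node (.node (.leaf 0xa0002600000000f4) (.leaf 0xa00026000020048f)) (.node (.leaf 0xa0002600002004c8) (.leaf 0))) (.node (.node (.leaf 0x60002900000003d5) (.leaf 0)) (.node (.leaf 0x20002600000003df) (.leaf 0)))))) (.node (.node (.node (.node (.node (.leaf 0x80002400002001a5) (.leaf 0x500022000000034e))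 (.node (.leaf 0x70002400000002c0) (.leaf 0))) (.node (.node (.leaf 0x70002300002000b7) (.leaf 0x80002600002002a0)) (.node (.leaf 0x4000240000000528) (.leaf 0)))) (.node (.node (.node (.leaf 0x6000230000000087) (.leaf 0x5000290000000519)) (.node (.leaf 0x400024000020006e) (.leaf 0))) (.node (.node (.leaf 0xb00026000020013a) (.leaf 0)) (.node (.leaf 0x10002d0000000049) (.leaf 0))))) (.node (.node (.node (.node (.leaf 0xb0002600002004d1) (.leaf 0x600022000000026c)) (.node (.leaf 0x70002600002001c9) (.leaf 0))) (.node (.node (.leaf 0x70002900002003e8) (.leaf 0x6000290000000532)) (.node (.leaf 0x6000260000200490) (.leaf 0)))) (.node (.node (.node (.leaf 0xa000260000000379) (.leaf 0x700023000020006b)) (.node (.leaf 0x90002600000001d0) (.leaf 0))) (.node (.node (.leaf 0x30002600000002ee) (.leaf 0)) (.node (.leaf 0x90002200002004f4) (.leaf 0))))))))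

/-- part of a forest -/
def forest49 : Trie :=
  (.node (.node (.node (.node (.node (.node (.node (.leaf 0x10001e0000200000) (.leaf 0x400029000020042e)) (.node (.leaf 0xa00026000020051b) (.leaf 0))) (.node (.node (.leaf 0x3000220000000081) (.leaf 0x30002600002004f7)) (.node (.leaf 0x20002200002000e0) (.leaf 0)))) (.node (.node (.node (.leaf 0x300028000020010e) (.leaf 0x90002600000002d0)) (.node (.leaf 0x60002600002003f0) (.leaf 0))) (.node (.node (.leaf 0x400025000020009d) (.leaf 0)) (.node (.leaf 0x60002900002003d5) (.leaf 0))))) (.node (.node (.node (.node (.leaf 0x2d0000000049) (.leaf 0x5000240000000496)) (.node (.leaf 0x8000220000200396) (.leaf 0))) (.node (.node (.leaf 0x3000230000200358) (.leaf 0x500029000020012c)) (.node (.leaf 0x20002a00001003a0) (.leaf 0)))) (.node (.node (.node (.leaf 0x600026000000043b) (.leaf 0x7000290000000389)) (.node (.leaf 0x7000260000200436) (.leaf 0))) (.node (.node (.leaf 0x6000260000000515) (.leaf 0)) (.node (.leaf 0xa000290000200232) (.leaf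 0)))))) (.node (.node (.node (.node (.node (.leaf 0x3000270000200037) (.leaf 0x7000250000000151)) (.node (.leaf 0x6000240000200334) (.leaf 0))) (.node (.node (.leaf 0x90002600002003cd) (.leaf 0x4000290000000251)) (.node (.leaf 0x50002400002004b4) (.leaf 0)))) (.node (.node (.node (.leaf 0x40002400002004a2) (.leaf 0x50002200002003c0)) (.node (.leaf 0x500029000000012c) (.leaf 0))) (.node (.node (.leaf 0x90002400002000b3) (.leaf 0)) (.node (.leaf 0x5000290000200544) (.leaf 0))))) (.node (.node (.node (.node (.leaf 0x10002a0000100016) (.leaf 0x8000230000000332)) (.node (.leaf 0x60002900000004d2) (.leaf 0))) (.node (.node (.leaf 0x70002400002000ed) (.leaf 0x80002900002002a7)) (.node (.leaf 0x800026000020051d) (.leaf 0)))) (.node (.node (.node (.leaf 0x8000230000000262) (.leaf 0x80002900002003e0)) (.node (.leaf 0x70002600000000e1) (.leaf 0))) (.node (.node (.leaf 0xa000290000000242) (.leaf 0)) (.node (.leaf 0x8000260000200330) (.leaf 0))))))) (.node (.node (.node (.node (.node (.node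 (.leaf 0x800026000000030e) (.leaf 0x7000230000000282)) (.node (.leaf 0x80002600002004bf) (.leaf 0))) (.node (.node (.leaf 0x6000260000200235) (.leaf 0x400029000000052c)) (.node (.leaf 0x40002200002004bd) (.leaf 0)))) (.node (.node (.node (.leaf 0x500025000020032c) (.leaf 0x40002400002004d4)) (.node (.leaf 0xa0002900002001f8) (.leaf 0))) (.node (.node (.leaf 0x8000260000200038) (.leaf 0)) (.node (.leaf 0x6000260000000338) (.leaf 0))))) (.node (.node (.node (.node (.leaf 0x5000290000200179) (.leaf 0xa00029000000056c)) (.node (.leaf 0x3000220000200081) (.leaf 0))) (.node (.node (.leaf 0x70002600000004fc) (.leaf 0x700022000020049f)) (.node (.leaf 0x50002600000000ce) (.leaf 0)))) (.node (.node (.node (.leaf 0x50002600000001b9) (.leaf 0x70002600002000da)) (.node (.leaf 0xa0002900002004c3) (.leaf 0))) (.node (.node (.leaf 0xb000260000000284) (.leaf 0)) (.node (.leaf 0x50002500000003ea) (.leaf 0)))))) (.node (.node (.node (.node (.node (.leaf 0x70002900002002ba) (.leaf 0x800026000020051c))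 (.node (.leaf 0x1000230000200007) (.leaf 0))) (.node (.node (.leaf 0x5000290000200117) (.leaf 0x9000290000000197)) (.node (.leaf 0x50002500000004b5) (.leaf 0)))) (.node (.node (.node (.leaf 0x3000250000100064) (.leaf 0x6000250000200099)) (.node (.leaf 0x8000290000200181) (.leaf 0))) (.node (.node (.leaf 0x4000260000200193) (.leaf 0)) (.node (.leaf 0x30002c000000031e) (.leaf 0))))) (.node (.node (.node (.node (.leaf 0x7000290000000241) (.leaf 0x80002900000003e0)) (.node (.leaf 0x50002200002003d0) (.leaf 0))) (.node (.node (.leaf 0x40002900002000d5) (.leaf 0x4000260000000193)) (.node (.leaf 0x90002600000001f7) (.leaf 0)))) (.node (.node (.node (.leaf 0x90002600002003e9) (.leaf 0x800026000000039d)) (.node (.leaf 0x90002600002003e5) (.leaf 0))) (.node (.node (.leaf 0x6000250000000339) (.leaf 0)) (.node (.leaf 0x500022000000036a) (.leaf 0))))))))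

/-- part of a forest -/
def forest45 : Trie :=
  (.node (.node (.node (.node (.node (.node (.node (.leaf 0x1000200000100002) (.leaf 0x800029000000012a)) (.node (.leaf 0x80002600000004c7) (.leaf 0))) (.node (.node (.leaf 0x10002b0000200017) (.leaf 0x80002900000003de)) (.node (.leaf 0x60002600000000ef) (.leaf 0)))) (.node (.node (.node (.leaf 0x20002d0000200077) (.leaf 0x700026000020038a)) (.node (.leaf 0x9000290000200479) (.leaf 0))) (.node (.node (.leaf 0x30002a000020003b) (.leaf 0)) (.node (.leaf 0x700029000020021b) (.leaf 0))))) (.node (.node (.node (.node (.leaf 0x400028000010003e) (.leaf 0x70002900002004f3)) (.node (.leaf 0x5000220000000356) (.leaf 0))) (.node (.node (.leaf 0x7000240000200524) (.leaf 0x40002600002001c8)) (.node (.leaf 0x900026000000003c) (.leaf 0)))) (.node (.node (.node (.leaf 0x8000260000200403) (.leaf 0x8000290000000202)) (.node (.leaf 0x80002600000002a8) (.leaf 0))) (.node (.node (.leaf 0xb000290000200390) (.leaf 0)) (.node (.leaf 0x400025000020009f) (.leaf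 0)))))) (.node (.node (.node (.node (.node (.leaf 0x2c0000000025) (.leaf 0x300024000020040c)) (.node (.leaf 0x900022000020010c) (.leaf 0))) (.node (.node (.leaf 0x30002d0000200085) (.leaf 0xb000260000000542)) (.node (.leaf 0x500026000020052d) (.leaf 0)))) (.node (.node (.node (.leaf 0x50002500000003b4) (.leaf 0x400023000000037b)) (.node (.leaf 0xa000260000000118) (.leaf 0))) (.node (.node (.leaf 0x7000240000000283) (.leaf 0)) (.node (.leaf 0x5000290000000544) (.leaf 0))))) (.node (.node (.node (.node (.leaf 0x200028000020027d) (.leaf 0x700029000000011c)) (.node (.leaf 0x40002900002004d3) (.leaf 0))) (.node (.node (.leaf 0xa0002600002001df) (.leaf 0x80002900002001c0)) (.node (.leaf 0x6000230000200108) (.leaf 0)))) (.node (.node (.node (.leaf 0x600024000000004a) (.leaf 0x70002400000004be)) (.node (.leaf 0x5000250000200187) (.leaf 0))) (.node (.node (.leaf 0x8000250000200237) (.leaf 0)) (.node (.leaf 0x80002600000002e9) (.leaf 0))))))) (.node (.node (.node (.node (.node (.node (.leaf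 0x8000260000200120) (.leaf 0x2000250000200052)) (.node (.leaf 0x70002900000000d4) (.leaf 0))) (.node (.node (.leaf 0x6000290000200075) (.leaf 0x50002600002000ce)) (.node (.leaf 0x8000250000000301) (.leaf 0)))) (.node (.node (.node (.leaf 0x500022000000031a) (.leaf 0x700029000020033d)) (.node (.leaf 0x70002600000001c9) (.leaf 0))) (.node (.node (.leaf 0x400026000000020c) (.leaf 0)) (.node (.leaf 0x60002400000001c1) (.leaf 0))))) (.node (.node (.node (.node (.leaf 0xb0002900002001db) (.leaf 0x7000290000200389)) (.node (.leaf 0x6000250000200152) (.leaf 0))) (.node (.node (.leaf 0x8000290000000388) (.leaf 0xb00026000000049b)) (.node (.leaf 0x8000260000200156) (.leaf 0)))) (.node (.node (.node (.leaf 0x300029000020011a) (.leaf 0x70002200000004eb)) (.node (.leaf 0x9000260000000381) (.leaf 0))) (.node (.node (.leaf 0x20002900000003fc) (.leaf 0)) (.node (.leaf 0x5000290000000529) (.leaf 0)))))) (.node (.node (.node (.node (.node (.leaf 0x6000290000200548) (.leaf 0x7000290000200160)) (.node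 (.leaf 0x50002600000004ce) (.leaf 0))) (.node (.node (.leaf 0xa00026000020057c) (.leaf 0x60002300002004a1)) (.node (.leaf 0x5000240000200496) (.leaf 0)))) (.node (.node (.node (.leaf 0x90002400002001e4) (.leaf 0x40002500002000b9)) (.node (.leaf 0x6000250000200032) (.leaf 0))) (.node (.node (.leaf 0x8000290000000487) (.leaf 0)) (.node (.leaf 0x4000250000200537) (.leaf 0))))) (.node (.node (.node (.node (.leaf 0x5000290000200409) (.leaf 0x60002200002004fa)) (.node (.leaf 0x600024000020025c) (.leaf 0))) (.node (.node (.leaf 0x600029000020048e) (.leaf 0xb000260000000560)) (.node (.leaf 0x40002500000003dd) (.leaf 0)))) (.node (.node (.node (.leaf 0x40002900002001eb) (.leaf 0x80002200002002de)) (.node (.leaf 0x7000290000200054) (.leaf 0))) (.node (.node (.leaf 0x9000260000000438) (.leaf 0)) (.node (.leaf 0x90002900002004c0) (.leaf 0))))))))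

/-- part of a forest -/
def forest413 : Trie :=
  (.node (.node (.node (.node (.node (.node (.node (.leaf 0x5000220000000096) (.leaf 0x4000230000000361)) (.node (.leaf 0xa000260000200550) (.leaf 0))) (.node (.node (.leaf 0x4000270000000057) (.leaf 0x700029000000020e)) (.node (.leaf 0x90002300002001fd) (.leaf 0)))) (.node (.node (.node (.leaf 0x30002200002002b4) (.leaf 0xa000260000200530)) (.node (.leaf 0xc000290000200138) (.leaf 0))) (.node (.node (.leaf 0x500022000020035d) (.leaf 0)) (.node (.leaf 0x800026000000011b) (.leaf 0))))) (.node (.node (.node (.node (.leaf 0x5000280000200074) (.leaf 0x800026000020030e)) (.node (.leaf 0x3000250000200064) (.leaf 0))) (.node (.node (.leaf 0x50002300002003c3) (.leaf 0x80002900002002e3)) (.node (.leaf 0x8000290000000383) (.leaf 0)))) (.node (.node (.node (.leaf 0x8000290000000465) (.leaf 0x6000220000200472)) (.node (.leaf 0x30002b0000000086) (.leaf 0))) (.node (.node (.leaf 0x500023000020031b) (.leaf 0)) (.node (.leaf 0x8000260000200101)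 (.leaf 0)))))) (.node (.node (.node (.node (.node (.leaf 0x10001e0000100000) (.leaf 0x9000260000200268)) (.node (.leaf 0xa0002600002003d3) (.leaf 0))) (.node (.node (.leaf 0x80002400002003ee) (.leaf 0x4000260000200128)) (.node (.leaf 0x400023000000001d) (.leaf 0)))) (.node (.node (.node (.leaf 0x6000230000000091) (.leaf 0xa0002600002001f5)) (.node (.leaf 0x80002900002004b8) (.leaf 0))) (.node (.node (.leaf 0x600029000020032e) (.leaf 0)) (.node (.leaf 0x4000250000000507) (.leaf 0))))) (.node (.node (.node (.node (.leaf 0x1000280000200013) (.leaf 0x500029000020021f)) (.node (.leaf 0x6000240000200449) (.leaf 0))) (.node (.node (.leaf 0x7000240000200275) (.leaf 0x40002200000004ba)) (.node (.leaf 0x60002200002004a9) (.leaf 0)))) (.node (.node (.node (.leaf 0x6000240000000334) (.leaf 0x700023000000026b)) (.node (.leaf 0xa00026000000013e) (.leaf 0))) (.node (.node (.leaf 0x7000260000200399) (.leaf 0)) (.node (.leaf 0xc000260000200525) (.leaf 0))))))) (.node (.node (.node (.node (.node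 (.node (.leaf 0x30002300000001aa) (.leaf 0x400025000020024d)) (.node (.leaf 0x8000260000000502) (.leaf 0))) (.node (.node (.leaf 0x60002600002000d9) (.leaf 0x7000260000200264)) (.node (.leaf 0x50002400000000b4) (.leaf 0)))) (.node (.node (.node (.leaf 0x30002500002002e4) (.leaf 0x8000290000200388)) (.node (.leaf 0x9000220000200249) (.leaf 0))) (.node (.node (.leaf 0x9000260000200438) (.leaf 0)) (.node (.leaf 0x7000260000000506) (.leaf 0))))) (.node (.node (.node (.node (.leaf 0xb000290000000291) (.leaf 0x9000290000000423)) (.node (.leaf 0x40002300002000e6) (.leaf 0))) (.node (.node (.leaf 0x800029000020015f) (.leaf 0x80002900000001e1)) (.node (.leaf 0x4000220000200238) (.leaf 0)))) (.node (.node (.node (.leaf 0x1000230000000007) (.leaf 0x500022000020034e)) (.node (.leaf 0x700024000020053b) (.leaf 0))) (.node (.node (.leaf 0x60002200002003f2) (.leaf 0)) (.node (.leaf 0x30002500002000e7) (.leaf 0)))))) (.node (.node (.node (.node (.node (.leaf 0xc0002900000002cf) (.leaf 0x80002900002002ab))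 (.node (.leaf 0x9000290000200546) (.leaf 0))) (.node (.node (.leaf 0x80002900000002bd) (.leaf 0xa000260000000392)) (.node (.leaf 0x600029000000032e) (.leaf 0)))) (.node (.node (.node (.leaf 0x4000220000200134) (.leaf 0x300022000020006a)) (.node (.leaf 0x7000290000000211) (.leaf 0))) (.node (.node (.leaf 0xc0002600002001e6) (.leaf 0)) (.node (.leaf 0x200028000010027d) (.leaf 0))))) (.node (.node (.node (.node (.leaf 0x7000290000200175) (.leaf 0x70002600002001cf)) (.node (.leaf 0x1000280000000013) (.leaf 0))) (.node (.node (.leaf 0x600026000000033c) (.leaf 0xb0002900000001db)) (.node (.leaf 0x800026000020055e) (.leaf 0)))) (.node (.node (.node (.leaf 0xa00026000000042f) (.leaf 0x9000290000200405)) (.node (.leaf 0x70002500002003ba) (.leaf 0))) (.node (.node (.leaf 0x800023000020025f) (.leaf 0)) (.node (.leaf 0x400025000000016f) (.leaf 0))))))))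

/-- part of a forest -/
def forest43 : Trie :=
  (.node (.node (.node (.node (.node (.node (.node (.leaf 0x210000000003) (.leaf 0x7000260000200305)) (.node (.leaf 0x60002900000002ea) (.leaf 0))) (.node (.node (.leaf 0x100024000010000b) (.leaf 0x90002600002002d0)) (.node (.leaf 0x90002900000004e9) (.leaf 0)))) (.node (.node (.node (.leaf 0x60002500002004f8) (.leaf 0x4000240000200425)) (.node (.leaf 0x6000240000000441) (.leaf 0))) (.node (.node (.leaf 0x7000220000200270) (.leaf 0)) (.node (.leaf 0x7000290000200269) (.leaf 0))))) (.node (.node (.node (.node (.leaf 0x1000270000200012) (.leaf 0x700023000020026e)) (.node (.leaf 0xa0002600000001b0) (.leaf 0))) (.node (.node (.leaf 0x50002500002003fd) (.leaf 0x60002600000003d4)) (.node (.leaf 0x400027000000004c) (.leaf 0)))) (.node (.node (.node (.leaf 0x30002200000002d6) (.leaf 0x9000290000000206)) (.node (.leaf 0xb000260000200494) (.leaf 0))) (.node (.node (.leaf 0x60002600000000d9) (.leaf 0)) (.node (.leaf 0x40002300002003a4) (.leaf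 0)))))) (.node (.node (.node (.node (.node (.leaf 0x50002200002004b7) (.leaf 0x80002900002002d2)) (.node (.leaf 0x7000290000000571) (.leaf 0))) (.node (.node (.leaf 0x9000260000200307) (.leaf 0x300023000000053f)) (.node (.leaf 0x8000230000200262) (.leaf 0)))) (.node (.node (.node (.leaf 0x800022000020016b) (.leaf 0x8000290000200215)) (.node (.leaf 0x60002900002004da) (.leaf 0))) (.node (.node (.leaf 0x100025000010000c) (.leaf 0)) (.node (.leaf 0x8000260000000156) (.leaf 0))))) (.node (.node (.node (.node (.leaf 0x5000270000200073) (.leaf 0x5000260000200566)) (.node (.leaf 0x40002400002001a1) (.leaf 0))) (.node (.node (.leaf 0x9000260000200533) (.leaf 0x50002500002003ea)) (.node (.leaf 0x20002600000002d7) (.leaf 0)))) (.node (.node (.node (.leaf 0x700022000000024e) (.leaf 0x900026000020045c)) (.node (.leaf 0x7000290000000054) (.leaf 0))) (.node (.node (.leaf 0x90002900000003ce) (.leaf 0)) (.node (.leaf 0x4000220000100109) (.leaf 0))))))) (.node (.node (.node (.node (.node (.node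 (.leaf 0x280000000013) (.leaf 0x500025000000041d)) (.node (.leaf 0x9000260000000369) (.leaf 0))) (.node (.node (.leaf 0x1000220000200006) (.leaf 0x4000260000000578)) (.node (.leaf 0x100024000020000b) (.leaf 0)))) (.node (.node (.node (.leaf 0x20002300000000dd) (.leaf 0x8000290000000500)) (.node (.leaf 0x800029000020047c) (.leaf 0))) (.node (.node (.leaf 0x3000260000200363) (.leaf 0)) (.node (.leaf 0x600024000000048c) (.leaf 0))))) (.node (.node (.node (.node (.leaf 0x20001e000020002d) (.leaf 0xa000230000200353)) (.node (.leaf 0x50002200000000df) (.leaf 0))) (.node (.node (.leaf 0x30002900002001d5) (.leaf 0x40002300002002e1)) (.node (.leaf 0x90002300002004f6) (.leaf 0)))) (.node (.node (.node (.leaf 0x1000290000100014) (.leaf 0x30002900002002ec)) (.node (.leaf 0x7000290000200536) (.leaf 0))) (.node (.node (.leaf 0xa00026000020039b) (.leaf 0)) (.node (.leaf 0x90002600000003ab) (.leaf 0)))))) (.node (.node (.node (.node (.node (.leaf 0x2000210000200004) (.leaf 0x5000290000200519))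 (.node (.leaf 0x50002500002000a6) (.leaf 0))) (.node (.node (.leaf 0x400023000000002a) (.leaf 0x8000260000000330)) (.node (.leaf 0x9000290000200522) (.leaf 0)))) (.node (.node (.node (.leaf 0x8000240000200402) (.leaf 0x20002300001000dd)) (.node (.leaf 0x4000270000200029) (.leaf 0))) (.node (.node (.leaf 0x7000290000000269) (.leaf 0)) (.node (.leaf 0x4000240000200061) (.leaf 0))))) (.node (.node (.node (.node (.leaf 0x400027000020004c) (.leaf 0x50002500002001bb)) (.node (.leaf 0x8000250000200447) (.leaf 0))) (.node (.node (.leaf 0x70002900002003ec) (.leaf 0x90002600002003ff)) (.node (.leaf 0x20002900002003fc) (.leaf 0)))) (.node (.node (.node (.leaf 0x80002900000004c9) (.leaf 0x6000290000200194)) (.node (.leaf 0x800026000020029f) (.leaf 0))) (.node (.node (.leaf 0xa00026000020052e) (.leaf 0)) (.node (.leaf 0x500023000000033b) (.leaf 0))))))))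

/-- part of a forest -/
def forest411 : Trie :=
  (.node (.node (.node (.node (.node (.node (.node (.leaf 0x24000000000b) (.leaf 0x30002600002002ee)) (.node (.leaf 0x400029000020052c) (.leaf 0))) (.node (.node (.leaf 0x70002300000003dc) (.leaf 0xb000260000000554)) (.node (.leaf 0x2000240000000313) (.leaf 0)))) (.node (.node (.node (.leaf 0x70002500000000a0) (.leaf 0x800029000020055f)) (.node (.leaf 0x8000260000200350) (.leaf 0))) (.node (.node (.leaf 0x50002500002004b5) (.leaf 0)) (.node (.leaf 0xd00029000020003d) (.leaf 0))))) (.node (.node (.node (.node (.leaf 0x5000250000200189) (.leaf 0x5000290000200398)) (.node (.leaf 0x8000260000200488) (.leaf 0))) (.node (.node (.leaf 0x600025000000032a) (.leaf 0x9000290000200293)) (.node (.leaf 0x700024000000025b) (.leaf 0)))) (.node (.node (.node (.leaf 0x8000290000000445) (.leaf 0xb000290000200526)) (.node (.leaf 0x500025000020016c) (.leaf 0))) (.node (.node (.leaf 0x90002600000002c5) (.leaf 0)) (.node (.leaf 0x70002300002004a0) (.leaf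 0)))))) (.node (.node (.node (.node (.node (.leaf 0x800023000020010b) (.leaf 0xa0002900000004fd)) (.node (.leaf 0x3000260000000363) (.leaf 0))) (.node (.node (.leaf 0x60002900000002be) (.leaf 0x700029000020039a)) (.node (.leaf 0x40002400002000dc) (.leaf 0)))) (.node (.node (.node (.leaf 0x500023000020025d) (.leaf 0x80002400002002dd)) (.node (.leaf 0x70002900002002a2) (.leaf 0))) (.node (.node (.leaf 0x900026000000042c) (.leaf 0)) (.node (.leaf 0x800026000000051d) (.leaf 0))))) (.node (.node (.node (.node (.leaf 0x600023000020014e) (.leaf 0x70002600000001cf)) (.node (.leaf 0x6000230000000420) (.leaf 0))) (.node (.node (.leaf 0x70002200002003c4) (.leaf 0x5000260000000195)) (.node (.leaf 0x4000230000000523) (.leaf 0)))) (.node (.node (.node (.leaf 0x9000260000000019) (.leaf 0x6000220000200095)) (.node (.leaf 0x9000260000000454) (.leaf 0))) (.node (.node (.leaf 0x300029000000001c) (.leaf 0)) (.node (.leaf 0x800024000020037a) (.leaf 0))))))) (.node (.node (.node (.node (.node (.node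 (.leaf 0x200028000000027d) (.leaf 0x8000220000200326)) (.node (.leaf 0x60002900000003aa) (.leaf 0))) (.node (.node (.leaf 0x7000260000000371) (.leaf 0x90002600002001f7)) (.node (.leaf 0x400023000020001d) (.leaf 0)))) (.node (.node (.node (.leaf 0x500024000020032b) (.leaf 0xa000260000200573)) (.node (.leaf 0x90002600002004f9) (.leaf 0))) (.node (.node (.leaf 0x9000290000000565) (.leaf 0)) (.node (.leaf 0x9000260000200381) (.leaf 0))))) (.node (.node (.node (.node (.leaf 0x10002d0000200049) (.leaf 0x700029000000021b)) (.node (.leaf 0x6000240000000329) (.leaf 0))) (.node (.node (.leaf 0x9000260000000199) (.leaf 0xa000260000200392)) (.node (.leaf 0x5000290000000117) (.leaf 0)))) (.node (.node (.node (.leaf 0x700023000000023f) (.leaf 0x7000220000200432)) (.node (.leaf 0x800026000000019f) (.leaf 0))) (.node (.node (.leaf 0xa00029000000054f) (.leaf 0)) (.node (.leaf 0x30002b000020016e) (.leaf 0)))))) (.node (.node (.node (.node (.node (.leaf 0x20002a0000200069) (.leaf 0x500026000000043c))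 (.node (.leaf 0x5000220000000314) (.leaf 0))) (.node (.node (.leaf 0x700026000000025a) (.leaf 0x6000240000000468)) (.node (.leaf 0x400023000020037b) (.leaf 0)))) (.node (.node (.node (.leaf 0x100025000020000c) (.leaf 0x6000260000200570)) (.node (.leaf 0x50002500000004de) (.leaf 0))) (.node (.node (.leaf 0x4000250000100142) (.leaf 0)) (.node (.leaf 0x4000240000200418) (.leaf 0))))) (.node (.node (.node (.node (.leaf 0x4000270000200322) (.leaf 0x8000290000000281)) (.node (.leaf 0x60002600000002fc) (.leaf 0))) (.node (.node (.leaf 0xa000290000200218) (.leaf 0x700026000000044c)) (.node (.leaf 0x30002300002004b3) (.leaf 0)))) (.node (.node (.node (.leaf 0x400029000010042e) (.leaf 0x600025000000018b)) (.node (.leaf 0x6000250000200413) (.leaf 0))) (.node (.node (.leaf 0x80002900000000f0) (.leaf 0)) (.node (.leaf 0x60002600002000d2) (.leaf 0))))))))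

/-- part of a forest -/
def forest47 : Trie :=
  (.node (.node (.node (.node (.node (.node (.node (.leaf 0x230000000007) (.leaf 0x6000250000200473)) (.node (.leaf 0x400026000010022b) (.leaf 0))) (.node (.node (.leaf 0x3000230000000093) (.leaf 0x300025000000019a)) (.node (.leaf 0x800026000020013b) (.leaf 0)))) (.node (.node (.node (.leaf 0x5000230000000092) (.leaf 0x7000290000000162)) (.node (.leaf 0x6000260000200427) (.leaf 0))) (.node (.node (.leaf 0x4000250000200557) (.leaf 0)) (.node (.leaf 0x5000230000200133) (.leaf 0))))) (.node (.node (.node (.node (.leaf 0x50002500002003c5) (.leaf 0x70002500002001f9)) (.node (.leaf 0x8000250000200344) (.leaf 0))) (.node (.node (.leaf 0x9000290000200505) (.leaf 0x60002900002000d7)) (.node (.leaf 0x60002500000000a5) (.leaf 0)))) (.node (.node (.node (.leaf 0xa0002600000002b8) (.leaf 0x70002600000003a6)) (.node (.leaf 0x70002200000004cd) (.leaf 0))) (.node (.node (.leaf 0x800026000020047d) (.leaf 0)) (.node (.leaf 0x9000230000200337) (.leaf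 0)))))) (.node (.node (.node (.node (.node (.leaf 0x50002200002000ea) (.leaf 0x50002600002003ca)) (.node (.leaf 0xa0002600002002f9) (.leaf 0))) (.node (.node (.leaf 0xa00029000020054b) (.leaf 0x7000250000200511)) (.node (.leaf 0x60002300000004a1) (.leaf 0)))) (.node (.node (.node (.leaf 0x5000220000000319) (.leaf 0x50002300000001b2)) (.node (.leaf 0x700029000000033d) (.leaf 0))) (.node (.node (.leaf 0x5000280000200045) (.leaf 0)) (.node (.leaf 0x3000220000200309) (.leaf 0))))) (.node (.node (.node (.node (.leaf 0x6000230000200362) (.leaf 0x5000250000000375)) (.node (.leaf 0x50002300002001b2) (.leaf 0))) (.node (.node (.leaf 0x500022000020041c) (.leaf 0x2000240000200144)) (.node (.leaf 0x8000260000000295) (.leaf 0)))) (.node (.node (.node (.leaf 0x2000250000100052) (.leaf 0x3000260000100363)) (.node (.leaf 0x900029000000049d) (.leaf 0))) (.node (.node (.leaf 0x400029000020049a) (.leaf 0)) (.node (.leaf 0x600023000020031c) (.leaf 0))))))) (.node (.node (.node (.node (.node (.node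 (.leaf 0x2b0000000017) (.leaf 0xa000260000000384)) (.node (.leaf 0x800029000000007d) (.leaf 0))) (.node (.node (.leaf 0x40002900000002a6) (.leaf 0x8000290000000250)) (.node (.leaf 0x500026000000052a) (.leaf 0)))) (.node (.node (.node (.leaf 0x60002300002001cd) (.leaf 0x900023000000043f)) (.node (.leaf 0xa000260000200446) (.leaf 0))) (.node (.node (.leaf 0x800029000020041a) (.leaf 0)) (.node (.leaf 0xa0002900000002c2) (.leaf 0))))) (.node (.node (.node (.node (.leaf 0x30002700000001a8) (.leaf 0xa000290000200285)) (.node (.leaf 0x8000290000200500) (.leaf 0))) (.node (.node (.leaf 0x7000290000000562) (.leaf 0x30002500000002e4)) (.node (.leaf 0x1000260000100010) (.leaf 0)))) (.node (.node (.node (.leaf 0x50002900002001e7) (.leaf 0x7000240000200229)) (.node (.leaf 0x1000260000000010) (.leaf 0))) (.node (.node (.leaf 0x70002600000004bb) (.leaf 0)) (.node (.leaf 0x5000260000200545) (.leaf 0)))))) (.node (.node (.node (.node (.node (.leaf 0x2000270000200043) (.leaf 0x800026000000047d))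 (.node (.leaf 0x7000250000000511) (.leaf 0))) (.node (.node (.leaf 0xa0002600002001ae) (.leaf 0x3000250000200026)) (.node (.leaf 0x8000230000200236) (.leaf 0)))) (.node (.node (.node (.leaf 0x600023000000014e) (.leaf 0x400022000020008f)) (.node (.leaf 0x9000230000000337) (.leaf 0))) (.node (.node (.leaf 0x9000290000200451) (.leaf 0)) (.node (.leaf 0x400028000020003e) (.leaf 0))))) (.node (.node (.node (.node (.leaf 0x10002d0000100049) (.leaf 0x6000260000200463)) (.node (.leaf 0xa0002600000004e3) (.leaf 0))) (.node (.node (.leaf 0x9000260000000439) (.leaf 0x4000250000000557)) (.node (.leaf 0x60002500002003d9) (.leaf 0)))) (.node (.node (.node (.leaf 0xb00026000020048d) (.leaf 0x20002600002003df)) (.node (.leaf 0x6000290000200212) (.leaf 0))) (.node (.node (.leaf 0x80002600002002e0) (.leaf 0)) (.node (.leaf 0x4000240000000061) (.leaf 0))))))))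

/-- part of a forest -/
def forest415 : Trie :=
  (.node (.node (.node (.node (.node (.node (.node (.leaf 0x20001f000020002c) (.leaf 0x4000260000200509)) (.node (.leaf 0x90002900002002af) (.leaf 0))) (.node (.node (.leaf 0x9000230000200132) (.leaf 0x5000260000000545)) (.node (.leaf 0x80002500000002bf) (.leaf 0)))) (.node (.node (.node (.leaf 0x30002200002002d6) (.leaf 0x900026000020021d)) (.node (.leaf 0xb00026000000053d) (.leaf 0))) (.node (.node (.leaf 0x800025000020008b) (.leaf 0)) (.node (.leaf 0x5000290000000304) (.leaf 0))))) (.node (.node (.node (.node (.leaf 0x1000210000200003) (.leaf 0xa000290000000539)) (.node (.leaf 0xa0002900002001ac) (.leaf 0))) (.node (.node (.leaf 0xc00029000000005d) (.leaf 0x90002900002001ef)) (.node (.leaf 0x80002300002004c1) (.leaf 0)))) (.node (.node (.node (.leaf 0x900026000000050c) (.leaf 0x20002600001002d7)) (.node (.leaf 0xb00029000000024f) (.leaf 0))) (.node (.node (.leaf 0x6000260000000256) (.leaf 0)) (.node (.leaf 0x6000230000000421)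 (.leaf 0)))))) (.node (.node (.node (.node (.node (.leaf 0x1000220000000006) (.leaf 0x90002600000003e9)) (.node (.leaf 0x3000240000100406) (.leaf 0))) (.node (.node (.leaf 0x80002400000000b2) (.leaf 0x900029000000055d)) (.node (.leaf 0x900026000000038d) (.leaf 0)))) (.node (.node (.node (.leaf 0x60002200000000a7) (.leaf 0x5000260000000298)) (.node (.leaf 0x8000290000200281) (.leaf 0))) (.node (.node (.leaf 0xa00029000000045d) (.leaf 0)) (.node (.leaf 0x20002d00000003b1) (.leaf 0))))) (.node (.node (.node (.node (.leaf 0x50002400002003d8) (.leaf 0x800029000020007d)) (.node (.leaf 0x700023000000026a) (.leaf 0))) (.node (.node (.leaf 0x3000250000000415) (.leaf 0xa0002900000004df)) (.node (.leaf 0x50002400000003d8) (.leaf 0)))) (.node (.node (.node (.leaf 0x50002600002001d6) (.leaf 0x50002500002003ad)) (.node (.leaf 0x800023000020053c) (.leaf 0))) (.node (.node (.leaf 0x8000290000200171) (.leaf 0)) (.node (.leaf 0x90002600000000c5) (.leaf 0))))))) (.node (.node (.node (.node (.node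 (.node (.leaf 0x3000280000000065) (.leaf 0x50002200000004a6)) (.node (.leaf 0x4000290000200251) (.leaf 0))) (.node (.node (.leaf 0xb000260000000243) (.leaf 0x50002300002001a0)) (.node (.leaf 0x30002a000010030a) (.leaf 0)))) (.node (.node (.node (.leaf 0x3000250000200415) (.leaf 0x6000220000000431)) (.node (.leaf 0x70002600002000fa) (.leaf 0))) (.node (.node (.leaf 0x70002600002002aa) (.leaf 0)) (.node (.leaf 0x8000290000200039) (.leaf 0))))) (.node (.node (.node (.node (.leaf 0x500027000000010d) (.leaf 0x30002900001001d5)) (.node (.leaf 0x70002300002003cf) (.leaf 0))) (.node (.node (.leaf 0x70002900002003bf) (.leaf 0x7000290000200241)) (.node (.leaf 0x7000240000200084) (.leaf 0)))) (.node (.node (.node (.leaf 0x4000220000200259) (.leaf 0x9000290000000155)) (.node (.leaf 0xb000290000200459) (.leaf 0))) (.node (.node (.leaf 0x900026000020055c) (.leaf 0)) (.node (.leaf 0x1000260000200010) (.leaf 0)))))) (.node (.node (.node (.node (.node (.leaf 0x400027000000030c) (.leaf 0x80002300002004ed))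 (.node (.leaf 0x6000230000200190) (.leaf 0))) (.node (.node (.leaf 0x5000290000000265) (.leaf 0x20002300002000dd)) (.node (.leaf 0x900026000020028b) (.leaf 0)))) (.node (.node (.node (.leaf 0x3000250000000026) (.leaf 0x70002600000000f2)) (.node (.leaf 0x7000250000000407) (.leaf 0))) (.node (.node (.leaf 0x50002400002003b3) (.leaf 0)) (.node (.leaf 0x60002900000003a9) (.leaf 0))))) (.node (.node (.node (.node (.leaf 0x300028000010001b) (.leaf 0x90002600000000cc)) (.node (.leaf 0x60002500000002d8) (.leaf 0))) (.node (.node (.leaf 0x9000260000200452) (.leaf 0x900029000020036c)) (.node (.leaf 0x60002900002004d2) (.leaf 0)))) (.node (.node (.node (.leaf 0x9000260000000015) (.leaf 0x8000290000200487)) (.node (.leaf 0x900026000020044d) (.leaf 0))) (.node (.node (.leaf 0x50002300002004e4) (.leaf 0)) (.node (.leaf 0x80002600000004f2) (.leaf 0))))))))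

/-- a forest -/
def forest4 : Trie :=
  (.node (.node (.node (.node forest40 forest48) (.node forest44 forest412)) (.node (.node forest42 forest410) (.node forest46 forest414))) (.node (.node (.node forest41 forest49) (.node forest45 forest413)) (.node (.node forest43 forest411) (.node forest47 forest415))))

/-- part of a tree -/
def node5L0tree0 : Trie :=
  (.node (.leaf 0x0) (.leaf 0x100000))

/-- a tree -/
def node5L0tree : Trie :=
  node5L0tree0

/-- part of transversal words -/
def node5L0word0 : Trie :=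
  (.node (.leaf 0x0) (.leaf 0x9134d332c2ec85d))

/-- transversal words -/
def node5L0word : Trie :=
  node5L0word0

/-- part of closing hints -/
def node5L0close0 : Trie :=
  (.node (.node (.leaf 0x3000) (.leaf 0x2001)) (.node (.leaf 0x1) (.leaf 0x1000)))

/-- closing hints -/
def node5L0close : Trie :=
  node5L0close0

/-- a level -/
def node5L0 : SLev := ⟨0, [0x1352c8a56cbaebaec, 0x9134d332c2ec85d], node5L0tree, node5L0word, 2, node5L0close, [(1, 1), (1, 0), (0, 0)]⟩

/-- part of a tree -/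
def node5L1tree0 : Trie :=
  (.node (.node (.node (.node (.node (.leaf 0x0) (.leaf 0x8)) (.node (.leaf 0x100003) (.leaf 0x20000e))) (.node (.node (.leaf 0x1) (.leaf 0xb)) (.node (.leaf 0x6) (.leaf 0)))) (.node (.node (.node (.leaf 0x100000) (.leaf 0x9)) (.node (.leaf 0x5) (.leaf 0))) (.node (.node (.leaf 0x2) (.leaf 0xd)) (.node (.leaf 0x7) (.leaf 0))))) (.node (.node (.node (.node (.leaf 0x0) (.leaf 0x200008)) (.node (.leaf 0x100004) (.leaf 0))) (.node (.node (.leaf 0x200001) (.leaf 0x10000c)) (.node (.leaf 0x200006) (.leaf 0)))) (.node (.node (.node (.leaf 0x200000) (.leaf 0x20000a)) (.node (.leaf 0x100005) (.leaf 0))) (.node (.node (.leaf 0x3) (.leaf 0xe)) (.node (.leaf 0x100007) (.leaf 0))))))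

/-- a tree -/
def node5L1tree : Trie :=
  node5L1tree0

/-- part of transversal words -/
def node5L1word0 : Trie :=
  (.node (.node (.node (.node (.node (.leaf 0x0) (.leaf 0x4d49148642cb)) (.node (.leaf 0x29645134cc94cae9) (.leaf 0x4eb764861759964))) (.node (.node (.leaf 0x5134d4521661861) (.leaf 0x9134d56eb75bad4)) (.node (.leaf 0x2451592c96552c865) (.leaf 0)))) (.node (.node (.node (.leaf 0x6a42cb6cb30c) (.leaf 0x9a9145132cb65b2cc)) (.node (.leaf 0x9a9134d96cc30c) (.leaf 0))) (.node (.node (.leaf 0x34d49144d96cc2cb) (.leaf 0x1644d492c95494b)) (.node (.leaf 0x4da8a265b664321) (.leaf 0))))) (.node (.node (.node (.node (.leaf 0x34d48a48a186430b) (.leaf 0x28a2b2592c94c30b)) (.node (.leaf 0x2ad492c8996dd92c) (.leaf 0))) (.node (.node (.leaf 0x229226da85b2d9) (.leaf 0x56a2954964325)) (.node (.leaf 0x4ecb256cbad9765) (.leaf 0)))) (.node (.node (.node (.leaf 0x1352c8a56cbaebaec) (.leaf 0x59648a2b136cc95b)) (.node (.leaf 0xd32d985b659) (.leaf 0))) (.node (.node (.leaf 0x36a48596cb2cb)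 (.leaf 0x9144d34cc85990b)) (.node (.leaf 0x269a9142cb2cc) (.leaf 0))))))

/-- transversal words -/
def node5L1word : Trie :=
  node5L1word0

/-- part of closing hints -/
def node5L1close0 : Trie :=
  (.node (.node (.node (.node (.node (.node (.node (.leaf 0x1) (.leaf 0xc)) (.node (.leaf 0x13) (.leaf 0))) (.node (.node (.leaf 0xb) (.leaf 0)) (.node (.leaf 0x1004000) (.leaf 0)))) (.node (.node (.node (.leaf 0x2002) (.leaf 0x100200b)) (.node (.leaf 0x100000d) (.leaf 0))) (.node (.node (.leaf 0x10) (.leaf 0)) (.node (.leaf 0x1002015) (.leaf 0))))) (.node (.node (.node (.node (.leaf 0x1003001) (.leaf 0x2016)) (.node (.leaf 0x1003013) (.leaf 0))) (.node (.node (.leaf 0xd) (.leaf 0)) (.node (.leaf 0x2011) (.leaf 0)))) (.node (.node (.node (.leaf 0x1002008) (.leaf 0)) (.node (.leaf 0x18) (.leaf 0))) (.node (.node (.leaf 0x4) (.leaf 0)) (.node (.leaf 0x100100d) (.leaf 0)))))) (.node (.node (.node (.node (.node (.leaf 0x3) (.leaf 0x1002018)) (.node (.leaf 0x5) (.leaf 0))) (.node (.node (.leaf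 0xc) (.leaf 0)) (.node (.leaf 0x1000014) (.leaf 0)))) (.node (.node (.node (.leaf 0x8) (.leaf 0xe)) (.node (.leaf 0x17) (.leaf 0))) (.node (.node (.leaf 0x11) (.leaf 0)) (.node (.leaf 0x2016) (.leaf 0))))) (.node (.node (.node (.node (.leaf 0x6) (.leaf 0x14)) (.node (.leaf 0x1003007) (.leaf 0))) (.node (.node (.leaf 0xf) (.leaf 0)) (.node (.leaf 0x100f) (.leaf 0)))) (.node (.node (.node (.leaf 0x1004) (.leaf 0)) (.node (.leaf 0x7) (.leaf 0))) (.node (.node (.leaf 0x1004009) (.leaf 0)) (.node (.leaf 0x1000010) (.leaf 0))))))) (.node (.node (.node (.node (.node (.node (.leaf 0x2) (.leaf 0x1004012)) (.node (.leaf 0x14) (.leaf 0))) (.node (.node (.leaf 0x1) (.leaf 0)) (.node (.leaf 0x1018) (.leaf 0)))) (.node (.node (.node (.leaf 0x7) (.leaf 0x1010)) (.node (.leaf 0x6) (.leaf 0))) (.node (.node (.leaf 0x3) (.leaf 0)) (.node (.leaf 0x4011) (.leaf 0))))) (.node (.node (.node (.node (.leaf 0x5) (.leaf 0x1015)) (.node (.leaf 0x15) (.leaf 0))) (.node (.node (.leaf 0xe) (.leaf 0)) (.node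 (.leaf 0x8) (.leaf 0)))) (.node (.node (.node (.leaf 0x9) (.leaf 0)) (.node (.leaf 0x4005) (.leaf 0))) (.node (.node (.leaf 0x300b) (.leaf 0)) (.node (.leaf 0x17) (.leaf 0)))))) (.node (.node (.node (.node (.node (.leaf 0x4) (.leaf 0x2013)) (.node (.leaf 0x1001009) (.leaf 0))) (.node (.node (.leaf 0x100a) (.leaf 0)) (.node (.leaf 0x1001002) (.leaf 0)))) (.node (.node (.node (.leaf 0x0) (.leaf 0)) (.node (.leaf 0x400e) (.leaf 0))) (.node (.node (.leaf 0x12) (.leaf 0)) (.node (.leaf 0xa) (.leaf 0))))) (.node (.node (.node (.node (.leaf 0x0) (.leaf 0x1017)) (.node (.leaf 0x16) (.leaf 0))) (.node (.node (.leaf 0x100300c) (.leaf 0)) (.node (.leaf 0x1003012) (.leaf 0)))) (.node (.node (.node (.leaf 0xa) (.leaf 0)) (.node (.leaf 0x100000f) (.leaf 0))) (.node (.node (.leaf 0x1006) (.leaf 0)) (.node (.leaf 0x1003) (.leaf 0))))))))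

/-- closing hints -/
def node5L1close : Trie :=
  node5L1close0

/-- a level -/
def node5L1 : SLev := ⟨4, [0x34d48a48a186430b, 0x6a42cb6cb30c, 0x1352c8a56cbaebaec], node5L1tree, node5L1word, 25, node5L1close, [(21, 0), (20, 0)]⟩

/-- part of a tree -/
def node5L2tree0 : Trie :=
  (.node (.node (.node (.leaf 0x0) (.leaf 0x100002)) (.node (.leaf 0x100001) (.leaf 0))) (.node (.node (.leaf 0x0) (.leaf 0)) (.node (.leaf 0x2) (.leaf 0))))

/-- a tree -/
def node5L2tree : Trie :=
  node5L2tree0

/-- part of transversal words -/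
def node5L2word0 : Trie :=
  (.node (.node (.node (.leaf 0x0) (.leaf 0x26596d9861)) (.node (.leaf 0x8a44d34cc321864) (.leaf 0))) (.node (.node (.leaf 0x1330b6596cc) (.leaf 0)) (.node (.leaf 0x89a6a285b6596cc) (.leaf 0))))

/-- transversal words -/
def node5L2word : Trie :=
  node5L2word0

/-- part of closing hints -/
def node5L2close0 : Trie :=
  (.node (.node (.node (.node (.leaf 0x1) (.leaf 0x1004)) (.node (.leaf 0x3) (.leaf 0))) (.node (.node (.leaf 0x0) (.leaf 0)) (.node (.leaf 0x2) (.leaf 0)))) (.node (.node (.node (.leaf 0x1001) (.leaf 0x1003)) (.node (.leaf 0x4) (.leaf 0))) (.node (.node (.leaf 0x2) (.leaf 0)) (.node (.leaf 0x0) (.leaf 0)))))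

/-- closing hints -/
def node5L2close : Trie :=
  node5L2close0

/-- a level -/
def node5L2 : SLev := ⟨6, [0x1330b6596cc, 0x8a44d34d9661864], node5L2tree, node5L2word, 5, node5L2close, [(4, 0)]⟩

/-- part of a tree -/
def node5L3tree0 : Trie :=
  (.node (.leaf 0x0) (.leaf 0x0))

/-- a tree -/
def node5L3tree : Trie :=
  node5L3tree0

/-- part of transversal words -/
def node5L3word0 : Trie :=
  (.node (.leaf 0x0) (.leaf 0x5132cc30b2cc))

/-- transversal words -/
def node5L3word : Trie :=
  node5L3word0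

/-- part of closing hints -/
def node5L3close0 : Trie :=
  (.node (.leaf 0x1) (.leaf 0x0))

/-- closing hints -/
def node5L3close : Trie :=
  node5L3close0

/-- a level -/
def node5L3 : SLev := ⟨9, [0x5132cc30b2cc], node5L3tree, node5L3word, 2, node5L3close, []⟩

/-- a chain -/
def node5 : List SLev := [node5L0, node5L1, node5L2, node5L3]

/-- part of a forest -/
def forest50 : Trie :=
  (.node (.node (.node (.node (.node (.node (.node (.leaf 0x2e0000000000) (.leaf 0x6000390000100032)) (.node (.leaf 0x90003c0000100180) (.leaf 0))) (.node (.node (.leaf 0xc0003d00001001ae) (.leaf 0xa0003b0000100394)) (.node (.leaf 0xa0003b0000000477) (.leaf 0)))) (.node (.node (.node (.leaf 0x700032000010012b) (.leaf 0xc0003b00000001f5)) (.node (.leaf 0x30003d000000046c) (.leaf 0))) (.node (.node (.leaf 0x80003c0000100334) (.leaf 0)) (.node (.leaf 0x80003b00000002a1) (.leaf 0))))) (.node (.node (.node (.node (.leaf 0x7000340000100096) (.leaf 0x6000380000100261)) (.node (.leaf 0x90003d000000052b)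 (.leaf 0))) (.node (.node (.leaf 0x500033000000004b) (.leaf 0xd0003b00001002f9)) (.node (.leaf 0x3000320000100134) (.leaf 0)))) (.node (.node (.node (.leaf 0x6000330000100283) (.leaf 0x50003a00001001d8)) (.node (.leaf 0x800038000010012f) (.leaf 0))) (.node (.node (.leaf 0x90003c00000003e8) (.leaf 0)) (.node (.leaf 0xb0003c0000000522) (.leaf 0)))))) (.node (.node (.node (.node (.node (.leaf 0x60003800001003fd) (.leaf 0xb0003d000000054d)) (.node (.leaf 0x70003b00000004d4) (.leaf 0))) (.node (.node (.leaf 0x50003d0000100210) (.leaf 0x60003c000000040c)) (.node (.leaf 0x50003400001002f0) (.leaf 0)))) (.node (.node (.node (.leaf 0x4000330000000082) (.leaf 0xa0003b00000002c5)) (.node (.leaf 0x70003a00001003c8) (.leaf 0))) (.node (.node (.leaf 0xc0003b00001000cc) (.leaf 0)) (.node (.leaf 0xb0003a00000001d6) (.leaf 0))))) (.node (.node (.node (.node (.leaf 0x60003700001003b3) (.leaf 0xa0003b0000100350)) (.node (.leaf 0xb0003a0000000255) (.leaf 0))) (.node (.node (.leaf 0x300032000000052c)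 (.leaf 0xc0003b000010003c)) (.node (.leaf 0x80003c00000001b5) (.leaf 0)))) (.node (.node (.node (.leaf 0x60003d0000100501) (.leaf 0xb0003a00000004c2)) (.node (.leaf 0x40003a0000000566) (.leaf 0))) (.node (.node (.leaf 0x90003b00001001bd) (.leaf 0)) (.node (.leaf 0x80003d0000100523) (.leaf 0))))))) (.node (.node (.node (.node (.node (.node (.leaf 0x4000330000100186) (.leaf 0xa0003a00001000ce)) (.node (.leaf 0x40003d0000100461) (.leaf 0))) (.node (.node (.leaf 0xc0003a0000100375) (.leaf 0xc0003a0000100550)) (.node (.leaf 0x60003d0000100548) (.leaf 0)))) (.node (.node (.node (.leaf 0x4000320000000045) (.leaf 0x8000370000000284)) (.node (.leaf 0xd0003c0000100332) (.leaf 0))) (.node (.node (.leaf 0x40003a00001003fe) (.leaf 0)) (.node (.leaf 0xc0003a0000100442) (.leaf 0))))) (.node (.node (.node (.node (.leaf 0x50003300000003ba) (.leaf 0x80003b00001004ad)) (.node (.leaf 0x80003d00001002f2) (.leaf 0))) (.node (.node (.leaf 0x400039000010008b) (.leaf 0xb0003a00001000ef)) (.node (.leaf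 0x90003b000000010d) (.leaf 0)))) (.node (.node (.node (.leaf 0x40003d0000100182) (.leaf 0x90003a0000100478)) (.node (.leaf 0x90003b0000100471) (.leaf 0))) (.node (.node (.leaf 0xa0003a00001004a8) (.leaf 0)) (.node (.leaf 0x60003a00001001be) (.leaf 0)))))) (.node (.node (.node (.node (.node (.leaf 0x700034000010051b) (.leaf 0x60003a00001002ac)) (.node (.leaf 0x40003c0000100224) (.leaf 0))) (.node (.node (.leaf 0x2000380000100404) (.leaf 0xa0003b0000100477)) (.node (.leaf 0xa0003a0000000563) (.leaf 0)))) (.node (.node (.node (.leaf 0x7000350000000021) (.leaf 0x70003c0000100157)) (.node (.leaf 0x40003d0000000461) (.leaf 0))) (.node (.node (.leaf 0xa0003d0000000527) (.leaf 0)) (.node (.leaf 0x100037000000000a) (.leaf 0))))) (.node (.node (.node (.node (.leaf 0xc0003b00000004f2) (.leaf 0x60003b0000100512)) (.node (.leaf 0x60003a0000000452) (.leaf 0))) (.node (.node (.leaf 0x60003d000010007e) (.leaf 0x90003d00000001e1)) (.node (.leaf 0xc0003b00001000f1) (.leaf 0)))) (.node (.node (.node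 (.leaf 0xd0003b0000100370) (.leaf 0x80003600001003c3)) (.node (.leaf 0x400034000000014c) (.leaf 0))) (.node (.node (.leaf 0x90003a00001001ab) (.leaf 0)) (.node (.leaf 0xb0003b0000100500) (.leaf 0))))))))

/-- part of a forest -/
def forest58 : Trie :=
  (.node (.node (.node (.node (.node (.node (.node (.leaf 0x360000000008) (.leaf 0x70003b000010023a)) (.node (.leaf 0xc0003c0000100294) (.leaf 0))) (.node (.node (.leaf 0x3000360000100204) (.leaf 0x60003b00000004f4)) (.node (.leaf 0x10002e0000100000) (.leaf 0)))) (.node (.node (.node (.leaf 0x3000380000100516) (.leaf 0x500035000000030d)) (.node (.leaf 0xa0003b0000100235) (.leaf 0))) (.node (.node (.leaf 0x700036000010006c) (.leaf 0)) (.node (.leaf 0xa0003b000000044b) (.leaf 0))))) (.node (.node (.node (.node (.leaf 0x7000390000100400) (.leaf 0xc0003a00001004fe)) (.node (.leaf 0x70003a00000003c8) (.leaf 0))) (.node (.node (.leaf 0x7000370000000060) (.leaf 0x50003d00000000d0)) (.node (.leaf 0x6000390000000142) (.leaf 0)))) (.node (.node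 (.node (.leaf 0x90003d000010018d) (.leaf 0xb0003c0000100572)) (.node (.leaf 0xd0003d0000000075) (.leaf 0))) (.node (.node (.leaf 0x400035000000055c) (.leaf 0)) (.node (.leaf 0x60003a0000100101) (.leaf 0)))))) (.node (.node (.node (.node (.node (.leaf 0x400034000010014c) (.leaf 0x60003500001000be)) (.node (.leaf 0x60003600001002cc) (.leaf 0))) (.node (.node (.leaf 0xd0003a00000000eb) (.leaf 0xb0003b00001001d3)) (.node (.leaf 0x90003d0000100472) (.leaf 0)))) (.node (.node (.node (.leaf 0x7000370000100259) (.leaf 0x90003a00001004eb)) (.node (.leaf 0x70003a000000049b) (.leaf 0))) (.node (.node (.leaf 0x40003b00001000f9) (.leaf 0)) (.node (.leaf 0xa0003d000010054b) (.leaf 0))))) (.node (.node (.node (.node (.leaf 0x700036000010036c) (.leaf 0xc0003a000000024b)) (.node (.leaf 0xa0003d000010016f) (.leaf 0))) (.node (.node (.leaf 0xd0003c0000100476) (.leaf 0x60003d0000000279)) (.node (.leaf 0x70003c000000003e) (.leaf 0)))) (.node (.node (.node (.leaf 0x4000320000100045) (.leaf 0x90003d0000100499))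 (.node (.leaf 0x7000340000100094) (.leaf 0))) (.node (.node (.leaf 0xc0003a0000000114) (.leaf 0)) (.node (.leaf 0x80003c00001001fb) (.leaf 0))))))) (.node (.node (.node (.node (.node (.node (.leaf 0x3d0000000018) (.leaf 0xc0003a000010035b)) (.node (.leaf 0x70003800001003b2) (.leaf 0))) (.node (.node (.leaf 0x50003b00000002bb) (.leaf 0x80003d000010026a)) (.node (.leaf 0x90003c00001000cb) (.leaf 0)))) (.node (.node (.node (.leaf 0x7000390000100419) (.leaf 0xa0003d0000100527)) (.node (.leaf 0xd0003a00000003f3) (.leaf 0))) (.node (.node (.leaf 0xc0003c0000000193) (.leaf 0)) (.node (.leaf 0x90003c000000048b) (.leaf 0))))) (.node (.node (.node (.node (.leaf 0x70003b000010041f) (.leaf 0x90003c00000002af)) (.node (.leaf 0x70003c000010028b) (.leaf 0))) (.node (.node (.leaf 0xa0003b00001002d7) (.leaf 0xc0003d000010053b)) (.node (.leaf 0x80003a000000035c) (.leaf 0)))) (.node (.node (.node (.leaf 0x50003b0000100473) (.leaf 0x20003a0000100116)) (.node (.leaf 0x3000360000000204) (.leaf 0)))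 (.node (.node (.leaf 0x40003a00000003fe) (.leaf 0)) (.node (.leaf 0xc0003b000000042d) (.leaf 0)))))) (.node (.node (.node (.node (.node (.leaf 0x80003a0000100248) (.leaf 0xd0003a00001003f3)) (.node (.leaf 0x700039000000016a) (.leaf 0))) (.node (.node (.leaf 0xb0003c000000016c) (.leaf 0xb0003a00000000ef)) (.node (.leaf 0xb0003b0000100367) (.leaf 0)))) (.node (.node (.node (.leaf 0x70003b000010026f) (.leaf 0xa0003d00001004c3)) (.node (.leaf 0x90003b000010033f) (.leaf 0))) (.node (.node (.leaf 0x60003b00001004f4) (.leaf 0)) (.node (.leaf 0x50003700001002ed) (.leaf 0))))) (.node (.node (.node (.node (.leaf 0xb0003d0000100268) (.leaf 0x80003a0000000276)) (.node (.leaf 0xa0003d000010026c) (.leaf 0))) (.node (.node (.leaf 0xa0003c000000015b) (.leaf 0x50003b0000100256)) (.node (.leaf 0xb0003a00000001e2) (.leaf 0)))) (.node (.node (.node (.leaf 0x80003a0000100276) (.leaf 0x60003c000000010b)) (.node (.leaf 0x90003a00000001ab) (.leaf 0))) (.node (.node (.leaf 0x80003c00001001b5) (.leaf 0))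 (.node (.leaf 0x400038000010002d) (.leaf 0))))))))

/-- part of a forest -/
def forest54 : Trie :=
  (.node (.node (.node (.node (.node (.node (.node (.leaf 0x320000000004) (.leaf 0x100038000010000b)) (.node (.leaf 0x2000360000100092) (.leaf 0))) (.node (.node (.leaf 0x4000380000100088) (.leaf 0xa0003a00001002ee)) (.node (.leaf 0x70003a00001000d6) (.leaf 0)))) (.node (.node (.node (.leaf 0x5000380000100291) (.leaf 0x70003a0000000222)) (.node (.leaf 0x7000370000100049) (.leaf 0))) (.node (.node (.leaf 0x50003700000003bb) (.leaf 0)) (.node (.leaf 0xc0003b00001004e1) (.leaf 0))))) (.node (.node (.node (.node (.leaf 0x6000350000100402) (.leaf 0x90003d000010052b)) (.node (.leaf 0x90003b0000000506) (.leaf 0))) (.node (.node (.leaf 0x40003800001004c5) (.leaf 0xb0003d00001002b7)) (.node (.leaf 0x600033000010009d) (.leaf 0)))) (.node (.node (.node (.leaf 0x80003a0000100041) (.leaf 0x70003c00001001dd)) (.node (.leaf 0x50003a00001004d9) (.leaf 0))) (.node (.node (.leaf 0x6000340000100320)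 (.leaf 0)) (.node (.leaf 0x4000320000100160) (.leaf 0)))))) (.node (.node (.node (.node (.node (.leaf 0x70003400001003ff) (.leaf 0x80003c00000004c4)) (.node (.leaf 0x30003c0000000245) (.leaf 0))) (.node (.node (.leaf 0x80003a000010035c) (.leaf 0x7000370000100141)) (.node (.leaf 0xb0003a00001001b2) (.leaf 0)))) (.node (.node (.node (.leaf 0x60003900001001b6) (.leaf 0xa0003d0000100139)) (.node (.leaf 0xd0003b000010017a) (.leaf 0))) (.node (.node (.leaf 0x80003a00000002a0) (.leaf 0)) (.node (.leaf 0xa0003d00001000c7) (.leaf 0))))) (.node (.node (.node (.node (.leaf 0x30003300000000bf) (.leaf 0x30003b0000100213)) (.node (.leaf 0xb0003a00001004cf) (.leaf 0))) (.node (.node (.leaf 0x80003c00001000d2) (.leaf 0xd0003b00000002ba)) (.node (.leaf 0x90003b000010054a) (.leaf 0)))) (.node (.node (.node (.leaf 0x7000380000000065) (.leaf 0x10003b0000000011)) (.node (.leaf 0xc0003c00000002bd) (.leaf 0))) (.node (.node (.leaf 0xa0003d0000100341) (.leaf 0)) (.node (.leaf 0x3000390000000103) (.leaf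 0))))))) (.node (.node (.node (.node (.node (.node (.leaf 0x3c0000000014) (.leaf 0x5000390000100025)) (.node (.leaf 0xb0003a0000100493) (.leaf 0))) (.node (.node (.leaf 0xb0003a00001004f7) (.leaf 0xd0003a0000100448)) (.node (.leaf 0xb0003a0000100559) (.leaf 0)))) (.node (.node (.node (.leaf 0x60003400001001bc) (.leaf 0x60003b00000003dd)) (.node (.leaf 0xb0003c0000100178) (.leaf 0))) (.node (.node (.leaf 0xb0003c00001002e7) (.leaf 0)) (.node (.leaf 0x90003b0000100271) (.leaf 0))))) (.node (.node (.node (.node (.leaf 0x400032000010041b) (.leaf 0xd0003b00000001a0)) (.node (.leaf 0x5000320000000027) (.leaf 0))) (.node (.node (.leaf 0x80003d000000026d) (.leaf 0x90003c0000100481)) (.node (.leaf 0xa0003a00001004ab) (.leaf 0)))) (.node (.node (.node (.leaf 0x90003c0000100379) (.leaf 0x60003b000010025f)) (.node (.leaf 0x90003a0000100459) (.leaf 0))) (.node (.node (.leaf 0x4000330000100064) (.leaf 0)) (.node (.leaf 0x6000350000100067) (.leaf 0)))))) (.node (.node (.node (.node (.node (.leaf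 0x5000380000100144) (.leaf 0x30003a00000000d1)) (.node (.leaf 0x1000350000100007) (.leaf 0))) (.node (.node (.leaf 0x2000320000100496) (.leaf 0xb0003a00000003ca)) (.node (.leaf 0x70003c0000100292) (.leaf 0)))) (.node (.node (.node (.leaf 0x400037000000009a) (.leaf 0xa0003d000010003a)) (.node (.leaf 0xb0003b00000001d3) (.leaf 0))) (.node (.node (.leaf 0x6000360000000365) (.leaf 0)) (.node (.leaf 0x40003900001003e4) (.leaf 0))))) (.node (.node (.node (.node (.leaf 0x800038000000049a) (.leaf 0xe0003b0000100540)) (.node (.leaf 0x70003b000010042f) (.leaf 0))) (.node (.node (.leaf 0x70003b000010018b) (.leaf 0xb0003b000000022a)) (.node (.leaf 0xb0003c00000000f5) (.leaf 0)))) (.node (.node (.node (.leaf 0xc0003a00001002b3) (.leaf 0x50003b00001004b3)) (.node (.leaf 0xa0003c00001003a7) (.leaf 0))) (.node (.node (.leaf 0xa0003b0000000122) (.leaf 0)) (.node (.leaf 0x80003c00001000cd) (.leaf 0))))))))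

/-- part of a forest -/
def forest512 : Trie :=
  (.node (.node (.node (.node (.node (.node (.node (.leaf 0x39000000000c) (.leaf 0x50003c00001001ec)) (.node (.leaf 0xd0003b000000038d) (.leaf 0))) (.node (.node (.leaf 0x700036000000012c) (.leaf 0xb0003b0000000392)) (.node (.leaf 0xc0003a000010057c) (.leaf 0)))) (.node (.node (.node (.leaf 0x400032000000041b) (.leaf 0x400034000010004e)) (.node (.leaf 0x80003a0000000463) (.leaf 0))) (.node (.node (.leaf 0xa0003d000010045c) (.leaf 0)) (.node (.leaf 0xc0003a0000100541) (.leaf 0))))) (.node (.node (.node (.node (.leaf 0x40003900001000e9) (.leaf 0x70003a0000000439)) (.node (.leaf 0xc0003d0000100519) (.leaf 0))) (.node (.node (.leaf 0x30003400001000a3) (.leaf 0x90003b000010010d)) (.node (.leaf 0x50003c0000000230) (.leaf 0)))) (.node (.node (.node (.leaf 0xb0003b000000011a) (.leaf 0x90003b000010027b)) (.node (.leaf 0x5000360000000009) (.leaf 0))) (.node (.node (.leaf 0xa0003d00001002ae) (.leaf 0)) (.node (.leaf 0xb0003d00001003a4) (.leaf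 0)))))) (.node (.node (.node (.node (.node (.leaf 0x30003500000000ad) (.leaf 0x60003c000010010b)) (.node (.leaf 0x80003b0000100191) (.leaf 0))) (.node (.node (.leaf 0x60003600001002cd) (.leaf 0x200032000010008e)) (.node (.leaf 0xa0003c00000000d5) (.leaf 0)))) (.node (.node (.node (.leaf 0x700035000010014b) (.leaf 0x30003300001000bf)) (.node (.leaf 0x50003a00001002e0) (.leaf 0))) (.node (.node (.leaf 0x70003d0000000121) (.leaf 0)) (.node (.leaf 0xb0003d000010013c) (.leaf 0))))) (.node (.node (.node (.node (.leaf 0x6000360000000051) (.leaf 0x20003d00001004d3)) (.node (.leaf 0x90003d00000003e0) (.leaf 0))) (.node (.node (.leaf 0xa0003c0000100246) (.leaf 0x50003d00001003a5)) (.node (.leaf 0x6000360000100051) (.leaf 0)))) (.node (.node (.node (.leaf 0x600037000010006e) (.leaf 0xa0003b000010030b)) (.node (.leaf 0xa0003c00001002f6) (.leaf 0))) (.node (.node (.leaf 0x40003c0000000351) (.leaf 0)) (.node (.leaf 0xb0003d00000001a7) (.leaf 0))))))) (.node (.node (.node (.node (.node (.node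 (.leaf 0x50003600000000e2) (.leaf 0x800034000010033c)) (.node (.leaf 0x60003b00000002f3) (.leaf 0))) (.node (.node (.leaf 0xc0003b000000037a) (.leaf 0x40003a00001004d1)) (.node (.leaf 0x6000350000100071) (.leaf 0)))) (.node (.node (.node (.leaf 0x4000330000000186) (.leaf 0x70003d0000100121)) (.node (.leaf 0x8000360000100323) (.leaf 0))) (.node (.node (.leaf 0x70003d0000000310) (.leaf 0)) (.node (.leaf 0xc0003c00001003c0) (.leaf 0))))) (.node (.node (.node (.node (.leaf 0xb0003a0000100156) (.leaf 0x90003d0000100482)) (.node (.leaf 0xc0003c0000100194) (.leaf 0))) (.node (.node (.leaf 0xa0003d00001003f2) (.leaf 0x30003500001000ad)) (.node (.leaf 0x70003a0000100016) (.leaf 0)))) (.node (.node (.node (.leaf 0x5000380000000144) (.leaf 0x70003a000010007a)) (.node (.leaf 0x70003c000010019a) (.leaf 0))) (.node (.node (.leaf 0xc0003b00001001f1) (.leaf 0)) (.node (.leaf 0x500038000010009b) (.leaf 0)))))) (.node (.node (.node (.node (.node (.leaf 0xb0003b00000002ca) (.leaf 0xa0003a0000100163))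 (.node (.leaf 0x10003d0000000018) (.leaf 0))) (.node (.node (.leaf 0xa0003d0000100570) (.leaf 0xc0003c00001001c5)) (.node (.leaf 0x700034000010002f) (.leaf 0)))) (.node (.node (.node (.leaf 0x70003c000010054f) (.leaf 0x9000350000100029)) (.node (.leaf 0xa0003c0000100398) (.leaf 0))) (.node (.node (.leaf 0x500034000000048c) (.leaf 0)) (.node (.leaf 0xa00034000010029f) (.leaf 0))))) (.node (.node (.node (.node (.leaf 0x80003200000002cf) (.leaf 0x70003d0000100239)) (.node (.leaf 0x90003d00000003f5) (.leaf 0))) (.node (.node (.leaf 0xb0003a00001003e9) (.leaf 0xb0003a00001004bb)) (.node (.leaf 0x90003a0000100227) (.leaf 0)))) (.node (.node (.node (.leaf 0x6000340000000111) (.leaf 0xb0003a0000100301)) (.node (.leaf 0x5000340000100069) (.leaf 0))) (.node (.node (.leaf 0x90003a00001004ae) (.leaf 0)) (.node (.leaf 0xb0003d000010054d) (.leaf 0))))))))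

/-- part of a forest -/
def forest52 : Trie :=
  (.node (.node (.node (.node (.node (.node (.node (.leaf 0x300000000002) (.leaf 0x50003500001003c2)) (.node (.leaf 0x90003d0000100154) (.leaf 0))) (.node (.node (.leaf 0x70003d00001004c9) (.leaf 0x80003b00001000b8)) (.node (.leaf 0xc0003b000000013e) (.leaf 0)))) (.node (.node (.node (.leaf 0x30003300001001bb) (.leaf 0x80003d00000004fa)) (.node (.leaf 0x90003c00001002af) (.leaf 0))) (.node (.node (.leaf 0x30003d00001003d3) (.leaf 0)) (.node (.leaf 0x500032000010008c) (.leaf 0))))) (.node (.node (.node (.node (.leaf 0x70003600001001b4) (.leaf 0xb0003a000000013b)) (.node (.leaf 0xb0003d0000000421) (.leaf 0))) (.node (.node (.leaf 0x5000390000100150) (.leaf 0xc0003a0000100378)) (.node (.leaf 0x80003c00000002dc) (.leaf 0)))) (.node (.node (.node (.leaf 0x90003b00001004b6) (.leaf 0xa0003a0000100165)) (.node (.leaf 0xc0003c00000002d3) (.leaf 0))) (.node (.node (.leaf 0xc0003c0000100359) (.leaf 0)) (.node (.leaf 0x4000350000000087) (.leaf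 0)))))) (.node (.node (.node (.node (.node (.leaf 0x500035000010030d) (.leaf 0xb0003d000000040b)) (.node (.leaf 0x60003a00001002c4) (.leaf 0))) (.node (.node (.leaf 0x90003b00001002c3) (.leaf 0xa0003c000010038b)) (.node (.leaf 0x7000350000000428) (.leaf 0)))) (.node (.node (.node (.leaf 0x700034000000002f) (.leaf 0x90003a0000100531)) (.node (.leaf 0x80003600001000aa) (.leaf 0))) (.node (.node (.leaf 0x7000370000000141) (.leaf 0)) (.node (.leaf 0x90003a0000100489) (.leaf 0))))) (.node (.node (.node (.node (.leaf 0x100039000000000c) (.leaf 0xb0003d0000100486)) (.node (.leaf 0xb0003d0000100421) (.leaf 0))) (.node (.node (.leaf 0xb0003d00000002e3) (.leaf 0x70003d000010005d)) (.node (.leaf 0x40003c0000000229) (.leaf 0)))) (.node (.node (.node (.leaf 0x4000360000100108) (.leaf 0x9000320000100023)) (.node (.leaf 0x70003d0000000311) (.leaf 0))) (.node (.node (.leaf 0xa0003a0000100369) (.leaf 0)) (.node (.leaf 0x80003d0000000529) (.leaf 0))))))) (.node (.node (.node (.node (.node (.node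 (.leaf 0xb0003a0000100504) (.leaf 0x800032000010004d)) (.node (.leaf 0xd0003d00000002ce) (.leaf 0))) (.node (.node (.leaf 0x4000330000100082) (.leaf 0x50003b00001002bb)) (.node (.leaf 0x70003400000000ba) (.leaf 0)))) (.node (.node (.node (.leaf 0x1000360000000008) (.leaf 0xc0003c0000100374)) (.node (.leaf 0x60003c0000100507) (.leaf 0))) (.node (.node (.leaf 0x40003a00000004d1) (.leaf 0)) (.node (.leaf 0xa0003b00001003f6) (.leaf 0))))) (.node (.node (.node (.node (.leaf 0x600039000010025d) (.leaf 0x50003a0000100543)) (.node (.leaf 0x7000320000100046) (.leaf 0))) (.node (.node (.leaf 0x90003b000010022b) (.leaf 0x90003b000010057f)) (.node (.leaf 0xc0003d0000100242) (.leaf 0)))) (.node (.node (.node (.leaf 0x70003c000000054f) (.leaf 0x70003c000010034b)) (.node (.leaf 0x5000380000000104) (.leaf 0))) (.node (.node (.leaf 0xa0003d000000032d) (.leaf 0)) (.node (.leaf 0x90003c00001000b5) (.leaf 0)))))) (.node (.node (.node (.node (.node (.leaf 0x500039000000004c) (.leaf 0x60003c00001000ee))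 (.node (.leaf 0xb0003c0000100533) (.leaf 0))) (.node (.node (.leaf 0x70003500001001c3) (.leaf 0xc0003c0000100079)) (.node (.leaf 0xc0003c000010049f) (.leaf 0)))) (.node (.node (.node (.leaf 0x30003700000003b1) (.leaf 0x90003a00000001ee)) (.node (.leaf 0x50003a00001001e6) (.leaf 0))) (.node (.node (.leaf 0xa0003a00001002d4) (.leaf 0)) (.node (.leaf 0x6000380000100034) (.leaf 0))))) (.node (.node (.node (.node (.leaf 0xb0003a0000000301) (.leaf 0x80003d000010019c)) (.node (.leaf 0x20003b0000000197) (.leaf 0))) (.node (.node (.leaf 0xb0003c00001003d5) (.leaf 0xa0003c00001003d2)) (.node (.leaf 0x70003d0000100397) (.leaf 0)))) (.node (.node (.node (.leaf 0xb0003b0000100300) (.leaf 0xb0003b0000100495)) (.node (.leaf 0x70003d0000000170) (.leaf 0))) (.node (.node (.leaf 0x70003a00001003d0) (.leaf 0)) (.node (.leaf 0x90003d0000000250) (.leaf 0))))))))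

/-- part of a forest -/
def forest510 : Trie :=
  (.node (.node (.node (.node (.node (.node (.node (.leaf 0x37000000000a) (.leaf 0x80003d00001004fa)) (.node (.leaf 0x60003d00001001ca) (.leaf 0))) (.node (.node (.leaf 0x60003800000003dc) (.leaf 0x6000380000100066)) (.node (.leaf 0x60003700000001c7) (.leaf 0)))) (.node (.node (.node (.leaf 0x7000330000100317) (.leaf 0x50003d00000003a5)) (.node (.leaf 0xa0003c0000100449) (.leaf 0))) (.node (.node (.leaf 0xc0003b000010054e) (.leaf 0)) (.node (.leaf 0x80003a00001002ef) (.leaf 0))))) (.node (.node (.node (.node (.leaf 0x3000380000100346) (.leaf 0xc0003d0000000401)) (.node (.leaf 0xc0003a0000100314) (.leaf 0))) (.node (.node (.leaf 0x5000320000100027) (.leaf 0x80003b0000100403)) (.node (.leaf 0x8000340000000030) (.leaf 0)))) (.node (.node (.node (.leaf 0x90003a0000000459) (.leaf 0xa0003d00001003eb)) (.node (.leaf 0xa0003b00001004be) (.leaf 0))) (.node (.node (.leaf 0x50003d00001002b0) (.leaf 0)) (.node (.leaf 0xa0003a000010048f) (.leaf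 0)))))) (.node (.node (.node (.node (.node (.leaf 0x6000360000000086) (.leaf 0xa0003b000000020b)) (.node (.leaf 0xa0003b000010047d) (.leaf 0))) (.node (.node (.leaf 0x90003c0000100247) (.leaf 0xa0003b000010021a)) (.node (.leaf 0xb0003b00001003be) (.leaf 0)))) (.node (.node (.node (.leaf 0x7000360000000133) (.leaf 0x90003c0000100342)) (.node (.leaf 0x70003a0000100313) (.leaf 0))) (.node (.node (.leaf 0xa0003c0000100356) (.leaf 0)) (.node (.leaf 0xa0003a0000100167) (.leaf 0))))) (.node (.node (.node (.node (.leaf 0x600032000010023d) (.leaf 0xb0003d0000100498)) (.node (.leaf 0x70003d00000004c9) (.leaf 0))) (.node (.node (.leaf 0x600039000010009f) (.leaf 0x50003d00001002fe)) (.node (.leaf 0x5000330000000010) (.leaf 0)))) (.node (.node (.node (.leaf 0x80003b0000100545) (.leaf 0x80003d0000100562)) (.node (.leaf 0x6000380000000261) (.leaf 0))) (.node (.node (.leaf 0x60003a0000100126) (.leaf 0)) (.node (.leaf 0x40003300000004ac) (.leaf 0))))))) (.node (.node (.node (.node (.node (.node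 (.leaf 0xa0003b0000000235) (.leaf 0x4000320000100081)) (.node (.leaf 0x90003b00001003e5) (.leaf 0))) (.node (.node (.leaf 0xa0003b00001001bf) (.leaf 0xa0003b0000000394)) (.node (.leaf 0x400034000010043e) (.leaf 0)))) (.node (.node (.node (.leaf 0x3000370000100441) (.leaf 0x7000380000100440)) (.node (.leaf 0x60003300000002c9) (.leaf 0))) (.node (.node (.leaf 0x60003c0000000507) (.leaf 0)) (.node (.leaf 0xb0003c000010032c) (.leaf 0))))) (.node (.node (.node (.node (.leaf 0xa0003c0000100289) (.leaf 0x80003a00001004fb)) (.node (.leaf 0xb0003a000010026e) (.leaf 0))) (.node (.node (.leaf 0xa0003a000010003b) (.leaf 0x80003d0000100102)) (.node (.leaf 0xb0003b00001001a3) (.leaf 0)))) (.node (.node (.node (.leaf 0x50003a000000051c) (.leaf 0xc0003d0000100544)) (.node (.leaf 0x70003a0000100206) (.leaf 0))) (.node (.node (.leaf 0xb0003d0000100387) (.leaf 0)) (.node (.leaf 0xa0003a000010057a) (.leaf 0)))))) (.node (.node (.node (.node (.node (.leaf 0x90003d00001000c9) (.leaf 0x80003c00000004d2))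 (.node (.leaf 0x60003b00001004e7) (.leaf 0))) (.node (.node (.leaf 0xa0003b000010020b) (.leaf 0xd0003b0000100019)) (.node (.leaf 0xd0003c00001004c1) (.leaf 0)))) (.node (.node (.node (.leaf 0x600034000010008f) (.leaf 0x80003400001000a7)) (.node (.leaf 0xc0003b000010027a) (.leaf 0))) (.node (.node (.leaf 0x30003700001003b1) (.leaf 0)) (.node (.leaf 0x40003300001000fd) (.leaf 0))))) (.node (.node (.node (.node (.leaf 0x60003a00001004ff) (.leaf 0xa0003a00001000ed)) (.node (.leaf 0xb0003b0000000061) (.leaf 0))) (.node (.node (.leaf 0xc0003b0000000503) (.leaf 0x90003a0000000429)) (.node (.leaf 0xb0003b0000100427) (.leaf 0)))) (.node (.node (.node (.leaf 0xb0003a00000001b2) (.leaf 0x70003d000010047e)) (.node (.leaf 0x70003900001000a4) (.leaf 0))) (.node (.node (.leaf 0x60003d000000056c) (.leaf 0)) (.node (.leaf 0x80003a000010044c) (.leaf 0))))))))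

/-- part of a forest -/
def forest56 : Trie :=
  (.node (.node (.node (.node (.node (.node (.node (.leaf 0x340000000006) (.leaf 0x700037000010027e)) (.node (.leaf 0x60003a00001002b2) (.leaf 0))) (.node (.node (.leaf 0x500038000000001f) (.leaf 0x80003b0000100325)) (.node (.leaf 0x50003c0000000409) (.leaf 0)))) (.node (.node (.node (.leaf 0x50003600001000e2) (.leaf 0xa0003d000000025b)) (.node (.leaf 0x90003c00001001f7) (.leaf 0))) (.node (.node (.leaf 0x3000330000100381) (.leaf 0)) (.node (.leaf 0x80003900001003b5) (.leaf 0))))) (.node (.node (.node (.node (.leaf 0x600032000010014a) (.leaf 0x70003b000000039d)) (.node (.leaf 0x90003c0000000423) (.leaf 0))) (.node (.node (.leaf 0xb0003a000010043c) (.leaf 0xb0003b00000003be)) (.node (.leaf 0x20003800001001a1) (.leaf 0)))) (.node (.node (.node (.leaf 0xd0003b00000002f9) (.leaf 0x500033000010009c)) (.node (.leaf 0x90003a000010028c) (.leaf 0))) (.node (.node (.leaf 0x90003a00000003fa) (.leaf 0)) (.node (.leaf 0x50003700000004c7) (.leaf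 0)))))) (.node (.node (.node (.node (.node (.leaf 0x60003300001002c9) (.leaf 0x80003b00000001a5)) (.node (.leaf 0x60003a00000004c0) (.leaf 0))) (.node (.node (.leaf 0x50003a0000100190) (.leaf 0xa0003d00001001e9)) (.node (.leaf 0x90003a000010056e) (.leaf 0)))) (.node (.node (.node (.leaf 0x60003900000003b9) (.leaf 0x70003a0000100511)) (.node (.leaf 0x80003a00001000c3) (.leaf 0))) (.node (.node (.leaf 0x40003700000001ba) (.leaf 0)) (.node (.leaf 0xa0003a00001001fc) (.leaf 0))))) (.node (.node (.node (.node (.leaf 0x5000380000100104) (.leaf 0xa0003c00000001e7)) (.node (.leaf 0x90003c0000100445) (.leaf 0))) (.node (.node (.leaf 0x6000330000100443) (.leaf 0x30003a00001000d1)) (.node (.leaf 0x20003c00001004dd) (.leaf 0)))) (.node (.node (.node (.leaf 0x50003500000000dd) (.leaf 0x80003a00001001f2)) (.node (.leaf 0x900036000010002b) (.leaf 0))) (.node (.node (.leaf 0x40003a0000100363) (.leaf 0)) (.node (.leaf 0x80003a00001004dc) (.leaf 0))))))) (.node (.node (.node (.node (.node (.node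 (.leaf 0x60003a00000001be) (.leaf 0x100039000010000c)) (.node (.leaf 0x70003d0000100170) (.leaf 0))) (.node (.node (.leaf 0x10003a000010000f) (.leaf 0x2000380000000404)) (.node (.leaf 0xb0003d00000004b8) (.leaf 0)))) (.node (.node (.node (.leaf 0x6000340000000320) (.leaf 0x1000320000100004)) (.node (.leaf 0xb0003d000010041e) (.leaf 0))) (.node (.node (.leaf 0x70003c00000001dd) (.leaf 0)) (.node (.leaf 0x50003c0000100409) (.leaf 0))))) (.node (.node (.node (.node (.leaf 0xd0003c0000100549) (.leaf 0xb0003c000010037f)) (.node (.leaf 0x40003b0000000515) (.leaf 0))) (.node (.node (.leaf 0xa0003a00001002c6) (.leaf 0xb0003a00001001e2)) (.node (.leaf 0x90003c0000100517) (.leaf 0)))) (.node (.node (.node (.leaf 0x60003a00001004c0) (.leaf 0x70003b0000100135)) (.node (.leaf 0x50003500001000ab) (.leaf 0))) (.node (.node (.leaf 0xa0003a00001000ca) (.leaf 0)) (.node (.leaf 0xd0003d0000100376) (.leaf 0)))))) (.node (.node (.node (.node (.node (.leaf 0x90003d00001001e1) (.leaf 0xc0003c0000000194))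 (.node (.leaf 0xc0003b0000000555) (.leaf 0))) (.node (.node (.leaf 0xa0003a00001004d0) (.leaf 0x90003b000010036f)) (.node (.leaf 0xa0003c00000002f6) (.leaf 0)))) (.node (.node (.node (.leaf 0x200034000010007f) (.leaf 0x80003b00001002b1)) (.node (.leaf 0x500039000010004c) (.leaf 0))) (.node (.node (.leaf 0x5000390000000150) (.leaf 0)) (.node (.leaf 0x300037000010033e) (.leaf 0))))) (.node (.node (.node (.node (.leaf 0xc0003a00001004fc) (.leaf 0xc0003c000000056f)) (.node (.leaf 0x70003a0000100226) (.leaf 0))) (.node (.node (.leaf 0xd0003d0000100055) (.leaf 0x80003b0000100149)) (.node (.leaf 0xc0003d000010024e) (.leaf 0)))) (.node (.node (.node (.leaf 0x90003a00001001c9) (.leaf 0x80003b0000100345)) (.node (.leaf 0x90003c0000100360) (.leaf 0))) (.node (.node (.leaf 0x80003b0000000191) (.leaf 0)) (.node (.leaf 0x90003b0000000137) (.leaf 0))))))))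

/-- part of a forest -/
def forest514 : Trie :=
  (.node (.node (.node (.node (.node (.node (.node (.leaf 0x60003700001003f9) (.leaf 0xa0003c000010056b)) (.node (.leaf 0xc0003a0000000195) (.leaf 0))) (.node (.node (.leaf 0x50003c00001001ad) (.leaf 0x90003d00000001e3)) (.node (.leaf 0x4000350000100087) (.leaf 0)))) (.node (.node (.node (.leaf 0x1000320000000004) (.leaf 0x50003d0000100437)) (.node (.leaf 0x1000300000100002) (.leaf 0))) (.node (.node (.leaf 0xc0003c00001004df) (.leaf 0)) (.node (.leaf 0x90003d0000000305) (.leaf 0))))) (.node (.node (.node (.node (.leaf 0x30003400001000b6) (.leaf 0x90003b0000000576)) (.node (.leaf 0xb0003d00000003c5) (.leaf 0))) (.node (.node (.leaf 0xc0003d00000002b5) (.leaf 0xb0003b0000000201)) (.node (.leaf 0x4000320000000340) (.leaf 0)))) (.node (.node (.node (.leaf 0x90003a00000002a6) (.leaf 0xb0003a0000100373)) (.node (.leaf 0xc0003d0000100453) (.leaf 0))) (.node (.node (.leaf 0x60003a000010055d) (.leaf 0)) (.node (.leaf 0xc0003c000010003d)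 (.leaf 0)))))) (.node (.node (.node (.node (.node (.leaf 0x50003200000003c4) (.leaf 0x1000360000100008)) (.node (.leaf 0x90003c000010011b) (.leaf 0))) (.node (.node (.leaf 0x500032000010041a) (.leaf 0x90003d0000100577)) (.node (.leaf 0xb0003d000000005e) (.leaf 0)))) (.node (.node (.node (.leaf 0x80003600000003c3) (.leaf 0x80003a0000100371)) (.node (.leaf 0x90003d000010010f) (.leaf 0))) (.node (.node (.leaf 0xb0003d00000002b9) (.leaf 0)) (.node (.leaf 0xb0003c000000028a) (.leaf 0))))) (.node (.node (.node (.node (.leaf 0x50003700001001a6) (.leaf 0x700037000010000e)) (.node (.leaf 0xa0003a00000004d0) (.leaf 0))) (.node (.node (.leaf 0xa0003c0000100554) (.leaf 0x80003a00001002db)) (.node (.leaf 0x8000360000100068) (.leaf 0)))) (.node (.node (.node (.leaf 0x50003c0000100230) (.leaf 0xc0003a000010024b)) (.node (.leaf 0x90003a00001000c4) (.leaf 0))) (.node (.node (.leaf 0x80003a000010043b) (.leaf 0)) (.node (.leaf 0x70003d0000100310) (.leaf 0))))))) (.node (.node (.node (.node (.node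 (.node (.leaf 0x6000370000000031) (.leaf 0xa0003d000010027c)) (.node (.leaf 0x90003a000000045a) (.leaf 0))) (.node (.node (.leaf 0xb0003d0000000268) (.leaf 0xc0003c0000100573)) (.node (.leaf 0x60003300001004c6) (.leaf 0)))) (.node (.node (.node (.leaf 0x1000330000000005) (.leaf 0x70003d0000100579)) (.node (.leaf 0xb0003a0000100467) (.leaf 0))) (.node (.node (.leaf 0x30003b0000000213) (.leaf 0)) (.node (.leaf 0xc0003a000010005c) (.leaf 0))))) (.node (.node (.node (.node (.leaf 0xa0003d0000100225) (.leaf 0xb0003b00001004ec)) (.node (.leaf 0xb0003c0000100483) (.leaf 0))) (.node (.node (.leaf 0xb0003b0000000500) (.leaf 0x90003b0000000471)) (.node (.leaf 0x90003d000010018f) (.leaf 0)))) (.node (.node (.node (.leaf 0x200036000010042e) (.leaf 0x60003d0000000120)) (.node (.leaf 0xa0003c00000004cd) (.leaf 0))) (.node (.node (.leaf 0xa0003d00000004e8) (.leaf 0)) (.node (.leaf 0xd0003c0000100217) (.leaf 0)))))) (.node (.node (.node (.node (.node (.leaf 0x60003c000010040c) (.leaf 0x30003400000000b6))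 (.node (.leaf 0x90003a0000000038) (.leaf 0))) (.node (.node (.leaf 0xb0003b0000100388) (.leaf 0x90003d000010017b)) (.node (.leaf 0x20003700001003b0) (.leaf 0)))) (.node (.node (.node (.leaf 0x5000350000100043) (.leaf 0x90003b00000004b6)) (.node (.leaf 0x80003c0000100196) (.leaf 0))) (.node (.node (.leaf 0x50003a0000100192) (.leaf 0)) (.node (.leaf 0xa0003b00001000e1) (.leaf 0))))) (.node (.node (.node (.node (.leaf 0x50003d0000000210) (.leaf 0x60003d000000056a)) (.node (.leaf 0x6000370000100031) (.leaf 0))) (.node (.node (.leaf 0x70003d0000000397) (.leaf 0x30003c0000100366)) (.node (.leaf 0xa0003d00001000c5) (.leaf 0)))) (.node (.node (.node (.leaf 0xd0003b00001004d7) (.leaf 0xb0003a000010029b)) (.node (.leaf 0x40003d0000000182) (.leaf 0))) (.node (.node (.leaf 0xa0003d000010053e) (.leaf 0)) (.node (.leaf 0x30003a00001002ad) (.leaf 0))))))))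

/-- part of a forest -/
def forest51 : Trie :=
  (.node (.node (.node (.node (.node (.node (.node (.leaf 0x2f0000000001) (.leaf 0xb0003d000010047f)) (.node (.leaf 0xa0003b00001000c2) (.leaf 0))) (.node (.node (.leaf 0x50003a0000000543) (.leaf 0x50003d0000000437)) (.node (.leaf 0xa0003a00001002f8) (.leaf 0)))) (.node (.node (.node (.leaf 0x3000320000000134) (.leaf 0x80003c00000004b0)) (.node (.leaf 0x80003d000010047c) (.leaf 0))) (.node (.node (.leaf 0x600039000000025d) (.leaf 0)) (.node (.leaf 0x200033000010009e) (.leaf 0))))) (.node (.node (.node (.node (.leaf 0x70003a0000100270) (.leaf 0x20003700000000b9)) (.node (.leaf 0xa0003c0000100249) (.leaf 0))) (.node (.node (.leaf 0x60003700001001c7) (.leaf 0xb0003a0000000354)) (.node (.leaf 0x90003d000000018d) (.leaf 0)))) (.node (.node (.node (.leaf 0xa0003d000010035e) (.leaf 0xc0003c00001002a3)) (.node (.leaf 0x10003c0000000014) (.leaf 0))) (.node (.node (.leaf 0xc0003c0000100457) (.leaf 0)) (.node (.leaf 0x2000390000100416) (.leaf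 0)))))) (.node (.node (.node (.node (.node (.leaf 0x600035000010043f) (.leaf 0xa0003d000010029d)) (.node (.leaf 0x50003a0000000190) (.leaf 0))) (.node (.node (.leaf 0x60003d000010048a) (.leaf 0xa0003a00000003a2)) (.node (.leaf 0x6000360000100215) (.leaf 0)))) (.node (.node (.node (.leaf 0x70003400001001c4) (.leaf 0xa0003a00001003e1)) (.node (.leaf 0x70003b00001004a3) (.leaf 0))) (.node (.node (.leaf 0x100038000000000b) (.leaf 0)) (.node (.leaf 0xd0003d00001002dd) (.leaf 0))))) (.node (.node (.node (.node (.leaf 0xa0003b0000100244) (.leaf 0x30003d000010046c)) (.node (.leaf 0x500038000010001f) (.leaf 0))) (.node (.node (.leaf 0xb0003d000000018c) (.leaf 0x90003c00001003f4)) (.node (.leaf 0xa0003d000010038e) (.leaf 0)))) (.node (.node (.node (.leaf 0x90003b00000003e5) (.leaf 0xb0003b00001002ca)) (.node (.leaf 0xc0003a0000100195) (.leaf 0))) (.node (.node (.leaf 0x80003d0000100216) (.leaf 0)) (.node (.leaf 0x90003a0000100315) (.leaf 0))))))) (.node (.node (.node (.node (.node (.node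 (.leaf 0x3b0000000011) (.leaf 0x70003900000000a4)) (.node (.leaf 0xd0003d00001003ed) (.leaf 0))) (.node (.node (.leaf 0x5000340000100028) (.leaf 0x60003a00000002c4)) (.node (.leaf 0x60003d000010056c) (.leaf 0)))) (.node (.node (.node (.leaf 0x800036000010024d) (.leaf 0x40003900000000e9)) (.node (.leaf 0x400038000010004a) (.leaf 0))) (.node (.node (.leaf 0x70003b000010034f) (.leaf 0)) (.node (.leaf 0x80003a00000002aa) (.leaf 0))))) (.node (.node (.node (.node (.leaf 0x5000360000100285) (.leaf 0xa0003d000000052e)) (.node (.leaf 0x60003c0000100306) (.leaf 0))) (.node (.node (.leaf 0x90003c0000100183) (.leaf 0x30003600001000de)) (.node (.leaf 0x30003c000010038f) (.leaf 0)))) (.node (.node (.node (.leaf 0x20003a00001003fb) (.leaf 0x30003a00001004d8)) (.node (.leaf 0x60003300001000a5) (.leaf 0))) (.node (.node (.leaf 0x8000390000100098) (.leaf 0)) (.node (.leaf 0xc0003b0000100555) (.leaf 0)))))) (.node (.node (.node (.node (.node (.leaf 0x50003700001004c7) (.leaf 0xa0003d0000000202))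 (.node (.leaf 0xc0003d0000000078) (.leaf 0))) (.node (.node (.leaf 0x40003600001002d8) (.leaf 0x80003a0000000304)) (.node (.leaf 0x90003c00000001f8) (.leaf 0)))) (.node (.node (.node (.leaf 0x500035000010030f) (.leaf 0x50003c000000027d)) (.node (.leaf 0x70003b000000034f) (.leaf 0))) (.node (.node (.leaf 0x90003b0000100380) (.leaf 0)) (.node (.leaf 0x20003700001000b9) (.leaf 0))))) (.node (.node (.node (.node (.leaf 0x50003500001000dd) (.leaf 0x80003b00001000db)) (.node (.leaf 0x80003b00000004d6) (.leaf 0))) (.node (.node (.leaf 0xa0003b00001002d0) (.leaf 0x90003a00001002bf)) (.node (.leaf 0x70003a00001002ff) (.leaf 0)))) (.node (.node (.node (.leaf 0xb0003b000010037d) (.leaf 0x5000320000000054)) (.node (.leaf 0xc0003b00001001e5) (.leaf 0))) (.node (.node (.leaf 0xb0003b0000100158) (.leaf 0)) (.node (.leaf 0x90003c0000100423) (.leaf 0))))))))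

/-- part of a forest -/
def forest59 : Trie :=
  (.node (.node (.node (.node (.node (.node (.node (.leaf 0x4000360000100551) (.leaf 0x40003c0000100229)) (.node (.leaf 0xa0003b00001002c5) (.leaf 0))) (.node (.node (.leaf 0x500034000010048c) (.leaf 0xa0003d000000045c)) (.node (.leaf 0x80003b00001002a1) (.leaf 0)))) (.node (.node (.node (.leaf 0x6000370000100113) (.leaf 0x80003a0000000485)) (.node (.leaf 0x90003c000000045d) (.leaf 0))) (.node (.node (.leaf 0xb0003c0000100435) (.leaf 0)) (.node (.leaf 0xc0003b0000100574) (.leaf 0))))) (.node (.node (.node (.node (.leaf 0x600037000000006e) (.leaf 0x90003c0000000517)) (.node (.leaf 0x90003c0000100164) (.leaf 0))) (.node (.node (.leaf 0x70003b000000023a) (.leaf 0xc0003c0000000575)) (.node (.leaf 0x6000340000000109) (.leaf 0)))) (.node (.node (.node (.leaf 0x80003d000010049e) (.leaf 0x60003d0000100279)) (.node (.leaf 0x50003300001003ba) (.leaf 0))) (.node (.node (.leaf 0x80003a00001004a6) (.leaf 0)) (.node (.leaf 0x90003c00000000cb) (.leaf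 0)))))) (.node (.node (.node (.node (.node (.leaf 0x800035000010019f) (.leaf 0x80003a00001002da)) (.node (.leaf 0x30003c0000100245) (.leaf 0))) (.node (.node (.leaf 0x40003700001003b6) (.leaf 0x70003d000010020a)) (.node (.leaf 0xb0003c00000002ec) (.leaf 0)))) (.node (.node (.node (.leaf 0x60003700001003c6) (.leaf 0xe0003c000010033a)) (.node (.leaf 0x70003c0000000251) (.leaf 0))) (.node (.node (.leaf 0xa0003a00001000f6) (.leaf 0)) (.node (.leaf 0xa0003d00000002ae) (.leaf 0))))) (.node (.node (.node (.node (.leaf 0x400034000000004e) (.leaf 0xb0003d000000041e)) (.node (.leaf 0x80003d000010049c) (.leaf 0))) (.node (.node (.leaf 0x5000360000100009) (.leaf 0xd0003d0000100383)) (.node (.leaf 0x90003a000010045a) (.leaf 0)))) (.node (.node (.node (.leaf 0x30003900001003c1) (.leaf 0x90003c000010043a)) (.node (.leaf 0x80003b0000000325) (.leaf 0))) (.node (.node (.leaf 0x90003d00000000c9) (.leaf 0)) (.node (.leaf 0xa0003a000000007b) (.leaf 0))))))) (.node (.node (.node (.node (.node (.node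 (.leaf 0xc0003b0000100546) (.leaf 0x60003900001003b9)) (.node (.leaf 0xb0003b000000037d) (.leaf 0))) (.node (.node (.leaf 0xa0003a00001004b2) (.leaf 0xb0003d000000037e)) (.node (.leaf 0x70003400001000ba) (.leaf 0)))) (.node (.node (.node (.leaf 0x7000390000000052) (.leaf 0x80003d00000001eb)) (.node (.leaf 0xa0003c0000100151) (.leaf 0))) (.node (.node (.leaf 0x10002f0000100001) (.leaf 0)) (.node (.leaf 0xa0003c000000038b) (.leaf 0))))) (.node (.node (.node (.node (.leaf 0xb0003d00000003a4) (.leaf 0x80003a00001002a8)) (.node (.leaf 0x60003700001003b8) (.leaf 0))) (.node (.node (.leaf 0xd0003c00000004c1) (.leaf 0xa0003a00000000f6)) (.node (.leaf 0xb0003c00001001aa) (.leaf 0)))) (.node (.node (.node (.leaf 0x600034000000032b) (.leaf 0x40003a0000100566)) (.node (.leaf 0xb0003d0000000278) (.leaf 0))) (.node (.node (.leaf 0x80003a000010045f) (.leaf 0)) (.node (.leaf 0xc0003b000010050c) (.leaf 0)))))) (.node (.node (.node (.node (.node (.leaf 0x60003c0000100433) (.leaf 0x60003a00001000da))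 (.node (.leaf 0x60003d00000001ca) (.leaf 0))) (.node (.node (.leaf 0x90003d0000000518) (.leaf 0x80003d00001001eb)) (.node (.leaf 0xc0003c0000000573) (.leaf 0)))) (.node (.node (.node (.leaf 0x100037000010000a) (.leaf 0x70003c0000100505)) (.node (.leaf 0xa0003d0000100036) (.leaf 0))) (.node (.node (.leaf 0x30003500000004af) (.leaf 0)) (.node (.leaf 0x5000390000100491) (.leaf 0))))) (.node (.node (.node (.node (.leaf 0xb0003c00001002f4) (.leaf 0xc0003b00000000f2)) (.node (.leaf 0x50003d00001000d0) (.leaf 0))) (.node (.node (.leaf 0x70003a0000100267) (.leaf 0x60003d000010048e)) (.node (.leaf 0x80003c0000000357) (.leaf 0)))) (.node (.node (.node (.leaf 0x30003b000000020d) (.leaf 0xc0003a000000057c)) (.node (.leaf 0xc0003b000010032a) (.leaf 0))) (.node (.node (.leaf 0xa0003d000000054b) (.leaf 0)) (.node (.leaf 0x5000370000000129) (.leaf 0))))))))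

/-- part of a forest -/
def forest55 : Trie :=
  (.node (.node (.node (.node (.node (.node (.node (.leaf 0x330000000005) (.leaf 0x90003d0000100305)) (.node (.leaf 0x6000350000100022) (.leaf 0))) (.node (.node (.leaf 0x5000350000000043) (.leaf 0x60003c00000003a3)) (.node (.leaf 0x80003d000010017e) (.leaf 0)))) (.node (.node (.node (.leaf 0x90003700001003d7) (.leaf 0x70003a00001001ea)) (.node (.leaf 0x4000360000000551) (.leaf 0))) (.node (.node (.leaf 0x6000320000100415) (.leaf 0)) (.node (.leaf 0x80003d000010026d) (.leaf 0))))) (.node (.node (.node (.node (.leaf 0x30003200001003e3) (.leaf 0x80003c00000001db)) (.node (.leaf 0x20003c00001002c1) (.leaf 0))) (.node (.node (.leaf 0x800037000010046e) (.leaf 0x70003b00001001b8)) (.node (.leaf 0x70003b00001004d4) (.leaf 0)))) (.node (.node (.node (.leaf 0x90003d0000100518) (.leaf 0x3000380000100130)) (.node (.leaf 0x90003b0000100506) (.leaf 0))) (.node (.node (.leaf 0xb0003c000000005a) (.leaf 0)) (.node (.leaf 0xa0003d00001000c8) (.leaf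 0)))))) (.node (.node (.node (.node (.node (.leaf 0x400039000000008b) (.leaf 0xa0003d00000002e5)) (.node (.leaf 0x90003d0000100250) (.leaf 0))) (.node (.node (.leaf 0x70003700001000a9) (.leaf 0x90003b00001003cf)) (.node (.leaf 0x70003b000010039d) (.leaf 0)))) (.node (.node (.node (.leaf 0x5000330000100010) (.leaf 0xa0003a0000000243)) (.node (.leaf 0x70003c0000100035) (.leaf 0))) (.node (.node (.leaf 0x70003b0000100470) (.leaf 0)) (.node (.leaf 0x40003d000010045b) (.leaf 0))))) (.node (.node (.node (.node (.leaf 0x600038000010012d) (.leaf 0xb0003d00001001d2)) (.node (.leaf 0x7000390000100052) (.leaf 0))) (.node (.node (.leaf 0x90003a000010038a) (.leaf 0x80003c00001004b9)) (.node (.leaf 0x5000360000100097) (.leaf 0)))) (.node (.node (.node (.leaf 0x50003800001003f8) (.leaf 0x80003c0000100258)) (.node (.leaf 0x90003d00001003e0) (.leaf 0))) (.node (.node (.leaf 0xb0003b0000100061) (.leaf 0)) (.node (.leaf 0x80003b0000100446) (.leaf 0))))))) (.node (.node (.node (.node (.node (.node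 (.leaf 0x30003b000010020d) (.leaf 0x50003200000000e8)) (.node (.leaf 0x5000360000100131) (.leaf 0))) (.node (.node (.leaf 0x1000310000100003) (.leaf 0x30003b0000100272)) (.node (.leaf 0x80003a00000001f2) (.leaf 0)))) (.node (.node (.node (.leaf 0x5000320000100054) (.leaf 0xa0003b00000004cc)) (.node (.leaf 0xc0003b0000000077) (.leaf 0))) (.node (.node (.leaf 0xb0003a000010017d) (.leaf 0)) (.node (.leaf 0x80003d0000100372) (.leaf 0))))) (.node (.node (.node (.node (.leaf 0xc0003d0000100273) (.leaf 0x6000320000100095)) (.node (.leaf 0xa0003a0000100243) (.leaf 0))) (.node (.node (.leaf 0x80003d0000100529) (.leaf 0xb0003b0000100530)) (.node (.leaf 0x9000330000100047) (.leaf 0)))) (.node (.node (.node (.leaf 0x90003c000010021b) (.leaf 0x40003b0000000015)) (.node (.leaf 0x70003b0000100494) (.leaf 0))) (.node (.node (.leaf 0x70003c0000000292) (.leaf 0)) (.node (.leaf 0xa0003c00000000d4) (.leaf 0)))))) (.node (.node (.node (.node (.node (.leaf 0x60003c0000000396) (.leaf 0xa0003c000010012a))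 (.node (.leaf 0x90003b000010035d) (.leaf 0))) (.node (.node (.leaf 0x60003b00000000bd) (.leaf 0xa0003c0000000554)) (.node (.leaf 0xc0003c0000000457) (.leaf 0)))) (.node (.node (.node (.leaf 0x80003c00000004b9) (.leaf 0x90003c000010048b)) (.node (.leaf 0xb0003d00001001e4) (.leaf 0))) (.node (.node (.leaf 0x70003c0000100520) (.leaf 0)) (.node (.leaf 0x700039000010016a) (.leaf 0))))) (.node (.node (.node (.node (.leaf 0xc0003d0000100469) (.leaf 0xd0003d00000001df)) (.node (.leaf 0x80003c00001000bc) (.leaf 0))) (.node (.node (.leaf 0xa0003b0000100552) (.leaf 0xb0003c00001000e3)) (.node (.leaf 0xb0003a000000015a) (.leaf 0)))) (.node (.node (.node (.leaf 0xa0003c0000100318) (.leaf 0x40003b0000000464)) (.node (.leaf 0xd0003c00001002c2) (.leaf 0))) (.node (.node (.leaf 0xb0003b000010051a) (.leaf 0)) (.node (.leaf 0x80003d00001004fd) (.leaf 0))))))))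

/-- part of a forest -/
def forest513 : Trie :=
  (.node (.node (.node (.node (.node (.node (.node (.leaf 0x5000340000000028) (.leaf 0xd0003c000010050b)) (.node (.leaf 0x20003b00001004e4) (.leaf 0))) (.node (.node (.leaf 0x80003b000010057b) (.leaf 0xb0003d000000015c)) (.node (.leaf 0x400035000010006b) (.leaf 0)))) (.node (.node (.node (.leaf 0x50003200001000e8) (.leaf 0x60003b00001003dd)) (.node (.leaf 0xb0003d0000100033) (.leaf 0))) (.node (.node (.leaf 0x80003d00001001ac) (.leaf 0)) (.node (.leaf 0xc0003b00001002b4) (.leaf 0))))) (.node (.node (.node (.node (.leaf 0x7000320000100293) (.leaf 0xe0003c00001001b7)) (.node (.leaf 0x7000360000100321) (.leaf 0))) (.node (.node (.leaf 0x6000360000000169) (.leaf 0xa0003d0000100328)) (.node (.leaf 0xb0003c000010051d) (.leaf 0)))) (.node (.node (.node (.leaf 0x70003c0000100039) (.leaf 0x90003c00001001f8)) (.node (.leaf 0x5000360000000131) (.leaf 0))) (.node (.node (.leaf 0x80003c0000100357) (.leaf 0)) (.node (.leaf 0xc0003b00000000f1)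 (.leaf 0)))))) (.node (.node (.node (.node (.node (.leaf 0x3000380000000130) (.leaf 0xb0003b00001001f4)) (.node (.leaf 0xb0003b000010011a) (.leaf 0))) (.node (.node (.leaf 0x50003800000003f8) (.leaf 0xc0003d00000001da)) (.node (.leaf 0x90003d0000100155) (.leaf 0)))) (.node (.node (.node (.leaf 0x2000350000100234) (.leaf 0x70003b000010021c)) (.node (.leaf 0x20003a0000000116) (.leaf 0))) (.node (.node (.leaf 0x40003c0000100351) (.leaf 0)) (.node (.leaf 0xa0003d000010025b) (.leaf 0))))) (.node (.node (.node (.node (.leaf 0x800038000010049a) (.leaf 0x80003d000000049c)) (.node (.leaf 0x70003d0000100568) (.leaf 0))) (.node (.node (.leaf 0x500032000000041a) (.leaf 0xc0003a00001004e0)) (.node (.leaf 0x900038000010006d) (.leaf 0)))) (.node (.node (.node (.leaf 0x90003a000000038a) (.leaf 0x90003b0000000502)) (.node (.leaf 0x40003700001000b2) (.leaf 0))) (.node (.node (.leaf 0xa0003b00001002b8) (.leaf 0)) (.node (.leaf 0xc0003d00001002b5) (.leaf 0))))))) (.node (.node (.node (.node (.node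 (.node (.leaf 0xb0003c0000100466) (.leaf 0x80003900000003b5)) (.node (.leaf 0xb0003c000010016e) (.leaf 0))) (.node (.node (.leaf 0x90003a00000000f8) (.leaf 0xa0003c00001000d4)) (.node (.leaf 0x400038000000004a) (.leaf 0)))) (.node (.node (.node (.leaf 0x5000330000100112) (.leaf 0x80003c00001004d2)) (.node (.leaf 0x90003d0000000577) (.leaf 0))) (.node (.node (.leaf 0x7000330000100026) (.leaf 0)) (.node (.leaf 0x60003b0000100237) (.leaf 0))))) (.node (.node (.node (.node (.leaf 0x60003d000010056a) (.leaf 0x80003c0000100487)) (.node (.leaf 0x50003900001003b4) (.leaf 0))) (.node (.node (.leaf 0xa0003c0000100127) (.leaf 0x50003a00000001e6)) (.node (.leaf 0x80003b00001002d5) (.leaf 0)))) (.node (.node (.node (.leaf 0x400035000010055c) (.leaf 0x10003c0000100014)) (.node (.leaf 0xc0003d000010011e) (.leaf 0))) (.node (.node (.leaf 0x60003c000010034c) (.leaf 0)) (.node (.leaf 0x50003b00001004d5) (.leaf 0)))))) (.node (.node (.node (.node (.node (.leaf 0xb0003c000000040e) (.leaf 0x60003900000002b6))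 (.node (.leaf 0x50003200001003c4) (.leaf 0))) (.node (.node (.leaf 0xa0003c000010039b) (.leaf 0xc0003a0000100556)) (.node (.leaf 0xc0003c000000025e) (.leaf 0)))) (.node (.node (.node (.leaf 0x50003b00001004f5) (.leaf 0x8000340000100024)) (.node (.leaf 0xb0003c000010052f) (.leaf 0))) (.node (.node (.leaf 0x80003b00000000b8) (.leaf 0)) (.node (.leaf 0x70003200000000af) (.leaf 0))))) (.node (.node (.node (.node (.leaf 0x70003900001000a6) (.leaf 0x90003b0000100137)) (.node (.leaf 0x40003c000010057e) (.leaf 0))) (.node (.node (.leaf 0xa0003a00000004a2) (.leaf 0x90003d0000000269)) (.node (.leaf 0xa0003b00001001e0) (.leaf 0)))) (.node (.node (.node (.leaf 0x3000330000000381) (.leaf 0x70003d0000100311)) (.node (.leaf 0xd0003d000010021f) (.leaf 0))) (.node (.node (.leaf 0x70003d0000000579) (.leaf 0)) (.node (.leaf 0x500038000010031d) (.leaf 0))))))))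

/-- part of a forest -/
def forest53 : Trie :=
  (.node (.node (.node (.node (.node (.node (.node (.leaf 0x310000000003) (.leaf 0x70003b0000100508)) (.node (.leaf 0xc0003c0000100456) (.leaf 0))) (.node (.node (.leaf 0x2000390000100062) (.leaf 0xb0003b000010001a)) (.node (.leaf 0x6000380000100084) (.leaf 0)))) (.node (.node (.node (.leaf 0x60003300001000e7) (.leaf 0xa0003c0000100286)) (.node (.leaf 0x5000330000000112) (.leaf 0))) (.node (.node (.leaf 0x80003c0000000017) (.leaf 0)) (.node (.leaf 0xc0003d0000100420) (.leaf 0))))) (.node (.node (.node (.node (.leaf 0x40003500001001b9) (.leaf 0x50003300000001d4)) (.node (.leaf 0x90003a0000100124) (.leaf 0))) (.node (.node (.leaf 0x50003300001001d4) (.leaf 0x40003a0000100434)) (.node (.leaf 0x7000330000000166) (.leaf 0)))) (.node (.node (.node (.leaf 0x70003a00000001ce) (.leaf 0x90003d0000100281)) (.node (.leaf 0x80003b00000002d5) (.leaf 0))) (.node (.node (.leaf 0x60003500000000be) (.leaf 0)) (.node (.leaf 0x700036000010012c) (.leaf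 0)))))) (.node (.node (.node (.node (.node (.leaf 0x80003200001002cf) (.leaf 0x80003c00001001d5)) (.node (.leaf 0xc0003c0000000172) (.leaf 0))) (.node (.node (.leaf 0x80003400001000a1) (.leaf 0x70003d00000000e0)) (.node (.leaf 0x7000360000100228) (.leaf 0)))) (.node (.node (.node (.leaf 0x200034000010023b) (.leaf 0x60003b00001000bd)) (.node (.leaf 0xb0003c0000100336) (.leaf 0))) (.node (.node (.leaf 0xa0003b0000000364) (.leaf 0)) (.node (.leaf 0x50003c0000100362) (.leaf 0))))) (.node (.node (.node (.node (.leaf 0x700033000010029a) (.leaf 0x70003a0000100430)) (.node (.leaf 0xb0003b0000100460) (.leaf 0))) (.node (.node (.leaf 0x90003a00001000f8) (.leaf 0x90003a0000100038)) (.node (.leaf 0x30003a00000004d8) (.leaf 0)))) (.node (.node (.node (.leaf 0xa0003c00000000b7) (.leaf 0x70003a00000000d6)) (.node (.leaf 0xa0003d0000100444) (.leaf 0))) (.node (.node (.leaf 0x80003d00001002e2) (.leaf 0)) (.node (.leaf 0x2000320000000496) (.leaf 0))))))) (.node (.node (.node (.node (.node (.node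 (.leaf 0x5000320000100090) (.leaf 0x7000330000000026)) (.node (.leaf 0x20003b0000100197) (.leaf 0))) (.node (.node (.leaf 0x50003700000002ed) (.leaf 0xc0003d0000100162)) (.node (.leaf 0x60003a0000000126) (.leaf 0)))) (.node (.node (.node (.leaf 0xa0003600001002e6) (.leaf 0xa0003a00000004a8)) (.node (.leaf 0x6000320000000013) (.leaf 0))) (.node (.node (.leaf 0xb0003c00001002ec) (.leaf 0)) (.node (.leaf 0xa0003a00001003a2) (.leaf 0))))) (.node (.node (.node (.node (.leaf 0xc0003c0000100207) (.leaf 0xb0003d00001001a7)) (.node (.leaf 0x700032000000006a) (.leaf 0))) (.node (.node (.leaf 0x70003c0000100251) (.leaf 0xc0003b0000100077)) (.node (.leaf 0xc0003b000000032a) (.leaf 0)))) (.node (.node (.node (.leaf 0x80003a0000000371) (.leaf 0x10003d0000100018)) (.node (.leaf 0xb0003c000010037b) (.leaf 0))) (.node (.node (.leaf 0xa0003b000010055e) (.leaf 0)) (.node (.leaf 0x20003d000010023c) (.leaf 0)))))) (.node (.node (.node (.node (.node (.leaf 0xa0003d000010028f) (.leaf 0x50003c00000001ad))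 (.node (.leaf 0xc0003d00001001da) (.leaf 0))) (.node (.node (.leaf 0x600036000010001c) (.leaf 0xa0003c00000004aa)) (.node (.leaf 0xe0003b00001001d7) (.leaf 0)))) (.node (.node (.node (.leaf 0x70003800001002ea) (.leaf 0x40003b0000100464)) (.node (.leaf 0xb0003a0000100119) (.leaf 0))) (.node (.node (.leaf 0xb0003d000010037e) (.leaf 0)) (.node (.leaf 0x5000370000100129) (.leaf 0))))) (.node (.node (.node (.node (.leaf 0xa0003b000010044e) (.leaf 0x40003b000010019e)) (.node (.leaf 0xb0003d00000004ca) (.leaf 0))) (.node (.node (.leaf 0xa0003b0000000152) (.leaf 0xb0003c000010040e)) (.node (.leaf 0xa0003a000000037c) (.leaf 0)))) (.node (.node (.node (.leaf 0x90003d0000100395) (.leaf 0xc0003c0000000232)) (.node (.leaf 0x50003b00001001a8) (.leaf 0))) (.node (.node (.leaf 0x700035000010031c) (.leaf 0)) (.node (.leaf 0xc0003a00001000fa) (.leaf 0))))))))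

/-- part of a forest -/
def forest511 : Trie :=
  (.node (.node (.node (.node (.node (.node (.node (.leaf 0x38000000000b) (.leaf 0xa0003d00001002e5)) (.node (.leaf 0x90003b000010022c) (.leaf 0))) (.node (.node (.leaf 0x50003c000010042b) (.leaf 0xc0003c000000021d)) (.node (.leaf 0x90003b0000100450) (.leaf 0)))) (.node (.node (.node (.leaf 0x3000390000100103) (.leaf 0x80003c0000100153)) (.node (.leaf 0x60003c00000000ee) (.leaf 0))) (.node (.node (.leaf 0x60003b0000100118) (.leaf 0)) (.node (.leaf 0x90003c00001002be) (.leaf 0))))) (.node (.node (.node (.node (.leaf 0x40003300001004ac) (.leaf 0x90003b0000100426)) (.node (.leaf 0xb0003a00001001d6) (.leaf 0))) (.node (.node (.leaf 0x60003500000002d6) (.leaf 0x90003d00001003f5)) (.node (.leaf 0x60003c000000010e) (.leaf 0)))) (.node (.node (.node (.leaf 0x80003c00001004c4) (.leaf 0xd0003c000000039c)) (.node (.leaf 0xa00039000010024f) (.leaf 0))) (.node (.node (.leaf 0xd0003b0000000370) (.leaf 0)) (.node (.leaf 0x70003c0000000157) (.leaf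 0)))))) (.node (.node (.node (.node (.node (.leaf 0x8000360000000042) (.leaf 0x40003c000000057e)) (.node (.leaf 0x80003b0000100408) (.leaf 0))) (.node (.node (.leaf 0x600032000000023d) (.leaf 0x80003d00001003ee)) (.node (.leaf 0x500034000010031a) (.leaf 0)))) (.node (.node (.node (.leaf 0x400035000000006b) (.leaf 0x90003a000000056e)) (.node (.leaf 0xc0003d000010013f) (.leaf 0))) (.node (.node (.leaf 0x80003a00001002a0) (.leaf 0)) (.node (.leaf 0x90003b00000003cf) (.leaf 0))))) (.node (.node (.node (.node (.leaf 0x3000350000100297) (.leaf 0x7000330000100083)) (.node (.leaf 0xa0003a00001001c6) (.leaf 0))) (.node (.node (.leaf 0xd0003a000010050f) (.leaf 0x90003c00000000fb)) (.node (.leaf 0xc0003c0000100193) (.leaf 0)))) (.node (.node (.node (.leaf 0xc0003a0000100538) (.leaf 0x80003a0000100463)) (.node (.leaf 0xd0003a000010020e) (.leaf 0))) (.node (.node (.leaf 0x70003d00001004de) (.leaf 0)) (.node (.leaf 0x90003d00001001e3) (.leaf 0))))))) (.node (.node (.node (.node (.node (.node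 (.leaf 0x5000380000000291) (.leaf 0x300032000010052c)) (.node (.leaf 0x80003c00001002dc) (.leaf 0))) (.node (.node (.leaf 0x80003c0000100017) (.leaf 0x60003400000002fc)) (.node (.leaf 0x7000360000000321) (.leaf 0)))) (.node (.node (.node (.leaf 0x4000380000000088) (.leaf 0x60003a0000100177)) (.node (.leaf 0xa0003a000010021e) (.leaf 0))) (.node (.node (.leaf 0x90003a00001003e6) (.leaf 0)) (.node (.leaf 0x90003c0000000275) (.leaf 0))))) (.node (.node (.node (.node (.leaf 0x60003b000010046f) (.leaf 0x30003d00000003d3)) (.node (.leaf 0x90003d0000100539) (.leaf 0))) (.node (.node (.leaf 0x90003c00001001cd) (.leaf 0x90003a0000100391)) (.node (.leaf 0xb0003a000000026b) (.leaf 0)))) (.node (.node (.node (.leaf 0x70003b000000005b) (.leaf 0xd0003a00001000eb)) (.node (.leaf 0x70003a000000007a) (.leaf 0))) (.node (.node (.leaf 0x70003c000010003e) (.leaf 0)) (.node (.leaf 0x6000350000100488) (.leaf 0)))))) (.node (.node (.node (.node (.node (.leaf 0x90003a00001002a6) (.leaf 0x70003a000010049b))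 (.node (.leaf 0x1000340000100006) (.leaf 0))) (.node (.node (.leaf 0xa0003a0000100571) (.leaf 0xb0003d00000004a4)) (.node (.leaf 0x1000330000100005) (.leaf 0)))) (.node (.node (.node (.leaf 0x6000360000000215) (.leaf 0xa0003a0000100563)) (.node (.leaf 0x40003b0000100515) (.leaf 0))) (.node (.node (.leaf 0x200033000000033b) (.leaf 0)) (.node (.leaf 0x40003700001001ba) (.leaf 0))))) (.node (.node (.node (.node (.leaf 0x90003a0000100358) (.leaf 0x3000380000000346)) (.node (.leaf 0x80003b0000000403) (.leaf 0))) (.node (.node (.leaf 0x80003d00000004fd) (.leaf 0x70003b0000000470)) (.node (.leaf 0xa0003c00000003d2) (.leaf 0)))) (.node (.node (.node (.leaf 0x80003c00001002a9) (.leaf 0x70003a00000002ff)) (.node (.leaf 0xb0003d00001004ca) (.leaf 0))) (.node (.node (.leaf 0x70003c0000100432) (.leaf 0)) (.node (.leaf 0x10003a000000000f) (.leaf 0))))))))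

/-- part of a forest -/
def forest57 : Trie :=
  (.node (.node (.node (.node (.node (.node (.node (.leaf 0x350000000007) (.leaf 0x90003b00001004f6)) (.node (.leaf 0xb0003c00000002f4) (.leaf 0))) (.node (.node (.leaf 0x1000350000000007) (.leaf 0x50003c000010027d)) (.node (.leaf 0xd0003b0000100070) (.leaf 0)))) (.node (.node (.node (.leaf 0x30003500001004af) (.leaf 0x70003c0000000432)) (.node (.leaf 0xc0003d000010032e) (.leaf 0))) (.node (.node (.leaf 0x8000390000100265) (.leaf 0)) (.node (.leaf 0xa0003d000000016f) (.leaf 0))))) (.node (.node (.node (.node (.leaf 0x800033000010019d) (.leaf 0xa0003a000000003b)) (.node (.leaf 0x80003c00000001fb) (.leaf 0))) (.node (.node (.leaf 0xa0003d000000053e) (.leaf 0xb0003a000000043c)) (.node (.leaf 0x800039000000004f) (.leaf 0)))) (.node (.node (.node (.leaf 0x90003d0000000472) (.leaf 0x400037000010009a)) (.node (.leaf 0x600032000010008d) (.leaf 0))) (.node (.node (.leaf 0x50003700001000b4) (.leaf 0)) (.node (.leaf 0x800033000010008a) (.leaf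 0)))))) (.node (.node (.node (.node (.node (.leaf 0x4000320000100340) (.leaf 0xa0003b0000000552)) (.node (.leaf 0x80003a00001002aa) (.leaf 0))) (.node (.node (.leaf 0x90003c0000100275) (.leaf 0x90003d0000100385)) (.node (.leaf 0xb0003b000000052a) (.leaf 0)))) (.node (.node (.node (.leaf 0x7000340000000094) (.leaf 0xc0003a00001003a0)) (.node (.leaf 0x40003800000004c5) (.leaf 0))) (.node (.node (.leaf 0xa0003d000010057d) (.leaf 0)) (.node (.leaf 0x90003c00000002be) (.leaf 0))))) (.node (.node (.node (.node (.leaf 0x500035000010030e) (.leaf 0xa0003a000010023e)) (.node (.leaf 0x60003a0000100221) (.leaf 0))) (.node (.node (.leaf 0x90003a00000002bf) (.leaf 0xd0003b00000002f1)) (.node (.leaf 0xa0003b000000040f) (.leaf 0)))) (.node (.node (.node (.leaf 0x500033000010004b) (.leaf 0x50003b0000000473)) (.node (.leaf 0xa0003c00000004e9) (.leaf 0))) (.node (.node (.leaf 0x90003c000010049d) (.leaf 0)) (.node (.leaf 0xa0003c0000000266) (.leaf 0))))))) (.node (.node (.node (.node (.node (.node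 (.leaf 0x70003c000010042c) (.leaf 0xd0003b0000000384)) (.node (.leaf 0xc0003c0000000294) (.leaf 0))) (.node (.node (.leaf 0xc0003d0000100296) (.leaf 0x80003c00001003cb)) (.node (.leaf 0x6000330000000037) (.leaf 0)))) (.node (.node (.node (.leaf 0x4000360000000108) (.leaf 0x90003b000000022b)) (.node (.leaf 0x2000350000000234) (.leaf 0))) (.node (.node (.leaf 0x10003b0000100011) (.leaf 0)) (.node (.leaf 0x60003d0000100120) (.leaf 0))))) (.node (.node (.node (.node (.leaf 0x800035000000019f) (.leaf 0xb0003c00001002de)) (.node (.leaf 0xa0003c0000000286) (.leaf 0))) (.node (.node (.leaf 0x60003c000010010e) (.leaf 0x8000390000100411)) (.node (.leaf 0x70003c00001004f8) (.leaf 0)))) (.node (.node (.node (.leaf 0xd0003d0000000352) (.leaf 0xc0003b0000100327)) (.node (.leaf 0x90003b00000000ff) (.leaf 0))) (.node (.node (.leaf 0xd0003b00000003d9) (.leaf 0)) (.node (.leaf 0x800037000010006f) (.leaf 0)))))) (.node (.node (.node (.node (.node (.leaf 0x50003300001000a0) (.leaf 0x40003d0000100280))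 (.node (.leaf 0x50003b00000001a8) (.leaf 0))) (.node (.node (.leaf 0x80003b0000100220) (.leaf 0x8000390000100048)) (.node (.leaf 0xc0003b000010035f) (.leaf 0)))) (.node (.node (.node (.leaf 0x90003c0000100565) (.leaf 0xc0003a000000029e)) (.node (.leaf 0xa0003d0000100240) (.leaf 0))) (.node (.node (.leaf 0xd0003c0000100335) (.leaf 0)) (.node (.leaf 0x7000380000000440) (.leaf 0))))) (.node (.node (.node (.node (.leaf 0xb0003b0000100175) (.leaf 0x90003b0000100502)) (.node (.leaf 0x8000370000000524) (.leaf 0))) (.node (.node (.leaf 0x50003a00000004d9) (.leaf 0x80003d000010051f)) (.node (.leaf 0x90003d00001003e2) (.leaf 0)))) (.node (.node (.node (.leaf 0xb0003d00000001e4) (.leaf 0xa0003a000000055b)) (.node (.leaf 0xc0003d00000003cc) (.leaf 0))) (.node (.node (.leaf 0x80003c00000002a5) (.leaf 0)) (.node (.leaf 0x90003a00001003df) (.leaf 0))))))))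

/-- part of a forest -/
def forest515 : Trie :=
  (.node (.node (.node (.node (.node (.node (.node (.leaf 0x3a000000000f) (.leaf 0x90003b0000100309)) (.node (.leaf 0xb0003d0000100509) (.leaf 0))) (.node (.node (.leaf 0x80003d0000000102) (.leaf 0xc0003a000000017c)) (.node (.leaf 0x400035000010002c) (.leaf 0)))) (.node (.node (.node (.leaf 0x500034000000031a) (.leaf 0x90003a00000004ae)) (.node (.leaf 0x90003d00001004ea) (.leaf 0))) (.node (.node (.leaf 0x80003d00001001fd) (.leaf 0)) (.node (.leaf 0x20003c00000004dd) (.leaf 0))))) (.node (.node (.node (.node (.leaf 0x70003900001002df) (.leaf 0xc0003d00000004bf)) (.node (.leaf 0x9000390000100347) (.leaf 0))) (.node (.node (.leaf 0x90003c00001004e5) (.leaf 0x60003c00001004b1)) (.node (.leaf 0x60003b00001002f3) (.leaf 0)))) (.node (.node (.node (.leaf 0xd0003c000000053c) (.leaf 0xa0003a00001004a2)) (.node (.leaf 0x700032000010006a) (.leaf 0))) (.node (.node (.leaf 0x8000340000100319) (.leaf 0)) (.node (.leaf 0x80003b0000100058) (.leaf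 0)))))) (.node (.node (.node (.node (.node (.leaf 0x600034000010032b) (.leaf 0x60003b0000000512)) (.node (.leaf 0xb0003c0000000572) (.leaf 0))) (.node (.node (.leaf 0x700038000010010a) (.leaf 0xa0003c0000100266)) (.node (.leaf 0xa0003d00000000c8) (.leaf 0)))) (.node (.node (.node (.leaf 0x600032000010016d) (.leaf 0x2000350000100107)) (.node (.leaf 0x80003c00001004b0) (.leaf 0))) (.node (.node (.leaf 0x70003b000010005b) (.leaf 0)) (.node (.leaf 0x60003800001002d2) (.leaf 0))))) (.node (.node (.node (.node (.leaf 0x7000370000000089) (.leaf 0x50003b000000011f)) (.node (.leaf 0x60003b0000000578) (.leaf 0))) (.node (.node (.leaf 0x90003d0000100269) (.leaf 0xb0003c0000100257)) (.node (.leaf 0x80003b0000100174) (.leaf 0)))) (.node (.node (.node (.leaf 0xa0003a00001001f0) (.leaf 0xa0003b00001003ab)) (.node (.leaf 0x70003a0000100439) (.leaf 0))) (.node (.node (.leaf 0xd0003d0000100117) (.leaf 0)) (.node (.leaf 0xa0003b0000100407) (.leaf 0))))))) (.node (.node (.node (.node (.node (.node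 (.leaf 0x400038000010047b) (.leaf 0x60003b00001000d8)) (.node (.leaf 0xc0003d00001003ec) (.leaf 0))) (.node (.node (.leaf 0x40003b0000100015) (.leaf 0x70003d00001000e0)) (.node (.leaf 0x6000320000100382) (.leaf 0)))) (.node (.node (.node (.leaf 0x50003900000003b4) (.leaf 0xb0003c000000037f)) (.node (.leaf 0x900034000010034a) (.leaf 0))) (.node (.node (.leaf 0x7000350000100428) (.leaf 0)) (.node (.leaf 0xa0003a00000001fc) (.leaf 0))))) (.node (.node (.node (.node (.leaf 0x800033000000019d) (.leaf 0x70003a0000000206)) (.node (.leaf 0x50003b000010011f) (.leaf 0))) (.node (.node (.leaf 0x7000360000100133) (.leaf 0xa0003c00001001c0)) (.node (.leaf 0xb0003b0000000073) (.leaf 0)))) (.node (.node (.node (.leaf 0x8000340000000319) (.leaf 0xb0003c0000100522)) (.node (.leaf 0x6000390000000414) (.leaf 0))) (.node (.node (.leaf 0xc0003d00001002fb) (.leaf 0)) (.node (.leaf 0x80003a0000100485) (.leaf 0)))))) (.node (.node (.node (.node (.node (.leaf 0x500035000000030e) (.leaf 0x500035000000030f))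 (.node (.leaf 0x80003500001000ac) (.leaf 0))) (.node (.node (.leaf 0xb0003d0000000361) (.leaf 0xd0003c0000000492)) (.node (.leaf 0x80003b00001001ff) (.leaf 0)))) (.node (.node (.node (.leaf 0x200033000010033b) (.leaf 0xb0003d00001003c5)) (.node (.leaf 0x80003a0000100484) (.leaf 0))) (.node (.node (.leaf 0x90003b000000022c) (.leaf 0)) (.node (.leaf 0xa0003c00001000d5) (.leaf 0))))) (.node (.node (.node (.node (.leaf 0x1000340000000006) (.leaf 0xa0003d0000100202)) (.node (.leaf 0xb0003c0000100535) (.leaf 0))) (.node (.node (.leaf 0x50003b00000004b3) (.leaf 0x80003b0000000274)) (.node (.leaf 0xa0003c00001003c9) (.leaf 0)))) (.node (.node (.node (.leaf 0x80003b00001001af) (.leaf 0x50003a000010051c)) (.node (.leaf 0x60003a0000100452) (.leaf 0))) (.node (.node (.leaf 0x70003b000000041f) (.leaf 0)) (.node (.leaf 0x600034000010000d) (.leaf 0))))))))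

/-- a forest -/
def forest5 : Trie :=
  (.node (.node (.node (.node forest50 forest58) (.node forest54 forest512)) (.node (.node forest52 forest510) (.node forest56 forest514))) (.node (.node (.node forest51 forest59) (.node forest55 forest513)) (.node (.node forest53 forest511) (.node forest57 forest515))))

/-- part of a tree -/
def node6L0tree0 : Trie :=
  (.node (.node (.leaf 0x0) (.leaf 0x100000)) (.node (.leaf 0x0) (.leaf 0x100001)))

/-- a tree -/
def node6L0tree : Trie :=
  node6L0tree0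

/-- part of transversal words -/
def node6L0word0 : Trie :=
  (.node (.node (.leaf 0x0) (.leaf 0xec95b50cb0c859)) (.node (.leaf 0x11491495b75baec) (.leaf 0x1d913aebad3664a61)))

/-- transversal words -/
def node6L0word : Trie :=
  node6L0word0

/-- part of closing hints -/
def node6L0close0 : Trie :=
  (.node (.node (.node (.leaf 0x1) (.leaf 0x1003)) (.node (.leaf 0x3000) (.leaf 0x12002))) (.node (.node (.leaf 0x2) (.leaf 0x2000)) (.node (.leaf 0x3) (.leaf 0x1001001))))

/-- closing hints -/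
def node6L0close : Trie :=
  node6L0close0

/-- a level -/
def node6L0 : SLev := ⟨0, [0x11491495b75baec, 0xec95b50cb0c859], node6L0tree, node6L0word, 4, node6L0close, [(2, 0), (2, 1), (1, 0)]⟩

/-- part of a tree -/
def node6L1tree0 : Trie :=
  (.node (.node (.node (.node (.node (.leaf 0x0) (.leaf 0x200007)) (.node (.leaf 0x3) (.leaf 0x20000f))) (.node (.node (.leaf 0x1) (.leaf 0xb)) (.node (.leaf 0x200005) (.leaf 0x13)))) (.node (.node (.node (.leaf 0x100000) (.leaf 0x200009)) (.node (.leaf 0x200004) (.leaf 0x11))) (.node (.node (.leaf 0x200001) (.leaf 0x10000d)) (.node (.leaf 0x100006) (.leaf 0))))) (.node (.node (.node (.node (.leaf 0x0) (.leaf 0x200008)) (.node (.leaf 0x100004) (.leaf 0x10))) (.node (.node (.leaf 0x100001) (.leaf 0xc)) (.node (.leaf 0x6) (.leaf 0x200016)))) (.node (.node (.node (.leaf 0x200000) (.leaf 0xa)) (.node (.leaf 0x100005) (.leaf 0x100011))) (.node (.node (.leaf 0x2) (.leaf 0x20000d)) (.node (.leaf 0x7) (.leaf 0))))))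

/-- a tree -/
def node6L1tree : Trie :=
  node6L1tree0

/-- part of transversal words -/
def node6L1word0 : Trie :=
  (.node (.node (.node (.node (.node (.leaf 0x0) (.leaf 0x6a42d96642d9)) (.node (.leaf 0x9b4d34d96cb2d9) (.leaf 0x11430c8616cc))) (.node (.node (.leaf 0x430b661) (.leaf 0x134da6a28596cb2cb)) (.node (.leaf 0x144da6d330c2d9) (.leaf 0x4d44da6d990c2cb)))) (.node (.node (.node (.leaf 0xa26d34d990b661) (.leaf 0x4d351365b66430b)) (.node (.leaf 0xa45148a430c321) (.leaf 0x2452589b50badd6ec))) (.node (.node (.leaf 0x89b5144cb65b30b) (.leaf 0x89b4d36998642cc)) (.node (.leaf 0x3321659) (.leaf 0))))) (.node (.node (.node (.node (.leaf 0x16642cb) (.leaf 0x144da69b321861)) (.node (.leaf 0xa26d34cb6642d9) (.leaf 0x1226d45226cc8616cc))) (.node (.node (.leaf 0x142d965b30b) (.leaf 0x5145226cb2db30c)) (.node (.leaf 0x5148a489b30b2cb) (.leaf 0x861861)))) (.node (.node (.node (.leaf 0x5228a450b2d985b) (.leaf 0x45134da6d990c2cb)) (.node (.leaf 0x48a42cb65990c) (.leaf 0x9a69b2cc85b))) (.node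 (.node (.leaf 0x5259256d375b764) (.leaf 0x4d49148616cc)) (.node (.leaf 0x34da8a430b65b) (.leaf 0))))))

/-- transversal words -/
def node6L1word : Trie :=
  node6L1word0

/-- part of closing hints -/
def node6L1close0 : Trie :=
  (.node (.node (.node (.node (.node (.node (.node (.leaf 0x1) (.leaf 0x1019)) (.node (.leaf 0x4) (.leaf 0))) (.node (.node (.leaf 0xb) (.leaf 0x1013)) (.node (.leaf 0x19) (.leaf 0)))) (.node (.node (.node (.leaf 0x1002) (.leaf 0x17)) (.node (.leaf 0x16) (.leaf 0))) (.node (.node (.leaf 0x1005) (.leaf 0x17)) (.node (.leaf 0x9) (.leaf 0))))) (.node (.node (.node (.node (.leaf 0x5) (.leaf 0x1d)) (.node (.leaf 0x15) (.leaf 0))) (.node (.node (.leaf 0x1) (.leaf 0xa)) (.node (.leaf 0x1b) (.leaf 0)))) (.node (.node (.node (.leaf 0x0) (.leaf 0x1c)) (.node (.leaf 0xb) (.leaf 0))) (.node (.node (.leaf 0x7) (.leaf 0)) (.node (.leaf 0x9) (.leaf 0)))))) (.node (.node (.node (.node (.node (.leaf 0x3) (.leaf 0xc)) (.node (.leaf 0x1) (.leaf 0))) (.node (.node (.leaf 0xd)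 (.leaf 0x1018)) (.node (.leaf 0x7) (.leaf 0)))) (.node (.node (.node (.leaf 0x1000) (.leaf 0xf)) (.node (.leaf 0x1010) (.leaf 0))) (.node (.node (.leaf 0x11) (.leaf 0)) (.node (.leaf 0x100d) (.leaf 0))))) (.node (.node (.node (.node (.leaf 0x7) (.leaf 0x1a)) (.node (.leaf 0x5) (.leaf 0))) (.node (.node (.leaf 0x4) (.leaf 0x101c)) (.node (.leaf 0x1006) (.leaf 0)))) (.node (.node (.node (.leaf 0xa) (.leaf 0x101b)) (.node (.leaf 0x14) (.leaf 0))) (.node (.node (.leaf 0x13) (.leaf 0)) (.node (.leaf 0x101b) (.leaf 0))))))) (.node (.node (.node (.node (.node (.node (.leaf 0x2) (.leaf 0x19)) (.node (.leaf 0x14) (.leaf 0))) (.node (.node (.leaf 0xc) (.leaf 0x1011)) (.node (.leaf 0x12) (.leaf 0)))) (.node (.node (.node (.leaf 0x8) (.leaf 0x1011)) (.node (.leaf 0x17) (.leaf 0))) (.node (.node (.leaf 0x100f) (.leaf 0x16)) (.node (.leaf 0x1c) (.leaf 0))))) (.node (.node (.node (.node (.leaf 0x6) (.leaf 0x101d)) (.node (.leaf 0x6) (.leaf 0))) (.node (.node (.leaf 0xf) (.leaf 0x1015)) (.node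 (.leaf 0x8) (.leaf 0)))) (.node (.node (.node (.leaf 0x9) (.leaf 0x15)) (.node (.leaf 0x2) (.leaf 0))) (.node (.node (.leaf 0x12) (.leaf 0)) (.node (.leaf 0x1008) (.leaf 0)))))) (.node (.node (.node (.node (.node (.leaf 0x4) (.leaf 0x1013)) (.node (.leaf 0xe) (.leaf 0))) (.node (.node (.leaf 0xe) (.leaf 0x1014)) (.node (.leaf 0x1a) (.leaf 0)))) (.node (.node (.node (.leaf 0x0) (.leaf 0x100e)) (.node (.leaf 0xc) (.leaf 0))) (.node (.node (.leaf 0xb) (.leaf 0)) (.node (.leaf 0x101a) (.leaf 0))))) (.node (.node (.node (.node (.leaf 0x1003) (.leaf 0xd)) (.node (.leaf 0x1012) (.leaf 0))) (.node (.node (.leaf 0x10) (.leaf 0x1018)) (.node (.leaf 0xa) (.leaf 0)))) (.node (.node (.node (.leaf 0x1003) (.leaf 0x1d)) (.node (.leaf 0x18) (.leaf 0))) (.node (.node (.leaf 0x10) (.leaf 0)) (.node (.leaf 0x16) (.leaf 0))))))))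

/-- closing hints -/
def node6L1close : Trie :=
  node6L1close0

/-- a level -/
def node6L1 : SLev := ⟨6, [0x16642cb, 0xa26d34d990b661, 0x5228a450b2d985b], node6L1tree, node6L1word, 30, node6L1close, [(22, 1)]⟩

/-- part of a tree -/
def node6L2tree0 : Trie :=
  (.node (.leaf 0x0) (.leaf 0x0))

/-- a tree -/
def node6L2tree : Trie :=
  node6L2tree0

/-- part of transversal words -/
def node6L2word0 : Trie :=
  (.node (.leaf 0x0) (.leaf 0x5132cc30b2cc))

/-- transversal words -/
def node6L2word : Trie :=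
  node6L2word0

/-- part of closing hints -/
def node6L2close0 : Trie :=
  (.node (.leaf 0x1) (.leaf 0x0))

/-- closing hints -/
def node6L2close : Trie :=
  node6L2close0

/-- a level -/
def node6L2 : SLev := ⟨9, [0x5132cc30b2cc], node6L2tree, node6L2word, 2, node6L2close, []⟩

/-- a chain -/
def node6 : List SLev := [node6L0, node6L1, node6L2]

/-- part of a forest -/
def forest60 : Trie :=
  (.node (.node (.node (.node (.node (.node (.node (.leaf 0x3e0000000000) (.leaf 0x7000530000000487)) (.node (.leaf 0x40005a00000003c8) (.leaf 0))) (.node (.node (.leaf 0x9000580000100458) (.leaf 0x7000580000100218)) (.node (.leaf 0x4000500000100548) (.leaf 0)))) (.node (.node (.node (.leaf 0x60004200000004c8) (.leaf 0x40005300001000d4)) (.node (.leaf 0x80004200000002c4) (.leaf 0))) (.node (.node (.leaf 0x4000530000100153) (.leaf 0)) (.node (.leaf 0x60004b0000000210) (.leaf 0))))) (.node (.node (.node (.node (.leaf 0x40004c00001003d0) (.leaf 0x50004b00001002c3)) (.node (.leaf 0x50004f00000002fa)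 (.leaf 0))) (.node (.node (.leaf 0xa0004800000001e7) (.leaf 0x30005b00000002d4)) (.node (.leaf 0x500058000010039f) (.leaf 0)))) (.node (.node (.node (.leaf 0x1000450000000009) (.leaf 0x50005a0000000547)) (.node (.leaf 0x8000420000100446) (.leaf 0))) (.node (.node (.leaf 0x1000530000000035) (.leaf 0)) (.node (.leaf 0x4000470000100399) (.leaf 0)))))) (.node (.node (.node (.node (.node (.leaf 0x30004b00001004d5) (.leaf 0x40004f000010018f)) (.node (.leaf 0x60005600000004cc) (.leaf 0))) (.node (.node (.leaf 0x70005b00000003ee) (.leaf 0x30004200001003d6)) (.node (.leaf 0x10003f0000100001) (.leaf 0)))) (.node (.node (.node (.leaf 0x40004800000000f8) (.leaf 0x50005500000004b3)) (.node (.leaf 0x7000590000100330) (.leaf 0))) (.node (.node (.leaf 0x8000480000000228) (.leaf 0)) (.node (.leaf 0x2000460000100185) (.leaf 0))))) (.node (.node (.node (.node (.leaf 0x560000000060) (.leaf 0x70005900000000cf)) (.node (.leaf 0x40004d000010046f) (.leaf 0))) (.node (.node (.leaf 0x60005a00000002a9) (.leaf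 0x70005900000003ef)) (.node (.leaf 0x500058000010026b) (.leaf 0)))) (.node (.node (.node (.leaf 0x50004b00000002c3) (.leaf 0x20004c00000000f2)) (.node (.leaf 0x60005b000000017f) (.leaf 0))) (.node (.node (.leaf 0x50004300000000b1) (.leaf 0)) (.node (.leaf 0x5000580000100282) (.leaf 0))))))) (.node (.node (.node (.node (.node (.node (.leaf 0x4b0000000010) (.leaf 0x60004300001001e0)) (.node (.leaf 0x50004b0000100510) (.leaf 0))) (.node (.node (.leaf 0x900059000010035e) (.leaf 0x40004b00001003e3)) (.node (.leaf 0x6000420000000227) (.leaf 0)))) (.node (.node (.node (.leaf 0x400042000000015b) (.leaf 0x5000420000000449)) (.node (.leaf 0x70005800001000f0) (.leaf 0))) (.node (.node (.leaf 0x40004f000000011e) (.leaf 0)) (.node (.leaf 0x4000580000100252) (.leaf 0))))) (.node (.node (.node (.node (.leaf 0x4000500000000171) (.leaf 0x30004300001002c6)) (.node (.leaf 0x700048000010004b) (.leaf 0))) (.node (.node (.leaf 0x8000580000000296) (.leaf 0x90004200001000df)) (.node (.leaf 0x7000560000000441)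 (.leaf 0)))) (.node (.node (.node (.leaf 0x70005a0000100401) (.leaf 0x70004d000010022a)) (.node (.leaf 0x80004b000010006d) (.leaf 0))) (.node (.node (.leaf 0x6000590000100118) (.leaf 0)) (.node (.leaf 0x30004c000000011d) (.leaf 0)))))) (.node (.node (.node (.node (.node (.leaf 0x5000460000100016) (.leaf 0x2000480000100333)) (.node (.leaf 0x20005a000010040a) (.leaf 0))) (.node (.node (.leaf 0x70004b0000100136) (.leaf 0x5000560000000371)) (.node (.leaf 0x60005900000000c6) (.leaf 0)))) (.node (.node (.node (.leaf 0x60004d000000011a) (.leaf 0x70004b0000000136)) (.node (.leaf 0x40004c000010013e) (.leaf 0))) (.node (.node (.leaf 0x100047000000000b) (.leaf 0)) (.node (.leaf 0x40004700000001e4) (.leaf 0))))) (.node (.node (.node (.node (.leaf 0x5000460000100049) (.leaf 0x20005b0000000472)) (.node (.leaf 0x50005900001001d8) (.leaf 0))) (.node (.node (.leaf 0x70004200000000a1) (.leaf 0x9000420000100266)) (.node (.leaf 0x50005900000002da) (.leaf 0)))) (.node (.node (.node (.leaf 0x6000580000100286)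 (.leaf 0x500053000010044f)) (.node (.leaf 0x5000420000100094) (.leaf 0))) (.node (.node (.leaf 0x5000420000000169) (.leaf 0)) (.node (.leaf 0x30005900001003cc) (.leaf 0))))))))

/-- part of a forest -/
def forest68 : Trie :=
  (.node (.node (.node (.node (.node (.node (.node (.leaf 0x440000000008) (.leaf 0x50005300001002cf)) (.node (.leaf 0x90004800001004b2) (.leaf 0))) (.node (.node (.leaf 0x80004d0000000553) (.leaf 0x9000420000100231)) (.node (.leaf 0x5000530000000247) (.leaf 0)))) (.node (.node (.node (.leaf 0x30004b00000001fc) (.leaf 0x6000590000000370)) (.node (.leaf 0x30005800001000d7) (.leaf 0))) (.node (.node (.leaf 0x2000450000000204) (.leaf 0)) (.node (.leaf 0x7000580000100382) (.leaf 0))))) (.node (.node (.node (.node (.leaf 0x30004500000003db) (.leaf 0xa0005b0000000325)) (.node (.leaf 0x600059000000041e) (.leaf 0))) (.node (.node (.leaf 0x60004c000010028e) (.leaf 0x3000500000000347)) (.node (.leaf 0x30004500000002cd) (.leaf 0)))) (.node (.node (.node (.leaf 0x900048000000041d)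 (.leaf 0x50004200001003eb)) (.node (.leaf 0x60005800000002b5) (.leaf 0))) (.node (.node (.leaf 0xb0005b0000100221) (.leaf 0)) (.node (.leaf 0x30005a0000000549) (.leaf 0)))))) (.node (.node (.node (.node (.node (.leaf 0x200042000000047f) (.leaf 0x80004d00000004d0)) (.node (.leaf 0x700048000000033b) (.leaf 0))) (.node (.node (.leaf 0x80005600001000ef) (.leaf 0x70005600001003d7)) (.node (.leaf 0x5000510000000352) (.leaf 0)))) (.node (.node (.node (.leaf 0x70004b000000045a) (.leaf 0x4000580000100346)) (.node (.leaf 0x500056000010021e) (.leaf 0))) (.node (.node (.leaf 0x8000480000000383) (.leaf 0)) (.node (.leaf 0x60004f000010038b) (.leaf 0))))) (.node (.node (.node (.node (.leaf 0x4000450000100292) (.leaf 0x60005b000010023b)) (.node (.leaf 0xc0004b0000100238) (.leaf 0))) (.node (.node (.leaf 0x4000580000000232) (.leaf 0x4000580000100495)) (.node (.leaf 0x80004f000000025d) (.leaf 0)))) (.node (.node (.node (.leaf 0x100049000010000d) (.leaf 0x70004d00001004ef)) (.node (.leaf 0x4000560000100199)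 (.leaf 0))) (.node (.node (.leaf 0x40004c0000000494) (.leaf 0)) (.node (.leaf 0x70005a0000000415) (.leaf 0))))))) (.node (.node (.node (.node (.node (.node (.leaf 0x30004300000000b6) (.leaf 0x9000420000000412)) (.node (.leaf 0x60005800000004f1) (.leaf 0))) (.node (.node (.leaf 0x50005900001002da) (.leaf 0x90004800000001a8)) (.node (.leaf 0x300048000010004c) (.leaf 0)))) (.node (.node (.node (.leaf 0x6000480000100491) (.leaf 0x300053000010051f)) (.node (.leaf 0x7000420000100080) (.leaf 0))) (.node (.node (.leaf 0x50004f0000000539) (.leaf 0)) (.node (.leaf 0x90004d0000100021) (.leaf 0))))) (.node (.node (.node (.node (.leaf 0x300042000000025c) (.leaf 0x8000580000100189)) (.node (.leaf 0x90004d00000004bc) (.leaf 0))) (.node (.node (.leaf 0x70005b00000000fa) (.leaf 0x50005a00001000f5)) (.node (.leaf 0x7000580000000536) (.leaf 0)))) (.node (.node (.node (.leaf 0x40004c0000100494) (.leaf 0x4000430000100373)) (.node (.leaf 0x50005a0000100547) (.leaf 0))) (.node (.node (.leaf 0x40005900000003f0)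 (.leaf 0)) (.node (.leaf 0x6000590000100270) (.leaf 0)))))) (.node (.node (.node (.node (.node (.leaf 0x60004b000010006e) (.leaf 0x90004200000000df)) (.node (.leaf 0xb0004b0000000259) (.leaf 0))) (.node (.node (.leaf 0x30005000000003da) (.leaf 0x50005a0000100212)) (.node (.leaf 0x90004200000000a3) (.leaf 0)))) (.node (.node (.node (.leaf 0x5900000000b8) (.leaf 0x6000580000000362)) (.node (.leaf 0x70005b00001003f6) (.leaf 0))) (.node (.node (.leaf 0x60004b0000100440) (.leaf 0)) (.node (.leaf 0x1000400000100002) (.leaf 0))))) (.node (.node (.node (.node (.leaf 0x4000450000100348) (.leaf 0x10005b00001000d2)) (.node (.leaf 0x80004f00001002f7) (.leaf 0))) (.node (.node (.leaf 0x40004f0000000115) (.leaf 0x80004b000000001e)) (.node (.leaf 0x40005a00000002f5) (.leaf 0)))) (.node (.node (.node (.leaf 0x3000480000100430) (.leaf 0x80005a0000100459)) (.node (.leaf 0x90005b0000000244) (.leaf 0))) (.node (.node (.leaf 0x80005a00000003a1) (.leaf 0)) (.node (.leaf 0x90004b0000100578) (.leaf 0))))))))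

/-- part of a forest -/
def forest64 : Trie :=
  (.node (.node (.node (.node (.node (.node (.node (.leaf 0x20003e00001000c1) (.leaf 0xc000420000100392)) (.node (.leaf 0x1000450000100009) (.leaf 0))) (.node (.node (.leaf 0x3000510000100253) (.leaf 0x4000590000100384)) (.node (.leaf 0x70005a0000100216) (.leaf 0)))) (.node (.node (.node (.leaf 0x6000470000100124) (.leaf 0x50005b0000000379)) (.node (.leaf 0x60005600000000d6) (.leaf 0))) (.node (.node (.leaf 0xb0004b000010049b) (.leaf 0)) (.node (.leaf 0x30005900000002f1) (.leaf 0))))) (.node (.node (.node (.node (.leaf 0x60004d000000024c) (.leaf 0x7000580000000272)) (.node (.leaf 0x80005b000010042d) (.leaf 0))) (.node (.node (.leaf 0x10004a000000000e) (.leaf 0x70004f00000004ea)) (.node (.leaf 0x60004d00000004c4) (.leaf 0)))) (.node (.node (.node (.leaf 0x90004d0000000091) (.leaf 0x50004d00001000ad)) (.node (.leaf 0x70004200001003bc) (.leaf 0))) (.node (.node (.leaf 0x700042000000046c) (.leaf 0)) (.node (.leaf 0xa000420000100071) (.leaf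 0)))))) (.node (.node (.node (.node (.node (.leaf 0x30004600000003af) (.leaf 0x70005300000000e2)) (.node (.leaf 0x2000560000000545) (.leaf 0))) (.node (.node (.leaf 0x50004700000003c0) (.leaf 0x70004200001000a7)) (.node (.leaf 0x80004d000010054d) (.leaf 0)))) (.node (.node (.node (.leaf 0x400048000000035c) (.leaf 0x7000580000000172)) (.node (.leaf 0x60004d00000004b9) (.leaf 0))) (.node (.node (.leaf 0x1000400000000002) (.leaf 0)) (.node (.leaf 0x90004800000003c7) (.leaf 0))))) (.node (.node (.node (.node (.leaf 0xa0004800000004b5) (.leaf 0x60004b000000006e)) (.node (.leaf 0x8000590000100222) (.leaf 0))) (.node (.node (.leaf 0x50005300001004ec) (.leaf 0x50005600000000cc)) (.node (.leaf 0x60004b0000000183) (.leaf 0)))) (.node (.node (.node (.leaf 0x50004b00001001f1) (.leaf 0x200048000000012c)) (.node (.leaf 0x40005300000002dc) (.leaf 0))) (.node (.node (.leaf 0x30004700001003a7) (.leaf 0)) (.node (.leaf 0x50004d000010002b) (.leaf 0))))))) (.node (.node (.node (.node (.node (.node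 (.leaf 0x3000480000000430) (.leaf 0x40005300000000d4)) (.node (.leaf 0xb000420000100081) (.leaf 0))) (.node (.node (.leaf 0x7000560000000359) (.leaf 0x90005b000000026c)) (.node (.leaf 0x30004c00001004e0) (.leaf 0)))) (.node (.node (.node (.leaf 0x4000420000000520) (.leaf 0x30004c000010014c)) (.node (.leaf 0x90004b000010039d) (.leaf 0))) (.node (.node (.leaf 0xb0004d0000000107) (.leaf 0)) (.node (.leaf 0x8000480000000486) (.leaf 0))))) (.node (.node (.node (.node (.leaf 0x900048000000029e) (.leaf 0x80004b000000025e)) (.node (.leaf 0xa000420000000506) (.leaf 0))) (.node (.node (.leaf 0x50005900000004dc) (.leaf 0x90005b000000039e)) (.node (.leaf 0x30005600001002f3) (.leaf 0)))) (.node (.node (.node (.leaf 0x30005300001002b9) (.leaf 0x40005900000002aa)) (.node (.leaf 0x20005b0000000478) (.leaf 0))) (.node (.node (.leaf 0x40005b0000000167) (.leaf 0)) (.node (.leaf 0x40005b0000000540) (.leaf 0)))))) (.node (.node (.node (.node (.node (.leaf 0x90004d0000000407) (.leaf 0x900042000010007c))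 (.node (.leaf 0xc00048000010039a) (.leaf 0))) (.node (.node (.leaf 0x30004e0000100317) (.leaf 0x50005b0000000502)) (.node (.leaf 0x700059000000043b) (.leaf 0)))) (.node (.node (.node (.leaf 0x50004b00000004cf) (.leaf 0xc0004b0000100396)) (.node (.leaf 0x40004c000000040f) (.leaf 0))) (.node (.node (.leaf 0x50005a00000002a3) (.leaf 0)) (.node (.leaf 0x600048000000057d) (.leaf 0))))) (.node (.node (.node (.node (.leaf 0xc0004200001002ac) (.leaf 0x70005a000010023d)) (.node (.leaf 0x7000560000000476) (.leaf 0))) (.node (.node (.leaf 0x60004b000010034e) (.leaf 0x60005b0000000263)) (.node (.leaf 0x80004b00000000a8) (.leaf 0)))) (.node (.node (.node (.leaf 0x40004c000000021a) (.leaf 0x40004c00000003d0)) (.node (.leaf 0x1000530000100035) (.leaf 0))) (.node (.node (.leaf 0x60005b0000000422) (.leaf 0)) (.node (.leaf 0x600047000010020a) (.leaf 0))))))))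

/-- part of a forest -/
def forest612 : Trie :=
  (.node (.node (.node (.node (.node (.node (.node (.leaf 0x48000000000c) (.leaf 0x9000590000100363)) (.node (.leaf 0x80004b000010003e) (.leaf 0))) (.node (.node (.leaf 0x20004700001001b0) (.leaf 0x9000420000100351)) (.node (.leaf 0x4000430000000018) (.leaf 0)))) (.node (.node (.node (.leaf 0x6000420000100485) (.leaf 0x8000590000100437)) (.node (.leaf 0x50005b00001003d4) (.leaf 0))) (.node (.node (.leaf 0x80005800000000d5) (.leaf 0)) (.node (.leaf 0x4000590000100137) (.leaf 0))))) (.node (.node (.node (.node (.leaf 0x2000480000000333) (.leaf 0x40004e000000034a)) (.node (.leaf 0x50004d00001001bb) (.leaf 0))) (.node (.node (.leaf 0x20004c000000027b) (.leaf 0x7000560000100284)) (.node (.leaf 0x70004b000010057b) (.leaf 0)))) (.node (.node (.node (.leaf 0x4000560000000199) (.leaf 0x500056000010035f)) (.node (.leaf 0x4000430000000450) (.leaf 0))) (.node (.node (.leaf 0x30005a00001002ae) (.leaf 0)) (.node (.leaf 0x2000590000000243) (.leaf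 0)))))) (.node (.node (.node (.node (.node (.leaf 0x20004000001001a4) (.leaf 0x500042000000008f)) (.node (.leaf 0x4000590000100287) (.leaf 0))) (.node (.node (.leaf 0x100048000010000c) (.leaf 0x70005a0000000401)) (.node (.leaf 0x70005a00001001b3) (.leaf 0)))) (.node (.node (.node (.leaf 0x80004d0000000571) (.leaf 0x60005b0000000555)) (.node (.leaf 0xb0004200000003c4) (.leaf 0))) (.node (.node (.leaf 0x50005a000010040d) (.leaf 0)) (.node (.leaf 0x900042000000008e) (.leaf 0))))) (.node (.node (.node (.node (.leaf 0x40004d00000002ad) (.leaf 0x600042000010042c)) (.node (.leaf 0x80005b000010022b) (.leaf 0))) (.node (.node (.leaf 0x60005800000001d5) (.leaf 0x7000480000000062)) (.node (.leaf 0x60004f0000100198) (.leaf 0)))) (.node (.node (.node (.leaf 0x80005b000010056b) (.leaf 0x400053000010022e)) (.node (.leaf 0x70004d0000100044) (.leaf 0))) (.node (.node (.leaf 0x70004d00000002a4) (.leaf 0)) (.node (.leaf 0x500053000000016a) (.leaf 0))))))) (.node (.node (.node (.node (.node (.node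 (.leaf 0x4f000000001c) (.leaf 0x4000420000100058)) (.node (.leaf 0xa0005b0000100325) (.leaf 0))) (.node (.node (.leaf 0x1000430000000007) (.leaf 0x80005b000000029a)) (.node (.leaf 0x30004400000003c2) (.leaf 0)))) (.node (.node (.node (.leaf 0x6000480000100529) (.leaf 0xa000420000100508)) (.node (.leaf 0x50004d00000001bb) (.leaf 0))) (.node (.node (.leaf 0x70005800000001d1) (.leaf 0)) (.node (.leaf 0x50004d000010007b) (.leaf 0))))) (.node (.node (.node (.node (.leaf 0x300047000000010c) (.leaf 0x40005b00000002f6)) (.node (.leaf 0x200042000010047f) (.leaf 0))) (.node (.node (.leaf 0x70004d00000000de) (.leaf 0x90005b0000100483)) (.node (.leaf 0x30004800001004e4) (.leaf 0)))) (.node (.node (.node (.leaf 0x70004b0000000464) (.leaf 0x4000590000000275)) (.node (.leaf 0x300053000000053f) (.leaf 0))) (.node (.node (.leaf 0x50005a0000000378) (.leaf 0)) (.node (.leaf 0x70005800000002c8) (.leaf 0)))))) (.node (.node (.node (.node (.node (.leaf 0x40004e0000000103) (.leaf 0x50004c00000003ca))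 (.node (.leaf 0x30004f00001003aa) (.leaf 0))) (.node (.node (.leaf 0x5000430000000237) (.leaf 0x50004f0000000178)) (.node (.leaf 0x60005600001004cc) (.leaf 0)))) (.node (.node (.node (.leaf 0x5a00000000bc) (.leaf 0x80004d0000100423)) (.node (.leaf 0x70005800001004c5) (.leaf 0))) (.node (.node (.leaf 0x6000460000100030) (.leaf 0)) (.node (.leaf 0x6000420000000357) (.leaf 0))))) (.node (.node (.node (.node (.leaf 0x80004200000000fc) (.leaf 0x10005800001000b7)) (.node (.leaf 0x10004f000000001c) (.leaf 0))) (.node (.node (.leaf 0x70005a00000002af) (.leaf 0x5000420000100036)) (.node (.leaf 0x60004c000010046e) (.leaf 0)))) (.node (.node (.node (.leaf 0x700042000010008c) (.leaf 0x80005b00000002b8)) (.node (.leaf 0x40004c000000013e) (.leaf 0))) (.node (.node (.leaf 0x20004b000010036d) (.leaf 0)) (.node (.leaf 0x4000580000100391) (.leaf 0))))))))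

/-- part of a forest -/
def forest62 : Trie :=
  (.node (.node (.node (.node (.node (.node (.node (.leaf 0x400000000002) (.leaf 0x50005900001004dd)) (.node (.leaf 0xb000480000100064) (.leaf 0))) (.node (.node (.leaf 0x30005a0000100549) (.leaf 0x40005b0000100167)) (.node (.leaf 0x90005b0000100559) (.leaf 0)))) (.node (.node (.node (.leaf 0x8000480000000175) (.leaf 0x100051000010002f)) (.node (.leaf 0x4000580000100288) (.leaf 0))) (.node (.node (.leaf 0x70005a00001003ce) (.leaf 0)) (.node (.leaf 0x6000580000000360) (.leaf 0))))) (.node (.node (.node (.node (.leaf 0x40004d000010005d) (.leaf 0x40005b0000100191)) (.node (.leaf 0x7000480000100267) (.leaf 0))) (.node (.node (.leaf 0x80004800000001af) (.leaf 0x50004c00000000ba)) (.node (.leaf 0x50005300000002cf) (.leaf 0)))) (.node (.node (.node (.leaf 0x10003f0000000001) (.leaf 0x60004c000000038a)) (.node (.leaf 0x50004d000000007b) (.leaf 0))) (.node (.node (.leaf 0x8000580000000387) (.leaf 0)) (.node (.leaf 0x20004400000000dd) (.leaf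 0)))))) (.node (.node (.node (.node (.node (.leaf 0x40004d000000035b) (.leaf 0x50005b00001004b7)) (.node (.leaf 0x7000590000000245) (.leaf 0))) (.node (.node (.leaf 0x7000590000100381) (.leaf 0x60005a00000003c5)) (.node (.leaf 0x200043000000011c) (.leaf 0)))) (.node (.node (.node (.leaf 0x80004200001001c4) (.leaf 0x8000590000000205)) (.node (.leaf 0x6000580000100445) (.leaf 0))) (.node (.node (.leaf 0x90004b00001004ba) (.leaf 0)) (.node (.leaf 0x5000560000100489) (.leaf 0))))) (.node (.node (.node (.node (.leaf 0x60004800000001ad) (.leaf 0x7000580000000467)) (.node (.leaf 0x50005a0000000212) (.leaf 0))) (.node (.node (.leaf 0x50004f0000100420) (.leaf 0x6000580000100360)) (.node (.leaf 0x5000580000100390) (.leaf 0)))) (.node (.node (.node (.leaf 0x6000530000100308) (.leaf 0x80005a000010042a)) (.node (.leaf 0x800042000000029b) (.leaf 0))) (.node (.node (.leaf 0x40004c0000000195) (.leaf 0)) (.node (.leaf 0x40004f000000018f) (.leaf 0))))))) (.node (.node (.node (.node (.node (.node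 (.leaf 0x4d0000000012) (.leaf 0x800042000010024b)) (.node (.leaf 0x40005a0000000102) (.leaf 0))) (.node (.node (.leaf 0x1000520000100032) (.leaf 0xa0004800001001fb)) (.node (.leaf 0x400048000010035c) (.leaf 0)))) (.node (.node (.node (.leaf 0x60004d000010024d) (.leaf 0x200058000010047c)) (.node (.leaf 0x30004500000002ce) (.leaf 0))) (.node (.node (.leaf 0x70005b0000100574) (.leaf 0)) (.node (.leaf 0xb00042000000004d) (.leaf 0))))) (.node (.node (.node (.node (.leaf 0x550000000052) (.leaf 0x40004b0000000020)) (.node (.leaf 0x30005800001004ff) (.leaf 0))) (.node (.node (.leaf 0x40005a0000100102) (.leaf 0x50004c00001002b0)) (.node (.leaf 0x4000510000100095) (.leaf 0)))) (.node (.node (.node (.leaf 0x5b00000000d2) (.leaf 0x90004d000010003f)) (.node (.leaf 0x40005a0000100473) (.leaf 0))) (.node (.node (.leaf 0x50004300000004d8) (.leaf 0)) (.node (.leaf 0x70004f00001003a8) (.leaf 0)))))) (.node (.node (.node (.node (.node (.leaf 0x520000000032) (.leaf 0x50004a00000003f1)) (.node (.leaf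 0x3000580000000492) (.leaf 0))) (.node (.node (.leaf 0x40004400001000e7) (.leaf 0x8000580000100296)) (.node (.leaf 0x70004d00001000be) (.leaf 0)))) (.node (.node (.node (.leaf 0xb0004b000000011b) (.leaf 0x8000480000000341)) (.node (.leaf 0x1000440000100008) (.leaf 0))) (.node (.node (.leaf 0x60005a00001001b4) (.leaf 0)) (.node (.leaf 0x30004a000000031d) (.leaf 0))))) (.node (.node (.node (.node (.leaf 0x60005600000002a8) (.leaf 0x10005b00000000d2)) (.node (.leaf 0x60005800001002b5) (.leaf 0))) (.node (.node (.leaf 0x6000580000000445) (.leaf 0x10005a00000000bc)) (.node (.leaf 0x80005a00000000d0) (.leaf 0)))) (.node (.node (.node (.leaf 0x10004c0000100011) (.leaf 0x50005600000001a9)) (.node (.leaf 0xa00058000000015d) (.leaf 0))) (.node (.node (.leaf 0xb00042000000049c) (.leaf 0)) (.node (.leaf 0x70004b00000004ad) (.leaf 0))))))))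

/-- part of a forest -/
def forest610 : Trie :=
  (.node (.node (.node (.node (.node (.node (.node (.leaf 0x46000000000a) (.leaf 0x10005a00001000bc)) (.node (.leaf 0x50004700000000e5) (.leaf 0))) (.node (.node (.leaf 0x100057000010006f) (.leaf 0x60005a0000000455)) (.node (.leaf 0x2000460000000125) (.leaf 0)))) (.node (.node (.node (.leaf 0xa0004800000000c8) (.leaf 0x80005a0000100474)) (.node (.leaf 0x90004d00001003ea) (.leaf 0))) (.node (.node (.leaf 0x50005b000000017d) (.leaf 0)) (.node (.leaf 0x50004c00000001e8) (.leaf 0))))) (.node (.node (.node (.node (.leaf 0x4000470000000176) (.leaf 0x600058000000040e)) (.node (.leaf 0x60005a000000045f) (.leaf 0))) (.node (.node (.leaf 0x30004a000010031d) (.leaf 0x600056000000047d)) (.node (.leaf 0x30004e0000000356) (.leaf 0)))) (.node (.node (.node (.leaf 0x1000500000000026) (.leaf 0x6000580000000269)) (.node (.leaf 0x60004c0000000367) (.leaf 0))) (.node (.node (.leaf 0x900058000010057f) (.leaf 0)) (.node (.leaf 0x40004c000010040f) (.leaf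 0)))))) (.node (.node (.node (.node (.node (.leaf 0x60004d0000100517) (.leaf 0x70005a000000054e)) (.node (.leaf 0x60004d00001004a5) (.leaf 0))) (.node (.node (.leaf 0x90004d00000003d9) (.leaf 0xa0004b000000029d)) (.node (.leaf 0x40004d00001002ad) (.leaf 0)))) (.node (.node (.node (.leaf 0x60004d00000004a5) (.leaf 0x90004800000003c1)) (.node (.leaf 0x30005900000003cc) (.leaf 0))) (.node (.node (.leaf 0x80005a00000003e8) (.leaf 0)) (.node (.leaf 0x20004f0000000435) (.leaf 0))))) (.node (.node (.node (.node (.leaf 0x50004e0000100135) (.leaf 0x8000590000100525)) (.node (.leaf 0x40005a000010033d) (.leaf 0))) (.node (.node (.leaf 0x40005300001003c9) (.leaf 0x50005b00001001d4)) (.node (.leaf 0x60005b000010053b) (.leaf 0)))) (.node (.node (.node (.leaf 0x9000590000100177) (.leaf 0x60004f000000034d)) (.node (.leaf 0x70005a00001004f6) (.leaf 0))) (.node (.node (.leaf 0x30005000001003da) (.leaf 0)) (.node (.leaf 0x80004d00000002ec) (.leaf 0))))))) (.node (.node (.node (.node (.node (.node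 (.leaf 0x4000480000000014) (.leaf 0x10005800000000b7)) (.node (.leaf 0x30004c0000100567) (.leaf 0))) (.node (.node (.leaf 0x50004d0000000022) (.leaf 0x60004800001002a6)) (.node (.leaf 0x600042000000057c) (.leaf 0)))) (.node (.node (.node (.leaf 0x70004b0000100041) (.leaf 0x300050000000010d)) (.node (.leaf 0x70005b0000000574) (.leaf 0))) (.node (.node (.leaf 0x50005300000004ec) (.leaf 0)) (.node (.leaf 0xb00048000000008a) (.leaf 0))))) (.node (.node (.node (.node (.leaf 0x30004500001003db) (.leaf 0x60004b0000100183)) (.node (.leaf 0x2000590000100243) (.leaf 0))) (.node (.node (.leaf 0x90004d0000000097) (.leaf 0x60005300000004c9)) (.node (.leaf 0x70005600001002ff) (.leaf 0)))) (.node (.node (.node (.leaf 0x40005b000010053a) (.leaf 0x40005300001002dc)) (.node (.leaf 0x4000590000000137) (.leaf 0))) (.node (.node (.leaf 0xa0004b00001002de) (.leaf 0)) (.node (.leaf 0x200050000000010b) (.leaf 0)))))) (.node (.node (.node (.node (.node (.leaf 0x400045000000005a) (.leaf 0x700048000000009c))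 (.node (.leaf 0x40005900000000e1) (.leaf 0))) (.node (.node (.leaf 0x7000420000000310) (.leaf 0x30005b00001003f7)) (.node (.leaf 0x40004f000000023c) (.leaf 0)))) (.node (.node (.node (.leaf 0x40004c000010021a) (.leaf 0x80004b00000004cd)) (.node (.leaf 0x80005a00000004ed) (.leaf 0))) (.node (.node (.leaf 0x1000420000100006) (.leaf 0)) (.node (.leaf 0xa000480000100054) (.leaf 0))))) (.node (.node (.node (.node (.leaf 0x60004b0000000261) (.leaf 0x90004200000002e2)) (.node (.leaf 0x60004d000010024c) (.leaf 0))) (.node (.node (.leaf 0x7000590000000336) (.leaf 0x700042000000007f)) (.node (.leaf 0x70005900001003a6) (.leaf 0)))) (.node (.node (.node (.leaf 0x60005b000010018a) (.leaf 0x90004b000000037d)) (.node (.leaf 0x40004f0000100115) (.leaf 0))) (.node (.node (.leaf 0x70004c000000037c) (.leaf 0)) (.node (.leaf 0x20004d000010057e) (.leaf 0))))))))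

/-- part of a forest -/
def forest66 : Trie :=
  (.node (.node (.node (.node (.node (.node (.node (.leaf 0x420000000006) (.leaf 0x50004b00000004d7)) (.node (.leaf 0x600058000010014f) (.leaf 0))) (.node (.node (.leaf 0x6000460000000030) (.leaf 0x90004200001002c0)) (.node (.leaf 0x60005a0000000421) (.leaf 0)))) (.node (.node (.node (.leaf 0x4000450000000025) (.leaf 0x70004800001002cb)) (.node (.leaf 0x5000580000000282) (.leaf 0))) (.node (.node (.leaf 0x1000550000000052) (.leaf 0)) (.node (.leaf 0x70005a00000001b7) (.leaf 0))))) (.node (.node (.node (.node (.leaf 0x60004200000000c7) (.leaf 0x700042000000008c)) (.node (.leaf 0x8000580000000151) (.leaf 0))) (.node (.node (.leaf 0xa0004800001000c8) (.leaf 0x80005a000000021f)) (.node (.leaf 0x3000580000100561) (.leaf 0)))) (.node (.node (.node (.leaf 0x5000590000100355) (.leaf 0x30005b00000003f7)) (.node (.leaf 0x2000430000000059) (.leaf 0))) (.node (.node (.leaf 0x80005900001002f9) (.leaf 0)) (.node (.leaf 0x60004c00000002e9) (.leaf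 0)))))) (.node (.node (.node (.node (.node (.leaf 0x500000000026) (.leaf 0x90005b00000001cf)) (.node (.leaf 0x50004800000000a4) (.leaf 0))) (.node (.node (.leaf 0x900059000000045e) (.leaf 0x60004f0000000291)) (.node (.leaf 0x30005600000004bd) (.leaf 0)))) (.node (.node (.node (.leaf 0xa0004800000004fd) (.leaf 0x7000420000000027)) (.node (.leaf 0x500048000000009f) (.leaf 0))) (.node (.node (.leaf 0x400050000000049a) (.leaf 0)) (.node (.leaf 0x6000590000000297) (.leaf 0))))) (.node (.node (.node (.node (.leaf 0x70004b000000028b) (.leaf 0x80005a0000000521)) (.node (.leaf 0x8000420000000556) (.leaf 0))) (.node (.node (.leaf 0xa00048000010037e) (.leaf 0xb00042000010008d)) (.node (.leaf 0x9000580000000397) (.leaf 0)))) (.node (.node (.node (.leaf 0x60004d00001002c2) (.leaf 0x4000560000100326)) (.node (.leaf 0x8000580000000290) (.leaf 0))) (.node (.node (.leaf 0x80004b000000009a) (.leaf 0)) (.node (.leaf 0x60005600000004f2) (.leaf 0))))))) (.node (.node (.node (.node (.node (.node (.leaf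 0x4000460000000077) (.leaf 0x90005a00001004d3)) (.node (.leaf 0x60005a00000002d9) (.leaf 0))) (.node (.node (.leaf 0x60004c00001003fb) (.leaf 0x70005a0000000522)) (.node (.leaf 0x30004e00001000c5) (.leaf 0)))) (.node (.node (.node (.leaf 0xa000420000000434) (.leaf 0x60004200000002f0)) (.node (.leaf 0x70005800000004c5) (.leaf 0))) (.node (.node (.leaf 0x60005a0000000538) (.leaf 0)) (.node (.leaf 0xb0004b000000043e) (.leaf 0))))) (.node (.node (.node (.node (.leaf 0x90004b00001001ae) (.leaf 0x60005a00001002d8)) (.node (.leaf 0x70005b00000004ac) (.leaf 0))) (.node (.node (.leaf 0x700056000000054a) (.leaf 0x7000420000100046)) (.node (.leaf 0x20004e0000100395) (.leaf 0)))) (.node (.node (.node (.leaf 0x50005600001000cc) (.leaf 0x900048000000009e)) (.node (.leaf 0x80005b0000000345) (.leaf 0))) (.node (.node (.leaf 0x60005b000010028c) (.leaf 0)) (.node (.leaf 0x20004200000001ba) (.leaf 0)))))) (.node (.node (.node (.node (.node (.leaf 0x400042000010015b) (.leaf 0x60005900001001c3)) (.node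 (.leaf 0x4000500000100171) (.leaf 0))) (.node (.node (.leaf 0x60004b0000100406) (.leaf 0x6000580000000155)) (.node (.leaf 0x60005900001002c9) (.leaf 0)))) (.node (.node (.node (.leaf 0x200043000010011c) (.leaf 0x9000580000000532)) (.node (.leaf 0x5000450000100068) (.leaf 0))) (.node (.node (.leaf 0x600045000010004f) (.leaf 0)) (.node (.leaf 0xb0004b000010029f) (.leaf 0))))) (.node (.node (.node (.node (.leaf 0x100047000010000b) (.leaf 0x60005600001004f7)) (.node (.leaf 0x70005900001003ef) (.leaf 0))) (.node (.node (.leaf 0x300047000010010c) (.leaf 0x90004800001002ef)) (.node (.leaf 0x70005a0000100415) (.leaf 0)))) (.node (.node (.node (.leaf 0x5000500000000050) (.leaf 0x60005a00001003c5)) (.node (.leaf 0x30005b00001002d4) (.leaf 0))) (.node (.node (.leaf 0x8000590000000334) (.leaf 0)) (.node (.leaf 0x60005b0000100484) (.leaf 0))))))))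

/-- part of a forest -/
def forest614 : Trie :=
  (.node (.node (.node (.node (.node (.node (.node (.leaf 0x4a000000000e) (.leaf 0x50005800001003dd)) (.node (.leaf 0x60004f0000000198) (.leaf 0))) (.node (.node (.leaf 0x70004b00000001b8) (.leaf 0x70005800001003f5)) (.node (.leaf 0x40004c0000000314) (.leaf 0)))) (.node (.node (.node (.leaf 0x800042000010013a) (.leaf 0x60005a0000100538)) (.node (.leaf 0x50004c00000004f4) (.leaf 0))) (.node (.node (.leaf 0x10004a000010000e) (.leaf 0)) (.node (.leaf 0x4000530000100498) (.leaf 0))))) (.node (.node (.node (.node (.leaf 0x8000420000100298) (.leaf 0x50005b00001000da)) (.node (.leaf 0x30004b00000004d5) (.leaf 0))) (.node (.node (.leaf 0x50005a00001000cb) (.leaf 0x60005a00001002d9)) (.node (.leaf 0x50004b00000001d7) (.leaf 0)))) (.node (.node (.node (.leaf 0x30005600000002f3) (.leaf 0x9000420000100045)) (.node (.leaf 0x20004500001000c0) (.leaf 0))) (.node (.node (.leaf 0x90005900000004c7) (.leaf 0)) (.node (.leaf 0x60005a000010032d) (.leaf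 0)))))) (.node (.node (.node (.node (.node (.leaf 0x30004e00000000c5) (.leaf 0x5000530000000180)) (.node (.leaf 0x30005300000000e9) (.leaf 0))) (.node (.node (.leaf 0x4000510000100104) (.leaf 0x80004b00001004b0)) (.node (.leaf 0x5000530000100453) (.leaf 0)))) (.node (.node (.node (.leaf 0x20004d00001002e3) (.leaf 0x600056000000019d)) (.node (.leaf 0x20005a0000100572) (.leaf 0))) (.node (.node (.leaf 0x80004b0000000066) (.leaf 0)) (.node (.leaf 0x600059000000053d) (.leaf 0))))) (.node (.node (.node (.node (.leaf 0x50004b00000000d1) (.leaf 0x50004c00000000d8)) (.node (.leaf 0x600058000010040e) (.leaf 0))) (.node (.node (.leaf 0x1000410000000003) (.leaf 0x50005a00001001cd)) (.node (.leaf 0x6000530000000164) (.leaf 0)))) (.node (.node (.node (.leaf 0x4000590000000287) (.leaf 0x400044000010031c)) (.node (.leaf 0x50005b0000100502) (.leaf 0))) (.node (.node (.leaf 0x7000420000100027) (.leaf 0)) (.node (.leaf 0x60005b000000056a) (.leaf 0))))))) (.node (.node (.node (.node (.node (.node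 (.leaf 0x70004b000010007a) (.leaf 0x5000590000000504)) (.node (.leaf 0x4000560000100354) (.leaf 0))) (.node (.node (.leaf 0x30004f0000000157) (.leaf 0x5000530000100480)) (.node (.leaf 0x5000450000100078) (.leaf 0)))) (.node (.node (.node (.leaf 0x800048000010013d) (.leaf 0x30004f0000000537)) (.node (.leaf 0x80004800001003ad) (.leaf 0))) (.node (.node (.leaf 0x30004600000003a0) (.leaf 0)) (.node (.leaf 0x80005b000010033f) (.leaf 0))))) (.node (.node (.node (.node (.leaf 0x4000420000000058) (.leaf 0x80005900001004f5)) (.node (.leaf 0x70004b000010045a) (.leaf 0))) (.node (.node (.leaf 0x7000560000000220) (.leaf 0x7000560000100441)) (.node (.leaf 0x8000590000000560) (.leaf 0)))) (.node (.node (.node (.leaf 0x60004d000000056f) (.leaf 0x30005300000002b9)) (.node (.leaf 0x90004b00000001ed) (.leaf 0))) (.node (.node (.leaf 0xb0004d0000100037) (.leaf 0)) (.node (.leaf 0x600053000000019a) (.leaf 0)))))) (.node (.node (.node (.node (.node (.leaf 0x70004b0000000038) (.leaf 0xa0004b0000100031))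 (.node (.leaf 0xa00059000010040c) (.leaf 0))) (.node (.node (.leaf 0x30004c000010011d) (.leaf 0xb00048000010009d)) (.node (.leaf 0x7000420000000496) (.leaf 0)))) (.node (.node (.node (.leaf 0x60004d000000029c) (.leaf 0x60004c000000043c)) (.node (.leaf 0x50004d0000000541) (.leaf 0))) (.node (.node (.leaf 0x80005b0000100192) (.leaf 0)) (.node (.leaf 0x20004b00000001a1) (.leaf 0))))) (.node (.node (.node (.node (.leaf 0x70004d00001000b0) (.leaf 0xb0004800000003ba)) (.node (.leaf 0x60005900000000fe) (.leaf 0))) (.node (.node (.leaf 0x50004f0000100178) (.leaf 0x10004d0000100012)) (.node (.leaf 0x9000480000100082) (.leaf 0)))) (.node (.node (.node (.leaf 0x50005900000001d8) (.leaf 0x50004c0000100040)) (.node (.leaf 0x30005a000000047b) (.leaf 0))) (.node (.node (.leaf 0x50004f0000000190) (.leaf 0)) (.node (.leaf 0x90005b00000000ec) (.leaf 0))))))))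

/-- part of a forest -/
def forest61 : Trie :=
  (.node (.node (.node (.node (.node (.node (.node (.leaf 0x3f0000000001) (.leaf 0x60005a00000002d8)) (.node (.leaf 0x8000580000000444) (.leaf 0))) (.node (.node (.leaf 0x1000560000000060) (.leaf 0x50005300000004da)) (.node (.leaf 0x60004d00000003e4) (.leaf 0)))) (.node (.node (.node (.leaf 0xa00042000000035d) (.leaf 0x5000530000000414)) (.node (.leaf 0x500048000000034f) (.leaf 0))) (.node (.node (.leaf 0x5000480000100187) (.leaf 0)) (.node (.leaf 0x6000590000100121) (.leaf 0))))) (.node (.node (.node (.node (.leaf 0x60004b00000002c7) (.leaf 0x60005600001004d9)) (.node (.leaf 0x80005a000000052c) (.leaf 0))) (.node (.node (.leaf 0x90004b00001001ed) (.leaf 0x40004d0000000139)) (.node (.leaf 0x7000480000100063) (.leaf 0)))) (.node (.node (.node (.leaf 0x10003e0000000000) (.leaf 0x70005800001003a5)) (.node (.leaf 0x60005a00001001dc) (.leaf 0))) (.node (.node (.leaf 0x6000420000000061) (.leaf 0)) (.node (.leaf 0x80004800000003ad) (.leaf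 0)))))) (.node (.node (.node (.node (.node (.leaf 0x80004d00000000d3) (.leaf 0x50005a000000026a)) (.node (.leaf 0xa0005b0000100426) (.leaf 0))) (.node (.node (.leaf 0x5000590000000533) (.leaf 0x70005a0000100160)) (.node (.leaf 0x10003e0000100000) (.leaf 0)))) (.node (.node (.node (.leaf 0x60004200001002f0) (.leaf 0x60004800001001ad)) (.node (.leaf 0x70004c0000000148) (.leaf 0))) (.node (.node (.leaf 0x10004b0000100010) (.leaf 0)) (.node (.leaf 0x70005a0000000196) (.leaf 0))))) (.node (.node (.node (.node (.leaf 0x5000420000100090) (.leaf 0x70005a00000003cb)) (.node (.leaf 0x50004b0000100452) (.leaf 0))) (.node (.node (.leaf 0x80005a0000100493) (.leaf 0x200058000000047c)) (.node (.leaf 0x4000580000000252) (.leaf 0)))) (.node (.node (.node (.leaf 0x300059000000025a) (.leaf 0x70005a0000000456)) (.node (.leaf 0x8000480000000365) (.leaf 0))) (.node (.node (.leaf 0x4000580000100232) (.leaf 0)) (.node (.leaf 0x80004b00001003f2) (.leaf 0))))))) (.node (.node (.node (.node (.node (.node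 (.leaf 0x4c0000000011) (.leaf 0x60004800001001ef)) (.node (.leaf 0x60005a0000100421) (.leaf 0))) (.node (.node (.leaf 0x5000460000100085) (.leaf 0x20004400001000dd)) (.node (.leaf 0x40004700001001e4) (.leaf 0)))) (.node (.node (.node (.leaf 0x80004d000000054d) (.leaf 0x50004800001000a4)) (.node (.leaf 0x50004f000000033a) (.leaf 0))) (.node (.node (.leaf 0x30005b0000000470) (.leaf 0)) (.node (.leaf 0x30005800000004ff) (.leaf 0))))) (.node (.node (.node (.node (.leaf 0x540000000051) (.leaf 0x70004d00000000aa)) (.node (.leaf 0x70004d00000000b9) (.leaf 0))) (.node (.node (.leaf 0x7000580000000433) (.leaf 0x50004800000003f3)) (.node (.leaf 0x8000420000000298) (.leaf 0)))) (.node (.node (.node (.leaf 0x40004b000010024e) (.leaf 0x3000420000000028)) (.node (.leaf 0x6000590000000402) (.leaf 0))) (.node (.node (.leaf 0x6000580000100117) (.leaf 0)) (.node (.leaf 0x7000420000000319) (.leaf 0)))))) (.node (.node (.node (.node (.node (.leaf 0x90004b000000020c) (.leaf 0x90004b0000100119)) (.node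 (.leaf 0x80004200000001ee) (.leaf 0))) (.node (.node (.leaf 0x80004d000010037f) (.leaf 0x40004c0000100314)) (.node (.leaf 0x80004b0000000130) (.leaf 0)))) (.node (.node (.node (.leaf 0x4000430000100293) (.leaf 0x70004f000000014d)) (.node (.leaf 0x50004c00000002fc) (.leaf 0))) (.node (.node (.leaf 0x90005b000010051c) (.leaf 0)) (.node (.leaf 0x2000460000100125) (.leaf 0))))) (.node (.node (.node (.node (.leaf 0x9000420000000229) (.leaf 0x9000590000100264)) (.node (.leaf 0x40005b0000100313) (.leaf 0))) (.node (.node (.leaf 0x300050000010010d) (.leaf 0x70004d00001002a4)) (.node (.leaf 0x4000560000100393) (.leaf 0)))) (.node (.node (.node (.leaf 0x80005b0000100403) (.leaf 0x5000580000000361)) (.node (.leaf 0x200059000000048d) (.leaf 0))) (.node (.node (.leaf 0x40004b0000100088) (.leaf 0)) (.node (.leaf 0x40004a00001003b2) (.leaf 0))))))))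

/-- part of a forest -/
def forest69 : Trie :=
  (.node (.node (.node (.node (.node (.node (.node (.leaf 0x450000000009) (.leaf 0x80005800001003dc)) (.node (.leaf 0x70004c00000004ab) (.leaf 0))) (.node (.node (.leaf 0x80004200000000f7) (.leaf 0x9000590000000177)) (.node (.leaf 0x50004c00000003ed) (.leaf 0)))) (.node (.node (.node (.leaf 0x90004b0000000193) (.leaf 0x4000560000000354)) (.node (.leaf 0x80004b00000003b3) (.leaf 0))) (.node (.node (.leaf 0x70005800000003f5) (.leaf 0)) (.node (.leaf 0x30004d00000003c3) (.leaf 0))))) (.node (.node (.node (.node (.leaf 0x4000460000000069) (.leaf 0x40004200000002d7)) (.node (.leaf 0x60005b000000044e) (.leaf 0))) (.node (.node (.leaf 0x80004800001004df) (.leaf 0x20005a000000040a)) (.node (.leaf 0x30004600000003b1) (.leaf 0)))) (.node (.node (.node (.leaf 0x7000420000100496) (.leaf 0x5000530000000453)) (.node (.leaf 0x50005900001004d4) (.leaf 0))) (.node (.node (.leaf 0x40005b00001002f6) (.leaf 0)) (.node (.leaf 0x300053000010053f) (.leaf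 0)))))) (.node (.node (.node (.node (.node (.leaf 0xa0004d0000100217) (.leaf 0x60004f0000100240)) (.node (.leaf 0x80004200001004a6) (.leaf 0))) (.node (.node (.leaf 0x40004b00000003e3) (.leaf 0x500048000000001a)) (.node (.leaf 0x60004200001000f9) (.leaf 0)))) (.node (.node (.node (.leaf 0x90004b0000000374) (.leaf 0x90005b00001004bb)) (.node (.leaf 0x50005a00000001cd) (.leaf 0))) (.node (.node (.leaf 0x40005600001000ce) (.leaf 0)) (.node (.leaf 0x300048000000004c) (.leaf 0))))) (.node (.node (.node (.node (.leaf 0x300046000010030a) (.leaf 0x60005800000001ff)) (.node (.leaf 0x500058000000026b) (.leaf 0))) (.node (.node (.leaf 0x4000420000100520) (.leaf 0x500053000010007d)) (.node (.leaf 0x80005900001001dd) (.leaf 0)))) (.node (.node (.node (.leaf 0x20005300000001c0) (.leaf 0x90004d00001000ac)) (.node (.leaf 0x50004c00001003ed) (.leaf 0))) (.node (.node (.leaf 0x40004f000010023c) (.leaf 0)) (.node (.leaf 0x50004c00001001e8) (.leaf 0))))))) (.node (.node (.node (.node (.node (.node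 (.leaf 0x700042000000016d) (.leaf 0x700048000000051a)) (.node (.leaf 0x60004c00000002b1) (.leaf 0))) (.node (.node (.leaf 0x80004b0000000145) (.leaf 0x900048000010041d)) (.node (.leaf 0x6000420000100061) (.leaf 0)))) (.node (.node (.node (.leaf 0x8000480000100419) (.leaf 0x800042000000033e)) (.node (.leaf 0x90004d00000002b3) (.leaf 0))) (.node (.node (.leaf 0x30005600001004bd) (.leaf 0)) (.node (.leaf 0x30004700000003b7) (.leaf 0))))) (.node (.node (.node (.node (.leaf 0x1000430000100007) (.leaf 0x70005a000000024a)) (.node (.leaf 0xa0004b00000002de) (.leaf 0))) (.node (.node (.leaf 0x40004e000000002e) (.leaf 0x80005b0000100256)) (.node (.leaf 0x6000560000000307) (.leaf 0)))) (.node (.node (.node (.leaf 0x500042000010041c) (.leaf 0x5000560000000335)) (.node (.leaf 0x50005a0000100200) (.leaf 0))) (.node (.node (.leaf 0x50005600001004e6) (.leaf 0)) (.node (.leaf 0x80004d000010015c) (.leaf 0)))))) (.node (.node (.node (.node (.node (.leaf 0x5000500000100050) (.leaf 0x70005b000000026d))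 (.node (.leaf 0x80005a0000000182) (.leaf 0))) (.node (.node (.leaf 0x30004d00000003fa) (.leaf 0x40004f000010049e)) (.node (.leaf 0x70004f0000000429) (.leaf 0)))) (.node (.node (.node (.leaf 0x60004d000000024d) (.leaf 0x50004d0000100022)) (.node (.leaf 0x20005300001001c0) (.leaf 0))) (.node (.node (.leaf 0x600059000010041e) (.leaf 0)) (.node (.leaf 0x1000410000100003) (.leaf 0))))) (.node (.node (.node (.node (.leaf 0x50005000000001a6) (.leaf 0x30005a000010047b)) (.node (.leaf 0x70004b0000000364) (.leaf 0))) (.node (.node (.leaf 0x4000580000000391) (.leaf 0x8000590000100276)) (.node (.leaf 0x40005b00001004c6) (.leaf 0)))) (.node (.node (.node (.leaf 0x500042000000041c) (.leaf 0x50005900001004eb)) (.node (.leaf 0x7000590000000248) (.leaf 0))) (.node (.node (.leaf 0x700058000010044a) (.leaf 0)) (.node (.leaf 0x50004c00001001e2) (.leaf 0))))))))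

/-- part of a forest -/
def forest65 : Trie :=
  (.node (.node (.node (.node (.node (.node (.node (.leaf 0x20003f00001000c2) (.leaf 0x50005300000002e4)) (.node (.leaf 0x70005900000002d1) (.leaf 0))) (.node (.node (.leaf 0x600045000000004f) (.leaf 0x60004f00000003bf)) (.node (.leaf 0x30005900001002f1) (.leaf 0)))) (.node (.node (.node (.leaf 0x400046000010019e) (.leaf 0x500042000000005e)) (.node (.leaf 0x60004f000000017e) (.leaf 0))) (.node (.node (.leaf 0x100046000000000a) (.leaf 0)) (.node (.leaf 0x900058000000046d) (.leaf 0))))) (.node (.node (.node (.node (.leaf 0x80004200000000c9) (.leaf 0x50005800000004a8)) (.node (.leaf 0x6000590000000121) (.leaf 0))) (.node (.node (.leaf 0x70004b0000100038) (.leaf 0x1000560000100060)) (.node (.leaf 0x70005b0000100225) (.leaf 0)))) (.node (.node (.node (.leaf 0x20004e00000003bd) (.leaf 0x60005800001002bb)) (.node (.leaf 0x60004c00000003e9) (.leaf 0))) (.node (.node (.leaf 0x90005800001004cb) (.leaf 0)) (.node (.leaf 0x50005a0000000257) (.leaf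 0)))))) (.node (.node (.node (.node (.node (.leaf 0x3000450000100188) (.leaf 0x80004200001003d1)) (.node (.leaf 0x60005b0000100555) (.leaf 0))) (.node (.node (.leaf 0x100046000010000a) (.leaf 0x700059000010043b)) (.node (.leaf 0x90005b000010050f) (.leaf 0)))) (.node (.node (.node (.leaf 0x3000550000000413) (.leaf 0x50004d00000000ad)) (.node (.leaf 0x40004e0000100103) (.leaf 0))) (.node (.node (.leaf 0x60004e00000002dd) (.leaf 0)) (.node (.leaf 0x6000580000000340) (.leaf 0))))) (.node (.node (.node (.node (.leaf 0x70004b00001002d5) (.leaf 0x3000580000000561)) (.node (.leaf 0x60004f000010055f) (.leaf 0))) (.node (.node (.leaf 0x60005b00000004af) (.leaf 0x90005a00000003cf)) (.node (.leaf 0x7000480000100411) (.leaf 0)))) (.node (.node (.node (.leaf 0x400047000010019f) (.leaf 0x50005b0000000271)) (.node (.leaf 0x60005a000010042b) (.leaf 0))) (.node (.node (.leaf 0x7000480000000098) (.leaf 0)) (.node (.leaf 0x60004b00000000e0) (.leaf 0))))))) (.node (.node (.node (.node (.node (.node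 (.leaf 0x4e0000000015) (.leaf 0x60005a000010045f)) (.node (.leaf 0x90004d0000100108) (.leaf 0))) (.node (.node (.leaf 0x30004f0000100537) (.leaf 0x500059000000022c)) (.node (.leaf 0x80004d000000024f) (.leaf 0)))) (.node (.node (.node (.leaf 0x3000510000000253) (.leaf 0x3000580000100492)) (.node (.leaf 0xa0005900000000fd) (.leaf 0))) (.node (.node (.leaf 0x30004c00000004e0) (.leaf 0)) (.node (.leaf 0x10004e0000000015) (.leaf 0))))) (.node (.node (.node (.node (.leaf 0x60004f0000000162) (.leaf 0x50005a000010026a)) (.node (.leaf 0x80004d0000100571) (.leaf 0))) (.node (.node (.leaf 0x50005800001003fc) (.leaf 0x50005b00000004b7)) (.node (.leaf 0x4000590000100275) (.leaf 0)))) (.node (.node (.node (.leaf 0x7000580000000382) (.leaf 0x20004b000000036d)) (.node (.leaf 0x60004b00001000b4) (.leaf 0))) (.node (.node (.leaf 0x50005800000002bd) (.leaf 0)) (.node (.leaf 0x60005a000000014e) (.leaf 0)))))) (.node (.node (.node (.node (.node (.leaf 0x530000000035) (.leaf 0x10004f000010001c)) (.node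 (.leaf 0x800056000000032b) (.leaf 0))) (.node (.node (.leaf 0x40004e000000034b) (.leaf 0x6000530000000501)) (.node (.leaf 0x40005600000000ce) (.leaf 0)))) (.node (.node (.node (.leaf 0xa000420000100438) (.leaf 0x900048000010043f)) (.node (.leaf 0x50005800000003fc) (.leaf 0))) (.node (.node (.leaf 0x3000500000100347) (.leaf 0)) (.node (.leaf 0x600048000010001d) (.leaf 0))))) (.node (.node (.node (.node (.leaf 0x50004d000000032a) (.leaf 0x50005b000000045c)) (.node (.leaf 0x300059000000050b) (.leaf 0))) (.node (.node (.leaf 0x700048000010033b) (.leaf 0x60004b0000000440)) (.node (.leaf 0x5000500000000047) (.leaf 0)))) (.node (.node (.node (.leaf 0x40005a00001001cc) (.leaf 0x700059000010027e)) (.node (.leaf 0x30005a00000002ae) (.leaf 0))) (.node (.node (.leaf 0xa0005900000004db) (.leaf 0)) (.node (.leaf 0x600058000010054f) (.leaf 0))))))))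

/-- part of a forest -/
def forest613 : Trie :=
  (.node (.node (.node (.node (.node (.node (.node (.leaf 0x49000000000d) (.leaf 0x40005a0000100479)) (.node (.leaf 0x90005900001004c7) (.leaf 0))) (.node (.node (.leaf 0x20005000001000ca) (.leaf 0x70005a0000000306)) (.node (.leaf 0x3000550000100413) (.leaf 0)))) (.node (.node (.node (.leaf 0xa000420000000570) (.leaf 0x10005900000000b8)) (.node (.leaf 0x6000530000100405) (.leaf 0))) (.node (.node (.leaf 0x90004b000010052e) (.leaf 0)) (.node (.leaf 0xa00059000010056d) (.leaf 0))))) (.node (.node (.node (.node (.leaf 0xa000420000000438) (.leaf 0x40004e000010034b)) (.node (.leaf 0x50004d0000000260) (.leaf 0))) (.node (.node (.leaf 0x60004f00001001fe) (.leaf 0x70004d0000000092)) (.node (.leaf 0x50004f000000010f) (.leaf 0)))) (.node (.node (.node (.leaf 0x5000530000100180) (.leaf 0x70004b0000100575)) (.node (.leaf 0x2000450000100204) (.leaf 0))) (.node (.node (.leaf 0x40005a00000001cc) (.leaf 0)) (.node (.leaf 0x60004c0000000309) (.leaf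 0)))))) (.node (.node (.node (.node (.node (.leaf 0x200041000010016e) (.leaf 0x70005b00000002db)) (.node (.leaf 0xa0005b0000100514) (.leaf 0))) (.node (.node (.leaf 0x8000420000000019) (.leaf 0x7000590000100488)) (.node (.leaf 0x50005a000000040d) (.leaf 0)))) (.node (.node (.node (.leaf 0x40004d0000100139) (.leaf 0x60004b000010001f)) (.node (.leaf 0x30004d00001003fa) (.leaf 0))) (.node (.node (.leaf 0x5000480000000187) (.leaf 0)) (.node (.leaf 0x700048000000004b) (.leaf 0))))) (.node (.node (.node (.node (.leaf 0x70004b0000000174) (.leaf 0x8000580000100462)) (.node (.leaf 0x60005b00001004af) (.leaf 0))) (.node (.node (.leaf 0x60004200000000d9) (.leaf 0x900059000000016b)) (.node (.leaf 0x10004b0000000010) (.leaf 0)))) (.node (.node (.node (.leaf 0x80005b000010042f) (.leaf 0x70005a00001003d5)) (.node (.leaf 0xa0004b00001001a2) (.leaf 0))) (.node (.node (.leaf 0x80004b00001000a8) (.leaf 0)) (.node (.leaf 0x40004c00001000ff) (.leaf 0))))))) (.node (.node (.node (.node (.node (.node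 (.leaf 0x50004800001000a0) (.leaf 0x8000480000100383)) (.node (.leaf 0x90005b00001001bd) (.leaf 0))) (.node (.node (.leaf 0x20004c000010027b) (.leaf 0x40005b000000032f)) (.node (.leaf 0x20004a0000000144) (.leaf 0)))) (.node (.node (.node (.leaf 0xa000480000000576) (.leaf 0x60005a0000000558)) (.node (.leaf 0x90004b0000100331) (.leaf 0))) (.node (.node (.leaf 0x500056000000035f) (.leaf 0)) (.node (.leaf 0x80004b0000000065) (.leaf 0))))) (.node (.node (.node (.node (.leaf 0x30004d00001003c3) (.leaf 0x70005300000001fd)) (.node (.leaf 0x70004f000000036c) (.leaf 0))) (.node (.node (.leaf 0x900058000010018c) (.leaf 0x500048000010034f)) (.node (.leaf 0x900042000010012d) (.leaf 0)))) (.node (.node (.node (.leaf 0x1000440000000008) (.leaf 0x4000590000000305)) (.node (.leaf 0x50004e0000000135) (.leaf 0))) (.node (.node (.leaf 0x7000590000000436) (.leaf 0)) (.node (.leaf 0x4000580000000465) (.leaf 0)))))) (.node (.node (.node (.node (.node (.leaf 0x7000480000000443) (.leaf 0x700048000010009c))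 (.node (.leaf 0x60005a0000000262) (.leaf 0))) (.node (.node (.leaf 0x7000480000000497) (.leaf 0x50005900000004dd)) (.node (.leaf 0x30005a0000000230) (.leaf 0)))) (.node (.node (.node (.leaf 0x500059000010038c) (.leaf 0x2000560000000101)) (.node (.leaf 0x4000580000000346) (.leaf 0))) (.node (.node (.leaf 0x80005b00000002eb) (.leaf 0)) (.node (.leaf 0x10004e0000100015) (.leaf 0))))) (.node (.node (.node (.node (.leaf 0x40005300001004de) (.leaf 0x50005600001001a9)) (.node (.leaf 0x400047000000005c) (.leaf 0))) (.node (.node (.leaf 0x40005b00000004c6) (.leaf 0x5000480000100073)) (.node (.leaf 0x80004b000000003e) (.leaf 0)))) (.node (.node (.node (.leaf 0x9000590000000163) (.leaf 0x900048000010005f)) (.node (.leaf 0x8000580000100388) (.leaf 0))) (.node (.node (.leaf 0x60005300001004f0) (.leaf 0)) (.node (.leaf 0x80005a000000032c) (.leaf 0))))))))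

/-- part of a forest -/
def forest63 : Trie :=
  (.node (.node (.node (.node (.node (.node (.node (.leaf 0x410000000003) (.leaf 0x70005b00001003ee)) (.node (.leaf 0x70005a000000048e) (.leaf 0))) (.node (.node (.leaf 0x30004e0000000317) (.leaf 0x50004700000003b0)) (.node (.leaf 0x5000580000000568) (.leaf 0)))) (.node (.node (.node (.leaf 0x6000480000000173) (.leaf 0x80005b00000003d3)) (.node (.leaf 0xa000590000100509) (.leaf 0))) (.node (.node (.leaf 0x50004b00000001f1) (.leaf 0)) (.node (.leaf 0x70004800000004a1) (.leaf 0))))) (.node (.node (.node (.node (.leaf 0x40004d0000000389) (.leaf 0x6000480000000181)) (.node (.leaf 0x10005900001000b8) (.leaf 0))) (.node (.node (.leaf 0x400055000010030d) (.leaf 0x8000590000100460)) (.node (.leaf 0x60005000000000f6) (.leaf 0)))) (.node (.node (.node (.leaf 0x500047000010004a) (.leaf 0x600053000010042e)) (.node (.leaf 0x40004b0000000013) (.leaf 0))) (.node (.node (.leaf 0x500059000000023a) (.leaf 0)) (.node (.leaf 0x20004d000000057e) (.leaf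 0)))))) (.node (.node (.node (.node (.node (.leaf 0x50004e000000044c) (.leaf 0x70004d000000002a)) (.node (.leaf 0x7000580000000469) (.leaf 0))) (.node (.node (.leaf 0x70005900000001d0) (.leaf 0x7000480000100083)) (.node (.leaf 0x60004d000000044b) (.leaf 0)))) (.node (.node (.node (.leaf 0x80004200000004a6) (.leaf 0x70005a000010050a)) (.node (.leaf 0x40005a000000033d) (.leaf 0))) (.node (.node (.leaf 0xa0004d000010028a) (.leaf 0)) (.node (.leaf 0x90005b00000000f1) (.leaf 0))))) (.node (.node (.node (.node (.leaf 0x600048000000055d) (.leaf 0x60005b000000041f)) (.node (.leaf 0x50005b0000100379) (.leaf 0))) (.node (.node (.leaf 0x8000590000000276) (.leaf 0x4000580000000495)) (.node (.leaf 0x800059000000036f) (.leaf 0)))) (.node (.node (.node (.leaf 0x90004b00001001e6) (.leaf 0x800059000010037a)) (.node (.leaf 0x10004d0000000012) (.leaf 0))) (.node (.node (.leaf 0x40005300000003c9) (.leaf 0)) (.node (.leaf 0x30004b00001001fc) (.leaf 0))))))) (.node (.node (.node (.node (.node (.node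 (.leaf 0x30004b00001003be) (.leaf 0x2000550000000186)) (.node (.leaf 0x60005900000001d3) (.leaf 0))) (.node (.node (.leaf 0x60005600000001d9) (.leaf 0x900059000000046a)) (.node (.leaf 0x30005b00001004e7) (.leaf 0)))) (.node (.node (.node (.leaf 0x60004d00001004b9) (.leaf 0x70005a00000003ce)) (.node (.leaf 0x3000430000100322) (.leaf 0))) (.node (.node (.leaf 0x80004b000010034c) (.leaf 0)) (.node (.leaf 0x3000560000100224) (.leaf 0))))) (.node (.node (.node (.node (.leaf 0x5000450000100086) (.leaf 0x4000530000000153)) (.node (.leaf 0x200051000000041b) (.leaf 0))) (.node (.node (.leaf 0x30005300001000e9) (.leaf 0x70004d0000100301)) (.node (.leaf 0x1000550000100052) (.leaf 0)))) (.node (.node (.node (.leaf 0x70004d000010030f) (.leaf 0x80005a0000000376)) (.node (.leaf 0x6000530000000481) (.leaf 0))) (.node (.node (.leaf 0x5000590000100504) (.leaf 0)) (.node (.leaf 0x70005b00001002e0) (.leaf 0)))))) (.node (.node (.node (.node (.node (.leaf 0x4000450000000017) (.leaf 0x6000580000000117))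 (.node (.leaf 0x9000580000100409) (.leaf 0))) (.node (.node (.leaf 0xa0004d000010012a) (.leaf 0x40005900001000e1)) (.node (.leaf 0x100048000000000c) (.leaf 0)))) (.node (.node (.node (.leaf 0x40004a000010014a) (.leaf 0x40005500001000a5)) (.node (.leaf 0x80004d00001004e8) (.leaf 0))) (.node (.node (.leaf 0x60005a00000004c0) (.leaf 0)) (.node (.leaf 0x70004b00001003e5) (.leaf 0))))) (.node (.node (.node (.node (.leaf 0x40004800001000f8) (.leaf 0x30005a0000100230)) (.node (.leaf 0x40005a0000000473) (.leaf 0))) (.node (.node (.leaf 0x50004800001003f3) (.leaf 0x90005b0000000559)) (.node (.leaf 0x3000430000000322) (.leaf 0)))) (.node (.node (.node (.leaf 0x70004f0000000505) (.leaf 0x7000580000100536)) (.node (.leaf 0x2000560000100101) (.leaf 0))) (.node (.node (.leaf 0x70005b000000036a) (.leaf 0)) (.node (.leaf 0x4000480000000318) (.leaf 0))))))))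

/-- part of a forest -/
def forest611 : Trie :=
  (.node (.node (.node (.node (.node (.node (.node (.leaf 0x47000000000b) (.leaf 0x50004c000010030e)) (.node (.leaf 0x90004800001002e1) (.leaf 0))) (.node (.node (.leaf 0x1000500000100026) (.leaf 0x200059000010048d)) (.node (.leaf 0x80005b0000000403) (.leaf 0)))) (.node (.node (.node (.leaf 0x8000480000100341) (.leaf 0x90004d00000002bf)) (.node (.leaf 0x60004b00000000e4) (.leaf 0))) (.node (.node (.leaf 0x20004d00000002e3) (.leaf 0)) (.node (.leaf 0x50004f00000001e9) (.leaf 0))))) (.node (.node (.node (.node (.leaf 0x6000480000100281) (.leaf 0x50004d0000100260)) (.node (.leaf 0x70004200001001c1) (.leaf 0))) (.node (.node (.leaf 0x1000540000100051) (.leaf 0x70004d0000000044)) (.node (.leaf 0x30004e0000100356) (.leaf 0)))) (.node (.node (.node (.leaf 0x40005a00001002fe) (.leaf 0x8000580000000358)) (.node (.leaf 0x6000480000000226) (.leaf 0))) (.node (.node (.leaf 0x40004e000010034a) (.leaf 0)) (.node (.leaf 0x60005a000000056e) (.leaf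 0)))))) (.node (.node (.node (.node (.node (.leaf 0x40004d00001002df) (.leaf 0x50005a0000000152)) (.node (.leaf 0x70005b0000100463) (.leaf 0))) (.node (.node (.leaf 0x60005800001001ff) (.leaf 0x7000480000000267)) (.node (.leaf 0x70005600000003d7) (.leaf 0)))) (.node (.node (.node (.leaf 0x80004d000000054b) (.leaf 0x60004c00001003f9)) (.node (.leaf 0x300053000000051f) (.leaf 0))) (.node (.node (.leaf 0x80005900000004f5) (.leaf 0)) (.node (.leaf 0x60005b000000028c) (.leaf 0))))) (.node (.node (.node (.node (.leaf 0x60004d00001002be) (.leaf 0x60005b000010056a)) (.node (.leaf 0x4000580000000288) (.leaf 0))) (.node (.node (.leaf 0x8000590000000417) (.leaf 0x70005b000000028f)) (.node (.leaf 0x80005800001001f9) (.leaf 0)))) (.node (.node (.node (.leaf 0x40005b0000000313) (.leaf 0x4000590000100305)) (.node (.leaf 0x70005b0000100468) (.leaf 0))) (.node (.node (.leaf 0xb000480000000512) (.leaf 0)) (.node (.leaf 0x40004200001004d1) (.leaf 0))))))) (.node (.node (.node (.node (.node (.node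 (.leaf 0x90004b00000001c7) (.leaf 0x100051000000002f)) (.node (.leaf 0x60004f000000055f) (.leaf 0))) (.node (.node (.leaf 0xa0004b0000100431) (.leaf 0xa0004b000000018d)) (.node (.leaf 0xa0004d00001004e9) (.leaf 0)))) (.node (.node (.node (.leaf 0x50004b0000000452) (.leaf 0xa0004b0000000056)) (.node (.leaf 0x7000420000000329) (.leaf 0))) (.node (.node (.leaf 0x700058000010012b) (.leaf 0)) (.node (.leaf 0x80004b000000012f) (.leaf 0))))) (.node (.node (.node (.node (.leaf 0x300046000000030a) (.leaf 0x70004d0000000093)) (.node (.leaf 0x200051000010041b) (.leaf 0))) (.node (.node (.leaf 0x300042000010025c) (.leaf 0x70004200000001c1)) (.node (.leaf 0x30004d000010018b) (.leaf 0)))) (.node (.node (.node (.leaf 0x8000480000000250) (.leaf 0x9000590000100543)) (.node (.leaf 0x60005b000000023b) (.leaf 0))) (.node (.node (.leaf 0x50004300000002cc) (.leaf 0)) (.node (.leaf 0x20004500000000c0) (.leaf 0)))))) (.node (.node (.node (.node (.node (.leaf 0x4000460000100349) (.leaf 0x6000590000000118))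 (.node (.leaf 0x50005b00000001c9) (.leaf 0))) (.node (.node (.leaf 0x5000470000000311) (.leaf 0x50005b000000051d)) (.node (.leaf 0x6000480000000491) (.leaf 0)))) (.node (.node (.node (.leaf 0x60004f000000020f) (.leaf 0x80005b0000100158)) (.node (.leaf 0x500058000000039f) (.leaf 0))) (.node (.node (.leaf 0x40004d000000005d) (.leaf 0)) (.node (.leaf 0x70004b000000057b) (.leaf 0))))) (.node (.node (.node (.node (.leaf 0x40004d000010035b) (.leaf 0x20005a0000000572)) (.node (.leaf 0x10004c0000000011) (.leaf 0))) (.node (.node (.leaf 0x70004d00000000e6) (.leaf 0x60004b000000001f)) (.node (.leaf 0x70004f000010036c) (.leaf 0)))) (.node (.node (.node (.leaf 0x70004f000000021b) (.leaf 0x50004400000004ee)) (.node (.leaf 0x80005a000010017c) (.leaf 0))) (.node (.node (.leaf 0x90004800001000db) (.leaf 0)) (.node (.leaf 0x50004c00000002b4) (.leaf 0))))))))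

/-- part of a forest -/
def forest67 : Trie :=
  (.node (.node (.node (.node (.node (.node (.node (.leaf 0x430000000007) (.leaf 0x80004d0000100332)) (.node (.leaf 0x70005900001001b9) (.leaf 0))) (.node (.node (.leaf 0xa0004d0000100034) (.leaf 0x70004f0000100285)) (.node (.leaf 0x50005600000004e6) (.leaf 0)))) (.node (.node (.node (.leaf 0x4000430000000197) (.leaf 0x600053000000032e)) (.node (.leaf 0x300059000010025a) (.leaf 0))) (.node (.node (.leaf 0x4000480000100014) (.leaf 0)) (.node (.leaf 0x7000580000100272) (.leaf 0))))) (.node (.node (.node (.node (.leaf 0x4000500000000548) (.leaf 0x80004d00000001ec)) (.node (.leaf 0x40005300000004de) (.leaf 0))) (.node (.node (.leaf 0x90005a00001002ba) (.leaf 0x40005a0000000479)) (.node (.leaf 0x200050000010010b) (.leaf 0)))) (.node (.node (.node (.leaf 0x5000420000100449) (.leaf 0x800059000010017a)) (.node (.leaf 0x50004b00001000d1) (.leaf 0))) (.node (.node (.leaf 0x80004b00001000dc) (.leaf 0)) (.node (.leaf 0x8000480000100242) (.leaf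 0)))))) (.node (.node (.node (.node (.node (.leaf 0x6000420000100227) (.leaf 0x70005b00001000fa)) (.node (.leaf 0x50004200000003eb) (.leaf 0))) (.node (.node (.leaf 0x80005a00000002ea) (.leaf 0x50005a0000100257)) (.node (.leaf 0x2000550000100186) (.leaf 0)))) (.node (.node (.node (.leaf 0x60004200001001f0) (.leaf 0x800058000010019c)) (.node (.leaf 0x9000580000100457) (.leaf 0))) (.node (.node (.leaf 0x50004e000000003c) (.leaf 0)) (.node (.leaf 0x2000470000000076) (.leaf 0))))) (.node (.node (.node (.node (.leaf 0x60004300001001d2) (.leaf 0x60005800000002bb)) (.node (.leaf 0x600048000000001d) (.leaf 0))) (.node (.node (.leaf 0x30005b0000100470) (.leaf 0x20004c00001000f2)) (.node (.leaf 0x50004c000000030e) (.leaf 0)))) (.node (.node (.node (.leaf 0x30004400001003c2) (.leaf 0x20005b0000100478)) (.node (.leaf 0x30005800000000d7) (.leaf 0))) (.node (.node (.leaf 0x900048000010023f) (.leaf 0)) (.node (.leaf 0x80005a0000100304) (.leaf 0))))))) (.node (.node (.node (.node (.node (.node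 (.leaf 0x3000450000000188) (.leaf 0x70005900000001b9)) (.node (.leaf 0x90004d0000000324) (.leaf 0))) (.node (.node (.leaf 0x5000580000100361) (.leaf 0x50004d0000100043)) (.node (.leaf 0x20004e00001003bd) (.leaf 0)))) (.node (.node (.node (.leaf 0x80004d0000100251) (.leaf 0x6000480000000281)) (.node (.leaf 0x5000590000100533) (.leaf 0))) (.node (.node (.leaf 0x30004300001000b6) (.leaf 0)) (.node (.leaf 0x80005800001004c1) (.leaf 0))))) (.node (.node (.node (.node (.leaf 0xc00048000010047e) (.leaf 0x800058000000050e)) (.node (.leaf 0x40005a00001002f5) (.leaf 0))) (.node (.node (.leaf 0x20004f000010027c) (.leaf 0x90004d0000000255)) (.node (.leaf 0x5000420000000094) (.leaf 0)))) (.node (.node (.node (.leaf 0x200058000000041a) (.leaf 0x40004b0000000088)) (.node (.leaf 0x3000420000100028) (.leaf 0))) (.node (.node (.leaf 0x40004b0000100020) (.leaf 0)) (.node (.leaf 0x6000560000100307) (.leaf 0)))))) (.node (.node (.node (.node (.node (.leaf 0xa0004d00000004e9) (.leaf 0x70005900001002d1))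 (.node (.leaf 0x4000430000100450) (.leaf 0))) (.node (.node (.leaf 0x300059000010050b) (.leaf 0x20004f000000027c)) (.node (.leaf 0x9000580000000201) (.leaf 0)))) (.node (.node (.node (.leaf 0x5800000000b7) (.leaf 0x40005b000010032f)) (.node (.leaf 0x70004f000000020e) (.leaf 0))) (.node (.node (.leaf 0x60005a000010056e) (.leaf 0)) (.node (.leaf 0x20004700000001b0) (.leaf 0))))) (.node (.node (.node (.node (.leaf 0x30004600001003af) (.leaf 0x80004b000010009a)) (.node (.leaf 0x80005b0000000427) (.leaf 0))) (.node (.node (.leaf 0x8000590000100417) (.leaf 0x90005800000002fd)) (.node (.leaf 0x50004f00001003e2) (.leaf 0)))) (.node (.node (.node (.leaf 0x7000420000100329) (.leaf 0x50005600000002e8)) (.node (.leaf 0x70004f00001000bb) (.leaf 0))) (.node (.node (.leaf 0x90005b000010030b) (.leaf 0)) (.node (.leaf 0x20005b0000100472) (.leaf 0))))))))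

/-- part of a forest -/
def forest615 : Trie :=
  (.node (.node (.node (.node (.node (.node (.node (.leaf 0x400046000000005b) (.leaf 0x30004c0000000567)) (.node (.leaf 0x50004f0000100539) (.leaf 0))) (.node (.node (.leaf 0x40004f000010011e) (.leaf 0x80005b0000000120)) (.node (.leaf 0x60004d000010056f) (.leaf 0)))) (.node (.node (.node (.leaf 0x40004200001002d7) (.leaf 0x70005600000003e6)) (.node (.leaf 0x60005b0000000484) (.leaf 0))) (.node (.node (.leaf 0x30004f0000100157) (.leaf 0)) (.node (.leaf 0x70005a0000100211) (.leaf 0))))) (.node (.node (.node (.node (.leaf 0x500045000010003a) (.leaf 0x40005300000002ab)) (.node (.leaf 0x70004d0000100092) (.leaf 0))) (.node (.node (.leaf 0x5000580000000168) (.leaf 0x5000580000000179)) (.node (.leaf 0x40004800001003a9) (.leaf 0)))) (.node (.node (.node (.leaf 0x6000590000100402) (.leaf 0x40004b0000100013)) (.node (.leaf 0x4000530000000498) (.leaf 0))) (.node (.node (.leaf 0x80005b0000100439) (.leaf 0)) (.node (.leaf 0x80005a0000100516)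 (.leaf 0)))))) (.node (.node (.node (.node (.node (.leaf 0x51000000002f) (.leaf 0x70005b00001001f4)) (.node (.leaf 0x8000420000000524) (.leaf 0))) (.node (.node (.leaf 0x70004b0000000575) (.leaf 0x70004f000010014d)) (.node (.leaf 0x30005b00000004e7) (.leaf 0)))) (.node (.node (.node (.leaf 0xa0004200001004ce) (.leaf 0x50005b0000000442)) (.node (.leaf 0x60005a000000042b) (.leaf 0))) (.node (.node (.leaf 0x70004800001004a1) (.leaf 0)) (.node (.leaf 0x2000460000000185) (.leaf 0))))) (.node (.node (.node (.node (.leaf 0x57000000006f) (.leaf 0x30004d00000000ae)) (.node (.leaf 0x70005300000004c3) (.leaf 0))) (.node (.node (.leaf 0x5000430000100087) (.leaf 0x50004d0000000042)) (.node (.leaf 0x70005900001003ae) (.leaf 0)))) (.node (.node (.node (.leaf 0x7000560000100113) (.leaf 0x60004d0000000517)) (.node (.leaf 0x8000480000000523) (.leaf 0))) (.node (.node (.leaf 0x5000480000000312) (.leaf 0)) (.node (.leaf 0x6000590000000270) (.leaf 0))))))) (.node (.node (.node (.node (.node (.node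 (.leaf 0x50004b0000100129) (.leaf 0x50005b0000100442)) (.node (.leaf 0x70005a00001002c1) (.leaf 0))) (.node (.node (.leaf 0x50004c00001000d8) (.leaf 0x20005300000002f4)) (.node (.leaf 0x500046000010003b) (.leaf 0)))) (.node (.node (.node (.leaf 0x4000480000100318) (.leaf 0x20004a0000100144)) (.node (.leaf 0xa0004b00000003f8) (.leaf 0))) (.node (.node (.leaf 0x30004700001003b7) (.leaf 0)) (.node (.leaf 0x40005800001002e7) (.leaf 0))))) (.node (.node (.node (.node (.leaf 0x800048000000043d) (.leaf 0x50005a00000000cb)) (.node (.leaf 0x4000500000000138) (.leaf 0))) (.node (.node (.leaf 0x70004d00001000e6) (.leaf 0x50004f000010033a)) (.node (.leaf 0x4000560000000393) (.leaf 0)))) (.node (.node (.node (.leaf 0x800042000010029b) (.leaf 0x70004800000003b5)) (.node (.leaf 0x30004d000000018b) (.leaf 0))) (.node (.node (.leaf 0x900042000010022f) (.leaf 0)) (.node (.leaf 0x9000590000100369) (.leaf 0)))))) (.node (.node (.node (.node (.node (.leaf 0x80004d000000015f) (.leaf 0x800048000000003d))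 (.node (.leaf 0x800048000010043a) (.leaf 0))) (.node (.node (.leaf 0x50005a00000002d2) (.leaf 0x20005300001002f4)) (.node (.leaf 0x70005b00001003ab) (.leaf 0)))) (.node (.node (.node (.leaf 0x400050000010049a) (.leaf 0x9000590000100163)) (.node (.leaf 0x80004d0000100451) (.leaf 0))) (.node (.node (.leaf 0x90005b00000001be) (.leaf 0)) (.node (.leaf 0x50004f000010010f) (.leaf 0))))) (.node (.node (.node (.node (.leaf 0x60004200000000f9) (.leaf 0x1000420000000006)) (.node (.leaf 0x6000530000000342) (.leaf 0))) (.node (.node (.leaf 0x50005b00000001d4) (.leaf 0x80005800000004c1)) (.node (.leaf 0x70004d0000100323) (.leaf 0)))) (.node (.node (.node (.leaf 0x30004c000000014c) (.leaf 0x200058000010041a)) (.node (.leaf 0x6000560000100530) (.leaf 0))) (.node (.node (.leaf 0x50005800000001e1) (.leaf 0)) (.node (.leaf 0x70004c00000002c5) (.leaf 0))))))))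

/-- a forest -/
def forest6 : Trie :=
  (.node (.node (.node (.node forest60 forest68) (.node forest64 forest612)) (.node (.node forest62 forest610) (.node forest66 forest614))) (.node (.node (.node forest61 forest69) (.node forest65 forest613)) (.node (.node forest63 forest611) (.node forest67 forest615))))

/-- part of a tree -/
def node7L0tree0 : Trie :=
  (.node (.node (.node (.node (.node (.node (.node (.leaf 0x0) (.leaf 0x100072)) (.node (.leaf 0x30) (.leaf 0))) (.node (.node (.leaf 0x100015) (.leaf 0)) (.node (.leaf 0x10004f) (.leaf 0)))) (.node (.node (.node (.leaf 0x100009) (.leaf 0x100084)) (.node (.leaf 0x10003e) (.leaf 0))) (.node (.node (.leaf 0x100023) (.leaf 0)) (.node (.leaf 0x100061) (.leaf 0))))) (.node (.node (.node (.node (.leaf 0x100004) (.leaf 0x10007b)) (.node (.leaf 0x100036) (.leaf 0))) (.node (.node (.leaf 0x10001c) (.leaf 0)) (.node (.leaf 0x100057) (.leaf 0)))) (.node (.node (.node (.leaf 0x10000f) (.leaf 0x10008f)) (.node (.leaf 0x100044) (.leaf 0)))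 (.node (.node (.leaf 0x100029) (.leaf 0)) (.node (.leaf 0x100069) (.leaf 0)))))) (.node (.node (.node (.node (.node (.leaf 0x100002) (.leaf 0x100076)) (.node (.leaf 0x100034) (.leaf 0))) (.node (.node (.leaf 0x100018) (.leaf 0)) (.node (.leaf 0x100053) (.leaf 0)))) (.node (.node (.node (.leaf 0xc) (.leaf 0x10008a)) (.node (.leaf 0x41) (.leaf 0))) (.node (.node (.leaf 0x100025) (.leaf 0)) (.node (.leaf 0x100065) (.leaf 0))))) (.node (.node (.node (.node (.leaf 0x100007) (.leaf 0x10007f)) (.node (.leaf 0x3a) (.leaf 0))) (.node (.node (.leaf 0x10001e) (.leaf 0)) (.node (.leaf 0x10005d) (.leaf 0)))) (.node (.node (.node (.leaf 0x100012) (.leaf 0x100097)) (.node (.leaf 0x10004a) (.leaf 0))) (.node (.node (.leaf 0x10002c) (.leaf 0)) (.node (.leaf 0x10006e) (.leaf 0))))))) (.node (.node (.node (.node (.node (.node (.leaf 0x1) (.leaf 0x100074)) (.node (.leaf 0x100031) (.leaf 0))) (.node (.node (.leaf 0x17) (.leaf 0)) (.node (.leaf 0x100050) (.leaf 0)))) (.node (.node (.node (.leaf 0xb)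 (.leaf 0x100086)) (.node (.leaf 0x10003f) (.leaf 0))) (.node (.node (.leaf 0x100024) (.leaf 0)) (.node (.leaf 0x100063) (.leaf 0))))) (.node (.node (.node (.node (.leaf 0x6) (.leaf 0x10007d)) (.node (.leaf 0x100038) (.leaf 0))) (.node (.node (.leaf 0x10001d) (.leaf 0)) (.node (.leaf 0x10005a) (.leaf 0)))) (.node (.node (.node (.leaf 0x11) (.leaf 0x100092)) (.node (.leaf 0x100048) (.leaf 0))) (.node (.node (.leaf 0x10002a) (.leaf 0)) (.node (.leaf 0x10006c) (.leaf 0)))))) (.node (.node (.node (.node (.node (.leaf 0x100003) (.leaf 0x100078)) (.node (.leaf 0x100035) (.leaf 0))) (.node (.node (.leaf 0x10001a) (.leaf 0)) (.node (.leaf 0x100055) (.leaf 0)))) (.node (.node (.node (.leaf 0x10000d) (.leaf 0x10008c)) (.node (.leaf 0x100043) (.leaf 0))) (.node (.node (.leaf 0x100027) (.leaf 0)) (.node (.leaf 0x100067) (.leaf 0))))) (.node (.node (.node (.node (.leaf 0x100008) (.leaf 0x100082)) (.node (.leaf 0x10003b) (.leaf 0))) (.node (.node (.leaf 0x100020) (.leaf 0)) (.node (.leaf 0x10005f)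 (.leaf 0)))) (.node (.node (.node (.leaf 0x100014) (.leaf 0x10009a)) (.node (.leaf 0x10004c) (.leaf 0))) (.node (.node (.leaf 0x10002e) (.leaf 0)) (.node (.leaf 0x100070) (.leaf 0))))))))

/-- part of a tree -/
def node7L0tree1 : Trie :=
  (.node (.node (.node (.node (.node (.node (.node (.leaf 0x100000) (.leaf 0x100073)) (.node (.leaf 0x100030) (.leaf 0))) (.node (.node (.leaf 0x100016) (.leaf 0)) (.node (.leaf 0x50) (.leaf 0)))) (.node (.node (.node (.leaf 0x10000a) (.leaf 0x100085)) (.node (.leaf 0x3f) (.leaf 0))) (.node (.node (.leaf 0x24) (.leaf 0)) (.node (.leaf 0x100062) (.leaf 0))))) (.node (.node (.node (.node (.leaf 0x100005) (.leaf 0x10007c)) (.node (.leaf 0x100037) (.leaf 0))) (.node (.node (.leaf 0x1d) (.leaf 0)) (.node (.leaf 0x100058) (.leaf 0)))) (.node (.node (.node (.leaf 0x100010) (.leaf 0x100090)) (.node (.leaf 0x100045) (.leaf 0))) (.node (.node (.leaf 0x2a) (.leaf 0)) (.node (.leaf 0x10006a) (.leaf 0)))))) (.node (.node (.node (.node (.node (.leaf 0x3) (.leaf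 0x100077)) (.node (.leaf 0x35) (.leaf 0))) (.node (.node (.leaf 0x100019) (.leaf 0)) (.node (.leaf 0x100054) (.leaf 0)))) (.node (.node (.node (.leaf 0x10000c) (.leaf 0x10008b)) (.node (.leaf 0x100041) (.leaf 0))) (.node (.node (.leaf 0x100026) (.leaf 0)) (.node (.leaf 0x100066) (.leaf 0))))) (.node (.node (.node (.node (.leaf 0x8) (.leaf 0x100080)) (.node (.leaf 0x10003a) (.leaf 0))) (.node (.node (.leaf 0x10001f) (.leaf 0)) (.node (.leaf 0x10005e) (.leaf 0)))) (.node (.node (.node (.leaf 0x100013) (.leaf 0x100099)) (.node (.leaf 0x10004b) (.leaf 0))) (.node (.node (.leaf 0x2e) (.leaf 0)) (.node (.leaf 0x10006f) (.leaf 0))))))) (.node (.node (.node (.node (.node (.node (.leaf 0x100001) (.leaf 0x100075)) (.node (.leaf 0x100032) (.leaf 0))) (.node (.node (.leaf 0x100017) (.leaf 0)) (.node (.leaf 0x100052) (.leaf 0)))) (.node (.node (.node (.leaf 0x10000b) (.leaf 0x100087)) (.node (.leaf 0x100040) (.leaf 0))) (.node (.node (.leaf 0x25) (.leaf 0)) (.node (.leaf 0x100064) (.leaf 0)))))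 (.node (.node (.node (.node (.leaf 0x100006) (.leaf 0x10007e)) (.node (.leaf 0x100039) (.leaf 0))) (.node (.node (.leaf 0x1e) (.leaf 0)) (.node (.leaf 0x10005c) (.leaf 0)))) (.node (.node (.node (.leaf 0x100011) (.leaf 0x100094)) (.node (.leaf 0x100049) (.leaf 0))) (.node (.node (.leaf 0x10002b) (.leaf 0)) (.node (.leaf 0x10006d) (.leaf 0)))))) (.node (.node (.node (.node (.node (.leaf 0x4) (.leaf 0x100079)) (.node (.leaf 0x36) (.leaf 0))) (.node (.node (.leaf 0x10001b) (.leaf 0)) (.node (.leaf 0x100056) (.leaf 0)))) (.node (.node (.node (.leaf 0x10000e) (.leaf 0x10008d)) (.node (.leaf 0x44) (.leaf 0))) (.node (.node (.leaf 0x100028) (.leaf 0)) (.node (.leaf 0x100068) (.leaf 0))))) (.node (.node (.node (.node (.leaf 0x9) (.leaf 0x100083)) (.node (.leaf 0x10003c) (.leaf 0))) (.node (.node (.leaf 0x100021) (.leaf 0)) (.node (.leaf 0x100060) (.leaf 0)))) (.node (.node (.node (.leaf 0x15) (.leaf 0x10009c)) (.node (.leaf 0x10004d) (.leaf 0))) (.node (.node (.leaf 0x10002f) (.leaf 0))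 (.node (.leaf 0x100071) (.leaf 0))))))))

/-- a tree -/
def node7L0tree : Trie :=
  (.node node7L0tree0 node7L0tree1)

/-- part of transversal words -/
def node7L0word0 : Trie :=
  (.node (.node (.node (.node (.node (.node (.node (.leaf 0x0) (.leaf 0xad36ac85b2eb664)) (.node (.leaf 0x1a6d496269d6ebae9) (.leaf 0))) (.node (.node (.leaf 0x9a8ac2d975d659) (.leaf 0)) (.node (.leaf 0x495aacb6642cc) (.leaf 0)))) (.node (.node (.node (.leaf 0x1355b55b4dd2eb6cc) (.leaf 0x4adaacc32ca64)) (.node (.leaf 0x115764325961864) (.leaf 0))) (.node (.node (.leaf 0x1a89b4daada90bae9) (.leaf 0)) (.node (.leaf 0x4da69ba9badd85b) (.leaf 0))))) (.node (.node (.node (.node (.leaf 0xab75a6acb226cb325) (.leaf 0xd596585d65b659)) (.node (.leaf 0x15a6d4a642dbae9) (.leaf 0))) (.node (.node (.leaf 0x162b14a64325859) (.leaf 0)) (.node (.leaf 0x14b2c90b2eb65b) (.leaf 0)))) (.node (.node (.node (.leaf 0x2b2cb226a592cb0b) (.leaf 0x1a6a4b2c2dd7596cc)) (.node (.leaf 0xd34eb4d992c865) (.leaf 0))) (.node (.node (.leaf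 0x13b256ab66430b659) (.leaf 0)) (.node (.leaf 0x4565914a642dbb25) (.leaf 0)))))) (.node (.node (.node (.node (.node (.leaf 0x244dd69a6a592c329) (.leaf 0x2289a75d964adb2dd)) (.node (.leaf 0x596495b4ec861) (.leaf 0))) (.node (.node (.leaf 0xeb69a8a530b6ec) (.leaf 0)) (.node (.leaf 0x149645258a194b65b) (.leaf 0)))) (.node (.node (.node (.leaf 0x4d355bae96eba5b) (.leaf 0x56d376590b32194b)) (.node (.leaf 0x149648ab6a16596cc) (.leaf 0))) (.node (.node (.leaf 0x69a69b2cc32995d) (.leaf 0)) (.node (.leaf 0x44d3ada6a1864adb) (.leaf 0))))) (.node (.node (.node (.node (.leaf 0x226a4b14b2a6eb65d) (.leaf 0x289aad4b2530b764)) (.node (.leaf 0x5628a275d6a595d) (.leaf 0))) (.node (.node (.leaf 0xa289a75a65d759) (.leaf 0)) (.node (.leaf 0x1aaecb22865965) (.leaf 0)))) (.node (.node (.node (.leaf 0x134d369a9644eba64) (.leaf 0x8a275ba99664321)) (.node (.leaf 0x26d575b2d965992b) (.leaf 0))) (.node (.node (.leaf 0xa48a495d6eb6ea) (.leaf 0)) (.node (.leaf 0x2b2c92b74b76192c) (.leaf 0))))))) (.node (.node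 (.node (.node (.node (.node (.leaf 0x89d75d69bb0c959) (.leaf 0x8a269aadd75baec)) (.node (.leaf 0x492cadbad96e9) (.leaf 0))) (.node (.node (.leaf 0x29645149642e9661) (.leaf 0)) (.node (.leaf 0x145629259656e96cb) (.leaf 0)))) (.node (.node (.node (.leaf 0x2269baebadbaa430c) (.leaf 0x1a8a56eb32c9616ec)) (.node (.leaf 0xa29137652dd74c) (.leaf 0))) (.node (.node (.leaf 0x6d375aada75d765) (.leaf 0)) (.node (.leaf 0x492b69a66192c30b) (.leaf 0))))) (.node (.node (.node (.node (.leaf 0xa276485b2eba61) (.leaf 0x13add7596ec964b2c)) (.node (.leaf 0xa292296275d74c) (.leaf 0))) (.node (.node (.leaf 0x592592c953acbae9) (.leaf 0)) (.node (.leaf 0x15922914a9d6cb6e9) (.leaf 0)))) (.node (.node (.node (.leaf 0x9658a4b256a4add) (.leaf 0x2b55badb2eb6cb)) (.node (.leaf 0x13aeb6a292c2eb65d) (.leaf 0))) (.node (.node (.leaf 0x26a2add6dd92985b) (.leaf 0)) (.node (.leaf 0x4ada8a2914965321) (.leaf 0)))))) (.node (.node (.node (.node (.node (.leaf 0x92b6acb2290b2db) (.leaf 0xab4eb52c965913325)) (.node (.leaf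 0x56ab75a76452530c) (.leaf 0))) (.node (.node (.leaf 0xac89bacb2dbb0b) (.leaf 0)) (.node (.leaf 0x13764b2a65bb21) (.leaf 0)))) (.node (.node (.node (.leaf 0x1492badd92c4eb6e9) (.leaf 0x34d56d3762964a65)) (.node (.leaf 0x95b52292a759665) (.leaf 0))) (.node (.node (.leaf 0xac92cada95b75975d) (.leaf 0)) (.node (.leaf 0x4d451332594cb2c) (.leaf 0))))) (.node (.node (.node (.node (.leaf 0x4b158a596165badd) (.leaf 0x4d59228a56eb2dd)) (.node (.leaf 0x56d452c3216d9) (.leaf 0))) (.node (.node (.leaf 0x48a452c8a590c2db) (.leaf 0)) (.node (.leaf 0xac9132ebacb661) (.leaf 0)))) (.node (.node (.node (.leaf 0xa4b13acbaeb2db) (.leaf 0x89d91485b2eb74b)) (.node (.leaf 0xdd69ba9d65badd) (.leaf 0))) (.node (.node (.leaf 0x52455d6a4acc95d) (.leaf 0)) (.node (.leaf 0x2b1355bb2285b759) (.leaf 0))))))))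

/-- part of transversal words -/
def node7L0word1 : Trie :=
  (.node (.node (.node (.node (.node (.node (.node (.leaf 0x915699964b21) (.leaf 0x8a4514b2cadd6a5)) (.node (.leaf 0x14adaaec962929964) (.leaf 0))) (.node (.node (.leaf 0xa2914aa595d2e9) (.leaf 0)) (.node (.leaf 0x14adaaebad3759964) (.leaf 0)))) (.node (.node (.node (.leaf 0xa275b4dd2cba5d) (.leaf 0x55a964b228596eb)) (.node (.leaf 0x451496292c4cb74c) (.leaf 0))) (.node (.node (.leaf 0x3b156dd6dd4ec) (.leaf 0)) (.node (.leaf 0x144ec964aa575d) (.leaf 0))))) (.node (.node (.node (.node (.leaf 0x3b2c96592c8a592c) (.leaf 0x2b2c52ca9badd6dd)) (.node (.leaf 0x1569d6eb30c32c85b) (.leaf 0))) (.node (.node (.leaf 0x124b14964adbb0b) (.leaf 0)) (.node (.leaf 0x1a92269a6da74b764) (.leaf 0)))) (.node (.node (.node (.leaf 0x8ac56265b3252db) (.leaf 0x226ec9134ebad990b)) (.node (.leaf 0x7644cc85b765) (.leaf 0))) (.node (.node (.leaf 0x1351496585bb2c95b) (.leaf 0)) (.node (.leaf 0x15a6eb6a432c30c) (.leaf 0)))))) (.node (.node (.node (.node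 (.node (.leaf 0x55a8a2954964b0c) (.leaf 0x24522ad32eb65bad9)) (.node (.leaf 0x55a6acb0c85b764) (.leaf 0))) (.node (.node (.leaf 0x34dd6d37659142dd) (.leaf 0)) (.node (.leaf 0x69d6d376432c861) (.leaf 0)))) (.node (.node (.node (.leaf 0x52c4da6dd6a4b2b) (.leaf 0x75a922699964a5d)) (.node (.leaf 0x56ec91374b2dd74b) (.leaf 0))) (.node (.node (.leaf 0xabadd6d4b25929) (.leaf 0)) (.node (.leaf 0x124b2290cb2b65b) (.leaf 0))))) (.node (.node (.node (.node (.leaf 0xd595bad592b69ba65) (.leaf 0x3b2275baebacc959)) (.node (.leaf 0x9a8a485975d65d) (.leaf 0))) (.node (.node (.leaf 0x574c95ba65) (.leaf 0)) (.node (.leaf 0x1352c52432985b2cc) (.leaf 0)))) (.node (.node (.node (.leaf 0xec92c96165d) (.leaf 0xa58ac86192cb0b)) (.node (.leaf 0x2296589baeb521964) (.leaf 0))) (.node (.node (.leaf 0x1489bada91430b2dd) (.leaf 0)) (.node (.leaf 0x28ac5256d3761929) (.leaf 0))))))) (.node (.node (.node (.node (.node (.node (.leaf 0xab5242dd6ebb0c) (.leaf 0x1badaaec86592b761)) (.node (.leaf 0x1352c8a48a4ae965b)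 (.leaf 0))) (.node (.node (.leaf 0x36a489a75d6ea759) (.leaf 0)) (.node (.leaf 0x2c513aebad332c) (.leaf 0)))) (.node (.node (.node (.leaf 0x14b22964b142cb2cc) (.leaf 0xec51575b52c32c)) (.node (.leaf 0xa456575baccb25) (.leaf 0))) (.node (.node (.leaf 0x55b52430badd759) (.leaf 0)) (.node (.leaf 0x296489d6dd85b759) (.leaf 0))))) (.node (.node (.node (.node (.leaf 0xacb22b14adb4cc864) (.leaf 0x1375ab226d3add6ec)) (.node (.leaf 0x14914b2ca6192c861) (.leaf 0))) (.node (.node (.leaf 0xda6d369d6e990c) (.leaf 0)) (.node (.leaf 0x144dd89d6eb32c321) (.leaf 0)))) (.node (.node (.node (.leaf 0x22b245156ecb1494b) (.leaf 0x228ac4d3ad432cb2c)) (.node (.leaf 0x145648a532c2cb) (.leaf 0))) (.node (.node (.leaf 0x8a452296266185b) (.leaf 0)) (.node (.leaf 0x2452b69b4dd75b30b) (.leaf 0)))))) (.node (.node (.node (.node (.node (.leaf 0x36ac8a4b2275ba5b) (.leaf 0x2592292baeb764b14)) (.node (.leaf 0x244dd764b256eb) (.leaf 0))) (.node (.node (.leaf 0x1a9258ac864a64a61) (.leaf 0)) (.node (.leaf 0x159256a585b664)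 (.leaf 0)))) (.node (.node (.node (.leaf 0x9d6d496292b75d4cb) (.leaf 0x1a6d369d75375d759)) (.node (.leaf 0x24add75d50cb29) (.leaf 0))) (.node (.node (.leaf 0x4ad356590c2eb2dd) (.leaf 0)) (.node (.leaf 0x52c96592c321664) (.leaf 0))))) (.node (.node (.node (.node (.leaf 0x455d96590c2e96cc) (.leaf 0x14564962ad9664321)) (.node (.leaf 0x5629656dd4ec965) (.leaf 0))) (.node (.node (.leaf 0x1a89b4d96ecb2592c) (.leaf 0)) (.node (.leaf 0x124524a9bb0b2dd) (.leaf 0)))) (.node (.node (.node (.leaf 0x2b2292b6ebadb) (.leaf 0xdd89d6e9965)) (.node (.leaf 0x51595d6cb2ebae9) (.leaf 0))) (.node (.node (.leaf 0x1d9644d96eb659) (.leaf 0)) (.node (.leaf 0x164ad575d6cbaeb) (.leaf 0))))))))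

/-- transversal words -/
def node7L0word : Trie :=
  (.node node7L0word0 node7L0word1)

/-- part of closing hints -/
def node7L0close0 : Trie :=
  (.node (.node (.node (.node (.node (.node (.node (.leaf 0x1001000) (.leaf 0x7b)) (.node (.leaf 0x30) (.leaf 0))) (.node (.node (.leaf 0x1001020) (.leaf 0)) (.node (.leaf 0x53) (.leaf 0)))) (.node (.node (.node (.leaf 0x1010) (.leaf 0x87)) (.node (.leaf 0x61) (.leaf 0))) (.node (.node (.leaf 0x40) (.leaf 0)) (.node (.leaf 0x1070) (.leaf 0))))) (.node (.node (.node (.node (.leaf 0xd) (.leaf 0x91)) (.node (.leaf 0x1049) (.leaf 0))) (.node (.node (.leaf 0x1023) (.leaf 0)) (.node (.leaf 0x1067) (.leaf 0)))) (.node (.node (.node (.leaf 0x1018) (.leaf 0x1098)) (.node (.leaf 0x105d) (.leaf 0))) (.node (.node (.leaf 0x3e) (.leaf 0)) (.node (.leaf 0x7f) (.leaf 0)))))) (.node (.node (.node (.node (.node (.leaf 0x7) (.leaf 0x8b)) (.node (.leaf 0x57) (.leaf 0))) (.node (.node (.leaf 0x31) (.leaf 0)) (.node (.leaf 0x1064) (.leaf 0)))) (.node (.node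 (.node (.leaf 0xc) (.leaf 0x8d)) (.node (.leaf 0x41) (.leaf 0))) (.node (.node (.leaf 0x1037) (.leaf 0)) (.node (.leaf 0x1001072) (.leaf 0))))) (.node (.node (.node (.node (.leaf 0x14) (.leaf 0x83)) (.node (.leaf 0x3a) (.leaf 0))) (.node (.node (.leaf 0x100003b) (.leaf 0)) (.node (.leaf 0x1001069) (.leaf 0)))) (.node (.node (.node (.leaf 0x1000013) (.leaf 0x109c)) (.node (.leaf 0x1055) (.leaf 0))) (.node (.node (.leaf 0x32) (.leaf 0)) (.node (.leaf 0x86) (.leaf 0))))))) (.node (.node (.node (.node (.node (.node (.leaf 0x1) (.leaf 0x79)) (.node (.leaf 0x100004e) (.leaf 0))) (.node (.node (.leaf 0x17) (.leaf 0)) (.node (.leaf 0x1062) (.leaf 0)))) (.node (.node (.node (.leaf 0xb) (.leaf 0x99)) (.node (.leaf 0x4a) (.leaf 0))) (.node (.node (.leaf 0x3c) (.leaf 0)) (.node (.leaf 0x1001074) (.leaf 0))))) (.node (.node (.node (.node (.leaf 0x6) (.leaf 0x85)) (.node (.leaf 0x52) (.leaf 0))) (.node (.node (.leaf 0x39) (.leaf 0)) (.node (.leaf 0x100106d) (.leaf 0)))) (.node (.node (.node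 (.leaf 0x11) (.leaf 0x109a)) (.node (.leaf 0x105a) (.leaf 0))) (.node (.node (.leaf 0x4c) (.leaf 0)) (.node (.leaf 0x81) (.leaf 0)))))) (.node (.node (.node (.node (.node (.leaf 0xa) (.leaf 0x7c)) (.node (.leaf 0x1043) (.leaf 0))) (.node (.node (.leaf 0x1001026) (.leaf 0)) (.node (.leaf 0x1001066) (.leaf 0)))) (.node (.node (.node (.leaf 0x1016) (.leaf 0x9b)) (.node (.leaf 0x4b) (.leaf 0))) (.node (.node (.leaf 0x47) (.leaf 0)) (.node (.leaf 0x1001076) (.leaf 0))))) (.node (.node (.node (.node (.leaf 0x100e) (.leaf 0x95)) (.node (.leaf 0x1000042) (.leaf 0))) (.node (.node (.leaf 0x3d) (.leaf 0)) (.node (.leaf 0x75) (.leaf 0)))) (.node (.node (.node (.leaf 0x2b) (.leaf 0x100109e)) (.node (.leaf 0x105e) (.leaf 0))) (.node (.node (.leaf 0x38) (.leaf 0)) (.node (.leaf 0x100107e) (.leaf 0))))))))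

/-- part of closing hints -/
def node7L0close2 : Trie :=
  (.node (.node (.node (.node (.node (.node (.node (.leaf 0x2) (.leaf 0x7a)) (.node (.leaf 0x54) (.leaf 0))) (.node (.node (.leaf 0x1001021) (.leaf 0)) (.node (.leaf 0x50) (.leaf 0)))) (.node (.node (.node (.leaf 0x1a) (.leaf 0x88)) (.node (.leaf 0x3f) (.leaf 0))) (.node (.node (.leaf 0x24) (.leaf 0)) (.node (.leaf 0x1001073) (.leaf 0))))) (.node (.node (.node (.node (.leaf 0xf) (.leaf 0x93)) (.node (.leaf 0x1048) (.leaf 0))) (.node (.node (.leaf 0x1d) (.leaf 0)) (.node (.leaf 0x100106c) (.leaf 0)))) (.node (.node (.node (.leaf 0x1001019) (.leaf 0x92)) (.node (.leaf 0x104f) (.leaf 0))) (.node (.node (.leaf 0x2a) (.leaf 0)) (.node (.leaf 0x82) (.leaf 0)))))) (.node (.node (.node (.node (.node (.leaf 0x3) (.leaf 0x8a)) (.node (.leaf 0x35) (.leaf 0))) (.node (.node (.leaf 0x33) (.leaf 0)) (.node (.leaf 0x1063) (.leaf 0)))) (.node (.node (.node (.leaf 0x1f) (.leaf 0x8e)) (.node (.leaf 0x105c) (.leaf 0))) (.node (.node (.leaf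 0x45) (.leaf 0)) (.node (.leaf 0x6e) (.leaf 0))))) (.node (.node (.node (.node (.leaf 0x8) (.leaf 0x94)) (.node (.leaf 0x104d) (.leaf 0))) (.node (.node (.leaf 0x100102d) (.leaf 0)) (.node (.leaf 0x100106a) (.leaf 0)))) (.node (.node (.node (.leaf 0x29) (.leaf 0x109d)) (.node (.leaf 0x1058) (.leaf 0))) (.node (.node (.leaf 0x2e) (.leaf 0)) (.node (.leaf 0x100107d) (.leaf 0))))))) (.node (.node (.node (.node (.node (.node (.leaf 0x5) (.leaf 0x8c)) (.node (.leaf 0x1046) (.leaf 0))) (.node (.node (.leaf 0x1028) (.leaf 0)) (.node (.leaf 0x1065) (.leaf 0)))) (.node (.node (.node (.leaf 0x100001c) (.leaf 0x89)) (.node (.leaf 0x60) (.leaf 0))) (.node (.node (.leaf 0x25) (.leaf 0)) (.node (.leaf 0x1001071) (.leaf 0))))) (.node (.node (.node (.node (.leaf 0x12) (.leaf 0x84)) (.node (.leaf 0x56) (.leaf 0))) (.node (.node (.leaf 0x1e) (.leaf 0)) (.node (.leaf 0x100106b) (.leaf 0)))) (.node (.node (.node (.leaf 0x100101b) (.leaf 0x96)) (.node (.leaf 0x105b) (.leaf 0))) (.node (.node (.leaf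 0x100002c) (.leaf 0)) (.node (.leaf 0x80) (.leaf 0)))))) (.node (.node (.node (.node (.node (.leaf 0x4) (.leaf 0x90)) (.node (.leaf 0x36) (.leaf 0))) (.node (.node (.leaf 0x2f) (.leaf 0)) (.node (.leaf 0x1068) (.leaf 0)))) (.node (.node (.node (.leaf 0x22) (.leaf 0x8f)) (.node (.leaf 0x44) (.leaf 0))) (.node (.node (.leaf 0x1034) (.leaf 0)) (.node (.leaf 0x1001077) (.leaf 0))))) (.node (.node (.node (.node (.leaf 0x9) (.leaf 0x97)) (.node (.leaf 0x1059) (.leaf 0))) (.node (.node (.leaf 0x27) (.leaf 0)) (.node (.leaf 0x106f) (.leaf 0)))) (.node (.node (.node (.leaf 0x15) (.leaf 0x100109f)) (.node (.leaf 0x100105f) (.leaf 0))) (.node (.node (.leaf 0x51) (.leaf 0)) (.node (.leaf 0x78) (.leaf 0))))))))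

/-- part of closing hints -/
def node7L0close1 : Trie :=
  (.node (.node (.node (.node (.node (.node (.node (.leaf 0x1) (.leaf 0x8d)) (.node (.leaf 0x53) (.leaf 0))) (.node (.node (.leaf 0x2e) (.leaf 0)) (.node (.leaf 0x6f) (.leaf 0)))) (.node (.node (.node (.leaf 0x19) (.leaf 0x99)) (.node (.leaf 0x62) (.leaf 0))) (.node (.node (.leaf 0x41) (.leaf 0)) (.node (.leaf 0x7e) (.leaf 0))))) (.node (.node (.node (.node (.leaf 0xe) (.leaf 0xa)) (.node (.leaf 0x5a) (.leaf 0))) (.node (.node (.leaf 0x37) (.leaf 0)) (.node (.leaf 0x77) (.leaf 0)))) (.node (.node (.node (.leaf 0x24) (.leaf 0x1001022)) (.node (.leaf 0x69) (.leaf 0))) (.node (.node (.leaf 0x4a) (.leaf 0)) (.node (.leaf 0x86) (.leaf 0)))))) (.node (.node (.node (.node (.node (.leaf 0x8) (.leaf 0x90)) (.node (.leaf 0x58) (.leaf 0))) (.node (.node (.leaf 0x32) (.leaf 0)) (.node (.leaf 0x73) (.leaf 0)))) (.node (.node (.node (.leaf 0x1e) (.leaf 0x9b)) (.node (.leaf 0x65) (.leaf 0))) (.node (.node (.leaf 0x44) (.leaf 0)) (.node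 (.leaf 0x82) (.leaf 0))))) (.node (.node (.node (.node (.leaf 0x15) (.leaf 0x96)) (.node (.leaf 0x5e) (.leaf 0))) (.node (.node (.leaf 0x3c) (.leaf 0)) (.node (.leaf 0x7a) (.leaf 0)))) (.node (.node (.node (.leaf 0x28) (.leaf 0x9f)) (.node (.leaf 0x6b) (.leaf 0))) (.node (.node (.leaf 0x4f) (.leaf 0)) (.node (.leaf 0x89) (.leaf 0))))))) (.node (.node (.node (.node (.node (.node (.leaf 0x4) (.leaf 0x8e)) (.node (.leaf 0x1001047) (.leaf 0))) (.node (.node (.leaf 0x1001029) (.leaf 0)) (.node (.leaf 0x71) (.leaf 0)))) (.node (.node (.node (.leaf 0x1c) (.leaf 0x9a)) (.node (.leaf 0x63) (.leaf 0))) (.node (.node (.leaf 0x43) (.leaf 0)) (.node (.leaf 0x80) (.leaf 0))))) (.node (.node (.node (.node (.leaf 0x11) (.leaf 0x94)) (.node (.leaf 0x5c) (.leaf 0))) (.node (.node (.leaf 0x3a) (.leaf 0)) (.node (.leaf 0x79) (.leaf 0)))) (.node (.node (.node (.leaf 0x26) (.leaf 0x9e)) (.node (.leaf 0x6a) (.leaf 0))) (.node (.node (.leaf 0x4d) (.leaf 0)) (.node (.leaf 0x5) (.leaf 0)))))) (.node (.node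 (.node (.node (.node (.leaf 0xb) (.leaf 0x92)) (.node (.leaf 0x104c) (.leaf 0))) (.node (.node (.leaf 0x35) (.leaf 0)) (.node (.leaf 0x75) (.leaf 0)))) (.node (.node (.node (.leaf 0x21) (.leaf 0x101f)) (.node (.leaf 0x67) (.leaf 0))) (.node (.node (.leaf 0x48) (.leaf 0)) (.node (.leaf 0x84) (.leaf 0))))) (.node (.node (.node (.node (.leaf 0x17) (.leaf 0xd)) (.node (.leaf 0x1051) (.leaf 0))) (.node (.node (.leaf 0x3e) (.leaf 0)) (.node (.leaf 0x7c) (.leaf 0)))) (.node (.node (.node (.leaf 0x2c) (.leaf 0x3d)) (.node (.leaf 0x6d) (.leaf 0))) (.node (.node (.leaf 0x50) (.leaf 0)) (.node (.leaf 0x8b) (.leaf 0))))))))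

/-- part of closing hints -/
def node7L0close3 : Trie :=
  (.node (.node (.node (.node (.node (.node (.node (.leaf 0x3) (.leaf 0x7)) (.node (.leaf 0x55) (.leaf 0))) (.node (.node (.leaf 0x2f) (.leaf 0)) (.node (.leaf 0x70) (.leaf 0)))) (.node (.node (.node (.leaf 0x1b) (.leaf 0xf)) (.node (.leaf 0x61) (.leaf 0))) (.node (.node (.leaf 0x42) (.leaf 0)) (.node (.leaf 0x7f) (.leaf 0))))) (.node (.node (.node (.node (.leaf 0x10) (.leaf 0x1012)) (.node (.leaf 0x5b) (.leaf 0))) (.node (.node (.leaf 0x38) (.leaf 0)) (.node (.leaf 0x78) (.leaf 0)))) (.node (.node (.node (.leaf 0x25) (.leaf 0x9d)) (.node (.leaf 0x1054) (.leaf 0))) (.node (.node (.leaf 0x4b) (.leaf 0)) (.node (.leaf 0x87) (.leaf 0)))))) (.node (.node (.node (.node (.node (.leaf 0x9) (.leaf 0x91)) (.node (.leaf 0x59) (.leaf 0))) (.node (.node (.leaf 0x34) (.leaf 0)) (.node (.leaf 0x74) (.leaf 0)))) (.node (.node (.node (.leaf 0x20) (.leaf 0x14)) (.node (.leaf 0x66) (.leaf 0))) (.node (.node (.leaf 0x46) (.leaf 0)) (.node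 (.leaf 0x83) (.leaf 0))))) (.node (.node (.node (.node (.leaf 0x16) (.leaf 0x97)) (.node (.leaf 0x5f) (.leaf 0))) (.node (.node (.leaf 0x1033) (.leaf 0)) (.node (.leaf 0x7b) (.leaf 0)))) (.node (.node (.node (.leaf 0x2a) (.leaf 0x1001031)) (.node (.leaf 0x6c) (.leaf 0))) (.node (.node (.leaf 0x39) (.leaf 0)) (.node (.leaf 0x8a) (.leaf 0))))))) (.node (.node (.node (.node (.node (.node (.leaf 0x6) (.leaf 0x8f)) (.node (.leaf 0x56) (.leaf 0))) (.node (.node (.leaf 0x30) (.leaf 0)) (.node (.leaf 0x72) (.leaf 0)))) (.node (.node (.node (.leaf 0x1d) (.leaf 0x101a)) (.node (.leaf 0x64) (.leaf 0))) (.node (.node (.leaf 0x40) (.leaf 0)) (.node (.leaf 0x81) (.leaf 0))))) (.node (.node (.node (.node (.leaf 0x13) (.leaf 0x95)) (.node (.leaf 0x5d) (.leaf 0))) (.node (.node (.leaf 0x3b) (.leaf 0)) (.node (.leaf 0x2) (.leaf 0)))) (.node (.node (.node (.leaf 0x27) (.leaf 0x102b)) (.node (.leaf 0x1000) (.leaf 0))) (.node (.node (.leaf 0x4e) (.leaf 0)) (.node (.leaf 0x88) (.leaf 0)))))) (.node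 (.node (.node (.node (.node (.leaf 0xc) (.leaf 0x93)) (.node (.leaf 0x57) (.leaf 0))) (.node (.node (.leaf 0x36) (.leaf 0)) (.node (.leaf 0x76) (.leaf 0)))) (.node (.node (.node (.leaf 0x23) (.leaf 0x9c)) (.node (.leaf 0x68) (.leaf 0))) (.node (.node (.leaf 0x49) (.leaf 0)) (.node (.leaf 0x85) (.leaf 0))))) (.node (.node (.node (.node (.leaf 0x18) (.leaf 0x98)) (.node (.leaf 0x60) (.leaf 0))) (.node (.node (.leaf 0x3f) (.leaf 0)) (.node (.leaf 0x7d) (.leaf 0)))) (.node (.node (.node (.leaf 0x2d) (.leaf 0x1045)) (.node (.leaf 0x6e) (.leaf 0))) (.node (.node (.leaf 0x52) (.leaf 0)) (.node (.leaf 0x8c) (.leaf 0))))))))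

/-- closing hints -/
def node7L0close : Trie :=
  (.node (.node node7L0close0 node7L0close2) (.node node7L0close1 node7L0close3))

/-- a level -/
def node7L0 : SLev := ⟨0, [0x92594caebb2c, 0x915699964b21], node7L0tree, node7L0word, 160, node7L0close, [(79, 0), (157, 1)]⟩

/-- part of a tree -/
def node7L1tree0 : Trie :=
  (.node (.leaf 0x0) (.leaf 0x0))

/-- a tree -/
def node7L1tree : Trie :=
  node7L1tree0

/-- part of transversal words -/
def node7L1word0 : Trie :=
  (.node (.leaf 0x0) (.leaf 0x1aaecb0cb0bb25))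

/-- transversal words -/
def node7L1word : Trie :=
  node7L1word0

/-- part of closing hints -/
def node7L1close0 : Trie :=
  (.node (.node (.leaf 0x1) (.leaf 0x0)) (.node (.leaf 0x1001) (.leaf 0x1000)))

/-- closing hints -/
def node7L1close : Trie :=
  node7L1close0

/-- a level -/
def node7L1 : SLev := ⟨4, [0x1aaecb0cb0bb25, 0x92594caebb2c], node7L1tree, node7L1word, 2, node7L1close, [(0, 1)]⟩

/-- part of a tree -/
def node7L2tree0 : Trie :=
  (.node (.leaf 0x0) (.leaf 0x0))

/-- a tree -/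
def node7L2tree : Trie :=
  node7L2tree0

/-- part of transversal words -/
def node7L2word0 : Trie :=
  (.node (.leaf 0x0) (.leaf 0x1a6cb2cb30c))

/-- transversal words -/
def node7L2word : Trie :=
  node7L2word0

/-- part of closing hints -/
def node7L2close0 : Trie :=
  (.node (.leaf 0x1) (.leaf 0x0))

/-- closing hints -/
def node7L2close : Trie :=
  node7L2close0

/-- a level -/
def node7L2 : SLev := ⟨6, [0x1a6cb2cb30c], node7L2tree, node7L2word, 2, node7L2close, []⟩

/-- a chain -/
def node7 : List SLev := [node7L0, node7L1, node7L2]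

/-- part of a forest -/
def forest70 : Trie :=
  (.node (.node (.node (.node (.node (.node (.node (.leaf 0x5c0000000000) (.leaf 0xd00060000010050e)) (.node (.leaf 0x7000620000100161) (.leaf 0))) (.node (.node (.leaf 0xd0006100000002d3) (.leaf 0xc0005d0000100524)) (.node (.leaf 0x90005e0000100347) (.leaf 0)))) (.node (.node (.node (.leaf 0xd000610000100346) (.leaf 0xe0006000001001f0)) (.node (.leaf 0x100005e00001001e2) (.leaf 0))) (.node (.node (.leaf 0x60005f00000001b5) (.leaf 0)) (.node (.leaf 0xe0005c00001004fd) (.leaf 0))))) (.node (.node (.node (.node (.leaf 0xf0006000001002f7) (.leaf 0x90006100001004fa)) (.node (.leaf 0xc00061000000023d) (.leaf 0))) (.node (.node (.leaf 0xe0005c00001001d9) (.leaf 0xb000610000000541)) (.node (.leaf 0x9000610000100521) (.leaf 0)))) (.node (.node (.node (.leaf 0x40005e00000000a6) (.leaf 0x80005e0000000409)) (.node (.leaf 0xd0005d00001002f9) (.leaf 0))) (.node (.node (.leaf 0xd0005e0000100023) (.leaf 0)) (.node (.leaf 0x900061000000016a) (.leaf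 0)))))) (.node (.node (.node (.node (.node (.leaf 0x620000000020) (.leaf 0x8000610000000272)) (.node (.leaf 0xc000600000100404) (.leaf 0))) (.node (.node (.leaf 0xd0005f000010005e) (.leaf 0xf00060000010033d)) (.node (.leaf 0x80005f00001002c2) (.leaf 0)))) (.node (.node (.node (.leaf 0xb000620000000187) (.leaf 0x100005f000010056f)) (.node (.leaf 0xd0005f00001000d3) (.leaf 0))) (.node (.node (.leaf 0xd00061000010046a) (.leaf 0)) (.node (.leaf 0xb0005d00001002a5) (.leaf 0))))) (.node (.node (.node (.node (.leaf 0xe000600000100153) (.leaf 0xb000610000100295)) (.node (.leaf 0x80005f00001002f5) (.leaf 0))) (.node (.node (.leaf 0x80006000000002a3) (.leaf 0x80005f0000100299)) (.node (.leaf 0x90006100001000b4) (.leaf 0)))) (.node (.node (.node (.leaf 0x20005c00001003c4) (.leaf 0x90005f0000100102)) (.node (.leaf 0xa000600000100008) (.leaf 0))) (.node (.node (.leaf 0xe0006100001003e9) (.leaf 0)) (.node (.leaf 0x6000600000000533) (.leaf 0))))))) (.node (.node (.node (.node (.node (.node (.leaf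 0xd000600000100063) (.leaf 0xf0005f000010044e)) (.node (.leaf 0x4000610000000382) (.leaf 0))) (.node (.node (.leaf 0xb0005e0000100051) (.leaf 0xb0005d00001002da)) (.node (.leaf 0x90006000001000fa) (.leaf 0)))) (.node (.node (.node (.leaf 0x400062000000041c) (.leaf 0xa00061000010038f)) (.node (.leaf 0xa00062000010043a) (.leaf 0))) (.node (.node (.leaf 0xf0006000001001ed) (.leaf 0)) (.node (.leaf 0xd000610000100315) (.leaf 0))))) (.node (.node (.node (.node (.leaf 0xe0006100001002d4) (.leaf 0xb0006000001004b0)) (.node (.leaf 0xb0006000000000e3) (.leaf 0))) (.node (.node (.leaf 0xb0005f00001001dc) (.leaf 0xa0005f0000100243)) (.node (.leaf 0x70006200001003ce) (.leaf 0)))) (.node (.node (.node (.leaf 0xa0005d000000042b) (.leaf 0xf0005d000010005a)) (.node (.leaf 0x70005d0000100464) (.leaf 0))) (.node (.node (.leaf 0x7000610000100553) (.leaf 0)) (.node (.leaf 0x9000600000100353) (.leaf 0)))))) (.node (.node (.node (.node (.node (.leaf 0x80005d0000100103) (.leaf 0x8000600000100479)) (.node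 (.leaf 0xa000620000100559) (.leaf 0))) (.node (.node (.leaf 0xc000600000100551) (.leaf 0xd0005d0000100167)) (.node (.leaf 0xa00060000010014b) (.leaf 0)))) (.node (.node (.node (.leaf 0x700062000010027e) (.leaf 0xa0006000001003cd)) (.node (.leaf 0xf000610000100251) (.leaf 0))) (.node (.node (.leaf 0x100005f00001000c3) (.leaf 0)) (.node (.leaf 0x80005c0000100162) (.leaf 0))))) (.node (.node (.node (.node (.leaf 0x90006100001001b2) (.leaf 0x90005c00001003e5)) (.node (.leaf 0x13000600000100078) (.leaf 0))) (.node (.node (.leaf 0xb000620000100326) (.leaf 0xb0005c0000000304)) (.node (.leaf 0x900060000010041d) (.leaf 0)))) (.node (.node (.node (.leaf 0xd0005e0000100492) (.leaf 0xb0005c0000100304)) (.node (.leaf 0xe000600000100201) (.leaf 0))) (.node (.node (.leaf 0xd000600000100433) (.leaf 0)) (.node (.leaf 0xb0005c00001001e9) (.leaf 0))))))))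

/-- part of a forest -/
def forest78 : Trie :=
  (.node (.node (.node (.node (.node (.node (.node (.leaf 0x90006000001000ba) (.leaf 0xa0006200001002e1)) (.node (.leaf 0xa0006100000003de) (.leaf 0))) (.node (.node (.leaf 0x9000610000100516) (.leaf 0xe0005c00001002d7)) (.node (.leaf 0x90006100001003a5) (.leaf 0)))) (.node (.node (.node (.leaf 0xb0005d00001001d5) (.leaf 0x3000600000100339)) (.node (.leaf 0xa0005d000000015b) (.leaf 0))) (.node (.node (.leaf 0xb0005e0000000405) (.leaf 0)) (.node (.leaf 0x80005d0000000376) (.leaf 0))))) (.node (.node (.node (.node (.leaf 0x110005f0000100255) (.leaf 0xa000600000100502)) (.node (.leaf 0xa0006200001000fe) (.leaf 0))) (.node (.node (.leaf 0x90005d000010009a) (.leaf 0xe0005e0000100296)) (.node (.leaf 0xb00060000010022d) (.leaf 0)))) (.node (.node (.node (.leaf 0x3000620000100261) (.leaf 0x4000600000100488)) (.node (.leaf 0xc0005c000010015a) (.leaf 0))) (.node (.node (.leaf 0x110006100001001e7) (.leaf 0)) (.node (.leaf 0x700061000010000f)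 (.leaf 0)))))) (.node (.node (.node (.node (.node (.leaf 0xb000600000000094) (.leaf 0x800060000010032a)) (.node (.leaf 0xe0005e0000100177) (.leaf 0))) (.node (.node (.leaf 0x60005e0000000124) (.leaf 0xc0005d000010032b)) (.node (.leaf 0x100005d0000100578) (.leaf 0)))) (.node (.node (.node (.leaf 0x100005e00001002dc) (.leaf 0xb0005f0000100550)) (.node (.leaf 0x70005e0000100082) (.leaf 0))) (.node (.node (.leaf 0x70006000001003e0) (.leaf 0)) (.node (.leaf 0xa0005f0000000266) (.leaf 0))))) (.node (.node (.node (.node (.leaf 0x110005c0000100394) (.leaf 0xa0005f000010029e)) (.node (.leaf 0x9000610000100311) (.leaf 0))) (.node (.node (.leaf 0xf0005c0000100503) (.leaf 0xb0006000000004b0)) (.node (.leaf 0xd00060000010015c) (.leaf 0)))) (.node (.node (.node (.leaf 0x90006100001003d1) (.leaf 0xb000610000100072)) (.node (.leaf 0x90005e0000100319) (.leaf 0))) (.node (.node (.leaf 0xe00060000010033c) (.leaf 0)) (.node (.leaf 0x400062000000012a) (.leaf 0))))))) (.node (.node (.node (.node (.node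 (.node (.leaf 0xc0005c0000100117) (.leaf 0x90006200001000de)) (.node (.leaf 0x80005d0000100376) (.leaf 0))) (.node (.node (.leaf 0xb000600000100448) (.leaf 0x70005c0000100242)) (.node (.leaf 0xd0005d0000100475) (.leaf 0)))) (.node (.node (.node (.leaf 0x100005f000010040f) (.leaf 0x60005d000010035b)) (.node (.leaf 0x90005e00001003b9) (.leaf 0))) (.node (.node (.leaf 0xa0005d000010016e) (.leaf 0)) (.node (.leaf 0xa000610000000360) (.leaf 0))))) (.node (.node (.node (.node (.leaf 0x1100060000010020c) (.leaf 0xa0005f000000026b)) (.node (.leaf 0x200062000000051e) (.leaf 0))) (.node (.node (.leaf 0x90006100000001ac) (.leaf 0x8000610000000189)) (.node (.leaf 0xa0005c00001003a7) (.leaf 0)))) (.node (.node (.node (.leaf 0x60005d00000001cb) (.leaf 0x1000060000010009c)) (.node (.leaf 0xb0005c0000100358) (.leaf 0))) (.node (.node (.leaf 0xd0005f000010037b) (.leaf 0)) (.node (.leaf 0xb0005d0000100198) (.leaf 0)))))) (.node (.node (.node (.node (.node (.leaf 0xe0006000001004d1) (.leaf 0x8000620000100443))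 (.node (.leaf 0xc0006000001003e1) (.leaf 0))) (.node (.node (.leaf 0xe0005d0000100530) (.leaf 0xb000600000000330)) (.node (.leaf 0x9000610000000521) (.leaf 0)))) (.node (.node (.node (.leaf 0xf0005e0000100548) (.leaf 0xe0006000001003a2)) (.node (.leaf 0xb0005d0000000225) (.leaf 0))) (.node (.node (.leaf 0x8000620000100374) (.leaf 0)) (.node (.leaf 0x80005c0000100529) (.leaf 0))))) (.node (.node (.node (.node (.leaf 0x1200060000010054c) (.leaf 0xd0005f000010056b)) (.node (.leaf 0x60005c00000001d2) (.leaf 0))) (.node (.node (.leaf 0x900062000000041f) (.leaf 0xf0005d000010024f)) (.node (.leaf 0x100006100001001ca) (.leaf 0)))) (.node (.node (.node (.leaf 0x90005f0000100260) (.leaf 0x40005c00001003b3)) (.node (.leaf 0x70005c00001000bb) (.leaf 0))) (.node (.node (.leaf 0x90005d0000100415) (.leaf 0)) (.node (.leaf 0x500061000010055d) (.leaf 0))))))))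

/-- part of a forest -/
def forest74 : Trie :=
  (.node (.node (.node (.node (.node (.node (.node (.leaf 0x600000000004) (.leaf 0xb00060000010026a)) (.node (.leaf 0xe0005d0000100179) (.leaf 0))) (.node (.node (.leaf 0x70006200001000f3) (.leaf 0xe0005c000010042d)) (.node (.leaf 0xa0005c00001004e3) (.leaf 0)))) (.node (.node (.node (.leaf 0xc0005d0000000088) (.leaf 0x100005d00001003f4)) (.node (.leaf 0x100005f00001001df) (.leaf 0))) (.node (.node (.leaf 0x11000610000100181) (.leaf 0)) (.node (.leaf 0xa0006000001004f4) (.leaf 0))))) (.node (.node (.node (.node (.leaf 0xb00062000000031c) (.leaf 0xd0005c000010049d)) (.node (.leaf 0x8000600000100017) (.leaf 0))) (.node (.node (.leaf 0x110005d0000100414) (.leaf 0xf0005d00001001fb)) (.node (.leaf 0xd0005c000010040a) (.leaf 0)))) (.node (.node (.node (.leaf 0x200062000010051e) (.leaf 0xe0005d000010039d)) (.node (.leaf 0xb000610000100435) (.leaf 0))) (.node (.node (.leaf 0x10000600000100399) (.leaf 0)) (.node (.leaf 0x10005c0000100000)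 (.leaf 0)))))) (.node (.node (.node (.node (.node (.leaf 0x110005d00001004cd) (.leaf 0xb0006100001000fb)) (.node (.leaf 0x50006200000000c6) (.leaf 0))) (.node (.node (.leaf 0x50005e00001000c0) (.leaf 0xb0005d00001001f6)) (.node (.leaf 0x90005c0000100009) (.leaf 0)))) (.node (.node (.node (.leaf 0xa000610000100340) (.leaf 0xa0006100001000e8)) (.node (.leaf 0x90005d00001004d3) (.leaf 0))) (.node (.node (.leaf 0x90005f0000100379) (.leaf 0)) (.node (.leaf 0x400062000010041c) (.leaf 0))))) (.node (.node (.node (.node (.leaf 0x70006200000000a5) (.leaf 0x60005d00001001b9)) (.node (.leaf 0xe0006100001004ca) (.leaf 0))) (.node (.node (.leaf 0xa0006000001001a2) (.leaf 0xa0006000000002a6)) (.node (.leaf 0xa0005c000010002a) (.leaf 0)))) (.node (.node (.node (.leaf 0x6000620000000145) (.leaf 0xe00060000010004d)) (.node (.leaf 0x6000620000100563) (.leaf 0))) (.node (.node (.leaf 0xc00061000010034f) (.leaf 0)) (.node (.leaf 0x60006100000003d6) (.leaf 0))))))) (.node (.node (.node (.node (.node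 (.node (.leaf 0x1100061000010039c) (.leaf 0x100005d00001004d0)) (.node (.leaf 0x8000620000000443) (.leaf 0))) (.node (.node (.leaf 0xd0005e000010023e) (.leaf 0xa0005e0000000472)) (.node (.leaf 0x60005c000010028b) (.leaf 0)))) (.node (.node (.node (.leaf 0xa000600000100297) (.leaf 0xe00061000010036f)) (.node (.leaf 0xc000600000100337) (.leaf 0))) (.node (.node (.leaf 0xa0006100001004e2) (.leaf 0)) (.node (.leaf 0x100005c000010044f) (.leaf 0))))) (.node (.node (.node (.node (.leaf 0xe000610000100080) (.leaf 0xd0005e000010057c)) (.node (.leaf 0xe0005e00001001c0) (.leaf 0))) (.node (.node (.leaf 0xd0005f00001002f1) (.leaf 0x800060000010013d)) (.node (.leaf 0x110005c0000100159) (.leaf 0)))) (.node (.node (.node (.leaf 0x80005f00000001cd) (.leaf 0x40005f00001002cf)) (.node (.leaf 0xd0006100001000ad) (.leaf 0))) (.node (.node (.leaf 0x5000610000000057) (.leaf 0)) (.node (.leaf 0x9000600000100428) (.leaf 0)))))) (.node (.node (.node (.node (.node (.leaf 0xd00061000010001f) (.leaf 0xd0005e000010005c))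 (.node (.leaf 0xb000610000100471) (.leaf 0))) (.node (.node (.leaf 0x70005e0000100381) (.leaf 0x40005c0000100291)) (.node (.leaf 0xb0006100001002bf) (.leaf 0)))) (.node (.node (.node (.leaf 0x800061000010012d) (.leaf 0x6000600000000357)) (.node (.leaf 0x50006200001004dd) (.leaf 0))) (.node (.node (.leaf 0x90005d0000000218) (.leaf 0)) (.node (.leaf 0xa0005d00001004ad) (.leaf 0))))) (.node (.node (.node (.node (.leaf 0x400060000010000b) (.leaf 0xb0005c00001002d5)) (.node (.leaf 0xf000610000100393) (.leaf 0))) (.node (.node (.leaf 0x6000620000000563) (.leaf 0xd0006100001001e4)) (.node (.leaf 0x70006200000000f3) (.leaf 0)))) (.node (.node (.node (.leaf 0xe0005d00001002c0) (.leaf 0x9000600000100160)) (.node (.leaf 0xa0006200001001a9) (.leaf 0))) (.node (.node (.leaf 0xf0005f00001001bc) (.leaf 0)) (.node (.leaf 0xf0005d00001001e1) (.leaf 0))))))))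

/-- part of a forest -/
def forest712 : Trie :=
  (.node (.node (.node (.node (.node (.node (.node (.leaf 0x70005c0000100278) (.leaf 0xa0005e0000100300)) (.node (.leaf 0x1000060000010025b) (.leaf 0))) (.node (.node (.leaf 0x70005e000000033a) (.leaf 0xa0006000000003cd)) (.node (.leaf 0x9000610000100459) (.leaf 0)))) (.node (.node (.node (.leaf 0x12000610000100014) (.leaf 0xb0005d0000100225)) (.node (.leaf 0x60006200001002ec) (.leaf 0))) (.node (.node (.leaf 0xa0005f000010026b) (.leaf 0)) (.node (.leaf 0xd000600000100572) (.leaf 0))))) (.node (.node (.node (.node (.leaf 0xb0006100000000a4) (.leaf 0xe0005f00001002a0)) (.node (.leaf 0xb0005f000010018c) (.leaf 0))) (.node (.node (.leaf 0x60005d00001003ee) (.leaf 0x1100060000010046e)) (.node (.leaf 0xc000600000100118) (.leaf 0)))) (.node (.node (.node (.leaf 0x400062000010012a) (.leaf 0x60006100001001d4)) (.node (.leaf 0x80005d00001000ff) (.leaf 0))) (.node (.node (.leaf 0xa000600000000033) (.leaf 0)) (.node (.leaf 0xb0006100000004a4)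 (.leaf 0)))))) (.node (.node (.node (.node (.node (.leaf 0xd000610000100263) (.leaf 0xa00061000010034b)) (.node (.leaf 0xd0005c0000100437) (.leaf 0))) (.node (.node (.leaf 0xf000610000100413) (.leaf 0x60005f0000000039)) (.node (.leaf 0xc0006000001004f6) (.leaf 0)))) (.node (.node (.node (.leaf 0xa000600000100236) (.leaf 0x800060000010035e)) (.node (.leaf 0xb000600000100355) (.leaf 0))) (.node (.node (.leaf 0x8000610000100189) (.leaf 0)) (.node (.leaf 0x9000610000100558) (.leaf 0))))) (.node (.node (.node (.node (.leaf 0xa000610000000108) (.leaf 0x80005e00001003df)) (.node (.leaf 0xe000610000100149) (.leaf 0))) (.node (.node (.leaf 0xa0005e00000003d5) (.leaf 0xf0005c000010029f)) (.node (.leaf 0xc0006000001003cb) (.leaf 0)))) (.node (.node (.node (.leaf 0xb0005e000010040c) (.leaf 0x60005e00000001dd)) (.node (.leaf 0x5000620000100090) (.leaf 0))) (.node (.node (.leaf 0xc000600000100028) (.leaf 0)) (.node (.leaf 0x6000620000000449) (.leaf 0))))))) (.node (.node (.node (.node (.node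 (.node (.leaf 0xe0006100001000ef) (.leaf 0x3000620000100258)) (.node (.leaf 0xc0006100001004bd) (.leaf 0))) (.node (.node (.leaf 0x100005e000010016f) (.leaf 0xc0005e000010026d)) (.node (.leaf 0xa0006200001001c6) (.leaf 0)))) (.node (.node (.node (.leaf 0xf000600000100038) (.leaf 0x90005d0000100030)) (.node (.leaf 0x500061000000053f) (.leaf 0))) (.node (.node (.leaf 0x600062000010037a) (.leaf 0)) (.node (.leaf 0x10000610000100327) (.leaf 0))))) (.node (.node (.node (.node (.leaf 0xc0005e00001001ab) (.leaf 0xc000610000100540)) (.node (.leaf 0x700061000010028f) (.leaf 0))) (.node (.node (.leaf 0xc0006000001002a1) (.leaf 0x60005d0000000015)) (.node (.leaf 0xf000610000100264) (.leaf 0)))) (.node (.node (.node (.leaf 0xf000610000100075) (.leaf 0x700062000010046b)) (.node (.leaf 0xf0005e000010054d) (.leaf 0))) (.node (.node (.leaf 0xa0005f0000100395) (.leaf 0)) (.node (.leaf 0x80005e0000100006) (.leaf 0)))))) (.node (.node (.node (.node (.node (.leaf 0xc0005d00001002b8) (.leaf 0xb0006000000004d6))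 (.node (.leaf 0x1000600000100004) (.leaf 0))) (.node (.node (.leaf 0xe0005e000010037c) (.leaf 0xa000610000000268)) (.node (.leaf 0xd000600000100220) (.leaf 0)))) (.node (.node (.node (.leaf 0xb00060000010001e) (.leaf 0x120005f0000100048)) (.node (.leaf 0x100005c000010025f) (.leaf 0))) (.node (.node (.leaf 0xe0005f0000100120) (.leaf 0)) (.node (.leaf 0xd0005e000010051c) (.leaf 0))))) (.node (.node (.node (.node (.leaf 0x1000060000010044d) (.leaf 0x60006100001003f8)) (.node (.leaf 0xb000600000100094) (.leaf 0))) (.node (.node (.leaf 0xa0005e00000001ae) (.leaf 0xc0005e000010019e)) (.node (.leaf 0xd0005e000010023a) (.leaf 0)))) (.node (.node (.node (.leaf 0xf0005c0000100140) (.leaf 0xc000610000100312)) (.node (.leaf 0x100005c000010039b) (.leaf 0))) (.node (.node (.leaf 0x80006100001001d0) (.leaf 0)) (.node (.leaf 0x8000620000100221) (.leaf 0))))))))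

/-- part of a forest -/
def forest72 : Trie :=
  (.node (.node (.node (.node (.node (.node (.node (.leaf 0x5e0000000002) (.leaf 0xb0005c0000100287)) (.node (.leaf 0x3000620000000261) (.leaf 0))) (.node (.node (.leaf 0x80005f00001000b1) (.leaf 0x900060000010030f)) (.node (.leaf 0x90005f0000100109) (.leaf 0)))) (.node (.node (.node (.leaf 0x60005e0000100124) (.leaf 0x11000610000100406)) (.node (.leaf 0xd0005d0000100500) (.leaf 0))) (.node (.node (.leaf 0x90006100000003a5) (.leaf 0)) (.node (.leaf 0x30006100001004ab) (.leaf 0))))) (.node (.node (.node (.node (.leaf 0xa000610000100477) (.leaf 0xa0005c00000004e3)) (.node (.leaf 0x60005c000010047b) (.leaf 0))) (.node (.node (.leaf 0x80005e0000100276) (.leaf 0x9000620000100562)) (.node (.leaf 0xf0006100001004a3) (.leaf 0)))) (.node (.node (.node (.leaf 0x90005c000010052d) (.leaf 0xc0005e00001003f9)) (.node (.leaf 0x70005f00001003ed) (.leaf 0))) (.node (.node (.leaf 0x7000600000000139) (.leaf 0)) (.node (.leaf 0xf0006100001004ef) (.leaf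 0)))))) (.node (.node (.node (.node (.node (.leaf 0x9000610000100073) (.leaf 0xc000610000100061)) (.node (.leaf 0xf0005c0000100125) (.leaf 0))) (.node (.node (.leaf 0x100005e00001002dd) (.leaf 0xd0006000001004be)) (.node (.leaf 0xe000610000100363) (.leaf 0)))) (.node (.node (.node (.leaf 0xc0005c0000100401) (.leaf 0xc000610000100245)) (.node (.leaf 0xf0006100001000ce) (.leaf 0))) (.node (.node (.leaf 0x90006000001004ac) (.leaf 0)) (.node (.leaf 0xd000600000100486) (.leaf 0))))) (.node (.node (.node (.node (.leaf 0xb000610000100227) (.leaf 0xf0005d0000100204)) (.node (.leaf 0xa0005d0000000397) (.leaf 0))) (.node (.node (.leaf 0x70005c0000100065) (.leaf 0x800062000010050a)) (.node (.leaf 0xc00060000010054e) (.leaf 0)))) (.node (.node (.node (.leaf 0x90005f00001000aa) (.leaf 0x90006100001000af)) (.node (.leaf 0x60006100000003f8) (.leaf 0))) (.node (.node (.leaf 0xf0005e000010013c) (.leaf 0)) (.node (.leaf 0xb000610000100194) (.leaf 0))))))) (.node (.node (.node (.node (.node (.node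 (.leaf 0xb0006100001001ff) (.leaf 0x120005e0000100085)) (.node (.leaf 0xa0005e0000100269) (.leaf 0))) (.node (.node (.leaf 0x80006000001004df) (.leaf 0x90005f000010004f)) (.node (.leaf 0xb000610000100208) (.leaf 0)))) (.node (.node (.node (.leaf 0xc0005e00001003fe) (.leaf 0xc0005e000010035d)) (.node (.leaf 0xb0005c0000100197) (.leaf 0))) (.node (.node (.leaf 0x60005e0000100076) (.leaf 0)) (.node (.leaf 0xb0005c0000100364) (.leaf 0))))) (.node (.node (.node (.node (.leaf 0x12000600000100441) (.leaf 0xf0006000001004ae)) (.node (.leaf 0xb000620000000290) (.leaf 0))) (.node (.node (.leaf 0x90005c00001002d1) (.leaf 0x8000620000100064)) (.node (.leaf 0xe0005f000010019a) (.leaf 0)))) (.node (.node (.node (.leaf 0xa0005f00000000f8) (.leaf 0xd0005f0000100079)) (.node (.leaf 0x10000610000100274) (.leaf 0))) (.node (.node (.leaf 0x50005c0000100106) (.leaf 0)) (.node (.leaf 0x90005d0000100165) (.leaf 0)))))) (.node (.node (.node (.node (.node (.leaf 0xa0005d00001002a4) (.leaf 0x100005e000010057a))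 (.node (.leaf 0xa000610000100247) (.leaf 0))) (.node (.node (.leaf 0xf0005d00001004c4) (.leaf 0x80005e000010047a)) (.node (.leaf 0x100005e000010015f) (.leaf 0)))) (.node (.node (.node (.leaf 0x80005c0000100233) (.leaf 0xd00061000010055e)) (.node (.leaf 0x110006000001003c1) (.leaf 0))) (.node (.node (.leaf 0x8000610000000207) (.leaf 0)) (.node (.leaf 0x1000620000000020) (.leaf 0))))) (.node (.node (.node (.node (.leaf 0xa000610000100268) (.leaf 0x90005e0000100455)) (.node (.leaf 0x700061000010045e) (.leaf 0))) (.node (.node (.leaf 0x70006200000003aa) (.leaf 0xc000600000100450)) (.node (.leaf 0x9000620000100214) (.leaf 0)))) (.node (.node (.node (.leaf 0x30006200000000c4) (.leaf 0xa0005c000010035a)) (.node (.leaf 0x90006000000000fa) (.leaf 0))) (.node (.node (.leaf 0xd0005d000010057b) (.leaf 0)) (.node (.leaf 0xe00060000010052f) (.leaf 0))))))))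

/-- part of a forest -/
def forest710 : Trie :=
  (.node (.node (.node (.node (.node (.node (.node (.leaf 0x80005e000010010c) (.leaf 0xc0005c00001003f0)) (.node (.leaf 0xe000600000100368) (.leaf 0))) (.node (.node (.leaf 0x80006100001001e6) (.leaf 0x70006200001003aa)) (.node (.leaf 0xb0005f00000003fb) (.leaf 0)))) (.node (.node (.node (.leaf 0xd0006100001004a2) (.leaf 0x200060000010008e)) (.node (.leaf 0x700062000010016d) (.leaf 0))) (.node (.node (.leaf 0xa0005e0000100472) (.leaf 0)) (.node (.leaf 0xd0006100001001ee) (.leaf 0))))) (.node (.node (.node (.node (.leaf 0x70005d0000100498) (.leaf 0xd0005e00001004c2)) (.node (.leaf 0xc00060000010027c) (.leaf 0))) (.node (.node (.leaf 0xb0006200001002f4) (.leaf 0xf0005d0000100138)) (.node (.leaf 0x80005f000010022e) (.leaf 0)))) (.node (.node (.node (.leaf 0xa0005f0000100123) (.leaf 0xd00061000010056d)) (.node (.leaf 0x1000610000100005) (.leaf 0))) (.node (.node (.leaf 0xf000610000100349) (.leaf 0)) (.node (.leaf 0xf00060000010034e)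 (.leaf 0)))))) (.node (.node (.node (.node (.node (.leaf 0x90005c0000000009) (.leaf 0xc0005f0000100150)) (.node (.leaf 0x500062000000025a) (.leaf 0))) (.node (.node (.leaf 0x30006200001000c4) (.leaf 0xc000610000100569)) (.node (.leaf 0x700060000010019b) (.leaf 0)))) (.node (.node (.node (.leaf 0x80005f0000000087) (.leaf 0x80006000001002a3)) (.node (.leaf 0x600060000010033b) (.leaf 0))) (.node (.node (.leaf 0xb0005f000010006f) (.leaf 0)) (.node (.leaf 0x600062000010022a) (.leaf 0))))) (.node (.node (.node (.node (.leaf 0x70005e000010033a) (.leaf 0xc0006100001002e9)) (.node (.leaf 0xa000600000100310) (.leaf 0))) (.node (.node (.leaf 0x80006100001000a7) (.leaf 0x3000600000000339)) (.node (.leaf 0xb0005f00001000d2) (.leaf 0)))) (.node (.node (.node (.leaf 0x70006000001002aa) (.leaf 0xf0006100001004ff)) (.node (.leaf 0x100006000001003bd) (.leaf 0))) (.node (.node (.leaf 0xf000610000100235) (.leaf 0)) (.node (.leaf 0xe0006100001000ed) (.leaf 0))))))) (.node (.node (.node (.node (.node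 (.node (.leaf 0xc0005e0000100571) (.leaf 0x5000600000000074)) (.node (.leaf 0x7000600000100183) (.leaf 0))) (.node (.node (.leaf 0x90005c000010051a) (.leaf 0x80005c0000100155)) (.node (.leaf 0xa0005c0000100341) (.leaf 0)))) (.node (.node (.node (.leaf 0x80005d000000004a) (.leaf 0xc000610000100460)) (.node (.leaf 0x50005e0000000426) (.leaf 0))) (.node (.node (.leaf 0xd0005f00001002c1) (.leaf 0)) (.node (.leaf 0xb0005d00001004b9) (.leaf 0))))) (.node (.node (.node (.node (.leaf 0xe0005d00001003b6) (.leaf 0xe0005f000010049b)) (.node (.leaf 0x40006200001000c8) (.leaf 0))) (.node (.node (.leaf 0xb0005c0000100442) (.leaf 0xc0005c00001004f0)) (.node (.leaf 0x90005c00001002bd) (.leaf 0)))) (.node (.node (.node (.leaf 0x90006000000003a6) (.leaf 0xf0006100001003ea)) (.node (.leaf 0xa0005d00001000ee) (.leaf 0))) (.node (.node (.leaf 0x10000600000100013) (.leaf 0)) (.node (.leaf 0x8000600000100476) (.leaf 0)))))) (.node (.node (.node (.node (.node (.leaf 0xe0005e00001003bc) (.leaf 0x90006200001003fc))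 (.node (.leaf 0xc0005e0000100573) (.leaf 0))) (.node (.node (.leaf 0x6000610000100195) (.leaf 0x9000620000100205)) (.node (.leaf 0x60005e0000100173) (.leaf 0)))) (.node (.node (.node (.leaf 0x8000600000100097) (.leaf 0xb0005e0000100514)) (.node (.leaf 0xd0005e000010001a) (.leaf 0))) (.node (.node (.leaf 0xf000600000100253) (.leaf 0)) (.node (.leaf 0x10005d0000100001) (.leaf 0))))) (.node (.node (.node (.node (.leaf 0xe0005e00001000f0) (.leaf 0x70005e000010024b)) (.node (.leaf 0x110006000001003a3) (.leaf 0))) (.node (.node (.leaf 0xa0005f00000004f9) (.leaf 0xf0005e0000100228)) (.node (.leaf 0x500062000010030d) (.leaf 0)))) (.node (.node (.node (.leaf 0x80006000001000ea) (.leaf 0x8000610000100207)) (.node (.leaf 0x90005c00001003b5) (.leaf 0))) (.node (.node (.leaf 0x1000060000010001b) (.leaf 0)) (.node (.leaf 0xc00061000010015d) (.leaf 0))))))))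

/-- part of a forest -/
def forest76 : Trie :=
  (.node (.node (.node (.node (.node (.node (.node (.leaf 0x70005e0000100128) (.leaf 0x100006100001002a2)) (.node (.leaf 0xc000600000100568) (.leaf 0))) (.node (.node (.leaf 0x40005c00000003b3) (.leaf 0x10000600000100367)) (.node (.leaf 0xb0005f00000001dc) (.leaf 0)))) (.node (.node (.node (.leaf 0xe0005d0000100282) (.leaf 0xc0006000001004fe)) (.node (.leaf 0xd000600000100130) (.leaf 0))) (.node (.node (.leaf 0x110005c00001002fc) (.leaf 0)) (.node (.leaf 0x1000061000010011f) (.leaf 0))))) (.node (.node (.node (.node (.leaf 0xc000600000100056) (.leaf 0x80006200000004dc)) (.node (.leaf 0xa0005d0000100229) (.leaf 0))) (.node (.node (.leaf 0x20005e0000100107) (.leaf 0x30006100000004ab)) (.node (.leaf 0xc000610000000424) (.leaf 0)))) (.node (.node (.node (.leaf 0x4000620000100202) (.leaf 0x100006000001001fd)) (.node (.leaf 0x90005d00001002cc) (.leaf 0))) (.node (.node (.leaf 0x9000620000100527) (.leaf 0)) (.node (.leaf 0xa0006100001003ac)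 (.leaf 0)))))) (.node (.node (.node (.node (.node (.leaf 0x70005c0000100314) (.leaf 0x40005e00001000a6)) (.node (.leaf 0x5000610000100057) (.leaf 0))) (.node (.node (.leaf 0xf0006000001002cd) (.leaf 0xe000610000100390)) (.node (.leaf 0xa000620000000418) (.leaf 0)))) (.node (.node (.node (.leaf 0x30005e0000100146) (.leaf 0x100005c00001000fc)) (.node (.leaf 0x90006000001003da) (.leaf 0))) (.node (.node (.leaf 0x70005f000000035f) (.leaf 0)) (.node (.leaf 0x800060000010021a) (.leaf 0))))) (.node (.node (.node (.node (.leaf 0x9000600000100036) (.leaf 0x800061000010003b)) (.node (.leaf 0x90005f0000100560) (.leaf 0))) (.node (.node (.leaf 0x9000600000100430) (.leaf 0x80005f0000100087)) (.node (.leaf 0x90006100001001fc) (.leaf 0)))) (.node (.node (.node (.leaf 0x12000600000100058) (.leaf 0xa00060000010027d)) (.node (.leaf 0x70006200000002e4) (.leaf 0))) (.node (.node (.leaf 0x70006100001002e2) (.leaf 0)) (.node (.leaf 0xf000600000100436) (.leaf 0))))))) (.node (.node (.node (.node (.node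 (.node (.leaf 0xe0005f0000100323) (.leaf 0x50006200001000cc)) (.node (.leaf 0xc0005d0000100510) (.leaf 0))) (.node (.node (.leaf 0xa0005f00001001a4) (.leaf 0x80006100001004b6)) (.node (.leaf 0x100006100001000dc) (.leaf 0)))) (.node (.node (.node (.leaf 0x30005f00001000b5) (.leaf 0x8000610000100389)) (.node (.leaf 0xd0005e00001000c9) (.leaf 0))) (.node (.node (.leaf 0x9000610000100496) (.leaf 0)) (.node (.leaf 0xe00061000010008a) (.leaf 0))))) (.node (.node (.node (.node (.leaf 0xb00060000010041e) (.leaf 0xf0005e00001001b6)) (.node (.leaf 0xb000600000000384) (.leaf 0))) (.node (.node (.leaf 0x70006200000001e5) (.leaf 0xa0005f000010008b)) (.node (.leaf 0xb000610000100541) (.leaf 0)))) (.node (.node (.node (.leaf 0x80005e0000000276) (.leaf 0xa000600000100525)) (.node (.leaf 0x80005c000010000c) (.leaf 0))) (.node (.node (.leaf 0xa0005f00001004f9) (.leaf 0)) (.node (.leaf 0x5000610000100029) (.leaf 0)))))) (.node (.node (.node (.node (.node (.leaf 0x8000600000100249) (.leaf 0xe000600000100400))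 (.node (.leaf 0x90006000000000ba) (.leaf 0))) (.node (.node (.leaf 0x700061000010047d) (.leaf 0xd0006100001001b7)) (.node (.leaf 0xb0005d000010048b) (.leaf 0)))) (.node (.node (.node (.leaf 0x70005c0000000314) (.leaf 0x700061000010013a)) (.node (.leaf 0xb0005d000000034d) (.leaf 0))) (.node (.node (.leaf 0xe0005e00001002ba) (.leaf 0)) (.node (.leaf 0xd0005d0000100417) (.leaf 0))))) (.node (.node (.node (.node (.leaf 0x50005e0000100561) (.leaf 0x700060000000038e)) (.node (.leaf 0x70005e0000100192) (.leaf 0))) (.node (.node (.leaf 0xa0005e00001001d1) (.leaf 0xb0005d0000000305)) (.node (.leaf 0x70005d000010014c) (.leaf 0)))) (.node (.node (.node (.leaf 0x100005d000010010b) (.leaf 0xb00060000010001d)) (.node (.leaf 0xd0005c00001002ee) (.leaf 0))) (.node (.node (.leaf 0xa0005d00000000ee) (.leaf 0)) (.node (.leaf 0xd000610000100422) (.leaf 0))))))))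

/-- part of a forest -/
def forest714 : Trie :=
  (.node (.node (.node (.node (.node (.node (.node (.leaf 0x1200061000010014d) (.leaf 0xb0005d0000100209)) (.node (.leaf 0x60005d00000003ee) (.leaf 0))) (.node (.node (.leaf 0x70006100001004e7) (.leaf 0xc00060000010036e)) (.node (.leaf 0x30005d00000001a3) (.leaf 0)))) (.node (.node (.node (.leaf 0x1000600000000004) (.leaf 0xb0005e0000100371)) (.node (.leaf 0x90006000001003a6) (.leaf 0))) (.node (.node (.leaf 0x800061000000012d) (.leaf 0)) (.node (.leaf 0x600060000010041a) (.leaf 0))))) (.node (.node (.node (.node (.leaf 0x90005d0000000030) (.leaf 0xe0005f00001001d8)) (.node (.leaf 0x90005e00000003dc) (.leaf 0))) (.node (.node (.leaf 0xa000610000100196) (.leaf 0xb0006000001003e7)) (.node (.leaf 0xe000600000100151) (.leaf 0)))) (.node (.node (.node (.leaf 0xe000610000100215) (.leaf 0xb0006000001000ac)) (.node (.leaf 0xb0005f00001000ca) (.leaf 0))) (.node (.node (.leaf 0x40005d000010031b) (.leaf 0)) (.node (.leaf 0x600062000000017b)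 (.leaf 0)))))) (.node (.node (.node (.node (.node (.leaf 0xe000600000100286) (.leaf 0x100006100001004da)) (.node (.leaf 0x70005f0000100045) (.leaf 0))) (.node (.node (.leaf 0xf0005f000010055b) (.leaf 0x70006000000002ab)) (.node (.leaf 0xe0006000001001ad) (.leaf 0)))) (.node (.node (.node (.leaf 0x6000600000100129) (.leaf 0xe0006000001003ae)) (.node (.leaf 0x60005c0000100059) (.leaf 0))) (.node (.node (.leaf 0x90005e000010046c) (.leaf 0)) (.node (.leaf 0xd000600000100294) (.leaf 0))))) (.node (.node (.node (.node (.leaf 0x90005e000000000a) (.leaf 0x100006000001003ca)) (.node (.leaf 0xc0005c00001002d8) (.leaf 0))) (.node (.node (.leaf 0x90005d0000100388) (.leaf 0xb0005c00001004f2)) (.node (.leaf 0xb0006000001004d6) (.leaf 0)))) (.node (.node (.node (.leaf 0x90005d0000100218) (.leaf 0xe0005d0000100309)) (.node (.leaf 0xc0005c00001004b5) (.leaf 0))) (.node (.node (.leaf 0xc00061000010004c) (.leaf 0)) (.node (.leaf 0x50005d00001001ce) (.leaf 0))))))) (.node (.node (.node (.node (.node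 (.node (.leaf 0xa000600000100281) (.leaf 0xa000600000100033)) (.node (.leaf 0x8000600000000513) (.leaf 0))) (.node (.node (.leaf 0xf0006000001002f0) (.leaf 0x1000620000100020)) (.node (.leaf 0x90005e0000000347) (.leaf 0)))) (.node (.node (.node (.leaf 0x1000610000000005) (.leaf 0x50006200000003a4)) (.node (.leaf 0x90005f0000000283) (.leaf 0))) (.node (.node (.leaf 0xb0005e0000100176) (.leaf 0)) (.node (.leaf 0x80005c0000100518) (.leaf 0))))) (.node (.node (.node (.node (.leaf 0xc0005f0000100575) (.leaf 0x600061000010039f)) (.node (.leaf 0x90005e000010000a) (.leaf 0))) (.node (.node (.leaf 0xa000600000100370) (.leaf 0xc0006100001001f1)) (.node (.leaf 0x7000600000100139) (.leaf 0)))) (.node (.node (.node (.leaf 0x80006200000000b0) (.leaf 0x900061000010018e)) (.node (.leaf 0x80005d00001000f1) (.leaf 0))) (.node (.node (.leaf 0xb0005e0000100523) (.leaf 0)) (.node (.leaf 0x900061000010010d) (.leaf 0)))))) (.node (.node (.node (.node (.node (.leaf 0xc0005c0000100570) (.leaf 0x6000600000000301))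 (.node (.leaf 0xc0005e000010011b) (.leaf 0))) (.node (.node (.leaf 0x80005d00000001bf) (.leaf 0x80005e000010006a)) (.node (.leaf 0xe0005f00001000cb) (.leaf 0)))) (.node (.node (.node (.leaf 0x90006200000001d7) (.leaf 0xc00060000010037f)) (.node (.leaf 0xa00060000000027d) (.leaf 0))) (.node (.node (.leaf 0x70006100001004cc) (.leaf 0)) (.node (.leaf 0xa0006000001003d4) (.leaf 0))))) (.node (.node (.node (.node (.leaf 0xb0006000001002ad) (.leaf 0xb000610000100303)) (.node (.leaf 0x60006200000002b4) (.leaf 0))) (.node (.node (.leaf 0x80005c0000000233) (.leaf 0xc0005f00001002ce)) (.node (.leaf 0xb00061000010008d) (.leaf 0)))) (.node (.node (.node (.leaf 0x9000620000100446) (.leaf 0xb0006000001002e0)) (.node (.leaf 0xc0005c0000100474) (.leaf 0))) (.node (.node (.leaf 0x120006100001000db) (.leaf 0)) (.node (.leaf 0xb0005e000010028d) (.leaf 0))))))))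

/-- part of a forest -/
def forest71 : Trie :=
  (.node (.node (.node (.node (.node (.node (.node (.leaf 0x5d0000000001) (.leaf 0xb0005c0000100307)) (.node (.leaf 0xd000600000100219) (.leaf 0))) (.node (.node (.leaf 0xa000610000100108) (.leaf 0xb000610000000331)) (.node (.leaf 0x500060000010006d) (.leaf 0)))) (.node (.node (.node (.leaf 0x6000620000100449) (.leaf 0x110005e000010011c)) (.node (.leaf 0x9000600000100244) (.leaf 0))) (.node (.node (.leaf 0x100006100001002b0) (.leaf 0)) (.node (.leaf 0x60005e0000000076) (.leaf 0))))) (.node (.node (.node (.node (.leaf 0xa000610000000497) (.leaf 0x11000600000100411)) (.node (.leaf 0xd0005d0000100289) (.leaf 0))) (.node (.node (.leaf 0x1000061000010024d) (.leaf 0xa0006100001003de)) (.node (.leaf 0x90005c00001003b8) (.leaf 0)))) (.node (.node (.node (.leaf 0x90005e00001004c0) (.leaf 0xa0006200000001f5)) (.node (.leaf 0xc0005f00001001af) (.leaf 0))) (.node (.node (.leaf 0x11000610000100378) (.leaf 0)) (.node (.leaf 0x100006000001004c7)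 (.leaf 0)))))) (.node (.node (.node (.node (.node (.leaf 0x60005d00001001cb) (.leaf 0xa0005e000010024e)) (.node (.leaf 0x70006200001003ec) (.leaf 0))) (.node (.node (.leaf 0x5000600000100267) (.leaf 0x8000610000100136)) (.node (.leaf 0x80005d000010037d) (.leaf 0)))) (.node (.node (.node (.leaf 0x100005d0000100544) (.leaf 0xa00060000000019f)) (.node (.leaf 0xb00060000010015e) (.leaf 0))) (.node (.node (.leaf 0x10005f0000100003) (.leaf 0)) (.node (.leaf 0x40005d000010030e) (.leaf 0))))) (.node (.node (.node (.node (.leaf 0xb00061000010047f) (.leaf 0x600062000000037a)) (.node (.leaf 0x20006200001003b2) (.leaf 0))) (.node (.node (.leaf 0x600062000010017b) (.leaf 0x40005e000010019d)) (.node (.leaf 0xd000600000100467) (.leaf 0)))) (.node (.node (.node (.leaf 0xb000600000000355) (.leaf 0x100006100001004ea)) (.node (.leaf 0x900062000000017f) (.leaf 0))) (.node (.node (.leaf 0xe0005d0000100203) (.leaf 0)) (.node (.leaf 0xb000600000100035) (.leaf 0))))))) (.node (.node (.node (.node (.node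 (.node (.leaf 0x9000610000000073) (.leaf 0x10000600000100259)) (.node (.leaf 0x6000600000100533) (.leaf 0))) (.node (.node (.leaf 0xb0005c00000004f2) (.leaf 0xc000610000100334)) (.node (.leaf 0x8000610000100429) (.leaf 0)))) (.node (.node (.node (.leaf 0x100005c000010048f) (.leaf 0xe00061000010021d)) (.node (.leaf 0x30005c00000000e0) (.leaf 0))) (.node (.node (.leaf 0xe000600000100577) (.leaf 0)) (.node (.leaf 0x50005c00001004f8) (.leaf 0))))) (.node (.node (.node (.node (.leaf 0xa0005e00001002ef) (.leaf 0x80006000001001a8)) (.node (.leaf 0xe00061000010020d) (.leaf 0))) (.node (.node (.leaf 0xd00060000010034c) (.leaf 0xb000600000100330)) (.node (.leaf 0xd0006000001004c9) (.leaf 0)))) (.node (.node (.node (.leaf 0x8000620000100403) (.leaf 0xd00060000010049f)) (.node (.leaf 0x80005c00001002f8) (.leaf 0))) (.node (.node (.leaf 0x90005e0000000455) (.leaf 0)) (.node (.leaf 0x800061000010010e) (.leaf 0)))))) (.node (.node (.node (.node (.node (.leaf 0x70005d00001000d8) (.leaf 0xa000610000000293))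 (.node (.leaf 0x110006000001001da) (.leaf 0))) (.node (.node (.leaf 0x80005d00001001bf) (.leaf 0x110006100001001c3)) (.node (.leaf 0xa000610000100366) (.leaf 0)))) (.node (.node (.node (.leaf 0x70005f000010052c) (.leaf 0x80006200001004dc)) (.node (.leaf 0x110005f00001001b0) (.leaf 0))) (.node (.node (.leaf 0xd0005d0000100543) (.leaf 0)) (.node (.leaf 0xb0006100001002a9) (.leaf 0))))) (.node (.node (.node (.node (.leaf 0xe000600000100043) (.leaf 0xa000610000100497)) (.node (.leaf 0x90005c00001002d6) (.leaf 0))) (.node (.node (.leaf 0xe000610000100034) (.leaf 0xb0005e000000051d)) (.node (.leaf 0xa0005e000010025e) (.leaf 0)))) (.node (.node (.node (.leaf 0x70005d0000000464) (.leaf 0xb0005d0000100288)) (.node (.leaf 0xc0005f000010024c) (.leaf 0))) (.node (.node (.leaf 0xb0006100000002bf) (.leaf 0)) (.node (.leaf 0xe0005c00001002b7) (.leaf 0))))))))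

/-- part of a forest -/
def forest79 : Trie :=
  (.node (.node (.node (.node (.node (.node (.node (.leaf 0x80005c00001000b6) (.leaf 0x70005e0000100113)) (.node (.leaf 0xa0005d000010049c) (.leaf 0))) (.node (.node (.leaf 0x80005f00001001cd) (.leaf 0xc0006100001003e2)) (.node (.leaf 0xd0005d0000100345) (.leaf 0)))) (.node (.node (.node (.leaf 0xa0006000000001a2) (.leaf 0xb0006000001003be)) (.node (.leaf 0xc0005d000010030b) (.leaf 0))) (.node (.node (.leaf 0x700061000010047c) (.leaf 0)) (.node (.leaf 0x700061000000047d) (.leaf 0))))) (.node (.node (.node (.node (.leaf 0xe0005c000010022c) (.leaf 0x50006200001000c6)) (.node (.leaf 0x7000600000100053) (.leaf 0))) (.node (.node (.leaf 0xd000610000100083) (.leaf 0xe0005e000010044a)) (.node (.leaf 0xe000610000100100) (.leaf 0)))) (.node (.node (.node (.leaf 0xc0005e0000100110) (.leaf 0xc000600000100250)) (.node (.leaf 0xc0006000000002a1) (.leaf 0))) (.node (.node (.leaf 0x700062000000046b) (.leaf 0)) (.node (.leaf 0x7000610000100447) (.leaf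 0)))))) (.node (.node (.node (.node (.node (.leaf 0x4000610000000007) (.leaf 0x70006100000004cc)) (.node (.leaf 0x90005d0000000415) (.leaf 0))) (.node (.node (.leaf 0x5000600000000567) (.leaf 0x70005c0000100359)) (.node (.leaf 0xb00061000010053c) (.leaf 0)))) (.node (.node (.node (.leaf 0xc0005f000010036b) (.leaf 0xb000610000100101)) (.node (.leaf 0xa000610000100158) (.leaf 0))) (.node (.node (.leaf 0x900062000010053b) (.leaf 0)) (.node (.leaf 0xd000610000100511) (.leaf 0))))) (.node (.node (.node (.node (.leaf 0xe0005f0000100478) (.leaf 0x50006200000000cc)) (.node (.leaf 0x90005e000010053e) (.leaf 0))) (.node (.node (.leaf 0xb00060000010050c) (.leaf 0xb000610000100147)) (.node (.leaf 0xb000620000100457) (.leaf 0)))) (.node (.node (.node (.leaf 0x60005f00001004ed) (.leaf 0x80005d000010004a)) (.node (.leaf 0xb0006100001000a4) (.leaf 0))) (.node (.node (.leaf 0xa0005c0000100324) (.leaf 0)) (.node (.leaf 0xd0006100001000f9) (.leaf 0))))))) (.node (.node (.node (.node (.node (.node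 (.leaf 0xe0005d0000100493) (.leaf 0x10000610000100373)) (.node (.leaf 0xc0006000001002ac) (.leaf 0))) (.node (.node (.leaf 0xd000610000100240) (.leaf 0xa0005e0000100465)) (.node (.leaf 0x80005e000000006a) (.leaf 0)))) (.node (.node (.node (.leaf 0xc0005d00001003d8) (.leaf 0xd00060000010024a)) (.node (.leaf 0x70005f0000100423) (.leaf 0))) (.node (.node (.leaf 0xc000600000100256) (.leaf 0)) (.node (.leaf 0xf000600000100071) (.leaf 0))))) (.node (.node (.node (.node (.leaf 0x50005c0000100534) (.leaf 0x80006100001002eb)) (.node (.leaf 0xf0006000001000c5) (.leaf 0))) (.node (.node (.leaf 0x100005c00001001a5) (.leaf 0x90006200001000e7)) (.node (.leaf 0x60005c0000000391) (.leaf 0)))) (.node (.node (.node (.leaf 0x10000600000100190) (.leaf 0x12000600000100231)) (.node (.leaf 0xa0005e00001001ae) (.leaf 0))) (.node (.node (.leaf 0xd0005c0000100047) (.leaf 0)) (.node (.leaf 0xb000600000100564) (.leaf 0)))))) (.node (.node (.node (.node (.node (.leaf 0x50005f00001004d4) (.leaf 0xa0005c0000000470))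 (.node (.leaf 0xf0005f000010044c) (.leaf 0))) (.node (.node (.leaf 0x60006000001003bf) (.leaf 0xa00061000010030c)) (.node (.leaf 0x200060000010023c) (.leaf 0)))) (.node (.node (.node (.leaf 0xc0006100001004e8) (.leaf 0xa0005d000010004e)) (.node (.leaf 0x90006200001001b8) (.leaf 0))) (.node (.node (.leaf 0x50005d00000001ce) (.leaf 0)) (.node (.leaf 0x80005e0000100485) (.leaf 0))))) (.node (.node (.node (.node (.leaf 0xc0005f0000100306) (.leaf 0x700060000010043e)) (.node (.leaf 0x90005c000010039e) (.leaf 0))) (.node (.node (.leaf 0xd0005d000010007b) (.leaf 0xb0005d000010034d)) (.node (.leaf 0x80005f00000003ef) (.leaf 0)))) (.node (.node (.node (.leaf 0xc000610000100424) (.leaf 0x90005f0000100566)) (.node (.leaf 0xc0005d000010040e) (.leaf 0))) (.node (.node (.leaf 0x1300061000010005b) (.leaf 0)) (.node (.leaf 0xb0005e000010051d) (.leaf 0))))))))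

/-- part of a forest -/
def forest75 : Trie :=
  (.node (.node (.node (.node (.node (.node (.node (.leaf 0x610000000005) (.leaf 0xa0005e000010051f)) (.node (.leaf 0x800062000010040b) (.leaf 0))) (.node (.node (.leaf 0x40005d000000031b) (.leaf 0xf0005f000010013b)) (.node (.leaf 0xa0005d0000100397) (.leaf 0)))) (.node (.node (.node (.leaf 0x110005e0000100280) (.leaf 0x70005e00001004ec)) (.node (.leaf 0x100005e000010020b) (.leaf 0))) (.node (.node (.leaf 0x40005f0000000096) (.leaf 0)) (.node (.leaf 0x10000600000100520) (.leaf 0))))) (.node (.node (.node (.node (.leaf 0x60005f00001001b5) (.leaf 0xa0005e0000000269)) (.node (.leaf 0xb000610000100041) (.leaf 0))) (.node (.node (.leaf 0x50006200001003a4) (.leaf 0xa00060000000028e)) (.node (.leaf 0xc0005d00001000f7) (.leaf 0)))) (.node (.node (.node (.leaf 0xe000600000100010) (.leaf 0x60005c0000000059)) (.node (.leaf 0xa0005e00000002ef) (.leaf 0))) (.node (.node (.leaf 0x700060000010038e) (.leaf 0)) (.node (.leaf 0xd000600000100206) (.leaf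 0)))))) (.node (.node (.node (.node (.node (.leaf 0xe0005e00001002fb) (.leaf 0xd000600000100046)) (.node (.leaf 0xa0005d00001002c6) (.leaf 0))) (.node (.node (.leaf 0xe0005c00001000cf) (.leaf 0x90006000001004aa)) (.node (.leaf 0xc0005e0000100027) (.leaf 0)))) (.node (.node (.node (.leaf 0x600062000010022b) (.leaf 0x90006000001004bb)) (.node (.leaf 0xa0005d00001001b4) (.leaf 0))) (.node (.node (.leaf 0xf0005c0000100157) (.leaf 0)) (.node (.leaf 0x80006100001003c9) (.leaf 0))))) (.node (.node (.node (.node (.leaf 0x60005c00001001d2) (.leaf 0x90005e00001003dc)) (.node (.leaf 0xd00061000010021b) (.leaf 0))) (.node (.node (.leaf 0x80005d00001000e5) (.leaf 0xf000600000100060)) (.node (.leaf 0xb0005f0000100458) (.leaf 0)))) (.node (.node (.node (.leaf 0x70005d000010055c) (.leaf 0xa000610000100293)) (.node (.leaf 0xc0005f000010057f) (.leaf 0))) (.node (.node (.leaf 0x600062000010049e) (.leaf 0)) (.node (.leaf 0x80005c0000100026) (.leaf 0))))))) (.node (.node (.node (.node (.node (.node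 (.leaf 0x50005d00001003a1) (.leaf 0x80005d0000100031)) (.node (.leaf 0xd000610000100509) (.leaf 0))) (.node (.node (.leaf 0xc000610000100257) (.leaf 0x200061000010009e)) (.node (.leaf 0xc0006100001004a9) (.leaf 0)))) (.node (.node (.node (.leaf 0x7000620000000081) (.leaf 0xa0005f0000100302)) (.node (.leaf 0xa000610000000070) (.leaf 0))) (.node (.node (.leaf 0x500061000000055d) (.leaf 0)) (.node (.leaf 0x90005f000010034a) (.leaf 0))))) (.node (.node (.node (.node (.leaf 0x9000600000000036) (.leaf 0x80005e0000100409)) (.node (.leaf 0x100005f0000100505) (.leaf 0))) (.node (.node (.leaf 0x70005c0000000242) (.leaf 0xe000610000100377)) (.node (.leaf 0xa000600000100166) (.leaf 0)))) (.node (.node (.node (.leaf 0x110005e00001000a8) (.leaf 0x9000620000000552)) (.node (.leaf 0xa0005c0000100271) (.leaf 0))) (.node (.node (.leaf 0xa0005d000010042b) (.leaf 0)) (.node (.leaf 0x90005e0000100142) (.leaf 0)))))) (.node (.node (.node (.node (.node (.leaf 0xa0006000001002a6) (.leaf 0xa000610000000308))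 (.node (.leaf 0xe000610000100119) (.leaf 0))) (.node (.node (.leaf 0xe0005c00001004c3) (.leaf 0xc0006100001002c4)) (.node (.leaf 0xe0006100001001ef) (.leaf 0)))) (.node (.node (.node (.leaf 0x20005f00001001a1) (.leaf 0xb0005c000010040d)) (.node (.leaf 0xb0005c000010000d) (.leaf 0))) (.node (.node (.leaf 0x50005f0000100185) (.leaf 0)) (.node (.leaf 0x80005c0000000026) (.leaf 0))))) (.node (.node (.node (.node (.leaf 0xe0006100001003a9) (.leaf 0xc0005d000010048c)) (.node (.leaf 0xc0005e00001000ec) (.leaf 0))) (.node (.node (.leaf 0xc0005c00001002b5) (.leaf 0xb0005f0000000495)) (.node (.leaf 0xc0006000001003eb) (.leaf 0)))) (.node (.node (.node (.leaf 0xc000600000000118) (.leaf 0xa0005c0000100407)) (.node (.leaf 0x70005f0000000423) (.leaf 0))) (.node (.node (.leaf 0x90006200001004b1) (.leaf 0)) (.node (.leaf 0xc0005f000010006b) (.leaf 0))))))))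

/-- part of a forest -/
def forest713 : Trie :=
  (.node (.node (.node (.node (.node (.node (.node (.leaf 0xa0005c0000100279) (.leaf 0xa0005c0000100152)) (.node (.leaf 0xd0006100001000b9) (.leaf 0))) (.node (.node (.leaf 0x8000610000100272) (.leaf 0xd000600000100238)) (.node (.leaf 0x40006200001000f2) (.leaf 0)))) (.node (.node (.node (.leaf 0xa0006100001003c0) (.leaf 0xa0005c000010011a)) (.node (.leaf 0xa0005e00001000c1) (.leaf 0))) (.node (.node (.leaf 0x700062000010028c) (.leaf 0)) (.node (.leaf 0x60005d0000100015) (.leaf 0))))) (.node (.node (.node (.node (.leaf 0xd00060000010032c) (.leaf 0xf00060000010032e)) (.node (.leaf 0xf000610000100171) (.leaf 0))) (.node (.node (.leaf 0x11000610000100141) (.leaf 0xe0005e00001002e3)) (.node (.leaf 0xa0005d00001003d2) (.leaf 0)))) (.node (.node (.node (.leaf 0xe0006000001002ed) (.leaf 0x100005d000010054a)) (.node (.leaf 0xe000600000100163) (.leaf 0))) (.node (.node (.leaf 0x70005f00001004cb) (.leaf 0)) (.node (.leaf 0x90006000001001a7)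 (.leaf 0)))))) (.node (.node (.node (.node (.node (.leaf 0xd0006000001002fd) (.leaf 0xd0005c000010055a)) (.node (.leaf 0xa0006000001002f2) (.leaf 0))) (.node (.node (.leaf 0x700061000010008f) (.leaf 0x80005c00000002f8)) (.node (.leaf 0xa0006100001000df) (.leaf 0)))) (.node (.node (.node (.leaf 0xc00061000010051b) (.leaf 0x90005d0000100321)) (.node (.leaf 0xa0006000001000da) (.leaf 0))) (.node (.node (.leaf 0xd0006000001004f7) (.leaf 0)) (.node (.leaf 0x100005d000010043d) (.leaf 0))))) (.node (.node (.node (.node (.leaf 0x400060000000000b) (.leaf 0xf000600000100191)) (.node (.leaf 0xb0005e0000100519) (.leaf 0))) (.node (.node (.leaf 0x60006200000002ec) (.leaf 0xc000610000100356)) (.node (.leaf 0x120005d0000100024) (.leaf 0)))) (.node (.node (.node (.leaf 0xd0006100001003fa) (.leaf 0x50005f0000100387)) (.node (.leaf 0xd00060000010045f) (.leaf 0))) (.node (.node (.leaf 0xe00060000010050d) (.leaf 0)) (.node (.leaf 0x60005f00000004ed) (.leaf 0))))))) (.node (.node (.node (.node (.node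 (.node (.leaf 0xa000600000000310) (.leaf 0x80006000001001bb)) (.node (.leaf 0xd0006100001002d3) (.leaf 0))) (.node (.node (.leaf 0x8000620000100383) (.leaf 0xa0005e00001003d5)) (.node (.leaf 0xf0006000001003f2) (.leaf 0)))) (.node (.node (.node (.leaf 0x110006000001004d8) (.leaf 0xc0005c000010004b)) (.node (.leaf 0x6000620000100469) (.leaf 0))) (.node (.node (.leaf 0x30005e0000000146) (.leaf 0)) (.node (.leaf 0xd0005d000010003c) (.leaf 0))))) (.node (.node (.node (.node (.leaf 0xe0005c00001002f6) (.leaf 0xa0005f0000100512)) (.node (.leaf 0xb0005f0000100495) (.leaf 0))) (.node (.node (.leaf 0xb00061000010014e) (.leaf 0x4000610000100382)) (.node (.leaf 0xb0005e000010018a) (.leaf 0)))) (.node (.node (.node (.leaf 0x110005f0000100284) (.leaf 0x40006200000000c8)) (.node (.leaf 0xf0005e0000100549) (.leaf 0))) (.node (.node (.leaf 0x50005e0000100426) (.leaf 0)) (.node (.leaf 0xa00060000010019f) (.leaf 0)))))) (.node (.node (.node (.node (.node (.leaf 0xe0005f0000100154) (.leaf 0xf0005d000010009b))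 (.node (.leaf 0xb0006100001004e5) (.leaf 0))) (.node (.node (.leaf 0x70006000001002ab) (.leaf 0xf00061000010001c)) (.node (.leaf 0xe00060000010038c) (.leaf 0)))) (.node (.node (.node (.leaf 0xa0005f0000000302) (.leaf 0xb000610000100331)) (.node (.leaf 0x80005c00001000bf) (.leaf 0))) (.node (.node (.leaf 0xc000600000100348) (.leaf 0)) (.node (.leaf 0xf0006000001004b8) (.leaf 0))))) (.node (.node (.node (.node (.leaf 0xf000610000100494) (.leaf 0x60006100001003d6)) (.node (.leaf 0x90006000001001f7) (.leaf 0))) (.node (.node (.leaf 0x110005c0000100091) (.leaf 0xc0005c0000100292)) (.node (.leaf 0x70005d000010020e) (.leaf 0)))) (.node (.node (.node (.leaf 0x80006100000001d0) (.leaf 0xd0005c0000100018)) (.node (.leaf 0xc00060000000027c) (.leaf 0))) (.node (.node (.leaf 0xf00060000010027f) (.leaf 0)) (.node (.leaf 0xb0005e000010017c) (.leaf 0))))))))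

/-- part of a forest -/
def forest73 : Trie :=
  (.node (.node (.node (.node (.node (.node (.node (.leaf 0x5f0000000003) (.leaf 0x7000620000100461)) (.node (.leaf 0xd0005d0000100528) (.leaf 0))) (.node (.node (.leaf 0x70005d0000000498) (.leaf 0xe0005c000010033f)) (.node (.leaf 0xa000610000100440) (.leaf 0)))) (.node (.node (.node (.leaf 0xc000610000100012) (.leaf 0x8000600000000479)) (.node (.leaf 0x80005f000010002b) (.leaf 0))) (.node (.node (.leaf 0x6000600000100357) (.leaf 0)) (.node (.leaf 0x70006200001001e5) (.leaf 0))))) (.node (.node (.node (.node (.leaf 0xd0006000001002c9) (.leaf 0x70006200001000a5)) (.node (.leaf 0x90005f0000100283) (.leaf 0))) (.node (.node (.leaf 0xf0005e000010052b) (.leaf 0xc0005d0000100088)) (.node (.leaf 0xf000610000100555) (.leaf 0)))) (.node (.node (.node (.leaf 0xf0005f00001001e3) (.leaf 0xd0005c00001000b7)) (.node (.leaf 0xa000600000000370) (.leaf 0))) (.node (.node (.leaf 0x10000610000100343) (.leaf 0)) (.node (.leaf 0xa0005e0000100298) (.leaf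 0)))))) (.node (.node (.node (.node (.node (.leaf 0xc0005e0000000027) (.leaf 0x60005f000010012b)) (.node (.leaf 0xc0005f00001002db) (.leaf 0))) (.node (.node (.leaf 0x90005f00000001f3) (.leaf 0xa0005e000010006e)) (.node (.leaf 0xd0005f00001004f3) (.leaf 0)))) (.node (.node (.node (.leaf 0x11000610000100386) (.leaf 0xe0006100001001a0)) (.node (.leaf 0x70006000001004b4) (.leaf 0))) (.node (.node (.leaf 0x20005d00001003ba) (.leaf 0)) (.node (.leaf 0x10000600000100126) (.leaf 0))))) (.node (.node (.node (.node (.leaf 0xc0006000001004af) (.leaf 0xc0005e000010048e)) (.node (.leaf 0xc0006100000002e9) (.leaf 0))) (.node (.node (.leaf 0xd000600000000219) (.leaf 0x500062000010025a)) (.node (.leaf 0xd000610000100535) (.leaf 0)))) (.node (.node (.node (.leaf 0xa000600000100066) (.leaf 0x90005c00001000b2)) (.node (.leaf 0xd0005e0000100275) (.leaf 0))) (.node (.node (.leaf 0xe0005f000010023f) (.leaf 0)) (.node (.leaf 0x12000610000100184) (.leaf 0))))))) (.node (.node (.node (.node (.node (.node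 (.leaf 0xf00060000010002e) (.leaf 0xe0006100001004b2)) (.node (.leaf 0xa0005c0000100470) (.leaf 0))) (.node (.node (.leaf 0x60005e00001001dd) (.leaf 0x7000600000100211)) (.node (.leaf 0xf0005d00001001db) (.leaf 0)))) (.node (.node (.node (.leaf 0x110006000001001cf) (.leaf 0xd0005d0000100216)) (.node (.leaf 0x900061000010050f) (.leaf 0))) (.node (.node (.leaf 0xb000610000100232) (.leaf 0)) (.node (.leaf 0xe00061000010002c) (.leaf 0))))) (.node (.node (.node (.node (.leaf 0x6000600000100121) (.leaf 0xe000610000100265)) (.node (.leaf 0xe000600000100351) (.leaf 0))) (.node (.node (.leaf 0xd000600000100362) (.leaf 0x6000610000000226)) (.node (.leaf 0x80006000000001bb) (.leaf 0)))) (.node (.node (.node (.leaf 0xc0005f00001001aa) (.leaf 0x80005d00001002d0)) (.node (.leaf 0xc00061000010047e) (.leaf 0))) (.node (.node (.leaf 0x80005e0000100134) (.leaf 0)) (.node (.leaf 0x100006000001003e6) (.leaf 0)))))) (.node (.node (.node (.node (.node (.leaf 0x9000600000100483) (.leaf 0xc000600000100169))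 (.node (.leaf 0x70005c00001002ae) (.leaf 0))) (.node (.node (.leaf 0x9000600000000428) (.leaf 0x5000600000100567)) (.node (.leaf 0xb000600000100384) (.leaf 0)))) (.node (.node (.node (.leaf 0xf0005c0000100380) (.leaf 0xe0005e0000100114)) (.node (.leaf 0x600060000000033b) (.leaf 0))) (.node (.node (.leaf 0x100005f0000100410) (.leaf 0)) (.node (.leaf 0x30005c00001000e0) (.leaf 0))))) (.node (.node (.node (.node (.leaf 0x80006100001003c8) (.leaf 0xb0006000001000e3)) (.node (.leaf 0xa0005c0000000152) (.leaf 0))) (.node (.node (.leaf 0x50005e0000000561) (.leaf 0xb0005e0000100405)) (.node (.leaf 0xf000610000100054) (.leaf 0)))) (.node (.node (.node (.leaf 0x60006200001002b4) (.leaf 0xc0005f00001004a8)) (.node (.leaf 0xe0005e00001002c7) (.leaf 0))) (.node (.node (.leaf 0x80005f00001003ef) (.leaf 0)) (.node (.leaf 0x8000620000100172) (.leaf 0))))))))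

/-- part of a forest -/
def forest711 : Trie :=
  (.node (.node (.node (.node (.node (.node (.node (.leaf 0x300060000010048a) (.leaf 0x700062000000028c)) (.node (.leaf 0xf0005e000010003a) (.leaf 0))) (.node (.node (.leaf 0xf0005d00001000f4) (.leaf 0xb0006100001004eb)) (.node (.leaf 0xb0005d0000100032) (.leaf 0)))) (.node (.node (.node (.leaf 0x90005f000000004f) (.leaf 0xa0005d00001001f8)) (.node (.leaf 0x50005c0000000534) (.leaf 0))) (.node (.node (.leaf 0xa000620000000542) (.leaf 0)) (.node (.leaf 0xd0005f00001002e5) (.leaf 0))))) (.node (.node (.node (.node (.leaf 0xb0005c0000100213) (.leaf 0x10000610000100037)) (.node (.leaf 0x60005e000010029a) (.leaf 0))) (.node (.node (.leaf 0x9000600000100451) (.leaf 0xf000610000100526)) (.node (.leaf 0x90006100000004fa) (.leaf 0)))) (.node (.node (.node (.leaf 0xd0005f00001003f5) (.leaf 0x60005f0000100039)) (.node (.leaf 0xd0005c00001002fe) (.leaf 0))) (.node (.node (.leaf 0x50005d0000100105) (.leaf 0)) (.node (.leaf 0xb000600000100537)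 (.leaf 0)))))) (.node (.node (.node (.node (.node (.leaf 0x70005f0000100180) (.leaf 0x90005d00001004e9)) (.node (.leaf 0x500062000000030d) (.leaf 0))) (.node (.node (.leaf 0x50005f0000000387) (.leaf 0xe0005e0000100434)) (.node (.leaf 0xb0005d0000100305) (.leaf 0)))) (.node (.node (.node (.leaf 0xe0005f000010027b) (.leaf 0x20006100001002ca)) (.node (.leaf 0x6000600000100301) (.leaf 0))) (.node (.node (.leaf 0xb0005e000000040c) (.leaf 0)) (.node (.leaf 0x9000600000100112) (.leaf 0))))) (.node (.node (.node (.node (.leaf 0xb0005f00001001d6) (.leaf 0x6000620000100224)) (.node (.leaf 0x90005f00001001f3) (.leaf 0))) (.node (.node (.leaf 0xb000610000100042) (.leaf 0xc0005f0000100365)) (.node (.leaf 0xb0005f0000100116) (.leaf 0)))) (.node (.node (.node (.leaf 0xa0005f00001000f8) (.leaf 0xa000610000100308)) (.node (.leaf 0x700061000000013a) (.leaf 0))) (.node (.node (.leaf 0xd0005f000010057e) (.leaf 0)) (.node (.leaf 0xb0006000000003e7) (.leaf 0))))))) (.node (.node (.node (.node (.node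 (.node (.leaf 0xf00060000010020a) (.leaf 0x110005e0000100285)) (.node (.leaf 0xc000610000100234) (.leaf 0))) (.node (.node (.leaf 0xb0005e000010016c) (.leaf 0xb0006100001004a4)) (.node (.leaf 0x30005d00001001a3) (.leaf 0)))) (.node (.node (.node (.leaf 0xe0005d000010020f) (.leaf 0xd0005f000010042a)) (.node (.leaf 0xc000620000100170) (.leaf 0))) (.node (.node (.leaf 0x6000600000000121) (.leaf 0)) (.node (.leaf 0xf0005c0000100077) (.leaf 0))))) (.node (.node (.node (.node (.leaf 0x12000610000100507) (.leaf 0x9000600000000554)) (.node (.leaf 0xf0006000001004a7) (.leaf 0))) (.node (.node (.leaf 0x90005d00001002de) (.leaf 0xe0005f00001004d2)) (.node (.leaf 0x50005d00000003a1) (.leaf 0)))) (.node (.node (.node (.leaf 0x1100061000010044b) (.leaf 0xb0006100001003c6)) (.node (.leaf 0xb0005f000010045d) (.leaf 0))) (.node (.node (.leaf 0xe0005d0000100241) (.leaf 0)) (.node (.leaf 0x90005d00000002cc) (.leaf 0)))))) (.node (.node (.node (.node (.node (.leaf 0x7000610000000447) (.leaf 0xc00061000000015d))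 (.node (.leaf 0xa0006200001002b9) (.leaf 0))) (.node (.node (.leaf 0xe0005f000010038b) (.leaf 0x80006200001000d7)) (.node (.leaf 0x50006000001004c8) (.leaf 0)))) (.node (.node (.node (.leaf 0x60005c0000100391) (.leaf 0x80006000000000ea)) (.node (.leaf 0x5000610000100210) (.leaf 0))) (.node (.node (.leaf 0x70006000001000ae) (.leaf 0)) (.node (.leaf 0xa0005f0000100517) (.leaf 0))))) (.node (.node (.node (.node (.leaf 0xc0005d0000100576) (.leaf 0x50005c00000004f8)) (.node (.leaf 0xd0005f0000100067) (.leaf 0))) (.node (.node (.leaf 0x50006200001003e8) (.leaf 0xc0005d00001003a0)) (.node (.leaf 0xc0005f000010025d) (.leaf 0)))) (.node (.node (.node (.leaf 0xa000610000100360) (.leaf 0x100005c000010056c)) (.node (.leaf 0xd0005e0000100547) (.leaf 0))) (.node (.node (.leaf 0xe0005d0000100318) (.leaf 0)) (.node (.leaf 0xa0005f00001004e0) (.leaf 0))))))))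

/-- part of a forest -/
def forest77 : Trie :=
  (.node (.node (.node (.node (.node (.node (.node (.leaf 0x3000610000100515) (.leaf 0x90005c00000002d6)) (.node (.leaf 0x70006100001003e4) (.leaf 0))) (.node (.node (.leaf 0x10005e0000100002) (.leaf 0x1100061000010042e)) (.node (.leaf 0xa0005c00001000c2) (.leaf 0)))) (.node (.node (.node (.leaf 0x70005f000010035f) (.leaf 0xa0005c0000000279)) (.node (.leaf 0xa0005c000000011a) (.leaf 0))) (.node (.node (.leaf 0xa000620000100418) (.leaf 0)) (.node (.leaf 0x40005f0000100096) (.leaf 0))))) (.node (.node (.node (.node (.leaf 0xc0005c000000004b) (.leaf 0x6000610000100226)) (.node (.leaf 0x90006100001000fd) (.leaf 0))) (.node (.node (.leaf 0xa00061000010002f) (.leaf 0xc0005e00001004ba)) (.node (.leaf 0x80005e00001002a8) (.leaf 0)))) (.node (.node (.node (.leaf 0x50005f00000004d4) (.leaf 0xf0006000001000cd)) (.node (.leaf 0xd0005e0000100463) (.leaf 0))) (.node (.node (.leaf 0xf0005f00001000ab) (.leaf 0)) (.node (.leaf 0x120005c0000100068)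 (.leaf 0)))))) (.node (.node (.node (.node (.node (.leaf 0xb0005e0000100212) (.leaf 0x1000061000010035c)) (.node (.leaf 0xa00061000000030c) (.leaf 0))) (.node (.node (.leaf 0x700062000000029d) (.leaf 0x8000620000000221)) (.node (.leaf 0xf00061000010026c) (.leaf 0)))) (.node (.node (.node (.leaf 0x700061000000008f) (.leaf 0xe000600000100425)) (.node (.leaf 0x11000600000100506) (.leaf 0))) (.node (.node (.leaf 0x8000600000100513) (.leaf 0)) (.node (.leaf 0x90005c00001003b0) (.leaf 0))))) (.node (.node (.node (.node (.leaf 0xc0005f000000006b) (.leaf 0xc00060000010007e)) (.node (.leaf 0x4000600000000488) (.leaf 0))) (.node (.node (.leaf 0xc0005d0000100579) (.leaf 0x400060000010056a)) (.node (.leaf 0xf00060000010032f) (.leaf 0)))) (.node (.node (.node (.leaf 0x8000620000100156) (.leaf 0x600061000000039f)) (.node (.leaf 0xb000610000000303) (.leaf 0))) (.node (.node (.leaf 0x10000610000100342) (.leaf 0)) (.node (.leaf 0xa00060000010028e) (.leaf 0))))))) (.node (.node (.node (.node (.node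 (.node (.leaf 0x7000600000000183) (.leaf 0xc0005d0000100336)) (.node (.leaf 0xd0005c000010057d) (.leaf 0))) (.node (.node (.leaf 0xb0005c0000000358) (.leaf 0x90005f0000100320)) (.node (.leaf 0xc00060000010021f) (.leaf 0)))) (.node (.node (.node (.leaf 0x70006000000000ae) (.leaf 0x90006100001001ac)) (.node (.leaf 0x9000600000100554) (.leaf 0))) (.node (.node (.leaf 0xa0005c0000100277) (.leaf 0)) (.node (.leaf 0x90005d0000100131) (.leaf 0))))) (.node (.node (.node (.node (.leaf 0x4000610000100007) (.leaf 0xa000620000100542)) (.node (.leaf 0xb000610000000232) (.leaf 0))) (.node (.node (.leaf 0xe0005c0000100344) (.leaf 0xb0005c0000100273)) (.node (.leaf 0x5000600000100074) (.leaf 0)))) (.node (.node (.node (.leaf 0x7000620000100174) (.leaf 0x100005f00001001c7)) (.node (.leaf 0xd0005c000010026e) (.leaf 0))) (.node (.node (.leaf 0x80006200001000b0) (.leaf 0)) (.node (.leaf 0xd00061000010021c) (.leaf 0)))))) (.node (.node (.node (.node (.node (.leaf 0xf000610000100050) (.leaf 0xc0005c0000100557))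 (.node (.leaf 0x9000600000000430) (.leaf 0))) (.node (.node (.leaf 0x110005f0000100098) (.leaf 0xa0006000001004a5)) (.node (.leaf 0xb000600000100164) (.leaf 0)))) (.node (.node (.node (.leaf 0xc0005c000010056e) (.leaf 0xc00061000010050b)) (.node (.leaf 0xd0005c00001002c8) (.leaf 0))) (.node (.node (.leaf 0xc0006100001003b1) (.leaf 0)) (.node (.leaf 0xe000600000100522) (.leaf 0))))) (.node (.node (.node (.node (.leaf 0xe0005c00001002cb) (.leaf 0x9000610000100466)) (.node (.leaf 0x90005c00000002d1) (.leaf 0))) (.node (.node (.leaf 0xd0005e0000100325) (.leaf 0xd000600000100375)) (.node (.leaf 0xd00061000010052a) (.leaf 0)))) (.node (.node (.node (.leaf 0xb0005d0000100262) (.leaf 0xc0006000000004af)) (.node (.leaf 0xe0006000001003c5) (.leaf 0))) (.node (.node (.leaf 0x80006000001001c2) (.leaf 0)) (.node (.leaf 0xa000600000100133) (.leaf 0))))))))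

/-- part of a forest -/
def forest715 : Trie :=
  (.node (.node (.node (.node (.node (.node (.node (.leaf 0x60006100001002bb) (.leaf 0xf0005f000010045a)) (.node (.leaf 0xd0005d0000100084) (.leaf 0))) (.node (.node (.leaf 0x6000620000000416) (.leaf 0x80006100001001be)) (.node (.leaf 0x800060000010052e) (.leaf 0)))) (.node (.node (.node (.leaf 0x600061000010029c) (.leaf 0xf0005c0000100508)) (.node (.leaf 0x60006100000002bb) (.leaf 0))) (.node (.node (.leaf 0x110005d00001000f6) (.leaf 0)) (.node (.leaf 0x900061000010010a) (.leaf 0))))) (.node (.node (.node (.node (.leaf 0x80005f00001001a6) (.leaf 0xf0005c0000100135)) (.node (.leaf 0xe0005d00001001b1) (.leaf 0))) (.node (.node (.leaf 0xa0005d000010015b) (.leaf 0x80006000001001c5)) (.node (.leaf 0xb0006100000004eb) (.leaf 0)))) (.node (.node (.node (.leaf 0xd0005c000010003e) (.leaf 0xb0005f0000100556)) (.node (.leaf 0x30005f00000000b5) (.leaf 0))) (.node (.node (.leaf 0x1000060000010011e) (.leaf 0)) (.node (.leaf 0x900062000010017f)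 (.leaf 0)))))) (.node (.node (.node (.node (.node (.leaf 0x900061000010016a) (.leaf 0xf0006100001002af)) (.node (.leaf 0x80006200000000d7) (.leaf 0))) (.node (.node (.leaf 0x11000610000100316) (.leaf 0xd0006000001001ec)) (.node (.leaf 0xe000600000100499) (.leaf 0)))) (.node (.node (.node (.leaf 0x800061000010025c) (.leaf 0xb0006000001003dd)) (.node (.leaf 0xe000610000100574) (.leaf 0))) (.node (.node (.leaf 0xb0005f00001000bd) (.leaf 0)) (.node (.leaf 0x90005c00000003b0) (.leaf 0))))) (.node (.node (.node (.node (.leaf 0xa0005f0000100266) (.leaf 0xa000600000100237)) (.node (.leaf 0x1000061000010003f) (.leaf 0))) (.node (.node (.leaf 0xf0005e00001002f3) (.leaf 0xf0005f000010033e)) (.node (.leaf 0xd00061000010045c) (.leaf 0)))) (.node (.node (.node (.leaf 0xd0006100001004b7) (.leaf 0xe00061000010038a)) (.node (.leaf 0x90005e0000100532) (.leaf 0))) (.node (.node (.leaf 0xd0006100001004fc) (.leaf 0)) (.node (.leaf 0x70005f00001000e9) (.leaf 0))))))) (.node (.node (.node (.node (.node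 (.node (.leaf 0xc00061000010023d) (.leaf 0x80006200001001c9)) (.node (.leaf 0xb0006000001001cc) (.leaf 0))) (.node (.node (.leaf 0xf000610000100491) (.leaf 0x90005e00001001d3)) (.node (.leaf 0x90005f000000034a) (.leaf 0)))) (.node (.node (.node (.leaf 0x110006000001000d9) (.leaf 0xc000600000100473)) (.node (.leaf 0xe0005c0000100444) (.leaf 0))) (.node (.node (.leaf 0x900060000010054f) (.leaf 0)) (.node (.leaf 0x500061000010053f) (.leaf 0))))) (.node (.node (.node (.node (.leaf 0x100006100001001ea) (.leaf 0xc000600000100489)) (.node (.leaf 0xf0005c0000100504) (.leaf 0))) (.node (.node (.leaf 0xf0005e0000100254) (.leaf 0x110006000001002ea)) (.node (.leaf 0x60005f00001000c7) (.leaf 0)))) (.node (.node (.node (.leaf 0x90006100000000af) (.leaf 0x70006000001002b3)) (.node (.leaf 0xa0006000001003ab) (.leaf 0))) (.node (.node (.leaf 0xf0005f0000100016) (.leaf 0)) (.node (.leaf 0x70005e000000024b) (.leaf 0)))))) (.node (.node (.node (.node (.node (.leaf 0xf0006100001001e0) (.leaf 0x1200060000010009f))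 (.node (.leaf 0xd0005f0000100223) (.leaf 0))) (.node (.node (.leaf 0x110005d00001000a1) (.leaf 0x4000610000100546)) (.node (.leaf 0xd0005c0000100175) (.leaf 0)))) (.node (.node (.node (.leaf 0x70005c00001004c5) (.leaf 0xd0006000001001bd)) (.node (.leaf 0xa000610000100022) (.leaf 0))) (.node (.node (.leaf 0x70005d000010038d) (.leaf 0)) (.node (.leaf 0x50006000000004c8) (.leaf 0))))) (.node (.node (.node (.node (.leaf 0xb0006000001002be) (.leaf 0xa000610000100182)) (.node (.leaf 0xe00060000010002d) (.leaf 0))) (.node (.node (.leaf 0x800062000010028a) (.leaf 0xb0005f00001003fb)) (.node (.leaf 0xb000600000100545) (.leaf 0)))) (.node (.node (.node (.leaf 0x70005d0000100021) (.leaf 0xe0006100001003d7)) (.node (.leaf 0xa0005d00000002a4) (.leaf 0))) (.node (.node (.leaf 0xa000610000100070) (.leaf 0)) (.node (.leaf 0xc0006100001004db) (.leaf 0))))))))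

/-- a forest -/
def forest7 : Trie :=
  (.node (.node (.node (.node forest70 forest78) (.node forest74 forest712)) (.node (.node forest72 forest710) (.node forest76 forest714))) (.node (.node (.node forest71 forest79) (.node forest75 forest713)) (.node (.node forest73 forest711) (.node forest77 forest715))))

/-- part of a tree -/
def node8L0tree0 : Trie :=
  (.node (.node (.node (.node (.node (.node (.node (.leaf 0x0) (.leaf 0x332)) (.node (.leaf 0x10016a) (.leaf 0))) (.node (.node (.leaf 0xa7) (.leaf 0)) (.node (.leaf 0x100236) (.leaf 0)))) (.node (.node (.node (.leaf 0x100051) (.leaf 0x1003d0)) (.node (.leaf 0x1001ce) (.leaf 0))) (.node (.node (.leaf 0x109) (.leaf 0)) (.node (.leaf 0x1002a3) (.leaf 0))))) (.node (.node (.node (.node (.leaf 0x28) (.leaf 0x100379)) (.node (.leaf 0x19c) (.leaf 0))) (.node (.node (.leaf 0xd4) (.leaf 0)) (.node (.leaf 0x10026d) (.leaf 0)))) (.node (.node (.node (.leaf 0x10007c) (.leaf 0x100435)) (.node (.leaf 0x100200) (.leaf 0))) (.node (.node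 (.leaf 0x100139) (.leaf 0)) (.node (.leaf 0x2ec) (.leaf 0)))))) (.node (.node (.node (.node (.node (.leaf 0x100014) (.leaf 0x100352)) (.node (.leaf 0x181) (.leaf 0))) (.node (.node (.leaf 0x1000bd) (.leaf 0)) (.node (.leaf 0x100252) (.leaf 0)))) (.node (.node (.node (.leaf 0x66) (.leaf 0x1003ff)) (.node (.leaf 0x1001e6) (.leaf 0))) (.node (.node (.leaf 0x122) (.leaf 0)) (.node (.leaf 0x2c5) (.leaf 0))))) (.node (.node (.node (.node (.leaf 0x10003c) (.leaf 0x3a7)) (.node (.leaf 0x1001b3) (.leaf 0))) (.node (.node (.leaf 0x1000f0) (.leaf 0)) (.node (.leaf 0x100288) (.leaf 0)))) (.node (.node (.node (.leaf 0x100091) (.leaf 0x100478)) (.node (.leaf 0x10021b) (.leaf 0))) (.node (.node (.leaf 0x153) (.leaf 0)) (.node (.leaf 0x10030f) (.leaf 0))))))) (.node (.node (.node (.node (.node (.node (.leaf 0x100009) (.leaf 0x10033e)) (.node (.leaf 0x100175) (.leaf 0))) (.node (.node (.leaf 0x1000b1) (.leaf 0)) (.node (.leaf 0x100243) (.leaf 0)))) (.node (.node (.node (.leaf 0x10005b) (.leaf 0x1003ec))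 (.node (.leaf 0x1dc) (.leaf 0))) (.node (.node (.leaf 0x117) (.leaf 0)) (.node (.leaf 0x2b3) (.leaf 0))))) (.node (.node (.node (.node (.leaf 0x100032) (.leaf 0x100391)) (.node (.leaf 0x1001a9) (.leaf 0))) (.node (.node (.leaf 0xe2) (.leaf 0)) (.node (.leaf 0x10027a) (.leaf 0)))) (.node (.node (.node (.leaf 0x88) (.leaf 0x10045b)) (.node (.leaf 0x10020d) (.leaf 0))) (.node (.node (.leaf 0x100146) (.leaf 0)) (.node (.leaf 0x1002ff) (.leaf 0)))))) (.node (.node (.node (.node (.node (.leaf 0x1e) (.leaf 0x100362)) (.node (.leaf 0x18e) (.leaf 0))) (.node (.node (.leaf 0x1000c8) (.leaf 0)) (.node (.leaf 0x10025e) (.leaf 0)))) (.node (.node (.node (.leaf 0x71) (.leaf 0x100415)) (.node (.leaf 0x1001f2) (.leaf 0))) (.node (.node (.leaf 0x10012c) (.leaf 0)) (.node (.leaf 0x1002de) (.leaf 0))))) (.node (.node (.node (.node (.leaf 0x47) (.leaf 0x1003b9)) (.node (.leaf 0x1c3) (.leaf 0))) (.node (.node (.leaf 0x1000fd) (.leaf 0)) (.node (.leaf 0x100297) (.leaf 0)))) (.node (.node (.node (.leaf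 0x9d) (.leaf 0x1004a4)) (.node (.leaf 0x100229) (.leaf 0))) (.node (.node (.leaf 0x160) (.leaf 0)) (.node (.leaf 0x31f) (.leaf 0))))))))

/-- part of a tree -/
def node8L0tree8 : Trie :=
  (.node (.node (.node (.node (.node (.node (.node (.leaf 0x100004) (.leaf 0x33a)) (.node (.leaf 0x170) (.leaf 0))) (.node (.node (.leaf 0x1000ac) (.leaf 0)) (.node (.leaf 0x10023c) (.leaf 0)))) (.node (.node (.node (.leaf 0x100056) (.leaf 0x1003de)) (.node (.leaf 0x1d5) (.leaf 0))) (.node (.node (.leaf 0x10010f) (.leaf 0)) (.node (.leaf 0x1002aa) (.leaf 0))))) (.node (.node (.node (.node (.leaf 0x10002d) (.leaf 0x385)) (.node (.leaf 0x1001a2) (.leaf 0))) (.node (.node (.leaf 0xdc) (.leaf 0)) (.node (.leaf 0x100273) (.leaf 0)))) (.node (.node (.node (.leaf 0x100082) (.leaf 0x10044b)) (.node (.leaf 0x100206) (.leaf 0))) (.node (.node (.leaf 0x100140) (.leaf 0)) (.node (.leaf 0x1002f8) (.leaf 0)))))) (.node (.node (.node (.node (.node (.leaf 0x100019) (.leaf 0x10035a)) (.node (.leaf 0x187) (.leaf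 0))) (.node (.node (.leaf 0xc3) (.leaf 0)) (.node (.leaf 0x100258) (.leaf 0)))) (.node (.node (.node (.leaf 0x6c) (.leaf 0x10040c)) (.node (.leaf 0x1001ed) (.leaf 0))) (.node (.node (.leaf 0x100127) (.leaf 0)) (.node (.leaf 0x2d1) (.leaf 0))))) (.node (.node (.node (.node (.leaf 0x42) (.leaf 0x3b2)) (.node (.leaf 0x1001bb) (.leaf 0))) (.node (.node (.leaf 0x1000f6) (.leaf 0)) (.node (.leaf 0x100290) (.leaf 0)))) (.node (.node (.node (.leaf 0x100098) (.leaf 0x10048a)) (.node (.leaf 0x223) (.leaf 0))) (.node (.node (.leaf 0x158) (.leaf 0)) (.node (.leaf 0x318) (.leaf 0))))))) (.node (.node (.node (.node (.node (.node (.leaf 0x10000f) (.leaf 0x10034a)) (.node (.leaf 0x10017a) (.leaf 0))) (.node (.node (.leaf 0x1000b7) (.leaf 0)) (.node (.leaf 0x10024c) (.leaf 0)))) (.node (.node (.node (.leaf 0x100060) (.leaf 0x1003f8)) (.node (.leaf 0x1001e1) (.leaf 0))) (.node (.node (.leaf 0x10011d) (.leaf 0)) (.node (.leaf 0x1002bc) (.leaf 0))))) (.node (.node (.node (.node (.leaf 0x100037) (.leaf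 0x10039a)) (.node (.leaf 0x1001ae) (.leaf 0))) (.node (.node (.leaf 0x1000e7) (.leaf 0)) (.node (.leaf 0x100282) (.leaf 0)))) (.node (.node (.node (.leaf 0x8d) (.leaf 0x46c)) (.node (.leaf 0x100213) (.leaf 0))) (.node (.node (.leaf 0x10014d) (.leaf 0)) (.node (.leaf 0x100307) (.leaf 0)))))) (.node (.node (.node (.node (.node (.leaf 0x23) (.leaf 0x370)) (.node (.leaf 0x100194) (.leaf 0))) (.node (.node (.leaf 0xce) (.leaf 0)) (.node (.leaf 0x100266) (.leaf 0)))) (.node (.node (.node (.leaf 0x100077) (.leaf 0x100422)) (.node (.leaf 0x1001f8) (.leaf 0))) (.node (.node (.leaf 0x100132) (.leaf 0)) (.node (.leaf 0x2e5) (.leaf 0))))) (.node (.node (.node (.node (.leaf 0x4c) (.leaf 0x3c6)) (.node (.leaf 0x1c9) (.leaf 0))) (.node (.node (.leaf 0x100102) (.leaf 0)) (.node (.leaf 0x10029c) (.leaf 0)))) (.node (.node (.node (.leaf 0xa2) (.leaf 0x1004c3)) (.node (.leaf 0x100230) (.leaf 0))) (.node (.node (.leaf 0x165) (.leaf 0)) (.node (.leaf 0x100327) (.leaf 0))))))))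

/-- part of a tree -/
def node8L0tree4 : Trie :=
  (.node (.node (.node (.node (.node (.node (.node (.leaf 0x100002) (.leaf 0x336)) (.node (.leaf 0x10016d) (.leaf 0))) (.node (.node (.leaf 0x1000a9) (.leaf 0)) (.node (.leaf 0x100239) (.leaf 0)))) (.node (.node (.node (.leaf 0x100054) (.leaf 0x1003d4)) (.node (.leaf 0x1001d1) (.leaf 0))) (.node (.node (.leaf 0x10d) (.leaf 0)) (.node (.leaf 0x1002a7) (.leaf 0))))) (.node (.node (.node (.node (.leaf 0x10002a) (.leaf 0x10037f)) (.node (.leaf 0x19f) (.leaf 0))) (.node (.node (.leaf 0x1000d8) (.leaf 0)) (.node (.leaf 0x271) (.leaf 0)))) (.node (.node (.node (.leaf 0x10007f) (.leaf 0x10043b)) (.node (.leaf 0x204) (.leaf 0))) (.node (.node (.leaf 0x13d) (.leaf 0)) (.node (.leaf 0x1002f2) (.leaf 0)))))) (.node (.node (.node (.node (.node (.leaf 0x17) (.leaf 0x100355)) (.node (.leaf 0x100184) (.leaf 0))) (.node (.node (.leaf 0x1000c0) (.leaf 0)) (.node (.leaf 0x256) (.leaf 0)))) (.node (.node (.node (.leaf 0x69) (.leaf 0x100405)) (.node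 (.leaf 0x1001e9) (.leaf 0))) (.node (.node (.leaf 0x100125) (.leaf 0)) (.node (.leaf 0x2ca) (.leaf 0))))) (.node (.node (.node (.node (.leaf 0x3f) (.leaf 0x3ab)) (.node (.leaf 0x1001b6) (.leaf 0))) (.node (.node (.leaf 0x1000f2) (.leaf 0)) (.node (.leaf 0x10028c) (.leaf 0)))) (.node (.node (.node (.leaf 0x95) (.leaf 0x100481)) (.node (.leaf 0x21f) (.leaf 0))) (.node (.node (.leaf 0x100155) (.leaf 0)) (.node (.leaf 0x100315) (.leaf 0))))))) (.node (.node (.node (.node (.node (.node (.leaf 0x10000c) (.leaf 0x100344)) (.node (.leaf 0x178) (.leaf 0))) (.node (.node (.leaf 0xb5) (.leaf 0)) (.node (.leaf 0x248) (.leaf 0)))) (.node (.node (.node (.leaf 0x5e) (.leaf 0x3f3)) (.node (.leaf 0x1001de) (.leaf 0))) (.node (.node (.leaf 0x10011a) (.leaf 0)) (.node (.leaf 0x2b6) (.leaf 0))))) (.node (.node (.node (.node (.leaf 0x35) (.leaf 0x398)) (.node (.leaf 0x1ac) (.leaf 0))) (.node (.node (.leaf 0x1000e5) (.leaf 0)) (.node (.leaf 0x10027f) (.leaf 0)))) (.node (.node (.node (.leaf 0x10008a)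 (.leaf 0x100462)) (.node (.leaf 0x100211) (.leaf 0))) (.node (.node (.leaf 0x10014a) (.leaf 0)) (.node (.leaf 0x100302) (.leaf 0)))))) (.node (.node (.node (.node (.node (.leaf 0x100020) (.leaf 0x100369)) (.node (.leaf 0x100191) (.leaf 0))) (.node (.node (.leaf 0x1000cb) (.leaf 0)) (.node (.leaf 0x100262) (.leaf 0)))) (.node (.node (.node (.leaf 0x100074) (.leaf 0x10041a)) (.node (.leaf 0x1f5) (.leaf 0))) (.node (.node (.leaf 0x130) (.leaf 0)) (.node (.leaf 0x1002e1) (.leaf 0))))) (.node (.node (.node (.node (.leaf 0x49) (.leaf 0x1003be)) (.node (.leaf 0x1c7) (.leaf 0))) (.node (.node (.leaf 0x100100) (.leaf 0)) (.node (.leaf 0x100299) (.leaf 0)))) (.node (.node (.node (.leaf 0x10009f) (.leaf 0x1004b9)) (.node (.leaf 0x10022d) (.leaf 0))) (.node (.node (.leaf 0x100162) (.leaf 0)) (.node (.leaf 0x100324) (.leaf 0))))))))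

/-- part of a tree -/
def node8L0tree12 : Trie :=
  (.node (.node (.node (.node (.node (.node (.node (.leaf 0x100007) (.leaf 0x33c)) (.node (.leaf 0x100172) (.leaf 0))) (.node (.node (.leaf 0xaf) (.leaf 0)) (.node (.leaf 0x23f) (.leaf 0)))) (.node (.node (.node (.leaf 0x59) (.leaf 0x3e3)) (.node (.leaf 0x1d8) (.leaf 0))) (.node (.node (.leaf 0x112) (.leaf 0)) (.node (.leaf 0x1002af) (.leaf 0))))) (.node (.node (.node (.node (.leaf 0x100030) (.leaf 0x10038d)) (.node (.leaf 0x1a6) (.leaf 0))) (.node (.node (.leaf 0x1000df) (.leaf 0)) (.node (.leaf 0x277) (.leaf 0)))) (.node (.node (.node (.leaf 0x100085) (.leaf 0x457)) (.node (.leaf 0x100209) (.leaf 0))) (.node (.node (.leaf 0x100144) (.leaf 0)) (.node (.leaf 0x1002fb) (.leaf 0)))))) (.node (.node (.node (.node (.node (.leaf 0x1c) (.leaf 0x35d)) (.node (.leaf 0x18a) (.leaf 0))) (.node (.node (.leaf 0x1000c6) (.leaf 0)) (.node (.leaf 0x10025b) (.leaf 0)))) (.node (.node (.node (.leaf 0x10006e) (.leaf 0x100412)) (.node (.leaf 0x1001f0)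 (.leaf 0))) (.node (.node (.leaf 0x10012a) (.leaf 0)) (.node (.leaf 0x1002d4) (.leaf 0))))) (.node (.node (.node (.node (.leaf 0x100044) (.leaf 0x1003b5)) (.node (.leaf 0x1001c0) (.leaf 0))) (.node (.node (.leaf 0xfb) (.leaf 0)) (.node (.leaf 0x100292) (.leaf 0)))) (.node (.node (.node (.leaf 0x10009a) (.leaf 0x100492)) (.node (.leaf 0x100225) (.leaf 0))) (.node (.node (.leaf 0x10015c) (.leaf 0)) (.node (.leaf 0x31b) (.leaf 0))))))) (.node (.node (.node (.node (.node (.node (.leaf 0x100011) (.leaf 0x10034e)) (.node (.leaf 0x17d) (.leaf 0))) (.node (.node (.leaf 0x1000ba) (.leaf 0)) (.node (.leaf 0x250) (.leaf 0)))) (.node (.node (.node (.leaf 0x100063) (.leaf 0x1003fd)) (.node (.leaf 0x1e4) (.leaf 0))) (.node (.node (.leaf 0x10011f) (.leaf 0)) (.node (.leaf 0x2c0) (.leaf 0))))) (.node (.node (.node (.node (.leaf 0x3a) (.leaf 0x10039f)) (.node (.leaf 0x1001b1) (.leaf 0))) (.node (.node (.leaf 0xec) (.leaf 0)) (.node (.leaf 0x285) (.leaf 0)))) (.node (.node (.node (.leaf 0x10008f)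 (.leaf 0x471)) (.node (.leaf 0x100217) (.leaf 0))) (.node (.node (.leaf 0x10014f) (.leaf 0)) (.node (.leaf 0x10030a) (.leaf 0)))))) (.node (.node (.node (.node (.node (.leaf 0x100025) (.leaf 0x100373)) (.node (.leaf 0x100197) (.leaf 0))) (.node (.node (.leaf 0x1000d0) (.leaf 0)) (.node (.leaf 0x10026a) (.leaf 0)))) (.node (.node (.node (.leaf 0x7a) (.leaf 0x42b)) (.node (.leaf 0x1001fc) (.leaf 0))) (.node (.node (.leaf 0x100135) (.leaf 0)) (.node (.leaf 0x1002e8) (.leaf 0))))) (.node (.node (.node (.node (.leaf 0x10004e) (.leaf 0x1003c9)) (.node (.leaf 0x1001cb) (.leaf 0))) (.node (.node (.leaf 0x100105) (.leaf 0)) (.node (.leaf 0x1002a0) (.leaf 0)))) (.node (.node (.node (.leaf 0x1000a4) (.leaf 0x1004ec)) (.node (.leaf 0x100233) (.leaf 0))) (.node (.node (.leaf 0x100167) (.leaf 0)) (.node (.leaf 0x32c) (.leaf 0))))))))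

/-- part of a tree -/
def node8L0tree2 : Trie :=
  (.node (.node (.node (.node (.node (.node (.node (.leaf 0x1) (.leaf 0x100333)) (.node (.leaf 0x10016b) (.leaf 0))) (.node (.node (.leaf 0x1000a8) (.leaf 0)) (.node (.leaf 0x100237) (.leaf 0)))) (.node (.node (.node (.leaf 0x53) (.leaf 0x1003d3)) (.node (.leaf 0x1001d0) (.leaf 0))) (.node (.node (.leaf 0x10b) (.leaf 0)) (.node (.leaf 0x1002a5) (.leaf 0))))) (.node (.node (.node (.node (.leaf 0x100029) (.leaf 0x10037c)) (.node (.leaf 0x10019d) (.leaf 0))) (.node (.node (.leaf 0x1000d5) (.leaf 0)) (.node (.leaf 0x26f) (.leaf 0)))) (.node (.node (.node (.leaf 0x7e) (.leaf 0x43a)) (.node (.leaf 0x203) (.leaf 0))) (.node (.node (.leaf 0x10013b) (.leaf 0)) (.node (.leaf 0x2ed) (.leaf 0)))))) (.node (.node (.node (.node (.node (.leaf 0x100015) (.leaf 0x100353)) (.node (.leaf 0x183) (.leaf 0))) (.node (.node (.leaf 0x1000be) (.leaf 0)) (.node (.leaf 0x100254) (.leaf 0)))) (.node (.node (.node (.leaf 0x100067) (.leaf 0x100404)) (.node (.leaf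 0x1001e7) (.leaf 0))) (.node (.node (.leaf 0x100123) (.leaf 0)) (.node (.leaf 0x2c9) (.leaf 0))))) (.node (.node (.node (.node (.leaf 0x10003d) (.leaf 0x1003a8)) (.node (.leaf 0x1001b5) (.leaf 0))) (.node (.node (.leaf 0x1000f1) (.leaf 0)) (.node (.leaf 0x100289) (.leaf 0)))) (.node (.node (.node (.leaf 0x100093) (.leaf 0x10047d)) (.node (.leaf 0x10021d) (.leaf 0))) (.node (.node (.leaf 0x154) (.leaf 0)) (.node (.leaf 0x100312) (.leaf 0))))))) (.node (.node (.node (.node (.node (.node (.leaf 0xb) (.leaf 0x343)) (.node (.leaf 0x100176) (.leaf 0))) (.node (.node (.leaf 0x1000b3) (.leaf 0)) (.node (.leaf 0x100245) (.leaf 0)))) (.node (.node (.node (.leaf 0x5d) (.leaf 0x3f1)) (.node (.leaf 0x1001dd) (.leaf 0))) (.node (.node (.leaf 0x118) (.leaf 0)) (.node (.leaf 0x1002b4) (.leaf 0))))) (.node (.node (.node (.node (.leaf 0x34) (.leaf 0x395)) (.node (.leaf 0x1ab) (.leaf 0))) (.node (.node (.leaf 0xe3) (.leaf 0)) (.node (.leaf 0x27e) (.leaf 0)))) (.node (.node (.node (.leaf 0x89) (.leaf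 0x45d)) (.node (.leaf 0x210) (.leaf 0))) (.node (.node (.leaf 0x149) (.leaf 0)) (.node (.leaf 0x100300) (.leaf 0)))))) (.node (.node (.node (.node (.node (.leaf 0x10001f) (.leaf 0x100366)) (.node (.leaf 0x100190) (.leaf 0))) (.node (.node (.leaf 0x1000c9) (.leaf 0)) (.node (.leaf 0x100260) (.leaf 0)))) (.node (.node (.node (.leaf 0x73) (.leaf 0x418)) (.node (.leaf 0x1f4) (.leaf 0))) (.node (.node (.leaf 0x10012e) (.leaf 0)) (.node (.leaf 0x1002e0) (.leaf 0))))) (.node (.node (.node (.node (.leaf 0x48) (.leaf 0x3bb)) (.node (.leaf 0x1001c4) (.leaf 0))) (.node (.node (.leaf 0xff) (.leaf 0)) (.node (.leaf 0x100298) (.leaf 0)))) (.node (.node (.node (.leaf 0x10009e) (.leaf 0x1004a7)) (.node (.leaf 0x10022a) (.leaf 0))) (.node (.node (.leaf 0x100161) (.leaf 0)) (.node (.leaf 0x322) (.leaf 0))))))))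

/-- part of a tree -/
def node8L0tree10 : Trie :=
  (.node (.node (.node (.node (.node (.node (.node (.leaf 0x6) (.leaf 0x33b)) (.node (.leaf 0x171) (.leaf 0))) (.node (.node (.leaf 0xae) (.leaf 0)) (.node (.leaf 0x23e) (.leaf 0)))) (.node (.node (.node (.leaf 0x58) (.leaf 0x3e0)) (.node (.leaf 0x1001d6) (.leaf 0))) (.node (.node (.leaf 0x100110) (.leaf 0)) (.node (.leaf 0x2ac) (.leaf 0))))) (.node (.node (.node (.node (.leaf 0x2f) (.leaf 0x100388)) (.node (.leaf 0x1a4) (.leaf 0))) (.node (.node (.leaf 0x1000dd) (.leaf 0)) (.node (.leaf 0x100275) (.leaf 0)))) (.node (.node (.node (.leaf 0x84) (.leaf 0x44e)) (.node (.leaf 0x100208) (.leaf 0))) (.node (.node (.leaf 0x100142) (.leaf 0)) (.node (.leaf 0x2fa) (.leaf 0)))))) (.node (.node (.node (.node (.node (.leaf 0x10001a) (.leaf 0x10035b)) (.node (.leaf 0x100188) (.leaf 0))) (.node (.node (.leaf 0xc4) (.leaf 0)) (.node (.leaf 0x100259) (.leaf 0)))) (.node (.node (.node (.leaf 0x6d) (.leaf 0x10040f)) (.node (.leaf 0x1001ee) (.leaf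 0))) (.node (.node (.leaf 0x129) (.leaf 0)) (.node (.leaf 0x1002d2) (.leaf 0))))) (.node (.node (.node (.node (.leaf 0x100043) (.leaf 0x3b4)) (.node (.leaf 0x1001be) (.leaf 0))) (.node (.node (.leaf 0x1000f7) (.leaf 0)) (.node (.leaf 0x100291) (.leaf 0)))) (.node (.node (.node (.leaf 0x100099) (.leaf 0x10048f)) (.node (.leaf 0x224) (.leaf 0))) (.node (.node (.leaf 0x100159) (.leaf 0)) (.node (.leaf 0x100319) (.leaf 0))))))) (.node (.node (.node (.node (.node (.node (.leaf 0x100010) (.leaf 0x10034c)) (.node (.leaf 0x10017b) (.leaf 0))) (.node (.node (.leaf 0xb9) (.leaf 0)) (.node (.leaf 0x10024d) (.leaf 0)))) (.node (.node (.node (.leaf 0x100062) (.leaf 0x3fb)) (.node (.leaf 0x1e3) (.leaf 0))) (.node (.node (.leaf 0x10011e) (.leaf 0)) (.node (.leaf 0x1002be) (.leaf 0))))) (.node (.node (.node (.node (.leaf 0x39) (.leaf 0x10039c)) (.node (.leaf 0x1b0) (.leaf 0))) (.node (.node (.leaf 0xea) (.leaf 0)) (.node (.leaf 0x284) (.leaf 0)))) (.node (.node (.node (.leaf 0x8e) (.leaf 0x10046e))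 (.node (.leaf 0x100216) (.leaf 0))) (.node (.node (.leaf 0x10014e) (.leaf 0)) (.node (.leaf 0x100308) (.leaf 0)))))) (.node (.node (.node (.node (.node (.leaf 0x100024) (.leaf 0x100371)) (.node (.leaf 0x100195) (.leaf 0))) (.node (.node (.leaf 0xcf) (.leaf 0)) (.node (.leaf 0x100268) (.leaf 0)))) (.node (.node (.node (.leaf 0x79) (.leaf 0x100424)) (.node (.leaf 0x1001fa) (.leaf 0))) (.node (.node (.leaf 0x100133) (.leaf 0)) (.node (.leaf 0x2e7) (.leaf 0))))) (.node (.node (.node (.node (.leaf 0x10004d) (.leaf 0x1003c7)) (.node (.leaf 0x1ca) (.leaf 0))) (.node (.node (.leaf 0x104) (.leaf 0)) (.node (.leaf 0x10029e) (.leaf 0)))) (.node (.node (.node (.leaf 0xa3) (.leaf 0x1004d7)) (.node (.leaf 0x100231) (.leaf 0))) (.node (.node (.leaf 0x166) (.leaf 0)) (.node (.leaf 0x10032a) (.leaf 0))))))))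

/-- part of a tree -/
def node8L0tree6 : Trie :=
  (.node (.node (.node (.node (.node (.node (.node (.leaf 0x100003) (.leaf 0x100337)) (.node (.leaf 0x16f) (.leaf 0))) (.node (.node (.leaf 0x1000ab) (.leaf 0)) (.node (.leaf 0x10023b) (.leaf 0)))) (.node (.node (.node (.leaf 0x100055) (.leaf 0x3d7)) (.node (.leaf 0x1d4) (.leaf 0))) (.node (.node (.leaf 0x10e) (.leaf 0)) (.node (.leaf 0x1002a9) (.leaf 0))))) (.node (.node (.node (.node (.leaf 0x10002b) (.leaf 0x100383)) (.node (.leaf 0x1001a1) (.leaf 0))) (.node (.node (.leaf 0x1000da) (.leaf 0)) (.node (.leaf 0x100272) (.leaf 0)))) (.node (.node (.node (.leaf 0x81) (.leaf 0x100445)) (.node (.leaf 0x205) (.leaf 0))) (.node (.node (.leaf 0x13e) (.leaf 0)) (.node (.leaf 0x1002f4) (.leaf 0)))))) (.node (.node (.node (.node (.node (.leaf 0x18) (.leaf 0x358)) (.node (.leaf 0x100185) (.leaf 0))) (.node (.node (.leaf 0x1000c1) (.leaf 0)) (.node (.leaf 0x100257) (.leaf 0)))) (.node (.node (.node (.leaf 0x6a) (.leaf 0x100408)) (.node (.leaf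 0x1001eb) (.leaf 0))) (.node (.node (.leaf 0x100126) (.leaf 0)) (.node (.leaf 0x2d0) (.leaf 0))))) (.node (.node (.node (.node (.leaf 0x100040) (.leaf 0x1003ac)) (.node (.leaf 0x1001b8) (.leaf 0))) (.node (.node (.leaf 0x1000f4) (.leaf 0)) (.node (.leaf 0x28f) (.leaf 0)))) (.node (.node (.node (.leaf 0x100096) (.leaf 0x100484)) (.node (.leaf 0x221) (.leaf 0))) (.node (.node (.leaf 0x100156) (.leaf 0)) (.node (.leaf 0x317) (.leaf 0))))))) (.node (.node (.node (.node (.node (.node (.leaf 0xe) (.leaf 0x346)) (.node (.leaf 0x179) (.leaf 0))) (.node (.node (.leaf 0xb6) (.leaf 0)) (.node (.leaf 0x24b) (.leaf 0)))) (.node (.node (.node (.leaf 0x10005f) (.leaf 0x1003f4)) (.node (.leaf 0x1001e0) (.leaf 0))) (.node (.node (.leaf 0x11c) (.leaf 0)) (.node (.leaf 0x2b9) (.leaf 0))))) (.node (.node (.node (.node (.leaf 0x100036) (.leaf 0x399)) (.node (.leaf 0x1001ad) (.leaf 0))) (.node (.node (.leaf 0x1000e6) (.leaf 0)) (.node (.leaf 0x100280) (.leaf 0)))) (.node (.node (.node (.leaf 0x10008b)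 (.leaf 0x100466)) (.node (.leaf 0x100212) (.leaf 0))) (.node (.node (.leaf 0x14c) (.leaf 0)) (.node (.leaf 0x306) (.leaf 0)))))) (.node (.node (.node (.node (.node (.leaf 0x22) (.leaf 0x36c)) (.node (.leaf 0x193) (.leaf 0))) (.node (.node (.leaf 0x1000cc) (.leaf 0)) (.node (.leaf 0x100264) (.leaf 0)))) (.node (.node (.node (.leaf 0x100076) (.leaf 0x100420)) (.node (.leaf 0x1001f6) (.leaf 0))) (.node (.node (.leaf 0x100131) (.leaf 0)) (.node (.leaf 0x2e3) (.leaf 0))))) (.node (.node (.node (.node (.leaf 0x10004a) (.leaf 0x3c1)) (.node (.leaf 0x1c8) (.leaf 0))) (.node (.node (.leaf 0x100101) (.leaf 0)) (.node (.leaf 0x29b) (.leaf 0)))) (.node (.node (.node (.leaf 0xa1) (.leaf 0x1004bf)) (.node (.leaf 0x22f) (.leaf 0))) (.node (.node (.leaf 0x164) (.leaf 0)) (.node (.leaf 0x100325) (.leaf 0))))))))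

/-- part of a tree -/
def node8L0tree14 : Trie :=
  (.node (.node (.node (.node (.node (.node (.node (.leaf 0x100008) (.leaf 0x10033d)) (.node (.leaf 0x100173) (.leaf 0))) (.node (.node (.leaf 0x1000b0) (.leaf 0)) (.node (.leaf 0x100240) (.leaf 0)))) (.node (.node (.node (.leaf 0x10005a) (.leaf 0x1003e6)) (.node (.leaf 0x1da) (.leaf 0))) (.node (.node (.leaf 0x100114) (.leaf 0)) (.node (.leaf 0x1002b1) (.leaf 0))))) (.node (.node (.node (.node (.leaf 0x100031) (.leaf 0x10038f)) (.node (.leaf 0x1a8) (.leaf 0))) (.node (.node (.leaf 0x1000e0) (.leaf 0)) (.node (.leaf 0x279) (.leaf 0)))) (.node (.node (.node (.leaf 0x100086) (.leaf 0x459)) (.node (.leaf 0x10020b) (.leaf 0))) (.node (.node (.leaf 0x100145) (.leaf 0)) (.node (.leaf 0x1002fc) (.leaf 0)))))) (.node (.node (.node (.node (.node (.leaf 0x1d) (.leaf 0x360)) (.node (.leaf 0x10018b) (.leaf 0))) (.node (.node (.leaf 0x1000c7) (.leaf 0)) (.node (.leaf 0x10025d) (.leaf 0)))) (.node (.node (.node (.leaf 0x10006f) (.leaf 0x100414))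 (.node (.leaf 0x1001f1) (.leaf 0))) (.node (.node (.leaf 0x10012b) (.leaf 0)) (.node (.leaf 0x1002d7) (.leaf 0))))) (.node (.node (.node (.node (.leaf 0x46) (.leaf 0x1003b8)) (.node (.leaf 0x1c2) (.leaf 0))) (.node (.node (.leaf 0xfc) (.leaf 0)) (.node (.leaf 0x100295) (.leaf 0)))) (.node (.node (.node (.leaf 0x9c) (.leaf 0x100499)) (.node (.leaf 0x100228) (.leaf 0))) (.node (.node (.leaf 0x10015e) (.leaf 0)) (.node (.leaf 0x10031c) (.leaf 0))))))) (.node (.node (.node (.node (.node (.node (.leaf 0x100013) (.leaf 0x350)) (.node (.leaf 0x10017e) (.leaf 0))) (.node (.node (.leaf 0x1000bb) (.leaf 0)) (.node (.leaf 0x251) (.leaf 0)))) (.node (.node (.node (.leaf 0x65) (.leaf 0x1003fe)) (.node (.leaf 0x1001e5) (.leaf 0))) (.node (.node (.leaf 0x100120) (.leaf 0)) (.node (.leaf 0x2c1) (.leaf 0))))) (.node (.node (.node (.node (.leaf 0x10003b) (.leaf 0x1003a2)) (.node (.leaf 0x1001b2) (.leaf 0))) (.node (.node (.leaf 0x1000ed) (.leaf 0)) (.node (.leaf 0x100286) (.leaf 0)))) (.node (.node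 (.node (.leaf 0x100090) (.leaf 0x100473)) (.node (.leaf 0x100219) (.leaf 0))) (.node (.node (.leaf 0x100151) (.leaf 0)) (.node (.leaf 0x10030d) (.leaf 0)))))) (.node (.node (.node (.node (.node (.leaf 0x27) (.leaf 0x100375)) (.node (.leaf 0x10019a) (.leaf 0))) (.node (.node (.leaf 0x1000d2) (.leaf 0)) (.node (.leaf 0x10026c) (.leaf 0)))) (.node (.node (.node (.leaf 0x10007b) (.leaf 0x431)) (.node (.leaf 0x1001fe) (.leaf 0))) (.node (.node (.leaf 0x137) (.leaf 0)) (.node (.leaf 0x1002ea) (.leaf 0))))) (.node (.node (.node (.node (.leaf 0x100050) (.leaf 0x1003cc)) (.node (.leaf 0x1001cc) (.leaf 0))) (.node (.node (.leaf 0x100107) (.leaf 0)) (.node (.leaf 0x2a2) (.leaf 0)))) (.node (.node (.node (.leaf 0x1000a5) (.leaf 0x1004f4)) (.node (.leaf 0x235) (.leaf 0))) (.node (.node (.leaf 0x100168) (.leaf 0)) (.node (.leaf 0x10032d) (.leaf 0))))))))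

/-- part of a tree -/
def node8L0tree1 : Trie :=
  (.node (.node (.node (.node (.node (.node (.node (.leaf 0x100000) (.leaf 0x100332)) (.node (.leaf 0x16b) (.leaf 0))) (.node (.node (.leaf 0x1000a7) (.leaf 0)) (.node (.leaf 0x237) (.leaf 0)))) (.node (.node (.node (.leaf 0x100052) (.leaf 0x1003d1)) (.node (.leaf 0x1d0) (.leaf 0))) (.node (.node (.leaf 0x100109) (.leaf 0)) (.node (.leaf 0x1002a4) (.leaf 0))))) (.node (.node (.node (.node (.leaf 0x100028) (.leaf 0x37b)) (.node (.leaf 0x10019c) (.leaf 0))) (.node (.node (.leaf 0x1000d4) (.leaf 0)) (.node (.leaf 0x10026e) (.leaf 0)))) (.node (.node (.node (.leaf 0x10007d) (.leaf 0x100438)) (.node (.leaf 0x100201) (.leaf 0))) (.node (.node (.leaf 0x13b) (.leaf 0)) (.node (.leaf 0x1002ec) (.leaf 0)))))) (.node (.node (.node (.node (.node (.leaf 0x15) (.leaf 0x353)) (.node (.leaf 0x100181) (.leaf 0))) (.node (.node (.leaf 0xbe) (.leaf 0)) (.node (.leaf 0x253) (.leaf 0)))) (.node (.node (.node (.leaf 0x100066) (.leaf 0x100403)) (.node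 (.leaf 0x1e7) (.leaf 0))) (.node (.node (.leaf 0x123) (.leaf 0)) (.node (.leaf 0x1002c8) (.leaf 0))))) (.node (.node (.node (.node (.leaf 0x3d) (.leaf 0x1003a7)) (.node (.leaf 0x1001b4) (.leaf 0))) (.node (.node (.leaf 0xf1) (.leaf 0)) (.node (.leaf 0x289) (.leaf 0)))) (.node (.node (.node (.leaf 0x100092) (.leaf 0x10047a)) (.node (.leaf 0x10021c) (.leaf 0))) (.node (.node (.leaf 0x100153) (.leaf 0)) (.node (.leaf 0x100310) (.leaf 0))))))) (.node (.node (.node (.node (.node (.node (.leaf 0x10000a) (.leaf 0x341)) (.node (.leaf 0x176) (.leaf 0))) (.node (.node (.leaf 0xb3) (.leaf 0)) (.node (.leaf 0x245) (.leaf 0)))) (.node (.node (.node (.leaf 0x10005c) (.leaf 0x1003ef)) (.node (.leaf 0x1001dc) (.leaf 0))) (.node (.node (.leaf 0x100117) (.leaf 0)) (.node (.leaf 0x1002b3) (.leaf 0))))) (.node (.node (.node (.node (.leaf 0x100033) (.leaf 0x100393)) (.node (.leaf 0x1001aa) (.leaf 0))) (.node (.node (.leaf 0x1000e2) (.leaf 0)) (.node (.leaf 0x10027c) (.leaf 0)))) (.node (.node (.node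 (.leaf 0x100088) (.leaf 0x45c)) (.node (.leaf 0x10020e) (.leaf 0))) (.node (.node (.leaf 0x100148) (.leaf 0)) (.node (.leaf 0x300) (.leaf 0)))))) (.node (.node (.node (.node (.node (.leaf 0x10001e) (.leaf 0x100364)) (.node (.leaf 0x10018e) (.leaf 0))) (.node (.node (.leaf 0xc9) (.leaf 0)) (.node (.leaf 0x10025f) (.leaf 0)))) (.node (.node (.node (.leaf 0x100072) (.leaf 0x100416)) (.node (.leaf 0x1001f3) (.leaf 0))) (.node (.node (.leaf 0x10012d) (.leaf 0)) (.node (.leaf 0x2e0) (.leaf 0))))) (.node (.node (.node (.node (.leaf 0x100047) (.leaf 0x1003ba)) (.node (.leaf 0x1001c3) (.leaf 0))) (.node (.node (.leaf 0x1000fe) (.leaf 0)) (.node (.leaf 0x298) (.leaf 0)))) (.node (.node (.node (.leaf 0x10009d) (.leaf 0x1004a6)) (.node (.leaf 0x22a) (.leaf 0))) (.node (.node (.leaf 0x100160) (.leaf 0)) (.node (.leaf 0x100320) (.leaf 0))))))))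

/-- part of a tree -/
def node8L0tree9 : Trie :=
  (.node (.node (.node (.node (.node (.node (.node (.leaf 0x100005) (.leaf 0x10033a)) (.node (.leaf 0x100170) (.leaf 0))) (.node (.node (.leaf 0x1000ad) (.leaf 0)) (.node (.leaf 0x10023d) (.leaf 0)))) (.node (.node (.node (.leaf 0x100057) (.leaf 0x1003df)) (.node (.leaf 0x1001d5) (.leaf 0))) (.node (.node (.leaf 0x110) (.leaf 0)) (.node (.leaf 0x2ab) (.leaf 0))))) (.node (.node (.node (.node (.leaf 0x10002e) (.leaf 0x100386)) (.node (.leaf 0x1001a3) (.leaf 0))) (.node (.node (.leaf 0x1000dc) (.leaf 0)) (.node (.leaf 0x100274) (.leaf 0)))) (.node (.node (.node (.leaf 0x100083) (.leaf 0x10044c)) (.node (.leaf 0x100207) (.leaf 0))) (.node (.node (.leaf 0x100141) (.leaf 0)) (.node (.leaf 0x1002f9) (.leaf 0)))))) (.node (.node (.node (.node (.node (.leaf 0x1a) (.leaf 0x35b)) (.node (.leaf 0x100187) (.leaf 0))) (.node (.node (.leaf 0x1000c3) (.leaf 0)) (.node (.leaf 0x259) (.leaf 0)))) (.node (.node (.node (.leaf 0x10006c) (.leaf 0x40e))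 (.node (.leaf 0x1ee) (.leaf 0))) (.node (.node (.leaf 0x100128) (.leaf 0)) (.node (.leaf 0x1002d1) (.leaf 0))))) (.node (.node (.node (.node (.leaf 0x100042) (.leaf 0x1003b3)) (.node (.leaf 0x1bc) (.leaf 0))) (.node (.node (.leaf 0xf7) (.leaf 0)) (.node (.leaf 0x291) (.leaf 0)))) (.node (.node (.node (.leaf 0x99) (.leaf 0x10048e)) (.node (.leaf 0x100223) (.leaf 0))) (.node (.node (.leaf 0x100158) (.leaf 0)) (.node (.leaf 0x100318) (.leaf 0))))))) (.node (.node (.node (.node (.node (.node (.leaf 0x10) (.leaf 0x10034b)) (.node (.leaf 0x17b) (.leaf 0))) (.node (.node (.leaf 0xb8) (.leaf 0)) (.node (.leaf 0x24d) (.leaf 0)))) (.node (.node (.node (.leaf 0x100061) (.leaf 0x1003f9)) (.node (.leaf 0x1001e2) (.leaf 0))) (.node (.node (.leaf 0x11e) (.leaf 0)) (.node (.leaf 0x1002bd) (.leaf 0))))) (.node (.node (.node (.node (.leaf 0x100038) (.leaf 0x10039b)) (.node (.leaf 0x1001af) (.leaf 0))) (.node (.node (.leaf 0x1000e8) (.leaf 0)) (.node (.leaf 0x100283) (.leaf 0)))) (.node (.node (.node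 (.leaf 0x10008d) (.leaf 0x10046d)) (.node (.leaf 0x100215) (.leaf 0))) (.node (.node (.leaf 0x14e) (.leaf 0)) (.node (.leaf 0x308) (.leaf 0)))))) (.node (.node (.node (.node (.node (.leaf 0x100023) (.leaf 0x100370)) (.node (.leaf 0x195) (.leaf 0))) (.node (.node (.leaf 0x1000ce) (.leaf 0)) (.node (.leaf 0x100267) (.leaf 0)))) (.node (.node (.node (.leaf 0x100078) (.leaf 0x424)) (.node (.leaf 0x1001f9) (.leaf 0))) (.node (.node (.leaf 0x133) (.leaf 0)) (.node (.leaf 0x1002e5) (.leaf 0))))) (.node (.node (.node (.node (.leaf 0x10004c) (.leaf 0x1003c6)) (.node (.leaf 0x1001c9) (.leaf 0))) (.node (.node (.leaf 0x100103) (.leaf 0)) (.node (.leaf 0x29e) (.leaf 0)))) (.node (.node (.node (.leaf 0x1000a2) (.leaf 0x4d0)) (.node (.leaf 0x231) (.leaf 0))) (.node (.node (.leaf 0x100165) (.leaf 0)) (.node (.leaf 0x100328) (.leaf 0))))))))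

/-- part of a tree -/
def node8L0tree5 : Trie :=
  (.node (.node (.node (.node (.node (.node (.node (.leaf 0x3) (.leaf 0x100336)) (.node (.leaf 0x10016e) (.leaf 0))) (.node (.node (.leaf 0x1000aa) (.leaf 0)) (.node (.leaf 0x23b) (.leaf 0)))) (.node (.node (.node (.leaf 0x55) (.leaf 0x3d5)) (.node (.leaf 0x1001d3) (.leaf 0))) (.node (.node (.leaf 0x10010d) (.leaf 0)) (.node (.leaf 0x1002a8) (.leaf 0))))) (.node (.node (.node (.node (.leaf 0x2b) (.leaf 0x100382)) (.node (.leaf 0x10019f) (.leaf 0))) (.node (.node (.leaf 0x1000d9) (.leaf 0)) (.node (.leaf 0x100271) (.leaf 0)))) (.node (.node (.node (.leaf 0x80) (.leaf 0x442)) (.node (.leaf 0x100204) (.leaf 0))) (.node (.node (.leaf 0x10013d) (.leaf 0)) (.node (.leaf 0x1002f3) (.leaf 0)))))) (.node (.node (.node (.node (.node (.leaf 0x100017) (.leaf 0x357)) (.node (.leaf 0x185) (.leaf 0))) (.node (.node (.leaf 0xc1) (.leaf 0)) (.node (.leaf 0x100256) (.leaf 0)))) (.node (.node (.node (.leaf 0x100069) (.leaf 0x406)) (.node (.leaf 0x1001ea)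 (.leaf 0))) (.node (.node (.leaf 0x126) (.leaf 0)) (.node (.leaf 0x1002cd) (.leaf 0))))) (.node (.node (.node (.node (.leaf 0x10003f) (.leaf 0x1003ab)) (.node (.leaf 0x1001b7) (.leaf 0))) (.node (.node (.leaf 0x1000f3) (.leaf 0)) (.node (.leaf 0x28d) (.leaf 0)))) (.node (.node (.node (.leaf 0x96) (.leaf 0x482)) (.node (.leaf 0x10021f) (.leaf 0))) (.node (.node (.leaf 0x156) (.leaf 0)) (.node (.leaf 0x100316) (.leaf 0))))))) (.node (.node (.node (.node (.node (.node (.leaf 0x10000d) (.leaf 0x100345)) (.node (.leaf 0x100178) (.leaf 0))) (.node (.node (.leaf 0x1000b5) (.leaf 0)) (.node (.leaf 0x10024a) (.leaf 0)))) (.node (.node (.node (.leaf 0x10005e) (.leaf 0x1003f3)) (.node (.leaf 0x1df) (.leaf 0))) (.node (.node (.leaf 0x10011b) (.leaf 0)) (.node (.leaf 0x1002b8) (.leaf 0))))) (.node (.node (.node (.node (.leaf 0x100035) (.leaf 0x100398)) (.node (.leaf 0x1001ac) (.leaf 0))) (.node (.node (.leaf 0xe6) (.leaf 0)) (.node (.leaf 0x280) (.leaf 0)))) (.node (.node (.node (.leaf 0x8b)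 (.leaf 0x100465)) (.node (.leaf 0x212) (.leaf 0))) (.node (.node (.leaf 0x10014b) (.leaf 0)) (.node (.leaf 0x100303) (.leaf 0)))))) (.node (.node (.node (.node (.node (.leaf 0x100021) (.leaf 0x10036a)) (.node (.leaf 0x100192) (.leaf 0))) (.node (.node (.leaf 0xcc) (.leaf 0)) (.node (.leaf 0x100263) (.leaf 0)))) (.node (.node (.node (.leaf 0x100075) (.leaf 0x10041d)) (.node (.leaf 0x1001f5) (.leaf 0))) (.node (.node (.leaf 0x100130) (.leaf 0)) (.node (.leaf 0x2e2) (.leaf 0))))) (.node (.node (.node (.node (.leaf 0x100049) (.leaf 0x1003c0)) (.node (.leaf 0x1001c7) (.leaf 0))) (.node (.node (.leaf 0x101) (.leaf 0)) (.node (.leaf 0x10029a) (.leaf 0)))) (.node (.node (.node (.leaf 0x1000a0) (.leaf 0x1004be)) (.node (.leaf 0x10022e) (.leaf 0))) (.node (.node (.leaf 0x100163) (.leaf 0)) (.node (.leaf 0x325) (.leaf 0))))))))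

/-- part of a tree -/
def node8L0tree13 : Trie :=
  (.node (.node (.node (.node (.node (.node (.node (.leaf 0x8) (.leaf 0x10033c)) (.node (.leaf 0x173) (.leaf 0))) (.node (.node (.leaf 0x1000af) (.leaf 0)) (.node (.leaf 0x10023f) (.leaf 0)))) (.node (.node (.node (.leaf 0x100059) (.leaf 0x3e5)) (.node (.leaf 0x1001d9) (.leaf 0))) (.node (.node (.leaf 0x100112) (.leaf 0)) (.node (.leaf 0x2b0) (.leaf 0))))) (.node (.node (.node (.node (.leaf 0x31) (.leaf 0x38e)) (.node (.leaf 0x1001a6) (.leaf 0))) (.node (.node (.leaf 0xe0) (.leaf 0)) (.node (.leaf 0x100277) (.leaf 0)))) (.node (.node (.node (.leaf 0x86) (.leaf 0x100458)) (.node (.leaf 0x20b) (.leaf 0))) (.node (.node (.leaf 0x145) (.leaf 0)) (.node (.leaf 0x2fc) (.leaf 0)))))) (.node (.node (.node (.node (.node (.leaf 0x10001c) (.leaf 0x35e)) (.node (.leaf 0x10018a) (.leaf 0))) (.node (.node (.leaf 0xc7) (.leaf 0)) (.node (.leaf 0x25c) (.leaf 0)))) (.node (.node (.node (.leaf 0x6f) (.leaf 0x100413)) (.node (.leaf 0x1f1) (.leaf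 0))) (.node (.node (.leaf 0x12b) (.leaf 0)) (.node (.leaf 0x1002d6) (.leaf 0))))) (.node (.node (.node (.node (.leaf 0x100045) (.leaf 0x1003b6)) (.node (.leaf 0x1001c1) (.leaf 0))) (.node (.node (.leaf 0x1000fb) (.leaf 0)) (.node (.leaf 0x100293) (.leaf 0)))) (.node (.node (.node (.leaf 0x10009b) (.leaf 0x100494)) (.node (.leaf 0x100226) (.leaf 0))) (.node (.node (.leaf 0x15e) (.leaf 0)) (.node (.leaf 0x10031b) (.leaf 0))))))) (.node (.node (.node (.node (.node (.node (.leaf 0x100012) (.leaf 0x10034f)) (.node (.leaf 0x17e) (.leaf 0))) (.node (.node (.leaf 0xbb) (.leaf 0)) (.node (.leaf 0x100250) (.leaf 0)))) (.node (.node (.node (.leaf 0x100064) (.leaf 0x3fe)) (.node (.leaf 0x1001e4) (.leaf 0))) (.node (.node (.leaf 0x120) (.leaf 0)) (.node (.leaf 0x1002c0) (.leaf 0))))) (.node (.node (.node (.node (.leaf 0x10003a) (.leaf 0x1003a1)) (.node (.leaf 0x1b2) (.leaf 0))) (.node (.node (.leaf 0x1000ec) (.leaf 0)) (.node (.leaf 0x100285) (.leaf 0)))) (.node (.node (.node (.leaf 0x90) (.leaf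 0x100471)) (.node (.leaf 0x100218) (.leaf 0))) (.node (.node (.leaf 0x100150) (.leaf 0)) (.node (.leaf 0x10030c) (.leaf 0)))))) (.node (.node (.node (.node (.node (.leaf 0x100026) (.leaf 0x375)) (.node (.leaf 0x198) (.leaf 0))) (.node (.node (.leaf 0x1000d1) (.leaf 0)) (.node (.leaf 0x26c) (.leaf 0)))) (.node (.node (.node (.leaf 0x10007a) (.leaf 0x100430)) (.node (.leaf 0x1001fd) (.leaf 0))) (.node (.node (.leaf 0x136) (.leaf 0)) (.node (.leaf 0x2e9) (.leaf 0))))) (.node (.node (.node (.node (.leaf 0x50) (.leaf 0x1003ca)) (.node (.leaf 0x1cc) (.leaf 0))) (.node (.node (.leaf 0x100106) (.leaf 0)) (.node (.leaf 0x1002a1) (.leaf 0)))) (.node (.node (.node (.leaf 0xa5) (.leaf 0x1004f0)) (.node (.leaf 0x234) (.leaf 0))) (.node (.node (.leaf 0x168) (.leaf 0)) (.node (.leaf 0x10032c) (.leaf 0))))))))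

/-- part of a tree -/
def node8L0tree3 : Trie :=
  (.node (.node (.node (.node (.node (.node (.node (.leaf 0x100001) (.leaf 0x100335)) (.node (.leaf 0x10016c) (.leaf 0))) (.node (.node (.leaf 0xa9) (.leaf 0)) (.node (.leaf 0x100238) (.leaf 0)))) (.node (.node (.node (.leaf 0x100053) (.leaf 0x3d4)) (.node (.leaf 0x1d1) (.leaf 0))) (.node (.node (.leaf 0x10010b) (.leaf 0)) (.node (.leaf 0x2a7) (.leaf 0))))) (.node (.node (.node (.node (.leaf 0x2a) (.leaf 0x37d)) (.node (.leaf 0x19e) (.leaf 0))) (.node (.node (.leaf 0x1000d6) (.leaf 0)) (.node (.leaf 0x100270) (.leaf 0)))) (.node (.node (.node (.leaf 0x10007e) (.leaf 0x10043a)) (.node (.leaf 0x100203) (.leaf 0))) (.node (.node (.leaf 0x10013c) (.leaf 0)) (.node (.leaf 0x1002ef) (.leaf 0)))))) (.node (.node (.node (.node (.node (.leaf 0x100016) (.leaf 0x354)) (.node (.leaf 0x100183) (.leaf 0))) (.node (.node (.leaf 0x1000bf) (.leaf 0)) (.node (.leaf 0x100255) (.leaf 0)))) (.node (.node (.node (.leaf 0x100068) (.leaf 0x405)) (.node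 (.leaf 0x1e9) (.leaf 0))) (.node (.node (.leaf 0x100124) (.leaf 0)) (.node (.leaf 0x1002c9) (.leaf 0))))) (.node (.node (.node (.node (.leaf 0x10003e) (.leaf 0x1003a9)) (.node (.leaf 0x1b6) (.leaf 0))) (.node (.node (.leaf 0xf2) (.leaf 0)) (.node (.leaf 0x10028b) (.leaf 0)))) (.node (.node (.node (.leaf 0x100094) (.leaf 0x47f)) (.node (.leaf 0x10021e) (.leaf 0))) (.node (.node (.leaf 0x100154) (.leaf 0)) (.node (.leaf 0x100313) (.leaf 0))))))) (.node (.node (.node (.node (.node (.node (.leaf 0x10000b) (.leaf 0x100343)) (.node (.leaf 0x100177) (.leaf 0))) (.node (.node (.leaf 0x1000b4) (.leaf 0)) (.node (.leaf 0x246) (.leaf 0)))) (.node (.node (.node (.leaf 0x10005d) (.leaf 0x1003f1)) (.node (.leaf 0x1de) (.leaf 0))) (.node (.node (.leaf 0x100118) (.leaf 0)) (.node (.leaf 0x2b5) (.leaf 0))))) (.node (.node (.node (.node (.leaf 0x100034) (.leaf 0x397)) (.node (.leaf 0x1001ab) (.leaf 0))) (.node (.node (.leaf 0x1000e3) (.leaf 0)) (.node (.leaf 0x10027e) (.leaf 0)))) (.node (.node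 (.node (.leaf 0x100089) (.leaf 0x10045d)) (.node (.leaf 0x100210) (.leaf 0))) (.node (.node (.leaf 0x100149) (.leaf 0)) (.node (.leaf 0x100301) (.leaf 0)))))) (.node (.node (.node (.node (.node (.leaf 0x20) (.leaf 0x100368)) (.node (.leaf 0x191) (.leaf 0))) (.node (.node (.leaf 0x1000ca) (.leaf 0)) (.node (.leaf 0x262) (.leaf 0)))) (.node (.node (.node (.leaf 0x100073) (.leaf 0x100419)) (.node (.leaf 0x1001f4) (.leaf 0))) (.node (.node (.leaf 0x10012f) (.leaf 0)) (.node (.leaf 0x2e1) (.leaf 0))))) (.node (.node (.node (.node (.leaf 0x100048) (.leaf 0x1003bc)) (.node (.leaf 0x1001c6) (.leaf 0))) (.node (.node (.leaf 0x1000ff) (.leaf 0)) (.node (.leaf 0x299) (.leaf 0)))) (.node (.node (.node (.leaf 0x9f) (.leaf 0x1004af)) (.node (.leaf 0x22b) (.leaf 0))) (.node (.node (.leaf 0x162) (.leaf 0)) (.node (.leaf 0x100323) (.leaf 0))))))))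

/-- part of a tree -/
def node8L0tree11 : Trie :=
  (.node (.node (.node (.node (.node (.node (.node (.leaf 0x100006) (.leaf 0x10033b)) (.node (.leaf 0x100171) (.leaf 0))) (.node (.node (.leaf 0x1000ae) (.leaf 0)) (.node (.leaf 0x10023e) (.leaf 0)))) (.node (.node (.node (.leaf 0x100058) (.leaf 0x1003e0)) (.node (.leaf 0x1001d7) (.leaf 0))) (.node (.node (.leaf 0x100111) (.leaf 0)) (.node (.leaf 0x1002ae) (.leaf 0))))) (.node (.node (.node (.node (.leaf 0x10002f) (.leaf 0x38b)) (.node (.leaf 0x1001a5) (.leaf 0))) (.node (.node (.leaf 0x1000de) (.leaf 0)) (.node (.leaf 0x100276) (.leaf 0)))) (.node (.node (.node (.leaf 0x100084) (.leaf 0x451)) (.node (.leaf 0x209) (.leaf 0))) (.node (.node (.leaf 0x100143) (.leaf 0)) (.node (.leaf 0x1002fa) (.leaf 0)))))) (.node (.node (.node (.node (.node (.leaf 0x10001b) (.leaf 0x10035c)) (.node (.leaf 0x100189) (.leaf 0))) (.node (.node (.leaf 0x1000c4) (.leaf 0)) (.node (.leaf 0x10025a) (.leaf 0)))) (.node (.node (.node (.leaf 0x10006d) (.leaf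 0x100410)) (.node (.leaf 0x1001ef) (.leaf 0))) (.node (.node (.leaf 0x100129) (.leaf 0)) (.node (.leaf 0x1002d3) (.leaf 0))))) (.node (.node (.node (.node (.leaf 0x44) (.leaf 0x1003b4)) (.node (.leaf 0x1bf) (.leaf 0))) (.node (.node (.leaf 0x1000fa) (.leaf 0)) (.node (.leaf 0x292) (.leaf 0)))) (.node (.node (.node (.leaf 0x9a) (.leaf 0x100490)) (.node (.leaf 0x100224) (.leaf 0))) (.node (.node (.leaf 0x10015a) (.leaf 0)) (.node (.leaf 0x31a) (.leaf 0))))))) (.node (.node (.node (.node (.node (.node (.leaf 0x11) (.leaf 0x34d)) (.node (.leaf 0x10017c) (.leaf 0))) (.node (.node (.leaf 0x1000b9) (.leaf 0)) (.node (.leaf 0x10024f) (.leaf 0)))) (.node (.node (.node (.leaf 0x63) (.leaf 0x3fd)) (.node (.leaf 0x1001e3) (.leaf 0))) (.node (.node (.leaf 0x11f) (.leaf 0)) (.node (.leaf 0x2bf) (.leaf 0))))) (.node (.node (.node (.node (.leaf 0x100039) (.leaf 0x39d)) (.node (.leaf 0x1b1) (.leaf 0))) (.node (.node (.leaf 0x1000ea) (.leaf 0)) (.node (.leaf 0x100284) (.leaf 0)))) (.node (.node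 (.node (.leaf 0x10008e) (.leaf 0x10046f)) (.node (.leaf 0x217) (.leaf 0))) (.node (.node (.leaf 0x14f) (.leaf 0)) (.node (.leaf 0x100309) (.leaf 0)))))) (.node (.node (.node (.node (.node (.leaf 0x25) (.leaf 0x100372)) (.node (.leaf 0x100196) (.leaf 0))) (.node (.node (.leaf 0x1000cf) (.leaf 0)) (.node (.leaf 0x100269) (.leaf 0)))) (.node (.node (.node (.leaf 0x100079) (.leaf 0x100427)) (.node (.leaf 0x1fb) (.leaf 0))) (.node (.node (.leaf 0x100134) (.leaf 0)) (.node (.leaf 0x1002e7) (.leaf 0))))) (.node (.node (.node (.node (.leaf 0x4e) (.leaf 0x3c9)) (.node (.leaf 0x1cb) (.leaf 0))) (.node (.node (.leaf 0x100104) (.leaf 0)) (.node (.leaf 0x10029f) (.leaf 0)))) (.node (.node (.node (.leaf 0x1000a3) (.leaf 0x1004e4)) (.node (.leaf 0x232) (.leaf 0))) (.node (.node (.leaf 0x100166) (.leaf 0)) (.node (.leaf 0x10032b) (.leaf 0))))))))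

/-- part of a tree -/
def node8L0tree7 : Trie :=
  (.node (.node (.node (.node (.node (.node (.node (.leaf 0x4) (.leaf 0x100339)) (.node (.leaf 0x10016f) (.leaf 0))) (.node (.node (.leaf 0xac) (.leaf 0)) (.node (.leaf 0x23c) (.leaf 0)))) (.node (.node (.node (.leaf 0x56) (.leaf 0x1003d9)) (.node (.leaf 0x1001d4) (.leaf 0))) (.node (.node (.leaf 0x10010e) (.leaf 0)) (.node (.leaf 0x2aa) (.leaf 0))))) (.node (.node (.node (.node (.leaf 0x10002c) (.leaf 0x384)) (.node (.leaf 0x1a2) (.leaf 0))) (.node (.node (.leaf 0xdb) (.leaf 0)) (.node (.leaf 0x273) (.leaf 0)))) (.node (.node (.node (.leaf 0x100081) (.leaf 0x100446)) (.node (.leaf 0x100205) (.leaf 0))) (.node (.node (.leaf 0x10013e) (.leaf 0)) (.node (.leaf 0x1002f7) (.leaf 0)))))) (.node (.node (.node (.node (.node (.leaf 0x100018) (.leaf 0x359)) (.node (.leaf 0x100186) (.leaf 0))) (.node (.node (.leaf 0x1000c2) (.leaf 0)) (.node (.leaf 0x258) (.leaf 0)))) (.node (.node (.node (.leaf 0x10006a) (.leaf 0x10040b)) (.node (.leaf 0x1001ec)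 (.leaf 0))) (.node (.node (.leaf 0x127) (.leaf 0)) (.node (.leaf 0x1002d0) (.leaf 0))))) (.node (.node (.node (.node (.leaf 0x41) (.leaf 0x1003ad)) (.node (.leaf 0x1bb) (.leaf 0))) (.node (.node (.leaf 0x1000f5) (.leaf 0)) (.node (.leaf 0x10028f) (.leaf 0)))) (.node (.node (.node (.leaf 0x100097) (.leaf 0x100486)) (.node (.leaf 0x100221) (.leaf 0))) (.node (.node (.leaf 0x100157) (.leaf 0)) (.node (.leaf 0x100317) (.leaf 0))))))) (.node (.node (.node (.node (.node (.node (.leaf 0x10000e) (.leaf 0x34a)) (.node (.leaf 0x100179) (.leaf 0))) (.node (.node (.leaf 0x1000b6) (.leaf 0)) (.node (.leaf 0x10024b) (.leaf 0)))) (.node (.node (.node (.leaf 0x60) (.leaf 0x1003f7)) (.node (.leaf 0x1e1) (.leaf 0))) (.node (.node (.leaf 0x10011c) (.leaf 0)) (.node (.leaf 0x1002ba) (.leaf 0))))) (.node (.node (.node (.node (.leaf 0x37) (.leaf 0x100399)) (.node (.leaf 0x1ae) (.leaf 0))) (.node (.node (.leaf 0xe7) (.leaf 0)) (.node (.leaf 0x100281) (.leaf 0)))) (.node (.node (.node (.leaf 0x10008c)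 (.leaf 0x10046a)) (.node (.leaf 0x213) (.leaf 0))) (.node (.node (.leaf 0x10014c) (.leaf 0)) (.node (.leaf 0x100306) (.leaf 0)))))) (.node (.node (.node (.node (.node (.leaf 0x100022) (.leaf 0x36e)) (.node (.leaf 0x100193) (.leaf 0))) (.node (.node (.leaf 0x1000cd) (.leaf 0)) (.node (.leaf 0x100265) (.leaf 0)))) (.node (.node (.node (.leaf 0x77) (.leaf 0x100421)) (.node (.leaf 0x1f7) (.leaf 0))) (.node (.node (.leaf 0x132) (.leaf 0)) (.node (.leaf 0x1002e4) (.leaf 0))))) (.node (.node (.node (.node (.leaf 0x10004b) (.leaf 0x3c4)) (.node (.leaf 0x1001c8) (.leaf 0))) (.node (.node (.leaf 0x102) (.leaf 0)) (.node (.leaf 0x10029b) (.leaf 0)))) (.node (.node (.node (.leaf 0x1000a1) (.leaf 0x1004c2)) (.node (.leaf 0x10022f) (.leaf 0))) (.node (.node (.leaf 0x100164) (.leaf 0)) (.node (.leaf 0x100326) (.leaf 0))))))))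

/-- part of a tree -/
def node8L0tree15 : Trie :=
  (.node (.node (.node (.node (.node (.node (.node (.leaf 0x9) (.leaf 0x33e)) (.node (.leaf 0x174) (.leaf 0))) (.node (.node (.leaf 0xb1) (.leaf 0)) (.node (.leaf 0x100241) (.leaf 0)))) (.node (.node (.node (.leaf 0x5b) (.leaf 0x1003ea)) (.node (.leaf 0x1001db) (.leaf 0))) (.node (.node (.leaf 0x115) (.leaf 0)) (.node (.leaf 0x1002b2) (.leaf 0))))) (.node (.node (.node (.node (.leaf 0x32) (.leaf 0x391)) (.node (.leaf 0x1a9) (.leaf 0))) (.node (.node (.leaf 0x1000e1) (.leaf 0)) (.node (.leaf 0x100279) (.leaf 0)))) (.node (.node (.node (.leaf 0x100087) (.leaf 0x100459)) (.node (.leaf 0x20c) (.leaf 0))) (.node (.node (.leaf 0x146) (.leaf 0)) (.node (.leaf 0x1002fe) (.leaf 0)))))) (.node (.node (.node (.node (.node (.leaf 0x10001d) (.leaf 0x100361)) (.node (.leaf 0x10018d) (.leaf 0))) (.node (.node (.leaf 0xc8) (.leaf 0)) (.node (.leaf 0x25e) (.leaf 0)))) (.node (.node (.node (.leaf 0x100070) (.leaf 0x415)) (.node (.leaf 0x1f2) (.leaf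 0))) (.node (.node (.leaf 0x12c) (.leaf 0)) (.node (.leaf 0x2d9) (.leaf 0))))) (.node (.node (.node (.node (.leaf 0x100046) (.leaf 0x3b9)) (.node (.leaf 0x1001c2) (.leaf 0))) (.node (.node (.leaf 0x1000fc) (.leaf 0)) (.node (.leaf 0x100296) (.leaf 0)))) (.node (.node (.node (.leaf 0x10009c) (.leaf 0x10049e)) (.node (.leaf 0x229) (.leaf 0))) (.node (.node (.leaf 0x10015f) (.leaf 0)) (.node (.leaf 0x10031e) (.leaf 0))))))) (.node (.node (.node (.node (.node (.node (.leaf 0x14) (.leaf 0x100351)) (.node (.leaf 0x100180) (.leaf 0))) (.node (.node (.leaf 0x1000bc) (.leaf 0)) (.node (.leaf 0x100251) (.leaf 0)))) (.node (.node (.node (.leaf 0x100065) (.leaf 0x3ff)) (.node (.leaf 0x1e6) (.leaf 0))) (.node (.node (.leaf 0x100121) (.leaf 0)) (.node (.leaf 0x1002c2) (.leaf 0))))) (.node (.node (.node (.node (.leaf 0x3c) (.leaf 0x1003a6)) (.node (.leaf 0x1b3) (.leaf 0))) (.node (.node (.leaf 0xef) (.leaf 0)) (.node (.leaf 0x287) (.leaf 0)))) (.node (.node (.node (.leaf 0x91) (.leaf 0x475))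 (.node (.leaf 0x10021a) (.leaf 0))) (.node (.node (.leaf 0x100152) (.leaf 0)) (.node (.leaf 0x30f) (.leaf 0)))))) (.node (.node (.node (.node (.node (.leaf 0x100027) (.leaf 0x100377)) (.node (.leaf 0x10019b) (.leaf 0))) (.node (.node (.leaf 0xd3) (.leaf 0)) (.node (.leaf 0x26d) (.leaf 0)))) (.node (.node (.node (.leaf 0x7c) (.leaf 0x100434)) (.node (.leaf 0x1001ff) (.leaf 0))) (.node (.node (.leaf 0x100137) (.leaf 0)) (.node (.leaf 0x1002eb) (.leaf 0))))) (.node (.node (.node (.node (.leaf 0x51) (.leaf 0x1003ce)) (.node (.leaf 0x1001cd) (.leaf 0))) (.node (.node (.leaf 0x108) (.leaf 0)) (.node (.leaf 0x1002a2) (.leaf 0)))) (.node (.node (.node (.leaf 0x1000a6) (.leaf 0x1004f9)) (.node (.leaf 0x100235) (.leaf 0))) (.node (.node (.leaf 0x100169) (.leaf 0)) (.node (.leaf 0x10032e) (.leaf 0))))))))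

/-- a tree -/
def node8L0tree : Trie :=
  (.node (.node (.node (.node node8L0tree0 node8L0tree8) (.node node8L0tree4 node8L0tree12)) (.node (.node node8L0tree2 node8L0tree10) (.node node8L0tree6 node8L0tree14))) (.node (.node (.node node8L0tree1 node8L0tree9) (.node node8L0tree5 node8L0tree13)) (.node (.node node8L0tree3 node8L0tree11) (.node node8L0tree7 node8L0tree15))))

/-- part of transversal words -/
def node8L0word0 : Trie :=
  (.node (.node (.node (.node (.node (.node (.node (.leaf 0x0) (.leaf 0x2bad492baebb2b)) (.node (.leaf 0x75d6eb52530b659) (.leaf 0))) (.node (.node (.leaf 0x95b51592b74c859) (.leaf 0)) (.node (.leaf 0x145134d430b2ebb2c) (.leaf 0)))) (.node (.node (.node (.leaf 0x115922b2c4ec94b) (.leaf 0x5962b226d32dbaec)) (.node (.leaf 0xa596430b75d959) (.leaf 0))) (.node (.node (.leaf 0x1a90b75d2db) (.leaf 0)) (.node (.leaf 0x1a89baec89baec85b) (.leaf 0))))) (.node (.node (.node (.node (.leaf 0x158a58ac89b2cc30c) (.leaf 0x89a6ac52c94ca64)) (.node (.leaf 0x12b564b242ccb2cb0c)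 (.leaf 0))) (.node (.node (.leaf 0x256d4a6594b) (.leaf 0)) (.node (.leaf 0x4ebada6596ebacc) (.leaf 0)))) (.node (.node (.node (.leaf 0x1d529) (.leaf 0xaeb52cb2cacb)) (.node (.leaf 0xeb321764a5b) (.leaf 0))) (.node (.node (.leaf 0x369d9619616ec) (.leaf 0)) (.node (.leaf 0x292c9132cc30cb0c) (.leaf 0)))))) (.node (.node (.node (.node (.node (.leaf 0x148a26abaec8642cb) (.leaf 0x44da75a6ea90b65d)) (.node (.leaf 0xb2269ab0c2eb765) (.leaf 0))) (.node (.node (.leaf 0x269d962953add865) (.leaf 0)) (.node (.leaf 0x8ab7656cc859) (.leaf 0)))) (.node (.node (.node (.leaf 0x296265d6e96eb) (.leaf 0x296495d6d3325759)) (.node (.leaf 0x9d9226996e96cb) (.leaf 0))) (.node (.node (.leaf 0x6d491374b66590b) (.leaf 0)) (.node (.leaf 0x36abb2c864b2c) (.leaf 0))))) (.node (.node (.node (.node (.leaf 0xa4564964adb32c) (.leaf 0x26d56ecb2c965325)) (.node (.leaf 0x1451575bb2274b) (.leaf 0))) (.node (.node (.leaf 0x15914b2c89d6eba5b) (.leaf 0)) (.node (.leaf 0x122add75a90ca5b) (.leaf 0)))) (.node (.node (.node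 (.leaf 0x92269d75d6996eb) (.leaf 0x562adb3216cc)) (.node (.leaf 0x8ab4da92c94ca64) (.leaf 0))) (.node (.node (.leaf 0x1595b52c95bb0c) (.leaf 0)) (.node (.leaf 0x34d496574b2db) (.leaf 0))))))) (.node (.node (.node (.node (.node (.node (.leaf 0xacada92cada861) (.leaf 0x48a289aaebaecb0c)) (.node (.leaf 0x89b4dd74b321859) (.leaf 0))) (.node (.node (.leaf 0x69a6a296532530c) (.leaf 0)) (.node (.leaf 0x6d4b2296292b325) (.leaf 0)))) (.node (.node (.node (.leaf 0x9b52289d6d375d74c) (.leaf 0xb244d56ecaa4b0b)) (.node (.leaf 0x259159226ccad96eb) (.leaf 0))) (.node (.node (.leaf 0x1375b2cb2dd6ec) (.leaf 0)) (.node (.leaf 0x91575b52194b) (.leaf 0))))) (.node (.node (.node (.node (.leaf 0x12c4eb74b75b30c) (.leaf 0xecb2c8a1864b25)) (.node (.leaf 0x14b2292c2dd665) (.leaf 0))) (.node (.node (.leaf 0x124aebada92a8652d9) (.leaf 0)) (.node (.leaf 0x5226ccaebadbb25) (.leaf 0)))) (.node (.node (.node (.leaf 0x514564964b2190b) (.leaf 0xadd6d595d69990c)) (.node (.leaf 0x48ac962859664) (.leaf 0))) (.node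 (.node (.leaf 0x256d45216ccb29) (.leaf 0)) (.node (.leaf 0xb2c9626ea66430c) (.leaf 0)))))) (.node (.node (.node (.node (.node (.leaf 0x3525913761659) (.leaf 0x456452589bad96e9)) (.node (.leaf 0x29649644cb75d759) (.leaf 0))) (.node (.node (.leaf 0x495bad4964529929) (.leaf 0)) (.node (.leaf 0x451369aaeba5bad9) (.leaf 0)))) (.node (.node (.node (.leaf 0x292c2eb2d9964) (.leaf 0x754)) (.node (.leaf 0x275a92575a759965) (.leaf 0))) (.node (.node (.leaf 0x1256eb32592c94c) (.leaf 0)) (.node (.leaf 0xaa16cca65) (.leaf 0))))) (.node (.node (.node (.node (.leaf 0x4564b257532e992c) (.leaf 0x1451575bb2174b)) (.node (.leaf 0x352591376165d) (.leaf 0))) (.node (.node (.leaf 0x1591592c89d2ec) (.leaf 0)) (.node (.leaf 0x2764b226eb2db) (.leaf 0)))) (.node (.node (.node (.leaf 0x4d36a4a642dd2ec) (.leaf 0xa2ada6ea92c2cb)) (.node (.leaf 0x9a8a495365b321) (.leaf 0))) (.node (.node (.leaf 0xac8a4b2175badb) (.leaf 0)) (.node (.leaf 0x1352c8a4b2175b2db) (.leaf 0))))))))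

/-- part of transversal words -/
def node8L0word8 : Trie :=
  (.node (.node (.node (.node (.node (.node (.node (.leaf 0x1144d495494c865) (.leaf 0x269d962953add861)) (.node (.leaf 0x4ecb2274bb2c859) (.leaf 0))) (.node (.node (.leaf 0x226a44da6a596595b) (.leaf 0)) (.node (.leaf 0xb2c8a4b132d9961) (.leaf 0)))) (.node (.node (.node (.leaf 0x9d91592c4eb2dd) (.leaf 0xa26ec90c864b2b)) (.node (.leaf 0x1492b32532b659) (.leaf 0))) (.node (.node (.leaf 0x36642ebb29) (.leaf 0)) (.node (.leaf 0x452baebad4a61) (.leaf 0))))) (.node (.node (.node (.node (.leaf 0x2964b1369990ca61) (.leaf 0x564ada759964a65)) (.node (.leaf 0x2b22adbad485d) (.leaf 0))) (.node (.node (.leaf 0x12b6a592b74c859) (.leaf 0)) (.node (.leaf 0x14914524b2c95b2eb) (.leaf 0)))) (.node (.node (.node (.leaf 0x26a592a75b325) (.leaf 0x289badaadd66194c)) (.node (.leaf 0x144ec89d90cadd) (.leaf 0))) (.node (.node (.leaf 0x56d49654dd761) (.leaf 0)) (.node (.leaf 0x11369b75bb2c) (.leaf 0)))))) (.node (.node (.node (.node (.node (.leaf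 0x13ad492bacb74cb0b) (.leaf 0xd495b4d450b2eb74b)) (.node (.leaf 0x26eb6659656e9) (.leaf 0))) (.node (.node (.leaf 0x256d375b2cb65990c) (.leaf 0)) (.node (.leaf 0x2576592b6cb759) (.leaf 0)))) (.node (.node (.node (.leaf 0x36a292269d75ba5d) (.leaf 0x49648a4b2165b74c)) (.node (.leaf 0x89d2eca61) (.leaf 0))) (.node (.node (.leaf 0x5256ab32c30b2cc) (.leaf 0)) (.node (.leaf 0x4d496432585b74c) (.leaf 0))))) (.node (.node (.node (.node (.leaf 0x2b75b4cb2dd6ec) (.leaf 0x2b5244d3664a5b759)) (.node (.leaf 0x5626d3accb0c95b) (.leaf 0))) (.node (.node (.leaf 0x5964b13aea6dd90c) (.leaf 0)) (.node (.leaf 0x16591496194b6e9) (.leaf 0)))) (.node (.node (.node (.leaf 0x1ba5ba5b) (.leaf 0x51355a92c4dd929)) (.node (.leaf 0xa489ba5d2cc865) (.leaf 0))) (.node (.node (.leaf 0x1591591485d2ec) (.leaf 0)) (.node (.leaf 0xa289d69a96589d659) (.leaf 0))))))) (.node (.node (.node (.node (.node (.node (.leaf 0x1134da94c85d6cb) (.leaf 0x2c9148a275b4ebacb)) (.node (.leaf 0x95d6d369d6ec85d) (.leaf 0))) (.node (.node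 (.leaf 0x248a452566590c94b) (.leaf 0)) (.node (.leaf 0xa4b24525954864b21) (.leaf 0)))) (.node (.node (.node (.leaf 0xa495a9629132d9961) (.leaf 0x5144dd96585d6cbb25)) (.node (.leaf 0x922914b13add2cc) (.leaf 0))) (.node (.node (.leaf 0x8ac564b0ca59664) (.leaf 0)) (.node (.leaf 0x2269d6d432cb2532c) (.leaf 0))))) (.node (.node (.node (.node (.leaf 0x1496592c2dd764b2c) (.leaf 0x452c56432175bacb)) (.node (.leaf 0x352292592b75a961) (.leaf 0))) (.node (.node (.leaf 0x249626e96eb759) (.leaf 0)) (.node (.leaf 0xd34d4b156eb75d664) (.leaf 0)))) (.node (.node (.node (.leaf 0xa4ada6e994cb2c) (.leaf 0x1492b32c32574b)) (.node (.leaf 0x8ac8ac964aea664) (.leaf 0))) (.node (.node (.leaf 0x1489a6eca64b0c) (.leaf 0)) (.node (.leaf 0xa2962964b256d990c) (.leaf 0)))))) (.node (.node (.node (.node (.node (.leaf 0x14564b13add2dd75d) (.leaf 0x914add6d3759)) (.node (.leaf 0x12cadd6a192cb2c) (.leaf 0))) (.node (.node (.leaf 0x9a8a4a996cca61) (.leaf 0)) (.node (.leaf 0x50b664acc) (.leaf 0)))) (.node (.node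 (.node (.leaf 0x1d6d4521864add) (.leaf 0xa275d9656ec)) (.node (.leaf 0x4d352c89d6dd2dd) (.leaf 0))) (.node (.node (.leaf 0x29134dab2baebacc) (.leaf 0)) (.node (.leaf 0x26a592975b325) (.leaf 0))))) (.node (.node (.node (.node (.leaf 0x24ada96485d2dd65d) (.leaf 0x762b1365ba5b)) (.node (.leaf 0xa289a6ac52ca6590b) (.leaf 0))) (.node (.node (.leaf 0xa292591489986192c) (.leaf 0)) (.node (.leaf 0xa26d49542dd94c) (.leaf 0)))) (.node (.node (.node (.leaf 0xdaaecb2c4dd6cc) (.leaf 0x455d6d49654dd761)) (.node (.leaf 0x489d6d494c859) (.leaf 0))) (.node (.node (.leaf 0x11365b75bb2c) (.leaf 0)) (.node (.leaf 0x564b156eb69b75b) (.leaf 0))))))))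

/-- part of transversal words -/
def node8L0word4 : Trie :=
  (.node (.node (.node (.node (.node (.node (.node (.leaf 0x226d365d2dd75d) (.leaf 0x244da69a964325659)) (.node (.leaf 0x2c92cb2c86430badd) (.leaf 0))) (.node (.node (.leaf 0x136a4b2965b321) (.leaf 0)) (.node (.leaf 0x14b226ebb25329) (.leaf 0)))) (.node (.node (.node (.leaf 0xa26a4a9d6eca61) (.leaf 0x514ada6cc2cb2dd)) (.node (.leaf 0x24ad3add69b325965) (.leaf 0))) (.node (.node (.leaf 0x456456590baeba64) (.leaf 0)) (.node (.leaf 0x49145134ccb256ec) (.leaf 0))))) (.node (.node (.node (.node (.leaf 0x149645256a590bae9) (.leaf 0xeb51494badd961)) (.node (.leaf 0x491592575a90ca5b) (.leaf 0))) (.node (.node (.leaf 0x11365b75bb0c) (.leaf 0)) (.node (.leaf 0x56abada69b761659) (.leaf 0)))) (.node (.node (.node (.leaf 0x45648a289975ba5b) (.leaf 0x256d49656d4a61)) (.node (.leaf 0xa59148a432c86592c) (.leaf 0))) (.node (.node (.leaf 0x226d369a6d494cb2c) (.leaf 0)) (.node (.leaf 0x292b52c5256dd2cb) (.leaf 0)))))) (.node (.node (.node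 (.node (.node (.leaf 0x289a6a595365d2db) (.leaf 0x13564b1591365992c)) (.node (.leaf 0xa2764a5d6eca61) (.leaf 0))) (.node (.node (.leaf 0x56d48a2ada65992b) (.leaf 0)) (.node (.leaf 0x4b2b764b132ec) (.leaf 0)))) (.node (.node (.node (.leaf 0xac564514add6ea90c) (.leaf 0x1136a495a92caeb)) (.node (.leaf 0x52c8a4b132d9965) (.leaf 0))) (.node (.node (.leaf 0x248ac8a4aea65b74b) (.leaf 0)) (.node (.leaf 0x52b764b0b65d2db) (.leaf 0))))) (.node (.node (.node (.node (.leaf 0x12451486592c95d) (.leaf 0x14524b24ad975d75d)) (.node (.leaf 0x24ada92c2ebacb759) (.leaf 0))) (.node (.node (.leaf 0x2595d6d365b2cbaeb) (.leaf 0)) (.node (.leaf 0x244da75a96190b) (.leaf 0)))) (.node (.node (.node (.leaf 0x1592292ba5badbaeb) (.leaf 0xadd89d6cb2dd759)) (.node (.leaf 0x1a92b69d325859) (.leaf 0))) (.node (.node (.leaf 0x95bad592c4dd95b) (.leaf 0)) (.node (.leaf 0x9b4dd7532e96dd) (.leaf 0))))))) (.node (.node (.node (.node (.node (.node (.leaf 0x8ab2d990ca5b) (.leaf 0x1626ccadba5b)) (.node (.leaf 0x1375d91492b69bacb)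 (.leaf 0))) (.node (.node (.leaf 0x15aada92990b6ec) (.leaf 0)) (.node (.leaf 0xd56d56ebaecb0b) (.leaf 0)))) (.node (.node (.node (.leaf 0x26abada65b761659) (.leaf 0x1659149656e9)) (.node (.leaf 0x14ada922b2bad32d9) (.leaf 0))) (.node (.node (.leaf 0x1369d765964ada) (.leaf 0)) (.node (.leaf 0x22b1592c89b2dd2db) (.leaf 0))))) (.node (.node (.node (.node (.leaf 0x295b4dd75d4cc865) (.leaf 0x1a9226abaeb69bb2c)) (.node (.leaf 0xecb2585d65b2db) (.leaf 0))) (.node (.node (.leaf 0xd352b74c3256cc) (.leaf 0)) (.node (.leaf 0x4d592c89baeb6e9) (.leaf 0)))) (.node (.node (.node (.leaf 0x1492caa592c95d) (.leaf 0x451592cb0c32594c)) (.node (.leaf 0x25922ad32ebad9865) (.leaf 0))) (.node (.node (.leaf 0x56452baebaccb0b) (.leaf 0)) (.node (.leaf 0x4eb52294b2d9865) (.leaf 0)))))) (.node (.node (.node (.node (.node (.leaf 0x369a6acadb32c95b) (.leaf 0x8a269a8a175b32c)) (.node (.leaf 0x9d89d75ba5d90c2d9) (.leaf 0))) (.node (.node (.leaf 0x266192974b) (.leaf 0)) (.node (.leaf 0xa26eb75990c861) (.leaf 0))))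 (.node (.node (.node (.leaf 0x295a92cadb521) (.leaf 0x4a5d661)) (.node (.leaf 0x58a592592c52cb2c) (.leaf 0))) (.node (.node (.leaf 0xdaad49626eb69d2e9) (.leaf 0)) (.node (.leaf 0x2b52c9532d9861) (.leaf 0))))) (.node (.node (.node (.node (.leaf 0x134da92592c94bacb) (.leaf 0x4d48ac2cb30c2cb)) (.node (.leaf 0x22aeb50c96575b) (.leaf 0))) (.node (.node (.leaf 0x113ad34eb2dd664) (.leaf 0)) (.node (.leaf 0xa455d75d2dbacc) (.leaf 0)))) (.node (.node (.node (.leaf 0x4d4b258a194b6cb) (.leaf 0x144da6ac964ad32db)) (.node (.leaf 0x14b228acb13acb321) (.leaf 0))) (.node (.node (.leaf 0x14914524b2c95b4eb) (.leaf 0)) (.node (.leaf 0x1b56291365ba5b) (.leaf 0))))))))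

/-- part of transversal words -/
def node8L0word12 : Trie :=
  (.node (.node (.node (.node (.node (.node (.node (.leaf 0xa616cca65) (.leaf 0x148a26abadd2eb659)) (.node (.leaf 0x244d355baeb6d42d9) (.leaf 0))) (.node (.node (.leaf 0x248a45132cb75d2dd) (.leaf 0)) (.node (.leaf 0x45626eb52590ca64) (.leaf 0)))) (.node (.node (.node (.leaf 0x4da9629656d9961) (.leaf 0x91569b52574c94b)) (.node (.leaf 0x1569d7642eb75d759) (.leaf 0))) (.node (.node (.leaf 0x4d34dab258a175d) (.leaf 0)) (.node (.leaf 0x52291485d90b6e9) (.leaf 0))))) (.node (.node (.node (.node (.leaf 0x24add75b2ccb25321) (.leaf 0x1a69aadbadd90c)) (.node (.leaf 0x524b1374c964b2c) (.leaf 0))) (.node (.node (.leaf 0x14524b13ad965badd) (.leaf 0)) (.node (.leaf 0x2b2575d6d32dd6ec) (.leaf 0)))) (.node (.node (.node (.leaf 0x2ada6ab75d6596eb) (.leaf 0x34ebad59142cb75d)) (.node (.leaf 0x26ab52c52cadb325) (.leaf 0))) (.node (.node (.leaf 0xa2ada6e990c2eb) (.leaf 0)) (.node (.leaf 0x375a8a2aeb75b65d) (.leaf 0)))))) (.node (.node (.node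 (.node (.node (.leaf 0x2b13ada6cbadd32c) (.leaf 0x275d914a5bb0b661)) (.node (.leaf 0x16591595badd2dd92c) (.leaf 0))) (.node (.node (.leaf 0x256eb4ec8a1659964) (.leaf 0)) (.node (.leaf 0x4d56eb32c3216e9) (.leaf 0)))) (.node (.node (.node (.leaf 0xb1369a95495b75d) (.leaf 0x4ad986594b)) (.node (.leaf 0x26a4b2c86192cb2b) (.leaf 0))) (.node (.node (.leaf 0x452291452c2dd2cb) (.leaf 0)) (.node (.leaf 0x1661) (.leaf 0))))) (.node (.node (.node (.node (.leaf 0x275b51596591495d) (.leaf 0x69b2d974bacb)) (.node (.leaf 0x51355bb2cb254d9) (.leaf 0))) (.node (.node (.leaf 0x9aada75974bacb) (.leaf 0)) (.node (.leaf 0x1456489b2eb76595d) (.leaf 0)))) (.node (.node (.node (.leaf 0x24964add75430c) (.leaf 0x292292591494bacb)) (.node (.leaf 0x2add6ab75d6596eb) (.leaf 0))) (.node (.node (.leaf 0x36ac52275d69d964) (.leaf 0)) (.node (.leaf 0x12296489d6656dd) (.leaf 0))))))) (.node (.node (.node (.node (.node (.node (.leaf 0x4dd96450b6ebadd) (.leaf 0x2962b2595b6996cb)) (.node (.leaf 0x35229259619616cc)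 (.leaf 0))) (.node (.node (.leaf 0xda9148a292ba64b0c) (.leaf 0)) (.node (.leaf 0x12275d6a4b25) (.leaf 0)))) (.node (.node (.node (.leaf 0xad36a2b2cb2550c) (.leaf 0x1656ab75ba9992c)) (.node (.leaf 0xaeb6ac50ca5965b) (.leaf 0))) (.node (.node (.leaf 0x2c524b24ada75d759) (.leaf 0)) (.node (.leaf 0x113aecb2ca9b) (.leaf 0))))) (.node (.node (.node (.node (.leaf 0xb24b13754964b2c) (.leaf 0x2bad48a52dd665)) (.node (.leaf 0x256eb564b0c864b2c) (.leaf 0))) (.node (.node (.leaf 0xecb226e96cc961) (.leaf 0)) (.node (.leaf 0xab6ab52296175bacc) (.leaf 0)))) (.node (.node (.node (.leaf 0x9a6a4aeb664ae9) (.leaf 0x289a6d494ca64add)) (.node (.leaf 0x52592275ab216dd6cc) (.leaf 0))) (.node (.node (.leaf 0x1b4da95b4eb2e96eb) (.leaf 0)) (.node (.leaf 0xdab2c50b764) (.leaf 0)))))) (.node (.node (.node (.node (.node (.leaf 0x4ada964b2c94c2d9) (.leaf 0x9a8a174bb25)) (.node (.leaf 0x564ada75a96192b) (.leaf 0))) (.node (.node (.leaf 0x11569b5252d9965) (.leaf 0)) (.node (.leaf 0x26d36a296592a964) (.leaf 0))))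 (.node (.node (.node (.leaf 0x9aacc92baebb2b) (.leaf 0x48a575bada90ca5b)) (.node (.leaf 0x495bb242ebadd2dd) (.leaf 0))) (.node (.node (.leaf 0x37645259542dd859) (.leaf 0)) (.node (.leaf 0x4d58a4a5b2d990b) (.leaf 0))))) (.node (.node (.node (.node (.leaf 0x4b2455a69d75b325) (.leaf 0xec513ad3aeb6d32cc)) (.node (.leaf 0x369bad49542d9664) (.leaf 0))) (.node (.node (.leaf 0x14b22925753aeb325) (.leaf 0)) (.node (.leaf 0xacada914a59661) (.leaf 0)))) (.node (.node (.node (.leaf 0x596452c525664b2b) (.leaf 0xa4564b2ca9b2db)) (.node (.leaf 0x1134ebadd6eb6a56cb) (.leaf 0))) (.node (.node (.leaf 0x228a456295365bacb) (.leaf 0)) (.node (.leaf 0x48a291496530b2d9) (.leaf 0))))))))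

/-- part of transversal words -/
def node8L0word2 : Trie :=
  (.node (.node (.node (.node (.node (.node (.node (.leaf 0x1455d75d7536ecb21) (.leaf 0x9d6ecb22ad36596cb)) (.node (.leaf 0x28acb1485b2eba5d) (.leaf 0))) (.node (.node (.leaf 0x4d4524a6190b2cc) (.leaf 0)) (.node (.leaf 0x44da96285b325) (.leaf 0)))) (.node (.node (.node (.leaf 0x9d6d49536eb2d9) (.leaf 0x59644da75ba6590b)) (.node (.leaf 0x69b522ada9642cc) (.leaf 0))) (.node (.node (.leaf 0x52cada964b2cb2c) (.leaf 0)) (.node (.leaf 0xa4b13acb66594c) (.leaf 0))))) (.node (.node (.node (.node (.leaf 0x1356495b4cb65990c) (.leaf 0x11575d6a4b296e9)) (.node (.leaf 0x52c85bacc94c) (.leaf 0))) (.node (.node (.leaf 0x13564b22b2b65992c) (.leaf 0)) (.node (.leaf 0x269a92badd953321) (.leaf 0)))) (.node (.node (.node (.leaf 0x29644da69ba6590b) (.leaf 0x162b244d965d764)) (.node (.leaf 0x11492c94c85d6cb) (.leaf 0))) (.node (.node (.leaf 0xa4b2596592cb2965b) (.leaf 0)) (.node (.leaf 0x15a964a996cca65) (.leaf 0)))))) (.node (.node (.node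 (.node (.node (.leaf 0x569a9144eb664b0c) (.leaf 0x13aebb258616eb764)) (.node (.leaf 0xa292cb13aeb754adb) (.leaf 0))) (.node (.node (.leaf 0x56a489ba642eb665) (.leaf 0)) (.node (.leaf 0x8a575d759865) (.leaf 0)))) (.node (.node (.node (.leaf 0x58a27642dd6cc) (.leaf 0xac8ab4d996594b)) (.node (.leaf 0x1455a9296cb32c) (.leaf 0))) (.node (.node (.leaf 0xd37645132cbaec861) (.leaf 0)) (.node (.leaf 0x258a575b65d759) (.leaf 0))))) (.node (.node (.node (.node (.leaf 0x244d56eba9b30ca64) (.leaf 0xdd69d9144cb32c85d)) (.node (.leaf 0x52cb22b2565bacc) (.leaf 0))) (.node (.node (.leaf 0x1b51595b2dd2db) (.leaf 0)) (.node (.leaf 0x4eb52589d6cb75d) (.leaf 0)))) (.node (.node (.node (.leaf 0x44da75d75330c85b) (.leaf 0x514b14564adb4dd92c)) (.node (.leaf 0x2455badd9542e9) (.leaf 0))) (.node (.node (.leaf 0xa595aad4b256cc) (.leaf 0)) (.node (.leaf 0x14b244d3a99864b0b) (.leaf 0))))))) (.node (.node (.node (.node (.node (.node (.leaf 0x248a59616ebacc) (.leaf 0x92bada92b6d3764)) (.node (.leaf 0x1259258ab75b2dd2cb)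 (.leaf 0))) (.node (.node (.leaf 0x75bb228a4add75d) (.leaf 0)) (.node (.leaf 0x1156eb32985d) (.leaf 0)))) (.node (.node (.node (.leaf 0x9d92595bad32dd) (.leaf 0x28a2b258a594c861)) (.node (.leaf 0x6a44da74b75b325) (.leaf 0))) (.node (.node (.leaf 0xeb75a8a432585d6dd) (.leaf 0)) (.node (.leaf 0x24ad4b2532590b) (.leaf 0))))) (.node (.node (.node (.node (.leaf 0x45144eba9b2eb75b) (.leaf 0x289a6d4b2a6dd85b)) (.node (.leaf 0x28a292592cb0b65d) (.leaf 0))) (.node (.node (.leaf 0x2c8a44ccb2c2eb) (.leaf 0)) (.node (.leaf 0x289d6d4b2a6dd85b) (.leaf 0)))) (.node (.node (.node (.leaf 0x259159226ccad96cb) (.leaf 0xa269b32995b661)) (.node (.leaf 0x113522aeb754b0c) (.leaf 0))) (.node (.node (.leaf 0x291565d2ec85b) (.leaf 0)) (.node (.leaf 0x1375b4cb2dd6cc) (.leaf 0)))))) (.node (.node (.node (.node (.node (.leaf 0x25914b2c2dbb216eb) (.leaf 0x1d764a9b30c)) (.node (.leaf 0x13aa56e994c) (.leaf 0))) (.node (.node (.leaf 0x249659256d32dd6cc) (.leaf 0)) (.node (.leaf 0x156a44d96e96e9) (.leaf 0)))) (.node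 (.node (.node (.leaf 0xa289aad490b765929) (.leaf 0x2c96269b4dd75d6dd)) (.node (.leaf 0x52c92b699964acb) (.leaf 0))) (.node (.node (.leaf 0x3ada9156ccb0c94b) (.leaf 0)) (.node (.leaf 0xeb75a9226cbacb75d) (.leaf 0))))) (.node (.node (.node (.node (.leaf 0xd3b2292a92c2cb) (.leaf 0x8abaea6642e9)) (.node (.leaf 0x564564b226cba64) (.leaf 0))) (.node (.node (.leaf 0x1d6a2913a5d90c94b) (.leaf 0)) (.node (.leaf 0x2291452cb2c50b6e9) (.leaf 0)))) (.node (.node (.node (.leaf 0xd3ad45156596dd2ec) (.leaf 0x4d9aeb75baeb764)) (.node (.leaf 0x12289aaeb65b75b) (.leaf 0))) (.node (.node (.leaf 0x6d45656eb753a5b) (.leaf 0)) (.node (.leaf 0x15914aebad9865) (.leaf 0))))))))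

/-- part of transversal words -/
def node8L0word10 : Trie :=
  (.node (.node (.node (.node (.node (.node (.node (.leaf 0x492cb2c8616dd32b) (.leaf 0x4d45252d9661)) (.node (.leaf 0x4aeb4d36996ec85d) (.leaf 0))) (.node (.node (.leaf 0x1256ecb216ecb2c) (.leaf 0)) (.node (.leaf 0x4b228a596594cadb) (.leaf 0)))) (.node (.node (.node (.leaf 0x292589d6e96ebacb) (.leaf 0xa292cada75b)) (.node (.leaf 0x48a289aaebaecb14) (.leaf 0))) (.node (.node (.leaf 0x596592b69d6ecb2c) (.leaf 0)) (.node (.leaf 0x91496596430c2cb) (.leaf 0))))) (.node (.node (.node (.node (.leaf 0x8abb24accb0c85b) (.leaf 0x1b5226d376591375d)) (.node (.leaf 0x9156d330c96575b) (.leaf 0))) (.node (.node (.leaf 0x1369bad452175badb) (.leaf 0)) (.node (.leaf 0xa49648ac85b2cb6e9) (.leaf 0)))) (.node (.node (.node (.leaf 0x136a4b2a65b321) (.leaf 0x9b4dab258a175d)) (.node (.leaf 0x55b56590b65d2db) (.leaf 0))) (.node (.node (.leaf 0x15d964a9b) (.leaf 0)) (.node (.leaf 0x16591496265b321) (.leaf 0)))))) (.node (.node (.node (.node (.node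 (.leaf 0x495d91365d6cbad9) (.leaf 0x2c4dab1375d864)) (.node (.leaf 0x275a962953aeb325) (.leaf 0))) (.node (.node (.leaf 0x4914ada6619652d9) (.leaf 0)) (.node (.leaf 0x514a9d6ec95b) (.leaf 0)))) (.node (.node (.node (.leaf 0x249659256cb2dd6cc) (.leaf 0x11575b32c30caeb)) (.node (.leaf 0x352c9627596cc94c) (.leaf 0))) (.node (.node (.leaf 0x8abada92c94b6e9) (.leaf 0)) (.node (.leaf 0x89b32595b325) (.leaf 0))))) (.node (.node (.node (.node (.leaf 0x59226ac92cb25321) (.leaf 0xeb51494b2dd965)) (.node (.leaf 0x26d48a52d9661) (.leaf 0))) (.node (.node (.leaf 0x8a56ec9616cc) (.leaf 0)) (.node (.leaf 0x6a4b24b256dd8a1) (.leaf 0)))) (.node (.node (.node (.leaf 0x3b226d3a9bad9861) (.leaf 0x1452b65d30c2eb)) (.node (.leaf 0xabada92a6ccb2c) (.leaf 0))) (.node (.node (.leaf 0x52c8a495b4eb325) (.leaf 0)) (.node (.leaf 0x1a92baa16ec) (.leaf 0))))))) (.node (.node (.node (.node (.node (.node (.leaf 0xb228a495d6ea6ec) (.leaf 0x11589d6cb759)) (.node (.leaf 0xad496265d30c2dd) (.leaf 0))) (.node (.node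 (.leaf 0x14ad4b0cadb32c) (.leaf 0)) (.node (.leaf 0x1136ac9654d9859) (.leaf 0)))) (.node (.node (.node (.leaf 0x45228a44eb75974c) (.leaf 0x1a75ba9d90c2d9)) (.node (.leaf 0x59649642cb75d759) (.leaf 0))) (.node (.node (.leaf 0x269a8a450b6ebadd) (.leaf 0)) (.node (.leaf 0xb245256d96cb6eb) (.leaf 0))))) (.node (.node (.node (.node (.leaf 0xa45229656a42db) (.leaf 0x2baeca99861)) (.node (.leaf 0x36ab52585badd6e9) (.leaf 0))) (.node (.node (.leaf 0x575a9629656da861) (.leaf 0)) (.node (.leaf 0x2c89a6ecb2b525961) (.leaf 0)))) (.node (.node (.node (.leaf 0x3b229132eb2e96cb) (.leaf 0x29156d352575d661)) (.node (.leaf 0x226d45226cc2dd2db) (.leaf 0))) (.node (.node (.leaf 0x14ada9227532dba5d) (.leaf 0)) (.node (.leaf 0x913b2275baa592b) (.leaf 0)))))) (.node (.node (.node (.node (.node (.leaf 0x4d451589d6cb75d) (.leaf 0x3ad592cb13b2192c)) (.node (.leaf 0x48a4adaad975d75b) (.leaf 0))) (.node (.node (.leaf 0x489b4d376532ca65) (.leaf 0)) (.node (.leaf 0x913aeb6596ebaec) (.leaf 0)))) (.node (.node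 (.node (.leaf 0x227644ec92965b32c) (.leaf 0x244da69b4e96dd865)) (.node (.leaf 0x4953ad9865) (.leaf 0))) (.node (.node (.leaf 0xad496269d30c2dd) (.leaf 0)) (.node (.leaf 0x9134eb75d2cc30c) (.leaf 0))))) (.node (.node (.node (.node (.leaf 0x495d75992990b) (.leaf 0x75ab2592b3216dd)) (.node (.leaf 0x295d92cacb) (.leaf 0))) (.node (.node (.leaf 0xa26a4a5d6eca61) (.leaf 0)) (.node (.leaf 0x5134cc30baec) (.leaf 0)))) (.node (.node (.node (.leaf 0x45648a2b2bad3a64) (.leaf 0x1b4ecb0cb0baec)) (.node (.leaf 0x1149659132dd74b75b) (.leaf 0))) (.node (.node (.leaf 0xebaeb6a275badbb22) (.leaf 0)) (.node (.leaf 0x89b32574c94b) (.leaf 0))))))))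

/-- part of transversal words -/
def node8L0word6 : Trie :=
  (.node (.node (.node (.node (.node (.node (.node (.leaf 0x489a964b0b74b65b) (.leaf 0x6a56ec92c9542dd)) (.node (.leaf 0x49532d9965) (.leaf 0))) (.node (.node (.leaf 0x9a85b74ba5b) (.leaf 0)) (.node (.leaf 0x2c9158a594b75b) (.leaf 0)))) (.node (.node (.node (.leaf 0x1a9226abadd92995b) (.leaf 0x1a8ac4eb764acb)) (.node (.leaf 0x24a5bad990b) (.leaf 0))) (.node (.node (.leaf 0x589a6a594b65d2db) (.leaf 0)) (.node (.leaf 0x34eb6abb2185b665) (.leaf 0))))) (.node (.node (.node (.node (.leaf 0x244eb69baea75990b) (.leaf 0x2ba9990ca5b)) (.node (.leaf 0xd4b2589d65b329929) (.leaf 0))) (.node (.node (.leaf 0x2455b52595bacb2d9) (.leaf 0)) (.node (.leaf 0x8a275ab25664aeb) (.leaf 0)))) (.node (.node (.node (.leaf 0xa496292c4db32985b) (.leaf 0x4ebada96585d2e9)) (.node (.leaf 0x48ab6a16ccb29) (.leaf 0))) (.node (.node (.leaf 0x48a2b2c89d759) (.leaf 0)) (.node (.leaf 0x164b2569badd664) (.leaf 0)))))) (.node (.node (.node (.node (.node (.leaf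 0x12289d69a90c2e96cb) (.leaf 0x52269bb296eb765)) (.node (.leaf 0xb136a430b65d2db) (.leaf 0))) (.node (.node (.leaf 0x2589b55d75a6ec85d) (.leaf 0)) (.node (.leaf 0xec89baea92c2cc) (.leaf 0)))) (.node (.node (.node (.leaf 0x3add764b29864a65) (.leaf 0x135148a4b2175b2db)) (.node (.leaf 0x58a27648a192ca65) (.leaf 0))) (.node (.node (.leaf 0x4d4b1585d6cb75d) (.leaf 0)) (.node (.leaf 0xd36ac8a4acb2db) (.leaf 0))))) (.node (.node (.node (.node (.leaf 0x569a92c94b6e9) (.leaf 0xada92c9543216cc)) (.node (.leaf 0x14b2292574baeb325) (.leaf 0))) (.node (.node (.leaf 0x2296592c85d92cb21) (.leaf 0)) (.node (.leaf 0x292589d6e96ebaeb) (.leaf 0)))) (.node (.node (.node (.leaf 0x6d485b2dba5b) (.leaf 0x1489a6d494cb252cc)) (.node (.leaf 0x2b158a4b2175b2db) (.leaf 0))) (.node (.node (.leaf 0xa495ab2590c94cadb) (.leaf 0)) (.node (.leaf 0x69ab2452192b321) (.leaf 0))))))) (.node (.node (.node (.node (.node (.node (.leaf 0x149659226eb6ea6cb) (.leaf 0x248a44dab2175bb0b)) (.node (.leaf 0x6a4524b256cbb25) (.leaf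 0))) (.node (.node (.leaf 0x1a6d4b2b7642dbb0b) (.leaf 0)) (.node (.leaf 0x15bada96595b) (.leaf 0)))) (.node (.node (.node (.leaf 0x4ad9865) (.leaf 0x2b4d48652d9665)) (.node (.leaf 0x256d356286174b2e9) (.leaf 0))) (.node (.node (.leaf 0x113add89d65d664b0c) (.leaf 0)) (.node (.leaf 0x48a26abad96d974b) (.leaf 0))))) (.node (.node (.node (.node (.leaf 0x24b2b69a86175bb21) (.leaf 0x2b228a432175b2cc)) (.node (.leaf 0x124a642cc859) (.leaf 0))) (.node (.node (.leaf 0x1489badaadd6cc964) (.leaf 0)) (.node (.leaf 0x248a591494c859) (.leaf 0)))) (.node (.node (.node (.leaf 0x2c8acb2286165b2db) (.leaf 0x51369d6658642cb)) (.node (.leaf 0x2b5244dd32175d) (.leaf 0))) (.node (.node (.leaf 0x5136a430b75d2db) (.leaf 0)) (.node (.leaf 0x1656d374b759964) (.leaf 0)))))) (.node (.node (.node (.node (.node (.leaf 0x289d6d4b142dd6cc) (.leaf 0x29226abadd964b29)) (.node (.leaf 0x9156eb6a4b252db) (.leaf 0))) (.node (.node (.leaf 0xa592b55d75ba9d6ec) (.leaf 0)) (.node (.leaf 0x291496430c32c2d9) (.leaf 0))))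 (.node (.node (.node (.leaf 0x5226ec95b4dbaeb) (.leaf 0x4da6a2b2a961961)) (.node (.leaf 0xb1489aaebadd2eb) (.leaf 0))) (.node (.node (.leaf 0x29644dd6a190baec) (.leaf 0)) (.node (.leaf 0x591430b76592c) (.leaf 0))))) (.node (.node (.node (.node (.leaf 0x226d3ad4b0c95b) (.leaf 0x2295bad4325964acc)) (.node (.leaf 0x44eb52c3252db) (.leaf 0))) (.node (.node (.leaf 0xd355a861659964) (.leaf 0)) (.node (.leaf 0x11589bada6eb65b) (.leaf 0)))) (.node (.node (.node (.leaf 0x15b52589d6cb75d) (.leaf 0x2baeca59861)) (.node (.leaf 0x1626d3a659652dd) (.leaf 0))) (.node (.node (.leaf 0x4aecb2c95432190c) (.leaf 0)) (.node (.leaf 0x148ab4dd74b75d659) (.leaf 0))))))))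

/-- part of transversal words -/
def node8L0word14 : Trie :=
  (.node (.node (.node (.node (.node (.node (.node (.leaf 0xa4b13ad3665929) (.leaf 0x28a56d330c2cb665)) (.node (.leaf 0x89d92590c32592c) (.leaf 0))) (.node (.node (.leaf 0x6ecb24ad965bad9) (.leaf 0)) (.node (.leaf 0x2455d6d4a6574c) (.leaf 0)))) (.node (.node (.node (.leaf 0x369b51486592bacb) (.leaf 0x9b5226dd90baec)) (.node (.leaf 0x1352c564861859664) (.leaf 0))) (.node (.node (.leaf 0x228a4add75b6996d9) (.leaf 0)) (.node (.leaf 0x122b22913acba64) (.leaf 0))))) (.node (.node (.node (.node (.leaf 0x52269a8616dd961) (.leaf 0x4daaeb75baeb764)) (.node (.leaf 0x26d48652dd665) (.leaf 0))) (.node (.node (.leaf 0x2bada75974bacb) (.leaf 0)) (.node (.leaf 0x2452cb2292c85b) (.leaf 0)))) (.node (.node (.node (.leaf 0x1d6a292965bb25) (.leaf 0x28a45227643252eb)) (.node (.leaf 0x1b514b2986185b) (.leaf 0))) (.node (.node (.leaf 0x2455bad495bb0c) (.leaf 0)) (.node (.leaf 0x114aeb4eb325) (.leaf 0)))))) (.node (.node (.node (.node (.node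 (.leaf 0x29156dd89bb0b) (.leaf 0x34d3b244e96cc85b)) (.node (.leaf 0xa2b156ebaa1929) (.leaf 0))) (.node (.node (.leaf 0x2ada90baec) (.leaf 0)) (.node (.leaf 0x134d492bad3acca65) (.leaf 0)))) (.node (.node (.node (.leaf 0xda6ac32174b2db) (.leaf 0x1b3216eba64)) (.node (.leaf 0x113aecb2c954a64) (.leaf 0))) (.node (.node (.leaf 0x4562b25913aec) (.leaf 0)) (.node (.leaf 0x1489d91492badd4dd) (.leaf 0))))) (.node (.node (.node (.node (.leaf 0xa44dd6ebadd90c2cb) (.leaf 0x495bad4964329929)) (.node (.leaf 0x1589b4dd75332585d) (.leaf 0))) (.node (.node (.leaf 0x3aeb69d7532dd2dd) (.leaf 0)) (.node (.leaf 0x124b2589bad96e9) (.leaf 0)))) (.node (.node (.node (.leaf 0x8ab4da914a64a64) (.leaf 0x2494cb216cc)) (.node (.leaf 0x292bada8a596595b) (.leaf 0))) (.node (.node (.leaf 0x22764a596e990c) (.leaf 0)) (.node (.leaf 0x89aaecb2ca99661) (.leaf 0))))))) (.node (.node (.node (.node (.node (.node (.leaf 0xa49626ea92b759) (.leaf 0x56d4b14b2b6cca61)) (.node (.leaf 0x144d351595d75ba9b) (.leaf 0))) (.node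 (.node (.leaf 0x1d2dd2db) (.leaf 0)) (.node (.leaf 0x1bada92c9298642dd) (.leaf 0)))) (.node (.node (.node (.leaf 0x26d49654d9665) (.leaf 0x12b6a495a92cacb)) (.node (.leaf 0x24b2ba9d6cb759) (.leaf 0))) (.node (.node (.leaf 0x24525913aebaccacb) (.leaf 0)) (.node (.leaf 0xab5242dd2d96dd) (.leaf 0))))) (.node (.node (.node (.node (.leaf 0xa4aeb6a29659656e9) (.leaf 0x6d4aa56eba64)) (.node (.leaf 0x1a6abb24a6190c965) (.leaf 0))) (.node (.node (.leaf 0x52c8a4b13a59665) (.leaf 0)) (.node (.leaf 0x145132ccb2565d) (.leaf 0)))) (.node (.node (.node (.leaf 0x3b2591374b2dd2dd) (.leaf 0x48abada92ca99661)) (.node (.leaf 0x1489d9149627642eb) (.leaf 0))) (.node (.node (.leaf 0x24b2cb2275badb) (.leaf 0)) (.node (.leaf 0x522ad332b75d75d) (.leaf 0)))))) (.node (.node (.node (.node (.node (.leaf 0x34daaecb2c94badd) (.leaf 0x51374c95ba65)) (.node (.leaf 0xb2c8a495b4eb321) (.leaf 0))) (.node (.node (.leaf 0x92bada6eb761) (.leaf 0)) (.node (.leaf 0x5136a450b75d2db) (.leaf 0)))) (.node (.node (.node (.leaf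 0x9a6ecb1450b2dd90c) (.leaf 0xa26eb753659964)) (.node (.leaf 0x8a58a290cb2c94b) (.leaf 0))) (.node (.node (.leaf 0x95b32194b) (.leaf 0)) (.node (.leaf 0x14964522b0b6596d9) (.leaf 0))))) (.node (.node (.node (.node (.leaf 0xa589b4eb4ebad992c) (.leaf 0x5144ec90c96595b)) (.node (.leaf 0xda6ab75d6996eb) (.leaf 0))) (.node (.node (.leaf 0x6a4b22aecb142d9) (.leaf 0)) (.node (.leaf 0x69bb14add69d92c) (.leaf 0)))) (.node (.node (.node (.leaf 0x289a6d486192cadd) (.leaf 0x14add964ad9861)) (.node (.leaf 0x5964524ada759861) (.leaf 0))) (.node (.node (.leaf 0x494ba59665) (.leaf 0)) (.node (.leaf 0x22b22b2c8596cc859) (.leaf 0))))))))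

/-- part of transversal words -/
def node8L0word1 : Trie :=
  (.node (.node (.node (.node (.node (.node (.node (.leaf 0x56d4964aa190b2cc) (.leaf 0x92595b2cc9652cb)) (.node (.leaf 0x6d569a6cb6656d9) (.leaf 0))) (.node (.node (.leaf 0x26d49652dd765) (.leaf 0)) (.node (.leaf 0x2b7643296eb32c) (.leaf 0)))) (.node (.node (.node (.leaf 0x29134d430b6e990b) (.leaf 0x1156d56d375b52c85b)) (.node (.leaf 0x256d486174bb21) (.leaf 0))) (.node (.node (.leaf 0x69a6a28996ec30c) (.leaf 0)) (.node (.leaf 0x92cb156cba64b0b) (.leaf 0))))) (.node (.node (.node (.node (.leaf 0x14b2455b32185b765) (.leaf 0x58a56d366586192c)) (.node (.leaf 0x92975b325) (.leaf 0))) (.node (.node (.leaf 0x2b4da92990b6ec) (.leaf 0)) (.node (.leaf 0x29629259656d96cb) (.leaf 0)))) (.node (.node (.node (.leaf 0x48a48a4b298596e9) (.leaf 0x8abae985ba64)) (.node (.leaf 0x2b2bada6cb6ec85d) (.leaf 0))) (.node (.node (.leaf 0x48ac8a44ebadba5b) (.leaf 0)) (.node (.leaf 0x228ab69ba9d6eb75b) (.leaf 0)))))) (.node (.node (.node (.node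 (.node (.leaf 0x1256ec8a452c30c95b) (.leaf 0x1a6d4522aecb2ca61)) (.node (.leaf 0x2b144da75a964329) (.leaf 0))) (.node (.node (.leaf 0xab69a914b0badba65) (.leaf 0)) (.node (.leaf 0x14513524b0cb2b659) (.leaf 0)))) (.node (.node (.node (.leaf 0x89d9142cb2e992c) (.leaf 0x55a6d452574b75d)) (.node (.leaf 0x124562913aeba64) (.leaf 0))) (.node (.node (.leaf 0x4d5964a9974bb25) (.leaf 0)) (.node (.leaf 0x4d332c32cacb) (.leaf 0))))) (.node (.node (.node (.node (.leaf 0x56ac964a5d90c2d9) (.leaf 0x4dd914a5b30b661)) (.node (.leaf 0x122add6a594b) (.leaf 0))) (.node (.node (.leaf 0x92bad96eb761) (.leaf 0)) (.node (.leaf 0x75ab2592b3216d9) (.leaf 0)))) (.node (.node (.node (.leaf 0x4da925659759965) (.leaf 0x9b52274bacc859)) (.node (.leaf 0x95b51496452595b) (.leaf 0))) (.node (.node (.leaf 0x1a8a27648a192cb2c) (.leaf 0)) (.node (.leaf 0x1575a91365992b) (.leaf 0))))))) (.node (.node (.node (.node (.node (.node (.leaf 0x26a291365d6656d9) (.leaf 0x2c92c5642d975d2eb)) (.node (.leaf 0xa44ebaa42ebadb)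 (.leaf 0))) (.node (.node (.leaf 0x2b258ac8a42eb6ec) (.leaf 0)) (.node (.leaf 0x13764b296eb32c) (.leaf 0)))) (.node (.node (.node (.leaf 0x114ada6a285bacc329) (.leaf 0x9b5142cb32c94b)) (.node (.leaf 0x159256ac9644dbadb) (.leaf 0))) (.node (.node (.leaf 0x1350c96565b) (.leaf 0)) (.node (.leaf 0x4d4913a996dd2cb) (.leaf 0))))) (.node (.node (.node (.node (.leaf 0x1452595b2eb2d9865) (.leaf 0x2b2592c85d6cca64)) (.node (.leaf 0xa29136ab66430ba5b) (.leaf 0))) (.node (.node (.leaf 0xa591496296591375d) (.leaf 0)) (.node (.leaf 0xad4514aebaeb321) (.leaf 0)))) (.node (.node (.node (.leaf 0xd36ac90ba64aeb) (.leaf 0xa56d44dd32185d)) (.node (.leaf 0x134da6d4b2532c) (.leaf 0))) (.node (.node (.leaf 0x9a6d494b6eb2dd) (.leaf 0)) (.node (.leaf 0x1a6d4515699964acc) (.leaf 0)))))) (.node (.node (.node (.node (.node (.leaf 0x351596430c96595b) (.leaf 0x69d6d496175b321)) (.node (.leaf 0x28a44d575d75965b) (.leaf 0))) (.node (.node (.leaf 0x12baccb2ca5b) (.leaf 0)) (.node (.leaf 0x158a56ec9626cc) (.leaf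 0)))) (.node (.node (.node (.leaf 0x134d492baebb0b) (.leaf 0x5144d56cb6cbad9)) (.node (.leaf 0x1645229656a4adb) (.leaf 0))) (.node (.node (.leaf 0x1b4d4b2992990c) (.leaf 0)) (.node (.leaf 0x69d92b75a90ca5b) (.leaf 0))))) (.node (.node (.node (.node (.leaf 0x9229226eb754adb) (.leaf 0x2289a6ecb2b4dd659)) (.node (.leaf 0xa2aecb2265b761659) (.leaf 0))) (.node (.node (.leaf 0x13b13adaacbacb2d9) (.leaf 0)) (.node (.leaf 0x9144d575b2dd65b) (.leaf 0)))) (.node (.node (.node (.leaf 0x48a2b2c85d759) (.leaf 0xab4d3b2289965b65d)) (.node (.leaf 0x2cb243252d992c) (.leaf 0))) (.node (.node (.leaf 0x12589b55b4d9661929) (.leaf 0)) (.node (.leaf 0x275b55d65bb2c325) (.leaf 0))))))))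

/-- part of transversal words -/
def node8L0word9 : Trie :=
  (.node (.node (.node (.node (.node (.node (.node (.leaf 0x244dd6dd6cba5b) (.leaf 0x2b24b2c8a4b0c)) (.node (.leaf 0x2cb2c94c32190b) (.leaf 0))) (.node (.node (.leaf 0x136a494cae975b) (.leaf 0)) (.node (.leaf 0x11595b2eb32c961) (.leaf 0)))) (.node (.node (.node (.leaf 0x291369ab1485d75b) (.leaf 0x4513ad375d75d65b)) (.node (.leaf 0x4d59228a592bad9) (.leaf 0))) (.node (.node (.leaf 0x5145596ecb25764) (.leaf 0)) (.node (.leaf 0x352c9132eb76590c) (.leaf 0))))) (.node (.node (.node (.node (.leaf 0xb2c92b659964aeb) (.leaf 0x1296575d6ecb2b)) (.node (.leaf 0x451376590b32595d) (.leaf 0))) (.node (.node (.leaf 0xd48aca9b6652cb) (.leaf 0)) (.node (.leaf 0x52291489d90b6e9) (.leaf 0)))) (.node (.node (.node (.leaf 0x275a90c94ca64) (.leaf 0x14b24a658652d9)) (.node (.leaf 0x2496590b759) (.leaf 0))) (.node (.node (.leaf 0x34d35142cb75b65d) (.leaf 0)) (.node (.leaf 0xa2b2c9132d974b664) (.leaf 0)))))) (.node (.node (.node (.node (.node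 (.leaf 0x75b4d3ad3a5b765) (.leaf 0x375aadd759664325)) (.node (.leaf 0x4ada964b2c94c2dd) (.leaf 0))) (.node (.node (.leaf 0x9658ac3216cb664) (.leaf 0)) (.node (.leaf 0x11495ab2592c9658a5) (.leaf 0)))) (.node (.node (.node (.leaf 0x9d664adba64) (.leaf 0x258a4b22aecb2c864)) (.node (.leaf 0x9258ac4cbae992c) (.leaf 0))) (.node (.node (.leaf 0x52cb22864b0bb25) (.leaf 0)) (.node (.leaf 0x492cb2292b6cb764) (.leaf 0))))) (.node (.node (.node (.node (.leaf 0x45648acb0badd2db) (.leaf 0x4ada96194b)) (.node (.leaf 0x12b69b2dd32175d) (.leaf 0))) (.node (.node (.leaf 0x2575bb13acb664b25) (.leaf 0)) (.node (.leaf 0x15914b2c85d6cca64) (.leaf 0)))) (.node (.node (.node (.leaf 0x1b75374b) (.leaf 0x8ac91485b2dba5b)) (.node (.leaf 0x13514a5975990b) (.leaf 0))) (.node (.node (.leaf 0x1b56291375ba5b) (.leaf 0)) (.node (.leaf 0x1a9629134ebadd2eb) (.leaf 0))))))) (.node (.node (.node (.node (.node (.node (.leaf 0x34d4564ad3759961) (.leaf 0x148ab69d75b659)) (.node (.leaf 0x29134dd95375ba65) (.leaf 0)))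 (.node (.node (.leaf 0x1159648a4b2165b) (.leaf 0)) (.node (.leaf 0x2b6a592269badbb0c) (.leaf 0)))) (.node (.node (.node (.leaf 0x4ec95992cacb) (.leaf 0x296596292b6ec50c)) (.node (.leaf 0x124b244dd6cc2db) (.leaf 0))) (.node (.node (.leaf 0x2295bb25764) (.leaf 0)) (.node (.leaf 0x55d6ec8a190c2dd) (.leaf 0))))) (.node (.node (.node (.node (.leaf 0x5913a5badbb0c) (.leaf 0xa58a296294c85b)) (.node (.leaf 0x1495a69bada664b21) (.leaf 0))) (.node (.node (.leaf 0x1b5148ac3296cb759) (.leaf 0)) (.node (.leaf 0x355b32c864b2c) (.leaf 0)))) (.node (.node (.node (.leaf 0x16269baa592baec) (.leaf 0xa4964ad590b75b2cb)) (.node (.leaf 0x6ecb22764aa1659) (.leaf 0))) (.node (.node (.leaf 0x12452c8a4b252cc) (.leaf 0)) (.node (.leaf 0x2cb22913adb4dd30c) (.leaf 0)))))) (.node (.node (.node (.node (.node (.leaf 0x134da75a74baeb) (.leaf 0x89a6a28a52dd765)) (.node (.leaf 0x13aeb69a6ebaec954) (.leaf 0))) (.node (.node (.leaf 0x44dd6ac96190b75d) (.leaf 0)) (.node (.leaf 0x91575b32185b321) (.leaf 0)))) (.node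 (.node (.node (.leaf 0x4ad986194b) (.leaf 0x1452cadd65990ca61)) (.node (.leaf 0x92275d6d4b256e9) (.leaf 0))) (.node (.node (.leaf 0x29134dd94b75ba65) (.leaf 0)) (.node (.leaf 0xa596589a6eb50cad9) (.leaf 0))))) (.node (.node (.node (.node (.leaf 0x1452591452175d2dd) (.leaf 0x2269bb2432b75b2e9)) (.node (.leaf 0x122aeb665964a5b) (.leaf 0))) (.node (.node (.leaf 0x34d44dab0c94b664) (.leaf 0)) (.node (.leaf 0x52c85bacca64) (.leaf 0)))) (.node (.node (.node (.leaf 0x13764a9d74c30b) (.leaf 0x49648a4b2175d2e9)) (.node (.leaf 0x92baeb65b761659) (.leaf 0))) (.node (.node (.leaf 0x9d6a4b2a65b325) (.leaf 0)) (.node (.leaf 0x6d451565d74b74b) (.leaf 0))))))))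

/-- part of transversal words -/
def node8L0word5 : Trie :=
  (.node (.node (.node (.node (.node (.node (.node (.leaf 0x4d49132e9861759) (.leaf 0x48ab4d986594b)) (.node (.leaf 0x4b2baebacca65) (.leaf 0))) (.node (.node (.leaf 0x29134dab2baebad4) (.leaf 0)) (.node (.leaf 0x2b2456590baeba64) (.leaf 0)))) (.node (.node (.node (.leaf 0x4da914a5d74bb21) (.leaf 0x134d48652d9665)) (.node (.leaf 0x148acb2286165badb) (.leaf 0))) (.node (.node (.leaf 0x6a4524b256d3b21) (.leaf 0)) (.node (.leaf 0x89a914b0badbb2b) (.leaf 0))))) (.node (.node (.node (.node (.leaf 0x44da75a9626dd65b) (.leaf 0x13764514aebacb325)) (.node (.leaf 0x522ad32e9864acc) (.leaf 0))) (.node (.node (.leaf 0x355bb2585bad974b) (.leaf 0)) (.node (.leaf 0x52269a8616dd965) (.leaf 0)))) (.node (.node (.node (.leaf 0x295a914ad974c30b) (.leaf 0x36acb2c4eb764acb)) (.node (.leaf 0x58a27658a4b2c) (.leaf 0))) (.node (.node (.leaf 0x289b51575b32595b) (.leaf 0)) (.node (.leaf 0x595a69bada65badd) (.leaf 0)))))) (.node (.node (.node (.node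 (.node (.leaf 0xad592c864b2575b) (.leaf 0x2aecb0b65ba5b)) (.node (.leaf 0x492c564acb759964) (.leaf 0))) (.node (.node (.leaf 0x9a6eb52c3216e9) (.leaf 0)) (.node (.leaf 0xd369a6ecaa4b2b) (.leaf 0)))) (.node (.node (.node (.leaf 0x2762b24ad4b0c85b) (.leaf 0x35229259629616cc)) (.node (.leaf 0x1356292a75b321) (.leaf 0))) (.node (.node (.leaf 0x144d3564accb252db) (.leaf 0)) (.node (.leaf 0x55b30ca59664) (.leaf 0))))) (.node (.node (.node (.node (.leaf 0x6a2b2b75d52185d) (.leaf 0x48abada929661)) (.node (.leaf 0x4ebada6996ebaec) (.leaf 0))) (.node (.node (.leaf 0x15d6a42dba64) (.leaf 0)) (.node (.leaf 0x75d96289d6dd2dd) (.leaf 0)))) (.node (.node (.node (.leaf 0xd3a64add32c) (.leaf 0x296592b69d6ecb2c)) (.node (.leaf 0x4d351430ba5d90c) (.leaf 0))) (.node (.node (.leaf 0x27645132cc325659) (.leaf 0)) (.node (.leaf 0x1228a59658a16cbacc) (.leaf 0))))))) (.node (.node (.node (.node (.node (.node (.leaf 0xeb4d592c86430c95b) (.leaf 0x26ac96590c2dbb0b)) (.node (.leaf 0x2494b75b325) (.leaf 0)))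 (.node (.node (.leaf 0x11592c9616eb75b) (.leaf 0)) (.node (.leaf 0x352275a75d6d96cc) (.leaf 0)))) (.node (.node (.node (.leaf 0x14513b24a6192992b) (.leaf 0x55b52ca5b764aeb)) (.node (.leaf 0x144eb74c3256cc) (.leaf 0))) (.node (.node (.leaf 0x1a69a9648596ebaec) (.leaf 0)) (.node (.leaf 0xdd6ab75d6996eb) (.leaf 0))))) (.node (.node (.node (.node (.leaf 0x6a589b4dd2dd665) (.leaf 0x4eb32c2ebb0c)) (.node (.leaf 0x2b2456590b6ec959) (.leaf 0))) (.node (.node (.leaf 0x156a44eb764aeb) (.leaf 0)) (.node (.leaf 0xd36a2b25964aec) (.leaf 0)))) (.node (.node (.node (.leaf 0x5913ad332cb0b659) (.leaf 0x3b2c4eb764aeb)) (.node (.leaf 0x156d352296175b765) (.leaf 0))) (.node (.node (.leaf 0x1a6d492cadd659) (.leaf 0)) (.node (.leaf 0x9a925753321859) (.leaf 0)))))) (.node (.node (.node (.node (.node (.leaf 0x49156d365b75bb0c) (.leaf 0x4aebb2c4e9)) (.node (.leaf 0x24aeb6a4b2530b664) (.leaf 0))) (.node (.node (.leaf 0x292c9132cc30cb2c) (.leaf 0)) (.node (.leaf 0x4ada96595b325) (.leaf 0)))) (.node (.node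 (.node (.leaf 0x28a44d34e975b765) (.leaf 0x1d8a595bacb32592b)) (.node (.leaf 0x5762) (.leaf 0))) (.node (.node (.leaf 0x29156d332575d661) (.leaf 0)) (.node (.leaf 0x2452baeb4cc30b) (.leaf 0))))) (.node (.node (.node (.node (.leaf 0x14914aa53216dd) (.leaf 0x8ac52432592965b)) (.node (.leaf 0x275a925759759965) (.leaf 0))) (.node (.node (.leaf 0x4aeb52cb252db) (.leaf 0)) (.node (.leaf 0x4d489d92975bb25) (.leaf 0)))) (.node (.node (.node (.leaf 0x595bb2c95b321) (.leaf 0xa26d352992cb2c)) (.node (.leaf 0x265990b) (.leaf 0))) (.node (.node (.leaf 0x456596432592965b) (.leaf 0)) (.node (.leaf 0xa45256a5964a59) (.leaf 0))))))))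

/-- part of transversal words -/
def node8L0word13 : Trie :=
  (.node (.node (.node (.node (.node (.node (.node (.leaf 0x12452574b2e990c) (.leaf 0xda764b132dd75d)) (.node (.leaf 0x148a2ad37626ccb0c) (.leaf 0))) (.node (.node (.leaf 0x49156d365b75bb2c) (.leaf 0)) (.node (.leaf 0x114add929859664) (.leaf 0)))) (.node (.node (.node (.leaf 0x5136ab65bacc94c) (.leaf 0x2269a92c4cba6185b)) (.node (.leaf 0xa275b32b65d92c) (.leaf 0))) (.node (.node (.leaf 0xdaadbada961) (.leaf 0)) (.node (.leaf 0xa596450b759959) (.leaf 0))))) (.node (.node (.node (.node (.leaf 0x56abada69b76165d) (.leaf 0x592575a75bacc2d9)) (.node (.leaf 0x14b2292590cb0bacc) (.leaf 0))) (.node (.node (.leaf 0x22b2596590c325865) (.leaf 0)) (.node (.leaf 0x2489d75b52c85b) (.leaf 0)))) (.node (.node (.node (.leaf 0x291575b2d986585b) (.leaf 0x226ac913a5baebadb)) (.node (.leaf 0xebada6eb2db) (.leaf 0))) (.node (.node (.leaf 0x92b75a6dd661864) (.leaf 0)) (.node (.leaf 0x575d6d3a5baebadb) (.leaf 0)))))) (.node (.node (.node (.node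 (.node (.leaf 0x26d489b2cc859) (.leaf 0x69d762b13add861)) (.node (.leaf 0x4b2b75b69d764) (.leaf 0))) (.node (.node (.leaf 0x2cb2c52585bb2c859) (.leaf 0)) (.node (.leaf 0x12c55baec90b6ebad9) (.leaf 0)))) (.node (.node (.node (.leaf 0x269a8abb2595b525) (.leaf 0xa5964ad4b0b2eb32c)) (.node (.leaf 0x245259228652db2dd) (.leaf 0))) (.node (.node (.leaf 0x3aeb6abb2285b661) (.leaf 0)) (.node (.leaf 0xdab2285b30c) (.leaf 0))))) (.node (.node (.node (.node (.leaf 0x2913ad5913acba5b) (.leaf 0x229148a296285d759)) (.node (.leaf 0x29136acb13aeba5b) (.leaf 0))) (.node (.node (.leaf 0x2b76489a66185b665) (.leaf 0)) (.node (.leaf 0xa28a4b2432590c321) (.leaf 0)))) (.node (.node (.node (.leaf 0xb2cb228a4b0bb21) (.leaf 0x6d4a656ec94b)) (.node (.leaf 0x1d6a592a65bb25) (.leaf 0))) (.node (.node (.leaf 0x52c8a4a5bb2b6cc) (.leaf 0)) (.node (.leaf 0x5644da75996190b) (.leaf 0))))))) (.node (.node (.node (.node (.node (.node (.leaf 0x256eb75375995b) (.leaf 0xadd94b321)) (.node (.leaf 0x524b134eb6cc2d9) (.leaf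 0))) (.node (.node (.leaf 0x2452bb2c9616eb65b) (.leaf 0)) (.node (.leaf 0x6d3adaacc32175b) (.leaf 0)))) (.node (.node (.node (.leaf 0x962b2432985b661) (.leaf 0x2292c9644eba5bacb)) (.node (.leaf 0x1a6a29296eca59) (.leaf 0))) (.node (.node (.leaf 0x6ebaeb6596ebaeb) (.leaf 0)) (.node (.leaf 0x5134da94cb2190b) (.leaf 0))))) (.node (.node (.node (.node (.leaf 0x289bb2452194cb0b) (.leaf 0x51589a6ecb0cb0b)) (.node (.leaf 0x289a913a9d92c94b) (.leaf 0))) (.node (.node (.leaf 0x3522b2269d6ecb25) (.leaf 0)) (.node (.leaf 0x10cb2c92b6ebaeb) (.leaf 0)))) (.node (.node (.node (.leaf 0xacb226eb52c864321) (.leaf 0x12292292c85d6e9)) (.node (.leaf 0x26a192974b) (.leaf 0))) (.node (.node (.leaf 0x289bad592c95965b) (.leaf 0)) (.node (.leaf 0x489aaec96175d321) (.leaf 0)))))) (.node (.node (.node (.node (.node (.leaf 0x12b55b4dd9542dbad9) (.leaf 0x5258a494c2dd664)) (.node (.leaf 0x8ac5648a4ae9664) (.leaf 0))) (.node (.node (.leaf 0x148a291496195badb) (.leaf 0)) (.node (.leaf 0xad352c89d6dd2dd) (.leaf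 0)))) (.node (.node (.node (.leaf 0x6d489bae9929) (.leaf 0x49159142cba5b74b)) (.node (.leaf 0x492bb0ca64) (.leaf 0))) (.node (.node (.leaf 0x2295bad4325964aec) (.leaf 0)) (.node (.leaf 0x2b762b13ad990b) (.leaf 0))))) (.node (.node (.node (.node (.leaf 0x2592ba9974c861) (.leaf 0x4d4514aeb2eb325)) (.node (.leaf 0x12575a6ec32592c) (.leaf 0))) (.node (.node (.leaf 0x6a56ec92c94c2dd) (.leaf 0)) (.node (.leaf 0xb14564b14b296d9) (.leaf 0)))) (.node (.node (.node (.leaf 0x29256a58642d9661) (.leaf 0x114b144dd2d990c)) (.node (.leaf 0x12575d764b0c2d9) (.leaf 0))) (.node (.node (.leaf 0xd3ada69a89bae992c) (.leaf 0)) (.node (.leaf 0x52bada95b74cb0b) (.leaf 0))))))))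

/-- part of transversal words -/
def node8L0word3 : Trie :=
  (.node (.node (.node (.node (.node (.node (.node (.leaf 0x2296496592ba616e9) (.leaf 0xb24b136a56dd90c)) (.node (.leaf 0x21b2592b6ec95b) (.leaf 0))) (.node (.node (.leaf 0x4ada6dd6ecb2a) (.leaf 0)) (.node (.leaf 0xa44dd96285badb) (.leaf 0)))) (.node (.node (.node (.leaf 0x226d4b2ca59665) (.leaf 0x9a6d36a592c85d)) (.node (.leaf 0x157644da74c3216cc) (.leaf 0))) (.node (.node (.leaf 0xa28ac92ba5badd2eb) (.leaf 0)) (.node (.leaf 0xa292592b6ea92c) (.leaf 0))))) (.node (.node (.node (.node (.leaf 0x8ac89d75b52c85b) (.leaf 0xaeb55bacb6cb2dd)) (.node (.leaf 0x4962add6d375974b) (.leaf 0))) (.node (.node (.leaf 0x4b22b25861759) (.leaf 0)) (.node (.leaf 0x13764513aea6dd664) (.leaf 0)))) (.node (.node (.node (.leaf 0x48a4b258a16cb659) (.leaf 0x1a6a44cbacc859)) (.node (.leaf 0x2ada6acadba6592b) (.leaf 0))) (.node (.node (.leaf 0x26eb66596574b) (.leaf 0)) (.node (.leaf 0x4ad9861) (.leaf 0)))))) (.node (.node (.node (.node (.node (.leaf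 0x49159144cb74ba5b) (.leaf 0x9a92c89bacca64)) (.node (.leaf 0x8a48ab4cbad9665) (.leaf 0))) (.node (.node (.leaf 0x4d451592992c2ec) (.leaf 0)) (.node (.leaf 0xadaadd75b66190c) (.leaf 0)))) (.node (.node (.node (.leaf 0x115922b2c2eba64) (.leaf 0x14aec9656da865)) (.node (.leaf 0x2b1595bad96eb65b) (.leaf 0))) (.node (.node (.leaf 0x4ebb2289966185b) (.leaf 0)) (.node (.leaf 0x6d45656cba5ba5b) (.leaf 0))))) (.node (.node (.node (.node (.leaf 0x15914aeb2d9865) (.leaf 0xda6a592a92c859)) (.node (.leaf 0x12cb2296292b6cbaec) (.leaf 0))) (.node (.node (.leaf 0xa44d330c2dbb25) (.leaf 0)) (.node (.leaf 0x15914b2c85d6cb74b) (.leaf 0)))) (.node (.node (.node (.leaf 0xd450b75d2db) (.leaf 0x134ec8652dd859)) (.node (.leaf 0xec9644ebaeca64) (.leaf 0))) (.node (.node (.leaf 0x114add6a192cb0c) (.leaf 0)) (.node (.leaf 0x922b1489d6ec959) (.leaf 0))))))) (.node (.node (.node (.node (.node (.node (.leaf 0x11569b5252d9961) (.leaf 0x145134da92a96194c)) (.node (.leaf 0x9d6d49626eb50b6e9) (.leaf 0))) (.node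 (.node (.leaf 0xa292286192992c) (.leaf 0)) (.node (.leaf 0x292b69a864acb6eb) (.leaf 0)))) (.node (.node (.node (.leaf 0x11456269974c861) (.leaf 0x1aadd965929864b25)) (.node (.leaf 0x4da92575a759861) (.leaf 0))) (.node (.node (.leaf 0x12452590c9642db) (.leaf 0)) (.node (.leaf 0x15976532b) (.leaf 0))))) (.node (.node (.node (.node (.leaf 0x514564964adba65) (.leaf 0x575a90ca5b74c)) (.node (.leaf 0x156eb514b0b74bacb) (.leaf 0))) (.node (.node (.leaf 0x2b664adba64) (.leaf 0)) (.node (.leaf 0x28a275ab2592cb13) (.leaf 0)))) (.node (.node (.node (.leaf 0x35648a4b2275badb) (.leaf 0x1375d6ec4dd6ebaeb)) (.node (.leaf 0x522add75d92a859) (.leaf 0))) (.node (.node (.leaf 0x1351489bada6eb65b) (.leaf 0)) (.node (.leaf 0x51489aad9964b2c) (.leaf 0)))))) (.node (.node (.node (.node (.node (.leaf 0x1a75a6ec5258642cb) (.leaf 0x6d5964ae9664)) (.node (.leaf 0x4d495992caeb) (.leaf 0))) (.node (.node (.leaf 0x9d6a451365d6656d9) (.leaf 0)) (.node (.leaf 0xd44eb76590b75d) (.leaf 0)))) (.node (.node (.node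 (.leaf 0x1d76592c94c32190c) (.leaf 0x1a69a9658a4add659)) (.node (.leaf 0x95b4da90ca65864) (.leaf 0))) (.node (.node (.leaf 0xa596589a6eb30cad9) (.leaf 0)) (.node (.leaf 0x5244da95badd52c) (.leaf 0))))) (.node (.node (.node (.node (.leaf 0x2cb1591369990c94b) (.leaf 0x52269bb156dd92cacb)) (.node (.leaf 0x1b51595b4dd2db) (.leaf 0))) (.node (.node (.leaf 0x1a6d36ab2cbadd90c) (.leaf 0)) (.node (.leaf 0x1455b4ebaeb6cc85b) (.leaf 0)))) (.node (.node (.node (.leaf 0x96494b2e975b) (.leaf 0x4d45159296dd661)) (.node (.leaf 0x8ac4dd6a4b2c2db) (.leaf 0))) (.node (.node (.leaf 0x22aeb32c96565b) (.leaf 0)) (.node (.leaf 0x356296432585b) (.leaf 0))))))))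

/-- part of transversal words -/
def node8L0word11 : Trie :=
  (.node (.node (.node (.node (.node (.node (.node (.leaf 0x913ada6dd32b665) (.leaf 0x52c92b659964acb)) (.node (.leaf 0x56486590b759) (.leaf 0))) (.node (.node (.leaf 0x1d6d432574b75d) (.leaf 0)) (.node (.leaf 0x26ab4da8642eb759) (.leaf 0)))) (.node (.node (.node (.leaf 0x44eb56432cadb321) (.leaf 0xecb1492b69d65baeb)) (.node (.leaf 0xaec91432c32990c) (.leaf 0))) (.node (.node (.leaf 0x24524b1495d3216e9) (.leaf 0)) (.node (.leaf 0x1aaec85d6ec959) (.leaf 0))))) (.node (.node (.node (.node (.leaf 0x1591575b52185b321) (.leaf 0x1d91375b74b)) (.node (.leaf 0x4ec913a9baeb665) (.leaf 0))) (.node (.node (.leaf 0x2452bada66594b) (.leaf 0)) (.node (.leaf 0xa48a4a642cb764) (.leaf 0)))) (.node (.node (.node (.leaf 0x95d6d365d6ec85d) (.leaf 0xac964b2175badb)) (.node (.leaf 0x44ec8a269badbaeb) (.leaf 0))) (.node (.node (.leaf 0x2adab2cb0b65ba5b) (.leaf 0)) (.node (.leaf 0x4d3b2c2eb32c) (.leaf 0)))))) (.node (.node (.node (.node (.node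 (.leaf 0x29648a42d96642cb) (.leaf 0x48ab4eb52cb296e9)) (.node (.leaf 0x11592c9616eb65b) (.leaf 0))) (.node (.node (.leaf 0x4eb75a91494cadb) (.leaf 0)) (.node (.leaf 0x48ab75a964a5b) (.leaf 0)))) (.node (.node (.node (.leaf 0x4ebada6596ebaec) (.leaf 0x244da75d6e996190b)) (.node (.leaf 0x148a2915765914959) (.leaf 0))) (.node (.node (.leaf 0x3adab14a656eb74b) (.leaf 0)) (.node (.leaf 0x14b24b25864add759) (.leaf 0))))) (.node (.node (.node (.node (.leaf 0x11455d6ab69986190c) (.leaf 0x2489d92585bad96e9)) (.node (.leaf 0x513522add94b765) (.leaf 0))) (.node (.node (.leaf 0x9a91592c4eb2dd) (.leaf 0)) (.node (.leaf 0x4eb52c52cadb325) (.leaf 0)))) (.node (.node (.node (.leaf 0x1d8ac914521864ad9) (.leaf 0x136a595d76430b664)) (.node (.leaf 0x149148acb0c96185d) (.leaf 0))) (.node (.node (.leaf 0x1375a76432965992c) (.leaf 0)) (.node (.leaf 0x4d4522add75990b) (.leaf 0))))))) (.node (.node (.node (.node (.node (.node (.leaf 0x49148a589d6eb329) (.leaf 0x9144eb66590b6ec)) (.node (.leaf 0x30b664acc)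 (.leaf 0))) (.node (.node (.leaf 0x6ac2d992ca5b) (.leaf 0)) (.node (.leaf 0x491352caeb65b2dd) (.leaf 0)))) (.node (.node (.node (.leaf 0x2295d6eca9b30c) (.leaf 0x4ecb22acb2cc30b)) (.node (.leaf 0x56455a6d4864a5b) (.leaf 0))) (.node (.node (.leaf 0x14b24a658652dd) (.leaf 0)) (.node (.leaf 0xa56ec91375ba5b) (.leaf 0))))) (.node (.node (.node (.node (.leaf 0x3b2595bacb32590b) (.leaf 0xa58ab75d521664)) (.node (.leaf 0x2292ba5974c965) (.leaf 0))) (.node (.node (.leaf 0x9a6a451575b32594b) (.leaf 0)) (.node (.leaf 0x114ada92cada95b74b) (.leaf 0)))) (.node (.node (.node (.leaf 0x9bada65baebadb) (.leaf 0x158a56ec9616cc)) (.node (.leaf 0x292badaaeb6596eb) (.leaf 0))) (.node (.node (.leaf 0x495b4eb32c95992b) (.leaf 0)) (.node (.leaf 0x6ab6a590c94c85d) (.leaf 0)))))) (.node (.node (.node (.node (.node (.leaf 0x9bad996595b) (.leaf 0x4da9134d990ca5b)) (.node (.leaf 0x2b22aeb65b75bb2c) (.leaf 0))) (.node (.node (.leaf 0x14b258a595496165d) (.leaf 0)) (.node (.leaf 0x148abaeba64329) (.leaf 0))))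 (.node (.node (.node (.leaf 0x13b2c964864b2175b) (.leaf 0x36a2b2bacba5b74b)) (.node (.leaf 0x295a92cadb321) (.leaf 0))) (.node (.node (.leaf 0x162b22925914b0b75b) (.leaf 0)) (.node (.leaf 0x6d4ada75b659) (.leaf 0))))) (.node (.node (.node (.node (.leaf 0x1a75a8a2acb7616dd) (.leaf 0x24add9134d96cb2dd)) (.node (.leaf 0xa56ec90b65ba5b) (.leaf 0))) (.node (.node (.leaf 0x9d6a451369d6656d9) (.leaf 0)) (.node (.leaf 0x5148a2b2c95d659) (.leaf 0)))) (.node (.node (.node (.leaf 0x15d6eb52c32574b) (.leaf 0x289b32c94b)) (.node (.leaf 0x4cc95bb0c) (.leaf 0))) (.node (.node (.leaf 0x494bad9961) (.leaf 0)) (.node (.leaf 0x52cb14a5d94c2d9) (.leaf 0))))))))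

/-- part of transversal words -/
def node8L0word7 : Trie :=
  (.node (.node (.node (.node (.node (.node (.node (.leaf 0x1489d9149617642eb) (.leaf 0x913aeb65bb0b75d)) (.node (.leaf 0x514564864aeb665) (.leaf 0))) (.node (.node (.leaf 0x13ad48a275d6a4b25) (.leaf 0)) (.node (.leaf 0x8ab4da964add964) (.leaf 0)))) (.node (.node (.node (.leaf 0x95b524b226ebadb) (.leaf 0xd576595d664)) (.node (.leaf 0x226acb296cb30c) (.leaf 0))) (.node (.node (.leaf 0x9bada9659652db) (.leaf 0)) (.node (.leaf 0xa45148a4b252eb665) (.leaf 0))))) (.node (.node (.node (.node (.leaf 0x24b1489aadb4eb759) (.leaf 0x29134d58a175ba61)) (.node (.leaf 0x292b69b32c30c95b) (.leaf 0))) (.node (.node (.leaf 0x3b259142dbacc32c) (.leaf 0)) (.node (.leaf 0x22aeb52c96565b) (.leaf 0)))) (.node (.node (.node (.leaf 0x29228acb2cb2995b) (.leaf 0x28acadd6ea9642e9)) (.node (.leaf 0xada95b2eb2dd664) (.leaf 0))) (.node (.node (.leaf 0x6d45656eb74ba5b) (.leaf 0)) (.node (.leaf 0x489b4d376552ca61) (.leaf 0)))))) (.node (.node (.node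 (.node (.node (.leaf 0xa4b156dd85975d) (.leaf 0x75d6d49616e9)) (.node (.leaf 0x52cb22b0c96530b) (.leaf 0))) (.node (.node (.leaf 0x6d56d575b32194b) (.leaf 0)) (.node (.leaf 0x4eb55bad36cb2dd) (.leaf 0)))) (.node (.node (.node (.leaf 0x136a4aeb664ae9) (.leaf 0x452bad3acca65)) (.node (.leaf 0x26d4b14b2baebaa1) (.leaf 0))) (.node (.node (.leaf 0x89b4da914a65864) (.leaf 0)) (.node (.leaf 0x5913a5baeb761) (.leaf 0))))) (.node (.node (.node (.node (.leaf 0x491355d75d6596cb) (.leaf 0x8ab4da92ca64a64)) (.node (.leaf 0x1375b51496450cad9) (.leaf 0))) (.node (.node (.leaf 0x113522b0c86192c) (.leaf 0)) (.node (.leaf 0x4d495d92cadb525) (.leaf 0)))) (.node (.node (.node (.leaf 0x24ada69d75b4dd92c) (.leaf 0xebb2caeb521)) (.node (.leaf 0x26a489baa42dbb2c) (.leaf 0))) (.node (.node (.leaf 0x489a6d3add6ec329) (.leaf 0)) (.node (.leaf 0x26a292975b325) (.leaf 0))))))) (.node (.node (.node (.node (.node (.node (.leaf 0x6ecb24ad965badd) (.leaf 0x495b5242e9661929)) (.node (.leaf 0x28ac92baeb6d495b) (.leaf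 0))) (.node (.node (.leaf 0x2275b4da75bb2985d) (.leaf 0)) (.node (.leaf 0x113ada6cb2dd30c) (.leaf 0)))) (.node (.node (.node (.leaf 0x26ac52caeb4eb325) (.leaf 0xd35149532dd965)) (.node (.leaf 0x14b2c8a292cb2b74c) (.leaf 0))) (.node (.node (.leaf 0x1b4ecb2cb0b2cc) (.leaf 0)) (.node (.leaf 0x113ad4b2ca5b) (.leaf 0))))) (.node (.node (.node (.node (.leaf 0x45648a585d65d2db) (.leaf 0x89a6d56ebaa4add)) (.node (.leaf 0x2b22aebad4b0b) (.leaf 0))) (.node (.node (.leaf 0x292c55badd94c861) (.leaf 0)) (.node (.leaf 0x26d492badd95a) (.leaf 0)))) (.node (.node (.node (.leaf 0x92baeb69b76165d) (.leaf 0x14513aeb4dd92c30c)) (.node (.leaf 0x914b2292c89d6e9) (.leaf 0))) (.node (.node (.leaf 0x11575b52c30caeb) (.leaf 0)) (.node (.leaf 0x4d56a4b296e9) (.leaf 0)))))) (.node (.node (.node (.node (.node (.leaf 0x495b4da914a5b75d) (.leaf 0x22b1369d75baa56dd)) (.node (.leaf 0x92c91495baeb65d) (.leaf 0))) (.node (.node (.leaf 0x13ad495baec95d) (.leaf 0)) (.node (.leaf 0x9a89b74ba5b) (.leaf 0)))) (.node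 (.node (.node (.leaf 0x452c5149658a52d9) (.leaf 0x922add6d4964a5b)) (.node (.leaf 0x122add69992ca5b) (.leaf 0))) (.node (.node (.leaf 0x2913ad590bacba5b) (.leaf 0)) (.node (.leaf 0x162925864b0b2ec) (.leaf 0))))) (.node (.node (.node (.node (.leaf 0x4da96292b6d375d) (.leaf 0x34d369aaebadd2cb)) (.node (.leaf 0x29626d3aa590b75b) (.leaf 0))) (.node (.node (.leaf 0x1148ab75d75b759) (.leaf 0)) (.node (.leaf 0xa59259619296cb) (.leaf 0)))) (.node (.node (.node (.leaf 0x24add6a450bad96ec) (.leaf 0x4514add65d964b0b)) (.node (.leaf 0x2289d69baebada6e9) (.leaf 0))) (.node (.node (.leaf 0x114564a65861759) (.leaf 0)) (.node (.leaf 0x4d352596565b) (.leaf 0))))))))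

/-- part of transversal words -/
def node8L0word15 : Trie :=
  (.node (.node (.node (.node (.node (.node (.node (.leaf 0x51591332175d6cb) (.leaf 0x14524b13ada65badd)) (.node (.leaf 0x513522aebad430b) (.leaf 0))) (.node (.node (.leaf 0x226d58a4add964) (.leaf 0)) (.node (.leaf 0xa56d44dd321859) (.leaf 0)))) (.node (.node (.node (.leaf 0xb259648596ebb21) (.leaf 0x56cc92baebb2b)) (.node (.leaf 0x16591496275b321) (.leaf 0))) (.node (.node (.leaf 0x491575bacc964adb) (.leaf 0)) (.node (.leaf 0x452bacbacca65) (.leaf 0))))) (.node (.node (.node (.node (.leaf 0x2291496275d69b75d) (.leaf 0x4d56d494c85b2cc)) (.node (.leaf 0x4ada92590c96574b) (.leaf 0))) (.node (.node (.leaf 0x95b4dd6d36e975d) (.leaf 0)) (.node (.leaf 0x2cada74c8652cb) (.leaf 0)))) (.node (.node (.node (.leaf 0x49148a589d6ebb29) (.leaf 0x144d36a56dd2cb75d)) (.node (.leaf 0x259645256da6ecb21) (.leaf 0))) (.node (.node (.leaf 0xb2c89bacc3216ec) (.leaf 0)) (.node (.leaf 0xda6acadbaa592b) (.leaf 0)))))) (.node (.node (.node (.node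 (.node (.leaf 0x3524b13ad3add85b) (.leaf 0x34d489d2d990b)) (.node (.leaf 0xeb524add6dd2d9) (.leaf 0))) (.node (.node (.leaf 0x4d351450ba5d90c) (.leaf 0)) (.node (.leaf 0x1a6d56d3a9b325965) (.leaf 0)))) (.node (.node (.node (.leaf 0xa48a45137532dbadd) (.leaf 0x269a925759759961)) (.node (.leaf 0x22aeb30c96575b) (.leaf 0))) (.node (.node (.leaf 0xa451455a6eb2ec95b) (.leaf 0)) (.node (.leaf 0xb22b22861659) (.leaf 0))))) (.node (.node (.node (.node (.leaf 0x4ada92cada965) (.leaf 0x15bb24b242ccb2cb2c)) (.node (.leaf 0x4ada96595b521) (.leaf 0))) (.node (.node (.leaf 0x12caeb4eb325) (.leaf 0)) (.node (.leaf 0x289b55ba5d90c2d9) (.leaf 0)))) (.node (.node (.node (.leaf 0x1369b4dd6a59616eb) (.leaf 0x24b25965929861659)) (.node (.leaf 0x34eb6a495b2eb325) (.leaf 0))) (.node (.node (.leaf 0xd332165ba64) (.leaf 0)) (.node (.leaf 0xac89d6cb759) (.leaf 0))))))) (.node (.node (.node (.node (.node (.node (.leaf 0x1575d92b75a90ca5b) (.leaf 0x248a45134cb75d2d9)) (.node (.leaf 0x9aad48a52dd661) (.leaf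 0))) (.node (.node (.leaf 0x69a922adb525759) (.leaf 0)) (.node (.leaf 0x14513ad592b6eb325) (.leaf 0)))) (.node (.node (.node (.leaf 0x1b51595375d2db) (.leaf 0x26ac95992cacb)) (.node (.leaf 0x92c4dd6d375d74b) (.leaf 0))) (.node (.node (.leaf 0x28a26d43216dd964) (.leaf 0)) (.node (.leaf 0x55ba6590b764) (.leaf 0))))) (.node (.node (.node (.node (.leaf 0x34eb6a495b2eb321) (.leaf 0x8a456450c32190b)) (.node (.leaf 0x15bb24b244ccb2cb2c) (.leaf 0))) (.node (.node (.leaf 0x144dd6d565d74c85b) (.leaf 0)) (.node (.leaf 0x1a6eca616eb30c) (.leaf 0)))) (.node (.node (.node (.leaf 0x2489a75d75a664321) (.leaf 0xd56ec9626eb75b)) (.node (.leaf 0x1595b529964a5b) (.leaf 0))) (.node (.node (.leaf 0x29156d3aeb6cb661) (.leaf 0)) (.node (.leaf 0x2bad48a52dd661) (.leaf 0)))))) (.node (.node (.node (.node (.node (.leaf 0x452b76485d65b74b) (.leaf 0x89d914adb32c)) (.node (.leaf 0x124b2589bad974b) (.leaf 0))) (.node (.node (.leaf 0x495a75bacb664b21) (.leaf 0)) (.node (.leaf 0x249659256cb2dd6ec) (.leaf 0))))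 (.node (.node (.node (.leaf 0x269a925759759965) (.leaf 0x113aecb2ca5b)) (.node (.leaf 0x2adab2cb1375ba5b) (.leaf 0))) (.node (.node (.leaf 0x1d6d495365b759) (.leaf 0)) (.node (.leaf 0x56a192974b) (.leaf 0))))) (.node (.node (.node (.node (.leaf 0x2b55a925759759865) (.leaf 0x2bb244dd32175d)) (.node (.leaf 0x295d69bad965bad9) (.leaf 0))) (.node (.node (.leaf 0x2596289b2eb2cc95b) (.leaf 0)) (.node (.leaf 0x13a9990ca5b) (.leaf 0)))) (.node (.node (.node (.leaf 0x26a291565b32194b) (.leaf 0x26a289a74c30ca5b)) (.node (.leaf 0x1baa590b764) (.leaf 0))) (.node (.node (.leaf 0x22925765964ada) (.leaf 0)) (.node (.leaf 0x9a89b74b74b) (.leaf 0))))))))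

/-- transversal words -/
def node8L0word : Trie :=
  (.node (.node (.node (.node node8L0word0 node8L0word8) (.node node8L0word4 node8L0word12)) (.node (.node node8L0word2 node8L0word10) (.node node8L0word6 node8L0word14))) (.node (.node (.node node8L0word1 node8L0word9) (.node node8L0word5 node8L0word13)) (.node (.node node8L0word3 node8L0word11) (.node node8L0word7 node8L0word15))))

/-- part of closing hints -/
def node8L0close0 : Trie :=
  (.node (.node (.node (.node (.node (.node (.node (.leaf 0x3001000) (.leaf 0x332)) (.node (.leaf 0x40011f9) (.leaf 0))) (.node (.node (.leaf 0xa7) (.leaf 0)) (.node (.leaf 0x3d1) (.leaf 0)))) (.node (.node (.node (.leaf 0xc5) (.leaf 0x10020004d4)) (.node (.leaf 0x355) (.leaf 0))) (.node (.node (.leaf 0x109) (.leaf 0)) (.node (.leaf 0x10010013c7) (.leaf 0))))) (.node (.node (.node (.node (.leaf 0x28) (.leaf 0x5001440)) (.node (.leaf 0x19c) (.leaf 0))) (.node (.node (.leaf 0xd4) (.leaf 0)) (.node (.leaf 0x2eb) (.leaf 0)))) (.node (.node (.node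 (.leaf 0x30010c0) (.leaf 0x300044a)) (.node (.leaf 0x39c) (.leaf 0))) (.node (.node (.leaf 0x10010011c0) (.leaf 0)) (.node (.leaf 0x2ec) (.leaf 0)))))) (.node (.node (.node (.node (.node (.leaf 0x33) (.leaf 0x50013f6)) (.node (.leaf 0x181) (.leaf 0))) (.node (.node (.leaf 0x19d) (.leaf 0)) (.node (.leaf 0x500137c) (.leaf 0)))) (.node (.node (.node (.leaf 0x66) (.leaf 0x40014e2)) (.node (.leaf 0x334) (.leaf 0))) (.node (.node (.leaf 0x122) (.leaf 0)) (.node (.leaf 0x2c5) (.leaf 0))))) (.node (.node (.node (.node (.leaf 0x97) (.leaf 0x3a7)) (.node (.leaf 0x1004001260) (.leaf 0))) (.node (.node (.leaf 0x1f0) (.leaf 0)) (.node (.leaf 0x42e) (.leaf 0)))) (.node (.node (.node (.leaf 0x14d) (.leaf 0x50004f6)) (.node (.leaf 0x3b1) (.leaf 0))) (.node (.node (.leaf 0x153) (.leaf 0)) (.node (.leaf 0x48a) (.leaf 0))))))) (.node (.node (.node (.node (.node (.node (.leaf 0x19) (.leaf 0x2001410)) (.node (.leaf 0x2d2) (.leaf 0))) (.node (.node (.leaf 0x189) (.leaf 0)) (.node (.leaf 0x10020012a4)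 (.leaf 0)))) (.node (.node (.node (.leaf 0xdd) (.leaf 0x3000446)) (.node (.leaf 0x1dc) (.leaf 0))) (.node (.node (.leaf 0x117) (.leaf 0)) (.node (.leaf 0x2b3) (.leaf 0))))) (.node (.node (.node (.node (.leaf 0x7d) (.leaf 0x100100147a)) (.node (.leaf 0x31c) (.leaf 0))) (.node (.node (.leaf 0xe2) (.leaf 0)) (.node (.leaf 0x41e) (.leaf 0)))) (.node (.node (.node (.leaf 0x88) (.leaf 0x4f9)) (.node (.leaf 0x3a6) (.leaf 0))) (.node (.node (.leaf 0x281) (.leaf 0)) (.node (.leaf 0x10010013de) (.leaf 0)))))) (.node (.node (.node (.node (.node (.leaf 0x1e) (.leaf 0x382)) (.node (.leaf 0x18e) (.leaf 0))) (.node (.node (.leaf 0x1b4) (.leaf 0)) (.node (.leaf 0x500136d) (.leaf 0)))) (.node (.node (.node (.leaf 0x71) (.leaf 0x5000435)) (.node (.leaf 0x38d) (.leaf 0))) (.node (.node (.leaf 0x25a) (.leaf 0)) (.node (.leaf 0x20013b0) (.leaf 0))))) (.node (.node (.node (.node (.leaf 0x47) (.leaf 0x1004001470)) (.node (.leaf 0x1c3) (.leaf 0))) (.node (.node (.leaf 0x208) (.leaf 0)) (.node (.leaf 0x438)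 (.leaf 0)))) (.node (.node (.node (.leaf 0x9d) (.leaf 0x10050014f4)) (.node (.leaf 0x1003001264) (.leaf 0))) (.node (.node (.leaf 0x160) (.leaf 0)) (.node (.leaf 0x31f) (.leaf 0))))))))

/-- part of closing hints -/
def node8L0close16 : Trie :=
  (.node (.node (.node (.node (.node (.node (.node (.leaf 0xd) (.leaf 0x33a)) (.node (.leaf 0x170) (.leaf 0))) (.node (.node (.leaf 0x17f) (.leaf 0)) (.node (.leaf 0x3d9) (.leaf 0)))) (.node (.node (.node (.leaf 0xd0) (.leaf 0x10030004bf)) (.node (.leaf 0x1d5) (.leaf 0))) (.node (.node (.leaf 0x1004001188) (.leaf 0)) (.node (.leaf 0x1002001388) (.leaf 0))))) (.node (.node (.node (.node (.leaf 0x72) (.leaf 0x385)) (.node (.leaf 0x314) (.leaf 0))) (.node (.node (.leaf 0xdc) (.leaf 0)) (.node (.leaf 0x40b) (.leaf 0)))) (.node (.node (.node (.leaf 0x12f) (.leaf 0x100100149c)) (.node (.leaf 0x5001296) (.leaf 0))) (.node (.node (.leaf 0x276) (.leaf 0)) (.node (.leaf 0x30002ff) (.leaf 0)))))) (.node (.node (.node (.node (.node (.leaf 0x40) (.leaf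 0x1005000496)) (.node (.leaf 0x187) (.leaf 0))) (.node (.node (.leaf 0xc3) (.leaf 0)) (.node (.leaf 0x3001368) (.leaf 0)))) (.node (.node (.node (.leaf 0x6c) (.leaf 0x50004ef)) (.node (.leaf 0x1005000335) (.leaf 0))) (.node (.node (.leaf 0x24e) (.leaf 0)) (.node (.leaf 0x2d1) (.leaf 0))))) (.node (.node (.node (.node (.leaf 0x42) (.leaf 0x3b2)) (.node (.leaf 0x1001001268) (.leaf 0))) (.node (.node (.leaf 0x1fd) (.leaf 0)) (.node (.leaf 0x3001328) (.leaf 0)))) (.node (.node (.node (.leaf 0x5000143) (.leaf 0x2001491)) (.node (.leaf 0x223) (.leaf 0))) (.node (.node (.leaf 0x158) (.leaf 0)) (.node (.leaf 0x318) (.leaf 0))))))) (.node (.node (.node (.node (.node (.node (.leaf 0x26) (.leaf 0x4b2)) (.node (.leaf 0x265) (.leaf 0))) (.node (.node (.leaf 0x192) (.leaf 0)) (.node (.leaf 0x3e8) (.leaf 0)))) (.node (.node (.node (.leaf 0x20000de) (.leaf 0x1002000462)) (.node (.leaf 0x371) (.leaf 0))) (.node (.node (.leaf 0x23d) (.leaf 0)) (.node (.leaf 0x454) (.leaf 0))))) (.node (.node (.node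 (.node (.leaf 0x8a) (.leaf 0x1000000497)) (.node (.leaf 0x327) (.leaf 0))) (.node (.node (.leaf 0x1e8) (.leaf 0)) (.node (.leaf 0x426) (.leaf 0)))) (.node (.node (.node (.leaf 0x8d) (.leaf 0x46c)) (.node (.leaf 0x100022d) (.leaf 0))) (.node (.node (.leaf 0x28c) (.leaf 0)) (.node (.leaf 0x2001372) (.leaf 0)))))) (.node (.node (.node (.node (.node (.leaf 0x23) (.leaf 0x370)) (.node (.leaf 0x30002bc) (.leaf 0))) (.node (.node (.leaf 0xce) (.leaf 0)) (.node (.leaf 0x2001338) (.leaf 0)))) (.node (.node (.node (.leaf 0x119) (.leaf 0x10010014b8)) (.node (.leaf 0x10000012be) (.leaf 0))) (.node (.node (.leaf 0x100100016d) (.leaf 0)) (.node (.leaf 0x2e5) (.leaf 0))))) (.node (.node (.node (.node (.leaf 0x4c) (.leaf 0x3c6)) (.node (.leaf 0x1c9) (.leaf 0))) (.node (.node (.leaf 0x214) (.leaf 0)) (.node (.leaf 0x10050013dc) (.leaf 0)))) (.node (.node (.node (.leaf 0xa2) (.leaf 0x10000014f2)) (.node (.leaf 0x100300037f) (.leaf 0))) (.node (.node (.leaf 0x165) (.leaf 0)) (.node (.leaf 0x5000345)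 (.leaf 0))))))))

/-- part of closing hints -/
def node8L0close8 : Trie :=
  (.node (.node (.node (.node (.node (.node (.node (.leaf 0x7) (.leaf 0x336)) (.node (.leaf 0x2c4) (.leaf 0))) (.node (.node (.leaf 0x17a) (.leaf 0)) (.node (.leaf 0x10012da) (.leaf 0)))) (.node (.node (.node (.leaf 0xca) (.leaf 0x1000001434)) (.node (.leaf 0x35a) (.leaf 0))) (.node (.node (.leaf 0x10d) (.leaf 0)) (.node (.leaf 0x447) (.leaf 0))))) (.node (.node (.node (.node (.leaf 0x6b) (.leaf 0x1002001444)) (.node (.leaf 0x19f) (.leaf 0))) (.node (.node (.leaf 0x1004001144) (.leaf 0)) (.node (.leaf 0x271) (.leaf 0)))) (.node (.node (.node (.leaf 0x12a) (.leaf 0x100200043e)) (.node (.leaf 0x204) (.leaf 0))) (.node (.node (.leaf 0x13d) (.leaf 0)) (.node (.leaf 0x477) (.leaf 0)))))) (.node (.node (.node (.node (.node (.leaf 0x17) (.leaf 0x4b9)) (.node (.leaf 0x2ea) (.leaf 0))) (.node (.node (.leaf 0x159) (.leaf 0)) (.node (.leaf 0x256) (.leaf 0)))) (.node (.node (.node (.leaf 0x69) (.leaf 0x300148f)) (.node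 (.leaf 0x1002001310) (.leaf 0))) (.node (.node (.leaf 0x24a) (.leaf 0)) (.node (.leaf 0x2ca) (.leaf 0))))) (.node (.node (.node (.node (.leaf 0x3f) (.leaf 0x3ab)) (.node (.leaf 0x10050012f0) (.leaf 0))) (.node (.node (.leaf 0x1f6) (.leaf 0)) (.node (.leaf 0x20013be) (.leaf 0)))) (.node (.node (.node (.leaf 0x95) (.leaf 0x50004ec)) (.node (.leaf 0x21f) (.leaf 0))) (.node (.node (.leaf 0x29c) (.leaf 0)) (.node (.leaf 0x32a) (.leaf 0))))))) (.node (.node (.node (.node (.node (.node (.leaf 0x1f) (.leaf 0x100100144c)) (.node (.leaf 0x178) (.leaf 0))) (.node (.node (.leaf 0xb5) (.leaf 0)) (.node (.leaf 0x248) (.leaf 0)))) (.node (.node (.node (.leaf 0x5e) (.leaf 0x3f3)) (.node (.leaf 0x50012d6) (.leaf 0))) (.node (.node (.leaf 0x1005000227) (.leaf 0)) (.node (.leaf 0x2b6) (.leaf 0))))) (.node (.node (.node (.node (.leaf 0x35) (.leaf 0x398)) (.node (.leaf 0x1ac) (.leaf 0))) (.node (.node (.leaf 0x1e2) (.leaf 0)) (.node (.leaf 0x423) (.leaf 0)))) (.node (.node (.node (.leaf 0x140) (.leaf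 0x1002000480)) (.node (.leaf 0x32e) (.leaf 0))) (.node (.node (.leaf 0x286) (.leaf 0)) (.node (.leaf 0x483) (.leaf 0)))))) (.node (.node (.node (.node (.node (.leaf 0x52) (.leaf 0x1484)) (.node (.leaf 0x2fd) (.leaf 0))) (.node (.node (.leaf 0x50000d9) (.leaf 0)) (.node (.leaf 0x2a0) (.leaf 0)))) (.node (.node (.node (.leaf 0x1000076) (.leaf 0x400045a)) (.node (.leaf 0x1f5) (.leaf 0))) (.node (.node (.leaf 0x130) (.leaf 0)) (.node (.leaf 0x46a) (.leaf 0))))) (.node (.node (.node (.node (.leaf 0x49) (.leaf 0x100300146d)) (.node (.leaf 0x1c7) (.leaf 0))) (.node (.node (.leaf 0x20f) (.leaf 0)) (.node (.leaf 0x1000413) (.leaf 0)))) (.node (.node (.node (.leaf 0x10010010f4) (.leaf 0x10030014f0)) (.node (.leaf 0x1005000349) (.leaf 0))) (.node (.node (.leaf 0x2b2) (.leaf 0)) (.node (.leaf 0x4001403) (.leaf 0))))))))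

/-- part of closing hints -/
def node8L0close24 : Trie :=
  (.node (.node (.node (.node (.node (.node (.node (.leaf 0x200100c) (.leaf 0x33c)) (.node (.leaf 0x2cf) (.leaf 0))) (.node (.node (.leaf 0xaf) (.leaf 0)) (.node (.leaf 0x23f) (.leaf 0)))) (.node (.node (.node (.leaf 0x59) (.leaf 0x3e3)) (.node (.leaf 0x1d8) (.leaf 0))) (.node (.node (.leaf 0x112) (.leaf 0)) (.node (.leaf 0x1326) (.leaf 0))))) (.node (.node (.node (.node (.leaf 0x78) (.leaf 0x1001001414)) (.node (.leaf 0x1a6) (.leaf 0))) (.node (.node (.leaf 0x1d6) (.leaf 0)) (.node (.leaf 0x277) (.leaf 0)))) (.node (.node (.node (.leaf 0x135) (.leaf 0x457)) (.node (.leaf 0x100300022e) (.leaf 0))) (.node (.node (.leaf 0x27d) (.leaf 0)) (.node (.leaf 0x1003001315) (.leaf 0)))))) (.node (.node (.node (.node (.node (.leaf 0x1c) (.leaf 0x35d)) (.node (.leaf 0x18a) (.leaf 0))) (.node (.node (.leaf 0x1af) (.leaf 0)) (.node (.leaf 0x3fc) (.leaf 0)))) (.node (.node (.node (.leaf 0x107) (.leaf 0x200043f)) (.node (.leaf 0x38a) (.leaf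 0))) (.node (.node (.leaf 0x254) (.leaf 0)) (.node (.leaf 0x30013ac) (.leaf 0))))) (.node (.node (.node (.node (.leaf 0xa8) (.leaf 0x4d8)) (.node (.leaf 0x33d) (.leaf 0))) (.node (.node (.leaf 0xfb) (.leaf 0)) (.node (.leaf 0x436) (.leaf 0)))) (.node (.node (.node (.leaf 0x15c) (.leaf 0x40004e4)) (.node (.leaf 0x3c0) (.leaf 0))) (.node (.node (.leaf 0x10030011d7) (.leaf 0)) (.node (.leaf 0x31b) (.leaf 0))))))) (.node (.node (.node (.node (.node (.node (.leaf 0x2c) (.leaf 0x2001402)) (.node (.leaf 0x17d) (.leaf 0))) (.node (.node (.leaf 0x196) (.leaf 0)) (.node (.leaf 0x250) (.leaf 0)))) (.node (.node (.node (.leaf 0xee) (.leaf 0x10010014c8)) (.node (.leaf 0x1e4) (.leaf 0))) (.node (.node (.leaf 0x240) (.leaf 0)) (.node (.leaf 0x2c0) (.leaf 0))))) (.node (.node (.node (.node (.leaf 0x3a) (.leaf 0x4d1)) (.node (.leaf 0x32d) (.leaf 0))) (.node (.node (.leaf 0xec) (.leaf 0)) (.node (.leaf 0x285) (.leaf 0)))) (.node (.node (.node (.leaf 0x148) (.leaf 0x471)) (.node (.leaf 0x10040012ee)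 (.leaf 0))) (.node (.node (.leaf 0x290) (.leaf 0)) (.node (.leaf 0x1003001378) (.leaf 0)))))) (.node (.node (.node (.node (.node (.leaf 0x5f) (.leaf 0x1001001432)) (.node (.leaf 0x307) (.leaf 0))) (.node (.node (.leaf 0x30000e1) (.leaf 0)) (.node (.leaf 0x40c) (.leaf 0)))) (.node (.node (.node (.leaf 0x7a) (.leaf 0x42b)) (.node (.leaf 0x1000238) (.leaf 0))) (.node (.node (.leaf 0x269) (.leaf 0)) (.node (.leaf 0x100000132b) (.leaf 0))))) (.node (.node (.node (.node (.leaf 0xbf) (.leaf 0x1003001409)) (.node (.leaf 0x20012de) (.leaf 0))) (.node (.node (.leaf 0x300115b) (.leaf 0)) (.node (.leaf 0x5001320) (.leaf 0)))) (.node (.node (.node (.leaf 0x16e) (.leaf 0x50014fc)) (.node (.leaf 0x3cd) (.leaf 0))) (.node (.node (.leaf 0x40002a6) (.leaf 0)) (.node (.leaf 0x32c) (.leaf 0))))))))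

/-- part of closing hints -/
def node8L0close4 : Trie :=
  (.node (.node (.node (.node (.node (.node (.node (.leaf 0x1) (.leaf 0x200141c)) (.node (.leaf 0x100000123a) (.leaf 0))) (.node (.node (.leaf 0x177) (.leaf 0)) (.node (.leaf 0x10050003cb) (.leaf 0)))) (.node (.node (.node (.leaf 0x53) (.leaf 0x4e5)) (.node (.leaf 0x50012c7) (.leaf 0))) (.node (.node (.leaf 0x10b) (.leaf 0)) (.node (.leaf 0x430) (.leaf 0))))) (.node (.node (.node (.node (.leaf 0x68) (.leaf 0x4c5)) (.node (.leaf 0x10030002df) (.leaf 0))) (.node (.node (.leaf 0x100000114a) (.leaf 0)) (.node (.leaf 0x26f) (.leaf 0)))) (.node (.node (.node (.leaf 0x7e) (.leaf 0x43a)) (.node (.leaf 0x203) (.leaf 0))) (.node (.node (.leaf 0x26e) (.leaf 0)) (.node (.leaf 0x2ed) (.leaf 0)))))) (.node (.node (.node (.node (.node (.leaf 0x36) (.leaf 0x1003001461)) (.node (.leaf 0x183) (.leaf 0))) (.node (.node (.leaf 0x1a0) (.leaf 0)) (.node (.leaf 0x3f2) (.leaf 0)))) (.node (.node (.node (.leaf 0xf8) (.leaf 0x10010014bd)) (.node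 (.leaf 0x37e) (.leaf 0))) (.node (.node (.leaf 0x247) (.leaf 0)) (.node (.leaf 0x2c9) (.leaf 0))))) (.node (.node (.node (.node (.leaf 0x3001062) (.leaf 0x1002000498)) (.node (.leaf 0x333) (.leaf 0))) (.node (.node (.leaf 0x1f3) (.leaf 0)) (.node (.leaf 0x2001362) (.leaf 0)))) (.node (.node (.node (.leaf 0x150) (.leaf 0x10014a0)) (.node (.leaf 0x3b5) (.leaf 0))) (.node (.node (.leaf 0x154) (.leaf 0)) (.node (.leaf 0x2000407) (.leaf 0))))))) (.node (.node (.node (.node (.node (.node (.leaf 0xb) (.leaf 0x343)) (.node (.leaf 0x2d5) (.leaf 0))) (.node (.node (.leaf 0x18c) (.leaf 0)) (.node (.leaf 0x1001001312) (.leaf 0)))) (.node (.node (.node (.leaf 0x5d) (.leaf 0x3f1)) (.node (.leaf 0x36b) (.leaf 0))) (.node (.node (.leaf 0x118) (.leaf 0)) (.node (.leaf 0x3001392) (.leaf 0))))) (.node (.node (.node (.node (.leaf 0x34) (.leaf 0x395)) (.node (.leaf 0x1ab) (.leaf 0))) (.node (.node (.leaf 0xe3) (.leaf 0)) (.node (.leaf 0x27e) (.leaf 0)))) (.node (.node (.node (.leaf 0x89) (.leaf 0x45d))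 (.node (.leaf 0x210) (.leaf 0))) (.node (.node (.leaf 0x149) (.leaf 0)) (.node (.leaf 0x1002001356) (.leaf 0)))))) (.node (.node (.node (.node (.node (.leaf 0x4f) (.leaf 0x100100143c)) (.node (.leaf 0x2fb) (.leaf 0))) (.node (.node (.leaf 0x1b7) (.leaf 0)) (.node (.leaf 0x400) (.leaf 0)))) (.node (.node (.node (.leaf 0x73) (.leaf 0x418)) (.node (.leaf 0x1f4) (.leaf 0))) (.node (.node (.leaf 0x25d) (.leaf 0)) (.node (.leaf 0x468) (.leaf 0))))) (.node (.node (.node (.node (.leaf 0x48) (.leaf 0x3bb)) (.node (.leaf 0x1004001272) (.leaf 0))) (.node (.node (.leaf 0xff) (.leaf 0)) (.node (.leaf 0x20013d8) (.leaf 0)))) (.node (.node (.node (.leaf 0x163) (.leaf 0x14f8)) (.node (.leaf 0x1002001303) (.leaf 0))) (.node (.node (.leaf 0x2af) (.leaf 0)) (.node (.leaf 0x322) (.leaf 0))))))))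

/-- part of closing hints -/
def node8L0close20 : Trie :=
  (.node (.node (.node (.node (.node (.node (.node (.leaf 0x6) (.leaf 0x33b)) (.node (.leaf 0x171) (.leaf 0))) (.node (.node (.leaf 0xae) (.leaf 0)) (.node (.leaf 0x23e) (.leaf 0)))) (.node (.node (.node (.leaf 0x58) (.leaf 0x3e0)) (.node (.leaf 0x200128a) (.leaf 0))) (.node (.node (.leaf 0x22c) (.leaf 0)) (.node (.leaf 0x2ac) (.leaf 0))))) (.node (.node (.node (.node (.leaf 0x2f) (.leaf 0x10004c0)) (.node (.leaf 0x1a4) (.leaf 0))) (.node (.node (.leaf 0x1142) (.leaf 0)) (.node (.leaf 0x417) (.leaf 0)))) (.node (.node (.node (.leaf 0x84) (.leaf 0x44e)) (.node (.leaf 0x3a4) (.leaf 0))) (.node (.node (.leaf 0x27a) (.leaf 0)) (.node (.leaf 0x2fa) (.leaf 0)))))) (.node (.node (.node (.node (.node (.leaf 0x43) (.leaf 0x10040003db)) (.node (.leaf 0x2f1) (.leaf 0))) (.node (.node (.leaf 0xc4) (.leaf 0)) (.node (.leaf 0x3e4) (.leaf 0)))) (.node (.node (.node (.leaf 0x6d) (.leaf 0x42f)) (.node (.leaf 0x387) (.leaf 0))) (.node (.node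 (.leaf 0x129) (.leaf 0)) (.node (.leaf 0x10010013aa) (.leaf 0))))) (.node (.node (.node (.node (.leaf 0xa6) (.leaf 0x3b4)) (.node (.leaf 0x1001309) (.leaf 0))) (.node (.node (.leaf 0x100400116a) (.leaf 0)) (.node (.leaf 0x50013a9) (.leaf 0)))) (.node (.node (.node (.leaf 0x15a) (.leaf 0x10020014f1)) (.node (.leaf 0x224) (.leaf 0))) (.node (.node (.leaf 0x266) (.leaf 0)) (.node (.leaf 0x100300141d) (.leaf 0))))))) (.node (.node (.node (.node (.node (.node (.leaf 0x29) (.leaf 0x10013f7)) (.node (.leaf 0x1a3) (.leaf 0))) (.node (.node (.leaf 0xb9) (.leaf 0)) (.node (.leaf 0x3eb) (.leaf 0)))) (.node (.node (.node (.leaf 0xeb) (.leaf 0x3fb)) (.node (.leaf 0x1e3) (.leaf 0))) (.node (.node (.leaf 0x1004001141) (.leaf 0)) (.node (.leaf 0x100043b) (.leaf 0))))) (.node (.node (.node (.node (.leaf 0x39) (.leaf 0x50004b4)) (.node (.leaf 0x1b0) (.leaf 0))) (.node (.node (.leaf 0xea) (.leaf 0)) (.node (.leaf 0x284) (.leaf 0)))) (.node (.node (.node (.leaf 0x8e) (.leaf 0x50014da)) (.node (.leaf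 0x4001304) (.leaf 0))) (.node (.node (.leaf 0x28e) (.leaf 0)) (.node (.leaf 0x10020013da) (.leaf 0)))))) (.node (.node (.node (.node (.node (.leaf 0x5c) (.leaf 0x4c2)) (.node (.leaf 0x1202) (.leaf 0))) (.node (.node (.leaf 0xcf) (.leaf 0)) (.node (.leaf 0x408) (.leaf 0)))) (.node (.node (.node (.leaf 0x79) (.leaf 0x4001493)) (.node (.leaf 0x20012ba) (.leaf 0))) (.node (.node (.leaf 0x30011eb) (.leaf 0)) (.node (.leaf 0x2e7) (.leaf 0))))) (.node (.node (.node (.node (.leaf 0xbc) (.leaf 0x1001001450)) (.node (.leaf 0x1ca) (.leaf 0))) (.node (.node (.leaf 0x104) (.leaf 0)) (.node (.leaf 0x30013a5) (.leaf 0)))) (.node (.node (.node (.leaf 0xa3) (.leaf 0x10010014fa)) (.node (.leaf 0x3ca) (.leaf 0))) (.node (.node (.leaf 0x166) (.leaf 0)) (.node (.leaf 0x20013fa) (.leaf 0))))))))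

/-- part of closing hints -/
def node8L0close12 : Trie :=
  (.node (.node (.node (.node (.node (.node (.node (.leaf 0xa) (.leaf 0x4a5)) (.node (.leaf 0x16f) (.leaf 0))) (.node (.node (.leaf 0x3001106) (.leaf 0)) (.node (.leaf 0x3d6) (.leaf 0)))) (.node (.node (.node (.leaf 0xcd) (.leaf 0x3d7)) (.node (.leaf 0x1d4) (.leaf 0))) (.node (.node (.leaf 0x10e) (.leaf 0)) (.node (.leaf 0x20002b1) (.leaf 0))))) (.node (.node (.node (.node (.leaf 0x6e) (.leaf 0x1000490)) (.node (.leaf 0x313) (.leaf 0))) (.node (.node (.leaf 0x1cf) (.leaf 0)) (.node (.leaf 0x416) (.leaf 0)))) (.node (.node (.node (.leaf 0x81) (.leaf 0x10040014b5)) (.node (.leaf 0x205) (.leaf 0))) (.node (.node (.leaf 0x13e) (.leaf 0)) (.node (.leaf 0x478) (.leaf 0)))))) (.node (.node (.node (.node (.node (.leaf 0x18) (.leaf 0x358)) (.node (.leaf 0x20002ae) (.leaf 0))) (.node (.node (.leaf 0x1a5) (.leaf 0)) (.node (.leaf 0x100000138c) (.leaf 0)))) (.node (.node (.node (.leaf 0x6a) (.leaf 0x1000000481)) (.node (.leaf 0x50001fc)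 (.leaf 0))) (.node (.node (.leaf 0x24c) (.leaf 0)) (.node (.leaf 0x2d0) (.leaf 0))))) (.node (.node (.node (.node (.leaf 0xa0) (.leaf 0x100300145f)) (.node (.leaf 0x1ea) (.leaf 0))) (.node (.node (.leaf 0x1fa) (.leaf 0)) (.node (.leaf 0x28f) (.leaf 0)))) (.node (.node (.node (.leaf 0x155) (.leaf 0x1000489)) (.node (.leaf 0x221) (.leaf 0))) (.node (.node (.leaf 0x29f) (.leaf 0)) (.node (.leaf 0x317) (.leaf 0))))))) (.node (.node (.node (.node (.node (.node (.leaf 0xe) (.leaf 0x346)) (.node (.leaf 0x179) (.leaf 0))) (.node (.node (.leaf 0xb6) (.leaf 0)) (.node (.leaf 0x24b) (.leaf 0)))) (.node (.node (.node (.leaf 0xe5) (.leaf 0x1001000428)) (.node (.leaf 0x50012c8) (.leaf 0))) (.node (.node (.leaf 0x11c) (.leaf 0)) (.node (.leaf 0x2b9) (.leaf 0))))) (.node (.node (.node (.node (.leaf 0x87) (.leaf 0x399)) (.node (.leaf 0x324) (.leaf 0))) (.node (.node (.leaf 0x1e5) (.leaf 0)) (.node (.leaf 0x10020013d2) (.leaf 0)))) (.node (.node (.node (.leaf 0x1002000139) (.leaf 0x30014b7)) (.node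 (.leaf 0x5001294) (.leaf 0))) (.node (.node (.leaf 0x14c) (.leaf 0)) (.node (.leaf 0x306) (.leaf 0)))))) (.node (.node (.node (.node (.node (.leaf 0x22) (.leaf 0x36c)) (.node (.leaf 0x193) (.leaf 0))) (.node (.node (.leaf 0x1bd) (.leaf 0)) (.node (.leaf 0x404) (.leaf 0)))) (.node (.node (.node (.leaf 0x116) (.leaf 0x30014b6)) (.node (.leaf 0x394) (.leaf 0))) (.node (.node (.leaf 0x263) (.leaf 0)) (.node (.leaf 0x2e3) (.leaf 0))))) (.node (.node (.node (.node (.leaf 0x30000b4) (.leaf 0x3c1)) (.node (.leaf 0x1c8) (.leaf 0))) (.node (.node (.leaf 0x211) (.leaf 0)) (.node (.leaf 0x29b) (.leaf 0)))) (.node (.node (.node (.leaf 0xa1) (.leaf 0x40004e0)) (.node (.leaf 0x22f) (.leaf 0))) (.node (.node (.leaf 0x164) (.leaf 0)) (.node (.leaf 0x5001420) (.leaf 0))))))))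

/-- part of closing hints -/
def node8L0close28 : Trie :=
  (.node (.node (.node (.node (.node (.node (.node (.leaf 0x16) (.leaf 0x4a9)) (.node (.leaf 0x500120e) (.leaf 0))) (.node (.node (.leaf 0x186) (.leaf 0)) (.node (.leaf 0x10050003dd) (.leaf 0)))) (.node (.node (.node (.leaf 0xda) (.leaf 0x10050003ee)) (.node (.leaf 0x1da) (.leaf 0))) (.node (.node (.leaf 0x230) (.leaf 0)) (.node (.leaf 0x44d) (.leaf 0))))) (.node (.node (.node (.node (.leaf 0x7b) (.leaf 0x4ca)) (.node (.leaf 0x1a8) (.leaf 0))) (.node (.node (.leaf 0x1d9) (.leaf 0)) (.node (.leaf 0x279) (.leaf 0)))) (.node (.node (.node (.leaf 0x138) (.leaf 0x459)) (.node (.leaf 0x50012ce) (.leaf 0))) (.node (.node (.leaf 0x50011ce) (.leaf 0)) (.node (.leaf 0x10020013ce) (.leaf 0)))))) (.node (.node (.node (.node (.node (.leaf 0x1d) (.leaf 0x360)) (.node (.leaf 0x10040002cc) (.leaf 0))) (.node (.node (.leaf 0x100100112e) (.leaf 0)) (.node (.leaf 0x2d4) (.leaf 0)))) (.node (.node (.node (.leaf 0x10a) (.leaf 0x1000433)) (.node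 (.leaf 0x2000226) (.leaf 0))) (.node (.node (.leaf 0x257) (.leaf 0)) (.node (.leaf 0x10050013c5) (.leaf 0))))) (.node (.node (.node (.node (.leaf 0x46) (.leaf 0x1005000499)) (.node (.leaf 0x1c2) (.leaf 0))) (.node (.node (.leaf 0xfc) (.leaf 0)) (.node (.leaf 0x437) (.leaf 0)))) (.node (.node (.node (.leaf 0x9c) (.leaf 0x4db)) (.node (.leaf 0x10040012dc) (.leaf 0))) (.node (.node (.leaf 0x2a9) (.leaf 0)) (.node (.leaf 0x100100048e) (.leaf 0))))))) (.node (.node (.node (.node (.node (.node (.leaf 0x30) (.leaf 0x350)) (.node (.leaf 0x500121e) (.leaf 0))) (.node (.node (.leaf 0x199) (.leaf 0)) (.node (.leaf 0x251) (.leaf 0)))) (.node (.node (.node (.leaf 0x65) (.leaf 0x1002000467)) (.node (.leaf 0x379) (.leaf 0))) (.node (.node (.leaf 0x243) (.leaf 0)) (.node (.leaf 0x2c1) (.leaf 0))))) (.node (.node (.node (.node (.leaf 0x94) (.leaf 0x4c1)) (.node (.leaf 0x32f) (.leaf 0))) (.node (.node (.leaf 0x1ed) (.leaf 0)) (.node (.leaf 0x42d) (.leaf 0)))) (.node (.node (.node (.leaf 0x2000098)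 (.leaf 0x20014de)) (.node (.leaf 0x200127c) (.leaf 0))) (.node (.node (.leaf 0x293) (.leaf 0)) (.node (.leaf 0x10010013d0) (.leaf 0)))))) (.node (.node (.node (.node (.node (.leaf 0x27) (.leaf 0x10020004c4)) (.node (.leaf 0x30a) (.leaf 0))) (.node (.node (.leaf 0x1c6) (.leaf 0)) (.node (.leaf 0x40f) (.leaf 0)))) (.node (.node (.node (.leaf 0x121) (.leaf 0x431)) (.node (.leaf 0x12b8) (.leaf 0))) (.node (.node (.leaf 0x137) (.leaf 0)) (.node (.leaf 0x2001364) (.leaf 0))))) (.node (.node (.node (.node (.leaf 0xc2) (.leaf 0x10010004cf)) (.node (.leaf 0x352) (.leaf 0))) (.node (.node (.leaf 0x21d) (.leaf 0)) (.node (.leaf 0x2a2) (.leaf 0)))) (.node (.node (.node (.leaf 0x10040010fe) (.leaf 0x4fb)) (.node (.leaf 0x235) (.leaf 0))) (.node (.node (.leaf 0x30011fe) (.leaf 0)) (.node (.leaf 0x49d) (.leaf 0))))))))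

/-- part of closing hints -/
def node8L0close2 : Trie :=
  (.node (.node (.node (.node (.node (.node (.node (.leaf 0x2) (.leaf 0x100000034f)) (.node (.leaf 0x16b) (.leaf 0))) (.node (.node (.leaf 0x175) (.leaf 0)) (.node (.leaf 0x237) (.leaf 0)))) (.node (.node (.node (.leaf 0xc6) (.leaf 0x10000004a6)) (.node (.leaf 0x1d0) (.leaf 0))) (.node (.node (.leaf 0x220) (.leaf 0)) (.node (.leaf 0x10002d3) (.leaf 0))))) (.node (.node (.node (.node (.leaf 0x67) (.leaf 0x37b)) (.node (.leaf 0x1002001241) (.leaf 0))) (.node (.node (.leaf 0x100400119a) (.leaf 0)) (.node (.leaf 0x411) (.leaf 0)))) (.node (.node (.node (.leaf 0x125) (.leaf 0x45e)) (.node (.leaf 0x39e) (.leaf 0))) (.node (.node (.leaf 0x13b) (.leaf 0)) (.node (.leaf 0x476) (.leaf 0)))))) (.node (.node (.node (.node (.node (.leaf 0x15) (.leaf 0x353)) (.node (.leaf 0x2e6) (.leaf 0))) (.node (.node (.leaf 0xbe) (.leaf 0)) (.node (.leaf 0x253) (.leaf 0)))) (.node (.node (.node (.leaf 0xf6) (.leaf 0x200040d)) (.node (.leaf 0x1e7)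 (.leaf 0))) (.node (.node (.leaf 0x123) (.leaf 0)) (.node (.leaf 0x40003ef) (.leaf 0))))) (.node (.node (.node (.node (.leaf 0x3d) (.leaf 0x1005001422)) (.node (.leaf 0x1005000331) (.leaf 0))) (.node (.node (.leaf 0xf1) (.leaf 0)) (.node (.leaf 0x289) (.leaf 0)))) (.node (.node (.node (.leaf 0x100013c) (.leaf 0x10020014e1)) (.node (.leaf 0x3b3) (.leaf 0))) (.node (.node (.leaf 0x297) (.leaf 0)) (.node (.leaf 0x20013e1) (.leaf 0))))))) (.node (.node (.node (.node (.node (.node (.leaf 0x1b) (.leaf 0x341)) (.node (.leaf 0x176) (.leaf 0))) (.node (.node (.leaf 0xb3) (.leaf 0)) (.node (.leaf 0x245) (.leaf 0)))) (.node (.node (.node (.leaf 0xdf) (.leaf 0x20014e8)) (.node (.leaf 0x369) (.leaf 0))) (.node (.node (.leaf 0x233) (.leaf 0)) (.node (.leaf 0x44f) (.leaf 0))))) (.node (.node (.node (.node (.leaf 0x7f) (.leaf 0x4cb)) (.node (.leaf 0x31e) (.leaf 0))) (.node (.node (.leaf 0x50001c5) (.leaf 0)) (.node (.leaf 0x2a5) (.leaf 0)))) (.node (.node (.node (.leaf 0x50010d1) (.leaf 0x45c))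 (.node (.leaf 0x3a8) (.leaf 0))) (.node (.node (.leaf 0x283) (.leaf 0)) (.node (.leaf 0x300) (.leaf 0)))))) (.node (.node (.node (.node (.node (.leaf 0x4d) (.leaf 0x4be)) (.node (.leaf 0x2f9) (.leaf 0))) (.node (.node (.leaf 0xc9) (.leaf 0)) (.node (.leaf 0x1001000261) (.leaf 0)))) (.node (.node (.node (.leaf 0x10f) (.leaf 0x10014d9)) (.node (.leaf 0x2000386) (.leaf 0))) (.node (.node (.leaf 0x25b) (.leaf 0)) (.node (.leaf 0x2e0) (.leaf 0))))) (.node (.node (.node (.node (.leaf 0xb0) (.leaf 0x4dc)) (.node (.leaf 0x344) (.leaf 0))) (.node (.node (.leaf 0x20a) (.leaf 0)) (.node (.leaf 0x298) (.leaf 0)))) (.node (.node (.node (.leaf 0x161) (.leaf 0x10020014ea)) (.node (.leaf 0x22a) (.leaf 0))) (.node (.node (.leaf 0x2ad) (.leaf 0)) (.node (.leaf 0x492) (.leaf 0))))))))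

/-- part of closing hints -/
def node8L0close18 : Trie :=
  (.node (.node (.node (.node (.node (.node (.node (.leaf 0xf) (.leaf 0x100500147c)) (.node (.leaf 0x2cb) (.leaf 0))) (.node (.node (.leaf 0x180) (.leaf 0)) (.node (.leaf 0x400126a) (.leaf 0)))) (.node (.node (.node (.leaf 0xd2) (.leaf 0x30004e6)) (.node (.leaf 0x361) (.leaf 0))) (.node (.node (.leaf 0x110) (.leaf 0)) (.node (.leaf 0x2ab) (.leaf 0))))) (.node (.node (.node (.node (.leaf 0x74) (.leaf 0x1445)) (.node (.leaf 0x2f7) (.leaf 0))) (.node (.node (.leaf 0x1d2) (.leaf 0)) (.node (.leaf 0x10010002f4) (.leaf 0)))) (.node (.node (.node (.leaf 0x131) (.leaf 0x10010014c9)) (.node (.leaf 0x3a2) (.leaf 0))) (.node (.node (.leaf 0x278) (.leaf 0)) (.node (.leaf 0x47b) (.leaf 0)))))) (.node (.node (.node (.node (.node (.leaf 0x1a) (.leaf 0x35b)) (.node (.leaf 0x2ef) (.leaf 0))) (.node (.node (.leaf 0x1aa) (.leaf 0)) (.node (.leaf 0x259) (.leaf 0)))) (.node (.node (.node (.leaf 0x103) (.leaf 0x40e)) (.node (.leaf 0x1ee) (.leaf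 0))) (.node (.node (.leaf 0x24f) (.leaf 0)) (.node (.leaf 0x500136a) (.leaf 0))))) (.node (.node (.node (.node (.leaf 0xa4) (.leaf 0x50004bb)) (.node (.leaf 0x1bc) (.leaf 0))) (.node (.node (.leaf 0xf7) (.leaf 0)) (.node (.leaf 0x291) (.leaf 0)))) (.node (.node (.node (.leaf 0x99) (.leaf 0x10020004d5)) (.node (.leaf 0x3bd) (.leaf 0))) (.node (.node (.leaf 0x2a3) (.leaf 0)) (.node (.leaf 0x100200036f) (.leaf 0))))))) (.node (.node (.node (.node (.node (.node (.leaf 0x10) (.leaf 0x3000367)) (.node (.leaf 0x17b) (.leaf 0))) (.node (.node (.leaf 0xb8) (.leaf 0)) (.node (.leaf 0x24d) (.leaf 0)))) (.node (.node (.node (.leaf 0xe9) (.leaf 0x100100046e)) (.node (.leaf 0x373) (.leaf 0))) (.node (.node (.leaf 0x11e) (.leaf 0)) (.node (.leaf 0x456) (.leaf 0))))) (.node (.node (.node (.node (.leaf 0x8c) (.leaf 0x4ce)) (.node (.leaf 0x329) (.leaf 0))) (.node (.node (.leaf 0x124) (.leaf 0)) (.node (.leaf 0x427) (.leaf 0)))) (.node (.node (.node (.leaf 0x4000134) (.leaf 0x40014b1)) (.node (.leaf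 0x3af) (.leaf 0))) (.node (.node (.leaf 0x14e) (.leaf 0)) (.node (.leaf 0x308) (.leaf 0)))))) (.node (.node (.node (.node (.node (.leaf 0x5a) (.leaf 0x5001439)) (.node (.leaf 0x195) (.leaf 0))) (.node (.node (.leaf 0x10020000d6) (.leaf 0)) (.node (.leaf 0x100027f) (.leaf 0)))) (.node (.node (.node (.leaf 0x11a) (.leaf 0x424)) (.node (.leaf 0x396) (.leaf 0))) (.node (.node (.leaf 0x133) (.leaf 0)) (.node (.leaf 0x46f) (.leaf 0))))) (.node (.node (.node (.node (.leaf 0xba) (.leaf 0x100100148b)) (.node (.leaf 0x34e) (.leaf 0))) (.node (.node (.leaf 0x216) (.leaf 0)) (.node (.leaf 0x29e) (.leaf 0)))) (.node (.node (.node (.leaf 0x50010f9) (.leaf 0x4d0)) (.node (.leaf 0x231) (.leaf 0))) (.node (.node (.leaf 0x1001200) (.leaf 0)) (.node (.leaf 0x50013f9) (.leaf 0))))))))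

/-- part of closing hints -/
def node8L0close10 : Trie :=
  (.node (.node (.node (.node (.node (.node (.node (.leaf 0x3) (.leaf 0x4a3)) (.node (.leaf 0x2c6) (.leaf 0))) (.node (.node (.leaf 0x20010d7) (.leaf 0)) (.node (.leaf 0x23b) (.leaf 0)))) (.node (.node (.node (.leaf 0x55) (.leaf 0x3d5)) (.node (.leaf 0x35c) (.leaf 0))) (.node (.node (.leaf 0x225) (.leaf 0)) (.node (.leaf 0x448) (.leaf 0))))) (.node (.node (.node (.node (.leaf 0x2b) (.leaf 0x1000001449)) (.node (.leaf 0x311) (.leaf 0))) (.node (.node (.leaf 0x1cd) (.leaf 0)) (.node (.leaf 0x40003f8) (.leaf 0)))) (.node (.node (.node (.leaf 0x80) (.leaf 0x442)) (.node (.leaf 0x3a0) (.leaf 0))) (.node (.node (.leaf 0x4000151) (.leaf 0)) (.node (.leaf 0x10030013ae) (.leaf 0)))))) (.node (.node (.node (.node (.node (.leaf 0x3b) (.leaf 0x357)) (.node (.leaf 0x185) (.leaf 0))) (.node (.node (.leaf 0xc1) (.leaf 0)) (.node (.leaf 0x3f5) (.leaf 0)))) (.node (.node (.node (.leaf 0xfd) (.leaf 0x406)) (.node (.leaf 0x351) (.leaf 0)))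 (.node (.node (.leaf 0x126) (.leaf 0)) (.node (.leaf 0x300137a) (.leaf 0))))) (.node (.node (.node (.node (.leaf 0x9e) (.leaf 0x2001465)) (.node (.leaf 0x218) (.leaf 0))) (.node (.node (.leaf 0x1f8) (.leaf 0)) (.node (.leaf 0x28d) (.leaf 0)))) (.node (.node (.node (.leaf 0x96) (.leaf 0x482)) (.node (.leaf 0x3b8) (.leaf 0))) (.node (.node (.leaf 0x156) (.leaf 0)) (.node (.leaf 0x48d) (.leaf 0))))))) (.node (.node (.node (.node (.node (.node (.leaf 0x21) (.leaf 0x4af)) (.node (.leaf 0x1002001215) (.leaf 0))) (.node (.node (.leaf 0x18f) (.leaf 0)) (.node (.leaf 0x10050013cc) (.leaf 0)))) (.node (.node (.node (.leaf 0xe4) (.leaf 0x5001495)) (.node (.leaf 0x1df) (.leaf 0))) (.node (.node (.leaf 0x239) (.leaf 0)) (.node (.leaf 0x452) (.leaf 0))))) (.node (.node (.node (.node (.leaf 0x85) (.leaf 0x1002001455)) (.node (.leaf 0x2001255) (.leaf 0))) (.node (.node (.leaf 0xe6) (.leaf 0)) (.node (.leaf 0x280) (.leaf 0)))) (.node (.node (.node (.leaf 0x8b) (.leaf 0x10020004e9)) (.node (.leaf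 0x212) (.leaf 0))) (.node (.node (.leaf 0x288) (.leaf 0)) (.node (.leaf 0x485) (.leaf 0)))))) (.node (.node (.node (.node (.node (.leaf 0x54) (.leaf 0x40004b0)) (.node (.leaf 0x2fe) (.leaf 0))) (.node (.node (.leaf 0xcc) (.leaf 0)) (.node (.leaf 0x10010002a8) (.leaf 0)))) (.node (.node (.node (.leaf 0x114) (.leaf 0x10040014c6)) (.node (.leaf 0x393) (.leaf 0))) (.node (.node (.leaf 0x50011b5) (.leaf 0)) (.node (.leaf 0x2e2) (.leaf 0))))) (.node (.node (.node (.node (.leaf 0x2001075) (.leaf 0x4df)) (.node (.leaf 0x1000207) (.leaf 0))) (.node (.node (.leaf 0x101) (.leaf 0)) (.node (.leaf 0x43d) (.leaf 0)))) (.node (.node (.node (.leaf 0x20010f5) (.leaf 0x10020014f5)) (.node (.leaf 0x10010012f5) (.leaf 0))) (.node (.node (.leaf 0x2b4) (.leaf 0)) (.node (.leaf 0x325) (.leaf 0))))))))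

/-- part of closing hints -/
def node8L0close26 : Trie :=
  (.node (.node (.node (.node (.node (.node (.node (.leaf 0x8) (.leaf 0x20004a1)) (.node (.leaf 0x173) (.leaf 0))) (.node (.node (.leaf 0x184) (.leaf 0)) (.node (.leaf 0x500130d) (.leaf 0)))) (.node (.node (.node (.leaf 0xd8) (.leaf 0x3e5)) (.node (.leaf 0x365) (.leaf 0))) (.node (.node (.leaf 0x200118d) (.leaf 0)) (.node (.leaf 0x2b0) (.leaf 0))))) (.node (.node (.node (.node (.leaf 0x31) (.leaf 0x38e)) (.node (.leaf 0x319) (.leaf 0))) (.node (.node (.leaf 0xe0) (.leaf 0)) (.node (.leaf 0x41b) (.leaf 0)))) (.node (.node (.node (.leaf 0x86) (.leaf 0x10050014dd)) (.node (.leaf 0x20b) (.leaf 0))) (.node (.node (.leaf 0x145) (.leaf 0)) (.node (.leaf 0x2fc) (.leaf 0)))))) (.node (.node (.node (.node (.node (.leaf 0x100200102d) (.leaf 0x35e)) (.node (.leaf 0x30002d8) (.leaf 0))) (.node (.node (.leaf 0xc7) (.leaf 0)) (.node (.leaf 0x25c) (.leaf 0)))) (.node (.node (.node (.leaf 0x6f) (.leaf 0x100200046b)) (.node (.leaf 0x1f1)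 (.leaf 0))) (.node (.node (.leaf 0x12b) (.leaf 0)) (.node (.leaf 0x10000013c3) (.leaf 0))))) (.node (.node (.node (.node (.leaf 0xaa) (.leaf 0x1005001474)) (.node (.leaf 0x33f) (.leaf 0))) (.node (.node (.leaf 0x10050001b8) (.leaf 0)) (.node (.leaf 0x5001330) (.leaf 0)))) (.node (.node (.node (.leaf 0x100000111b) (.leaf 0x14eb)) (.node (.leaf 0x3c2) (.leaf 0))) (.node (.node (.leaf 0x15e) (.leaf 0)) (.node (.leaf 0x1004000363) (.leaf 0))))))) (.node (.node (.node (.node (.node (.node (.leaf 0x2e) (.leaf 0x10050013ea)) (.node (.leaf 0x17e) (.leaf 0))) (.node (.node (.leaf 0xbb) (.leaf 0)) (.node (.leaf 0x500131d) (.leaf 0)))) (.node (.node (.node (.leaf 0xf0) (.leaf 0x3fe)) (.node (.leaf 0x100100129d) (.leaf 0))) (.node (.node (.leaf 0x120) (.leaf 0)) (.node (.leaf 0x45b) (.leaf 0))))) (.node (.node (.node (.node (.leaf 0x92) (.leaf 0x4d2)) (.node (.leaf 0x1b2) (.leaf 0))) (.node (.node (.leaf 0x100100115d) (.leaf 0)) (.node (.leaf 0x42c) (.leaf 0)))) (.node (.node (.node (.leaf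 0x90) (.leaf 0x10030014cd)) (.node (.leaf 0x10012c3) (.leaf 0))) (.node (.node (.leaf 0x30011dd) (.leaf 0)) (.node (.leaf 0x100100030e) (.leaf 0)))))) (.node (.node (.node (.node (.node (.leaf 0x61) (.leaf 0x375)) (.node (.leaf 0x198) (.leaf 0))) (.node (.node (.leaf 0x1c4) (.leaf 0)) (.node (.leaf 0x26c) (.leaf 0)))) (.node (.node (.node (.leaf 0x10040010bd) (.leaf 0x10010014a2)) (.node (.leaf 0x50001ff) (.leaf 0))) (.node (.node (.leaf 0x136) (.leaf 0)) (.node (.leaf 0x2e9) (.leaf 0))))) (.node (.node (.node (.node (.leaf 0x50) (.leaf 0x100200147d)) (.node (.leaf 0x1cc) (.leaf 0))) (.node (.node (.leaf 0x21c) (.leaf 0)) (.node (.leaf 0x443) (.leaf 0)))) (.node (.node (.node (.leaf 0xa5) (.leaf 0x10010014fd)) (.node (.leaf 0x234) (.leaf 0))) (.node (.node (.leaf 0x168) (.leaf 0)) (.node (.leaf 0x49b) (.leaf 0))))))))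

/-- part of closing hints -/
def node8L0close6 : Trie :=
  (.node (.node (.node (.node (.node (.node (.node (.leaf 0x5) (.leaf 0x10013f4)) (.node (.leaf 0x2c2) (.leaf 0))) (.node (.node (.leaf 0xa9) (.leaf 0)) (.node (.leaf 0x10020012f2) (.leaf 0)))) (.node (.node (.node (.leaf 0x1002001083) (.leaf 0x3d4)) (.node (.leaf 0x1d1) (.leaf 0))) (.node (.node (.leaf 0x222) (.leaf 0)) (.node (.leaf 0x2a7) (.leaf 0))))) (.node (.node (.node (.node (.leaf 0x2a) (.leaf 0x37d)) (.node (.leaf 0x19e) (.leaf 0))) (.node (.node (.leaf 0x40000e8) (.leaf 0)) (.node (.leaf 0x412) (.leaf 0)))) (.node (.node (.node (.leaf 0x128) (.leaf 0x1000000487)) (.node (.leaf 0x40012dd) (.leaf 0))) (.node (.node (.leaf 0x270) (.leaf 0)) (.node (.leaf 0x13ad) (.leaf 0)))))) (.node (.node (.node (.node (.node (.leaf 0x38) (.leaf 0x354)) (.node (.leaf 0x2e8) (.leaf 0))) (.node (.node (.leaf 0x1a1) (.leaf 0)) (.node (.leaf 0x28b) (.leaf 0)))) (.node (.node (.node (.leaf 0xfa) (.leaf 0x405)) (.node (.leaf 0x1e9) (.leaf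 0))) (.node (.node (.leaf 0x21a) (.leaf 0)) (.node (.leaf 0x50013a3) (.leaf 0))))) (.node (.node (.node (.node (.leaf 0x9b) (.leaf 0x1002001463)) (.node (.leaf 0x1b6) (.leaf 0))) (.node (.node (.leaf 0xf2) (.leaf 0)) (.node (.leaf 0x10030003ed) (.leaf 0)))) (.node (.node (.node (.leaf 0x152) (.leaf 0x47f)) (.node (.leaf 0x3b6) (.leaf 0))) (.node (.node (.leaf 0x29a) (.leaf 0)) (.node (.leaf 0x48c) (.leaf 0))))))) (.node (.node (.node (.node (.node (.node (.leaf 0x5001013) (.leaf 0x3000374)) (.node (.leaf 0x2d7) (.leaf 0))) (.node (.node (.leaf 0x167) (.leaf 0)) (.node (.leaf 0x246) (.leaf 0)))) (.node (.node (.node (.leaf 0x1001001093) (.leaf 0x10014ba)) (.node (.leaf 0x1de) (.leaf 0))) (.node (.node (.leaf 0x236) (.leaf 0)) (.node (.leaf 0x2b5) (.leaf 0))))) (.node (.node (.node (.node (.leaf 0x82) (.leaf 0x397)) (.node (.leaf 0x321) (.leaf 0))) (.node (.node (.leaf 0x1e0) (.leaf 0)) (.node (.leaf 0x421) (.leaf 0)))) (.node (.node (.node (.leaf 0x13f) (.leaf 0x1000000473)) (.node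 (.leaf 0x3000381) (.leaf 0))) (.node (.node (.leaf 0x100300018b) (.leaf 0)) (.node (.leaf 0x10040013d3) (.leaf 0)))))) (.node (.node (.node (.node (.node (.leaf 0x20) (.leaf 0x30004ae)) (.node (.leaf 0x191) (.leaf 0))) (.node (.node (.leaf 0x1b9) (.leaf 0)) (.node (.leaf 0x262) (.leaf 0)))) (.node (.node (.node (.leaf 0x111) (.leaf 0x30014d7)) (.node (.leaf 0x390) (.leaf 0))) (.node (.node (.leaf 0x25f) (.leaf 0)) (.node (.leaf 0x2e1) (.leaf 0))))) (.node (.node (.node (.node (.leaf 0xb2) (.leaf 0x10000004d3)) (.node (.leaf 0x347) (.leaf 0))) (.node (.node (.leaf 0x20d) (.leaf 0)) (.node (.leaf 0x299) (.leaf 0)))) (.node (.node (.node (.leaf 0x9f) (.leaf 0x30014f3)) (.node (.leaf 0x22b) (.leaf 0))) (.node (.node (.leaf 0x162) (.leaf 0)) (.node (.leaf 0x494) (.leaf 0))))))))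

/-- part of closing hints -/
def node8L0close22 : Trie :=
  (.node (.node (.node (.node (.node (.node (.node (.leaf 0x12) (.leaf 0x348)) (.node (.leaf 0x2cd) (.leaf 0))) (.node (.node (.leaf 0x182) (.leaf 0)) (.node (.leaf 0x100200130b) (.leaf 0)))) (.node (.node (.node (.leaf 0xd5) (.leaf 0x1001001479)) (.node (.leaf 0x323) (.leaf 0))) (.node (.node (.leaf 0x10040001d3) (.leaf 0)) (.node (.leaf 0x44b) (.leaf 0))))) (.node (.node (.node (.node (.leaf 0x100100104b) (.leaf 0x38b)) (.node (.leaf 0x316) (.leaf 0))) (.node (.node (.leaf 0x500114b) (.leaf 0)) (.node (.leaf 0x1005001377) (.leaf 0)))) (.node (.node (.node (.leaf 0xab) (.leaf 0x451)) (.node (.leaf 0x209) (.leaf 0))) (.node (.node (.leaf 0x27b) (.leaf 0)) (.node (.leaf 0x1001000302) (.leaf 0)))))) (.node (.node (.node (.node (.node (.leaf 0x45) (.leaf 0x4bc)) (.node (.leaf 0x2f3) (.leaf 0))) (.node (.node (.leaf 0x1ad) (.leaf 0)) (.node (.leaf 0x13bc) (.leaf 0)))) (.node (.node (.node (.leaf 0xcb) (.leaf 0x41f)) (.node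 (.leaf 0x389) (.leaf 0))) (.node (.node (.leaf 0x252) (.leaf 0)) (.node (.leaf 0x464) (.leaf 0))))) (.node (.node (.node (.node (.leaf 0x44) (.leaf 0x10020004ad)) (.node (.leaf 0x1bf) (.leaf 0))) (.node (.node (.leaf 0x201) (.leaf 0)) (.node (.leaf 0x292) (.leaf 0)))) (.node (.node (.node (.leaf 0x9a) (.leaf 0x10000014ed)) (.node (.leaf 0x340) (.leaf 0))) (.node (.node (.leaf 0x30011ba) (.leaf 0)) (.node (.leaf 0x31a) (.leaf 0))))))) (.node (.node (.node (.node (.node (.node (.leaf 0x11) (.leaf 0x34d)) (.node (.leaf 0x200121b) (.leaf 0))) (.node (.node (.leaf 0x10ed) (.leaf 0)) (.node (.leaf 0x3ec) (.leaf 0)))) (.node (.node (.node (.leaf 0x63) (.leaf 0x3fd)) (.node (.leaf 0x376) (.leaf 0))) (.node (.node (.leaf 0x11f) (.leaf 0)) (.node (.leaf 0x2bf) (.leaf 0))))) (.node (.node (.node (.node (.leaf 0x8f) (.leaf 0x39d)) (.node (.leaf 0x1b1) (.leaf 0))) (.node (.node (.leaf 0x300117c) (.leaf 0)) (.node (.leaf 0x429) (.leaf 0)))) (.node (.node (.node (.leaf 0x147) (.leaf 0x4ee)) (.node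 (.leaf 0x217) (.leaf 0))) (.node (.node (.leaf 0x14f) (.leaf 0)) (.node (.leaf 0x100300042a) (.leaf 0)))))) (.node (.node (.node (.node (.node (.leaf 0x25) (.leaf 0x300039a)) (.node (.leaf 0x305) (.leaf 0))) (.node (.node (.leaf 0x1c1) (.leaf 0)) (.node (.leaf 0x40a) (.leaf 0)))) (.node (.node (.node (.leaf 0x11d) (.leaf 0x4000469)) (.node (.leaf 0x1fb) (.leaf 0))) (.node (.node (.leaf 0x267) (.leaf 0)) (.node (.leaf 0x472) (.leaf 0))))) (.node (.node (.node (.node (.leaf 0x4e) (.leaf 0x3c9)) (.node (.leaf 0x1cb) (.leaf 0))) (.node (.node (.leaf 0x219) (.leaf 0)) (.node (.leaf 0x441) (.leaf 0)))) (.node (.node (.node (.leaf 0x16c) (.leaf 0x4fe)) (.node (.leaf 0x232) (.leaf 0))) (.node (.node (.leaf 0x2bb) (.leaf 0)) (.node (.leaf 0x49a) (.leaf 0))))))))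

/-- part of closing hints -/
def node8L0close14 : Trie :=
  (.node (.node (.node (.node (.node (.node (.node (.leaf 0x4) (.leaf 0x20003e2)) (.node (.leaf 0x3000275) (.leaf 0))) (.node (.node (.leaf 0xac) (.leaf 0)) (.node (.leaf 0x23c) (.leaf 0)))) (.node (.node (.node (.leaf 0x56) (.leaf 0x10000004c3)) (.node (.leaf 0x35f) (.leaf 0))) (.node (.node (.leaf 0x228) (.leaf 0)) (.node (.leaf 0x2aa) (.leaf 0))))) (.node (.node (.node (.node (.leaf 0x70) (.leaf 0x384)) (.node (.leaf 0x1a2) (.leaf 0))) (.node (.node (.leaf 0xdb) (.leaf 0)) (.node (.leaf 0x273) (.leaf 0)))) (.node (.node (.node (.leaf 0x12d) (.leaf 0x10020014c7)) (.node (.leaf 0x5001282) (.leaf 0))) (.node (.node (.leaf 0x274) (.leaf 0)) (.node (.leaf 0x1001001380) (.leaf 0)))))) (.node (.node (.node (.node (.node (.leaf 0x3e) (.leaf 0x359)) (.node (.leaf 0x1001000194) (.leaf 0))) (.node (.node (.leaf 0x1a7) (.leaf 0)) (.node (.leaf 0x258) (.leaf 0)))) (.node (.node (.node (.leaf 0x100) (.leaf 0x20014a7)) (.node (.leaf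 0x383) (.leaf 0))) (.node (.node (.leaf 0x127) (.leaf 0)) (.node (.leaf 0x460) (.leaf 0))))) (.node (.node (.node (.node (.leaf 0x41) (.leaf 0x100200049e)) (.node (.leaf 0x1bb) (.leaf 0))) (.node (.node (.leaf 0x113) (.leaf 0)) (.node (.leaf 0x1000419) (.leaf 0)))) (.node (.node (.node (.leaf 0x157) (.leaf 0x20014e7)) (.node (.leaf 0x3ba) (.leaf 0))) (.node (.node (.leaf 0x2a1) (.leaf 0)) (.node (.leaf 0x10020013e7) (.leaf 0))))))) (.node (.node (.node (.node (.node (.node (.leaf 0x24) (.leaf 0x34a)) (.node (.leaf 0x2db) (.leaf 0))) (.node (.node (.leaf 0x190) (.leaf 0)) (.node (.leaf 0x3e6) (.leaf 0)))) (.node (.node (.node (.leaf 0x60) (.leaf 0x1000000458)) (.node (.leaf 0x1e1) (.leaf 0))) (.node (.node (.leaf 0x1001001197) (.leaf 0)) (.node (.leaf 0x453) (.leaf 0))))) (.node (.node (.node (.node (.leaf 0x37) (.leaf 0x4cc)) (.node (.leaf 0x1ae) (.leaf 0))) (.node (.node (.leaf 0xe7) (.leaf 0)) (.node (.leaf 0x425) (.leaf 0)))) (.node (.node (.node (.leaf 0x2001105) (.leaf 0x30014b3))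 (.node (.leaf 0x213) (.leaf 0))) (.node (.node (.leaf 0x10050011ec) (.leaf 0)) (.node (.leaf 0x486) (.leaf 0)))))) (.node (.node (.node (.node (.node (.leaf 0x57) (.leaf 0x36e)) (.node (.leaf 0x301) (.leaf 0))) (.node (.node (.leaf 0x1be) (.leaf 0)) (.node (.leaf 0x3001337) (.leaf 0)))) (.node (.node (.node (.leaf 0x77) (.leaf 0x30014d6)) (.node (.leaf 0x1f7) (.leaf 0))) (.node (.node (.leaf 0x132) (.leaf 0)) (.node (.leaf 0x10020013b7) (.leaf 0))))) (.node (.node (.node (.node (.leaf 0xb7) (.leaf 0x3c4)) (.node (.leaf 0x34c) (.leaf 0))) (.node (.node (.leaf 0x102) (.leaf 0)) (.node (.leaf 0x100300134b) (.leaf 0)))) (.node (.node (.node (.leaf 0x169) (.leaf 0x10020014f7)) (.node (.leaf 0x249) (.leaf 0))) (.node (.node (.leaf 0x2b7) (.leaf 0)) (.node (.leaf 0x400141a) (.leaf 0))))))))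

/-- part of closing hints -/
def node8L0close30 : Trie :=
  (.node (.node (.node (.node (.node (.node (.node (.leaf 0x9) (.leaf 0x33e)) (.node (.leaf 0x174) (.leaf 0))) (.node (.node (.leaf 0xb1) (.leaf 0)) (.node (.leaf 0x3df) (.leaf 0)))) (.node (.node (.node (.leaf 0x5b) (.leaf 0x30014a4)) (.node (.leaf 0x366) (.leaf 0))) (.node (.node (.leaf 0x115) (.leaf 0)) (.node (.leaf 0x200138f) (.leaf 0))))) (.node (.node (.node (.node (.leaf 0x32) (.leaf 0x391)) (.node (.leaf 0x1a9) (.leaf 0))) (.node (.node (.leaf 0x1db) (.leaf 0)) (.node (.leaf 0x1000000401) (.leaf 0)))) (.node (.node (.node (.leaf 0x13a) (.leaf 0x100500047e)) (.node (.leaf 0x20c) (.leaf 0))) (.node (.node (.leaf 0x146) (.leaf 0)) (.node (.leaf 0x20013cf) (.leaf 0)))))) (.node (.node (.node (.node (.node (.leaf 0x4a) (.leaf 0x4aa)) (.node (.leaf 0x2f6) (.leaf 0))) (.node (.node (.leaf 0xc8) (.leaf 0)) (.node (.leaf 0x25e) (.leaf 0)))) (.node (.node (.node (.leaf 0x10c) (.leaf 0x415)) (.node (.leaf 0x1f2) (.leaf 0)))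 (.node (.node (.leaf 0x12c) (.leaf 0)) (.node (.leaf 0x2d9) (.leaf 0))))) (.node (.node (.node (.node (.leaf 0xad) (.leaf 0x3b9)) (.node (.leaf 0x342) (.leaf 0))) (.node (.node (.leaf 0x206) (.leaf 0)) (.node (.leaf 0x10020003e9) (.leaf 0)))) (.node (.node (.node (.leaf 0x15f) (.leaf 0x40004a8)) (.node (.leaf 0x229) (.leaf 0))) (.node (.node (.leaf 0x10040011ef) (.leaf 0)) (.node (.leaf 0x50003a1) (.leaf 0))))))) (.node (.node (.node (.node (.node (.node (.leaf 0x14) (.leaf 0x4ab)) (.node (.leaf 0x2e4) (.leaf 0))) (.node (.node (.leaf 0x19b) (.leaf 0)) (.node (.leaf 0x3f0) (.leaf 0)))) (.node (.node (.node (.leaf 0xf3) (.leaf 0x3ff)) (.node (.leaf 0x1e6) (.leaf 0))) (.node (.node (.leaf 0x244) (.leaf 0)) (.node (.leaf 0x200139f) (.leaf 0))))) (.node (.node (.node (.node (.leaf 0x3c) (.leaf 0x1005001466)) (.node (.leaf 0x1b3) (.leaf 0))) (.node (.node (.leaf 0xef) (.leaf 0)) (.node (.leaf 0x287) (.leaf 0)))) (.node (.node (.node (.leaf 0x91) (.leaf 0x475)) (.node (.leaf 0x1004000242)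 (.leaf 0))) (.node (.node (.leaf 0x295) (.leaf 0)) (.node (.leaf 0x30f) (.leaf 0)))))) (.node (.node (.node (.node (.node (.leaf 0x64) (.leaf 0x20004ac)) (.node (.leaf 0x30c) (.leaf 0))) (.node (.node (.leaf 0xd3) (.leaf 0)) (.node (.leaf 0x26d) (.leaf 0)))) (.node (.node (.node (.leaf 0x7c) (.leaf 0x1004000488)) (.node (.leaf 0x39b) (.leaf 0))) (.node (.node (.leaf 0x26b) (.leaf 0)) (.node (.leaf 0x30013bf) (.leaf 0))))) (.node (.node (.node (.node (.leaf 0x51) (.leaf 0x4e3)) (.node (.leaf 0x3000339) (.leaf 0))) (.node (.node (.leaf 0x108) (.leaf 0)) (.node (.leaf 0x10040002f8) (.leaf 0)))) (.node (.node (.node (.leaf 0x172) (.leaf 0x50014ff)) (.node (.leaf 0x10003c8) (.leaf 0))) (.node (.node (.leaf 0x40002bd) (.leaf 0)) (.node (.leaf 0x49f) (.leaf 0))))))))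

/-- part of closing hints -/
def node8L0close1 : Trie :=
  (.node (.node (.node (.node (.node (.node (.node (.leaf 0x1) (.leaf 0x1002001441)) (.node (.leaf 0x2c0) (.leaf 0))) (.node (.node (.leaf 0x174) (.leaf 0)) (.node (.leaf 0x3d2) (.leaf 0)))) (.node (.node (.node (.leaf 0x1085) (.leaf 0x100048d)) (.node (.leaf 0x356) (.leaf 0))) (.node (.node (.leaf 0x21f) (.leaf 0)) (.node (.leaf 0x500132f) (.leaf 0))))) (.node (.node (.node (.node (.leaf 0x66) (.leaf 0x2000247)) (.node (.leaf 0x30e) (.leaf 0))) (.node (.node (.leaf 0x1c8) (.leaf 0)) (.node (.leaf 0x10020011f8) (.leaf 0)))) (.node (.node (.node (.leaf 0x124) (.leaf 0x10050013d1)) (.node (.leaf 0x39d) (.leaf 0))) (.node (.node (.leaf 0x26c) (.leaf 0)) (.node (.leaf 0x475) (.leaf 0)))))) (.node (.node (.node (.node (.node (.leaf 0x34) (.leaf 0x4b6)) (.node (.leaf 0x200110f) (.leaf 0))) (.node (.node (.leaf 0x19e) (.leaf 0)) (.node (.leaf 0x3f1) (.leaf 0)))) (.node (.node (.node (.leaf 0xf5) (.leaf 0x1000000286)) (.node (.leaf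 0x37c) (.leaf 0))) (.node (.node (.leaf 0x5001177) (.leaf 0)) (.node (.leaf 0x10010dd) (.leaf 0))))) (.node (.node (.node (.node (.leaf 0x98) (.leaf 0x10010001af)) (.node (.leaf 0x332) (.leaf 0))) (.node (.node (.leaf 0x1f1) (.leaf 0)) (.node (.leaf 0x1001000192) (.leaf 0)))) (.node (.node (.node (.leaf 0x14e) (.leaf 0x400137e)) (.node (.leaf 0x3b2) (.leaf 0))) (.node (.node (.leaf 0x296) (.leaf 0)) (.node (.leaf 0x48b) (.leaf 0))))))) (.node (.node (.node (.node (.node (.node (.leaf 0x1a) (.leaf 0x4ab)) (.node (.leaf 0x2d3) (.leaf 0))) (.node (.node (.leaf 0x18a) (.leaf 0)) (.node (.leaf 0x3e1) (.leaf 0)))) (.node (.node (.node (.leaf 0xde) (.leaf 0x4eb)) (.node (.leaf 0x368) (.leaf 0))) (.node (.node (.leaf 0x232) (.leaf 0)) (.node (.leaf 0x100025d) (.leaf 0))))) (.node (.node (.node (.node (.leaf 0x7e) (.leaf 0x100200049f)) (.node (.leaf 0x31d) (.leaf 0))) (.node (.node (.leaf 0x1dd) (.leaf 0)) (.node (.leaf 0x40011cf) (.leaf 0)))) (.node (.node (.node (.leaf 0x13c) (.leaf 0x3000305))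 (.node (.leaf 0x3a7) (.leaf 0))) (.node (.node (.leaf 0x282) (.leaf 0)) (.node (.leaf 0x480) (.leaf 0)))))) (.node (.node (.node (.node (.node (.leaf 0x4c) (.leaf 0x4bd)) (.node (.leaf 0x2f8) (.leaf 0))) (.node (.node (.leaf 0x1b5) (.leaf 0)) (.node (.leaf 0x50002c2) (.leaf 0)))) (.node (.node (.node (.leaf 0x10e) (.leaf 0x10040014ca)) (.node (.leaf 0x1000369) (.leaf 0))) (.node (.node (.leaf 0x1004001100) (.leaf 0)) (.node (.leaf 0x40002cb) (.leaf 0))))) (.node (.node (.node (.node (.leaf 0xaf) (.leaf 0x1000001270)) (.node (.leaf 0x343) (.leaf 0))) (.node (.node (.leaf 0x209) (.leaf 0)) (.node (.leaf 0x439) (.leaf 0)))) (.node (.node (.node (.leaf 0x160) (.leaf 0x4fd)) (.node (.leaf 0x10040012b2) (.leaf 0))) (.node (.node (.leaf 0x2ac) (.leaf 0)) (.node (.leaf 0x400031e) (.leaf 0))))))))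

/-- part of closing hints -/
def node8L0close17 : Trie :=
  (.node (.node (.node (.node (.node (.node (.node (.leaf 0xe) (.leaf 0x4a6)) (.node (.leaf 0x2ca) (.leaf 0))) (.node (.node (.leaf 0x1000036) (.leaf 0)) (.node (.leaf 0x3da) (.leaf 0)))) (.node (.node (.node (.leaf 0xd1) (.leaf 0x4d2)) (.node (.leaf 0x360) (.leaf 0))) (.node (.node (.leaf 0x22a) (.leaf 0)) (.node (.leaf 0x44a) (.leaf 0))))) (.node (.node (.node (.node (.leaf 0x73) (.leaf 0x5001082)) (.node (.leaf 0x1005000276) (.leaf 0))) (.node (.node (.leaf 0x1d1) (.leaf 0)) (.node (.leaf 0x10010013b5) (.leaf 0)))) (.node (.node (.node (.leaf 0x130) (.leaf 0x100400041b)) (.node (.leaf 0x3a1) (.leaf 0))) (.node (.node (.leaf 0x277) (.leaf 0)) (.node (.leaf 0x10050013df) (.leaf 0)))))) (.node (.node (.node (.node (.node (.leaf 0x41) (.leaf 0x100300011a)) (.node (.leaf 0x2ee) (.leaf 0))) (.node (.node (.leaf 0x1a9) (.leaf 0)) (.node (.leaf 0x3f9) (.leaf 0)))) (.node (.node (.node (.leaf 0x102) (.leaf 0x1005000472)) (.node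 (.leaf 0x385) (.leaf 0))) (.node (.node (.leaf 0xa8) (.leaf 0)) (.node (.leaf 0x462) (.leaf 0))))) (.node (.node (.node (.node (.leaf 0xa3) (.leaf 0x10003b3)) (.node (.leaf 0x33a) (.leaf 0))) (.node (.node (.leaf 0x1fe) (.leaf 0)) (.node (.leaf 0x433) (.leaf 0)))) (.node (.node (.node (.leaf 0x159) (.leaf 0x1000000443)) (.node (.leaf 0x3bc) (.leaf 0))) (.node (.node (.leaf 0x500120f) (.leaf 0)) (.node (.leaf 0x1003001478) (.leaf 0))))))) (.node (.node (.node (.node (.node (.node (.leaf 0x27) (.leaf 0x100039c)) (.node (.leaf 0x2dd) (.leaf 0))) (.node (.node (.leaf 0x193) (.leaf 0)) (.node (.leaf 0x3e9) (.leaf 0)))) (.node (.node (.node (.leaf 0xe8) (.leaf 0x200048a)) (.node (.leaf 0x372) (.leaf 0))) (.node (.node (.leaf 0x10040001d2) (.leaf 0)) (.node (.leaf 0x455) (.leaf 0))))) (.node (.node (.node (.node (.leaf 0x8b) (.leaf 0x4cd)) (.node (.leaf 0x328) (.leaf 0))) (.node (.node (.leaf 0x1e9) (.leaf 0)) (.node (.leaf 0x10000b2) (.leaf 0)))) (.node (.node (.node (.leaf 0x144) (.leaf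 0x45)) (.node (.leaf 0x1002001297) (.leaf 0))) (.node (.node (.leaf 0x10010f3) (.leaf 0)) (.node (.leaf 0x1003001396) (.leaf 0)))))) (.node (.node (.node (.node (.node (.leaf 0x59) (.leaf 0x4c1)) (.node (.leaf 0x303) (.leaf 0))) (.node (.node (.leaf 0x1000001157) (.leaf 0)) (.node (.leaf 0x30013a4) (.leaf 0)))) (.node (.node (.node (.leaf 0x10000d5) (.leaf 0x300044f)) (.node (.leaf 0x395) (.leaf 0))) (.node (.node (.leaf 0x266) (.leaf 0)) (.node (.leaf 0x46e) (.leaf 0))))) (.node (.node (.node (.node (.leaf 0xb9) (.leaf 0x4e0)) (.node (.leaf 0x12cd) (.leaf 0))) (.node (.node (.leaf 0x215) (.leaf 0)) (.node (.leaf 0x5001114) (.leaf 0)))) (.node (.node (.node (.leaf 0x100500007d) (.leaf 0x40001f6)) (.node (.leaf 0x3c8) (.leaf 0))) (.node (.node (.leaf 0x2b8) (.leaf 0)) (.node (.leaf 0x498) (.leaf 0))))))))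

/-- part of closing hints -/
def node8L0close9 : Trie :=
  (.node (.node (.node (.node (.node (.node (.node (.leaf 0x8) (.leaf 0x4a2)) (.node (.leaf 0x2c5) (.leaf 0))) (.node (.node (.leaf 0x17b) (.leaf 0)) (.node (.leaf 0x10030012fb) (.leaf 0)))) (.node (.node (.node (.leaf 0xcb) (.leaf 0x4e6)) (.node (.leaf 0x35b) (.leaf 0))) (.node (.node (.leaf 0x224) (.leaf 0)) (.node (.leaf 0x4001344) (.leaf 0))))) (.node (.node (.node (.node (.leaf 0x6c) (.leaf 0x5000074)) (.node (.leaf 0x1005001220) (.leaf 0))) (.node (.node (.leaf 0x1cc) (.leaf 0)) (.node (.leaf 0x414) (.leaf 0)))) (.node (.node (.node (.leaf 0x12b) (.leaf 0x1001001225)) (.node (.leaf 0x1002000243) (.leaf 0))) (.node (.node (.leaf 0x272) (.leaf 0)) (.node (.leaf 0x10010d8) (.leaf 0)))))) (.node (.node (.node (.node (.node (.leaf 0x3a) (.leaf 0x4ba)) (.node (.leaf 0x2eb) (.leaf 0))) (.node (.node (.leaf 0x1a3) (.leaf 0)) (.node (.leaf 0x3f4) (.leaf 0)))) (.node (.node (.node (.leaf 0xfc) (.leaf 0x4f0)) (.node (.leaf 0x381)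 (.leaf 0))) (.node (.node (.leaf 0x1002001029) (.leaf 0)) (.node (.leaf 0x100400135c) (.leaf 0))))) (.node (.node (.node (.node (.leaf 0x9d) (.leaf 0x20012bb)) (.node (.leaf 0x336) (.leaf 0))) (.node (.node (.leaf 0x1f7) (.leaf 0)) (.node (.leaf 0x431) (.leaf 0)))) (.node (.node (.node (.leaf 0x4000094) (.leaf 0x4fb)) (.node (.leaf 0x3b7) (.leaf 0))) (.node (.node (.leaf 0x29d) (.leaf 0)) (.node (.leaf 0x10000000f6) (.leaf 0))))))) (.node (.node (.node (.node (.node (.node (.leaf 0x20) (.leaf 0x4ae)) (.node (.leaf 0x5001208) (.leaf 0))) (.node (.node (.leaf 0x18e) (.leaf 0)) (.node (.leaf 0x1003001155) (.leaf 0)))) (.node (.node (.node (.leaf 0xe3) (.leaf 0x4ed)) (.node (.leaf 0x10000012a9) (.leaf 0))) (.node (.node (.leaf 0x238) (.leaf 0)) (.node (.leaf 0x100400013a) (.leaf 0))))) (.node (.node (.node (.node (.leaf 0x84) (.leaf 0x1000000070)) (.node (.leaf 0x322) (.leaf 0))) (.node (.node (.leaf 0x1e3) (.leaf 0)) (.node (.leaf 0x100106e) (.leaf 0)))) (.node (.node (.node (.leaf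 0x141) (.leaf 0x100300131c)) (.node (.leaf 0x3ac) (.leaf 0))) (.node (.node (.leaf 0x287) (.leaf 0)) (.node (.leaf 0x484) (.leaf 0)))))) (.node (.node (.node (.node (.node (.leaf 0x53) (.leaf 0x4bf)) (.node (.leaf 0x1000000184) (.leaf 0))) (.node (.node (.leaf 0x1bb) (.leaf 0)) (.node (.leaf 0x10010003eb) (.leaf 0)))) (.node (.node (.node (.leaf 0x113) (.leaf 0x10050002ea)) (.node (.leaf 0x392) (.leaf 0))) (.node (.node (.leaf 0x261) (.leaf 0)) (.node (.leaf 0x46b) (.leaf 0))))) (.node (.node (.node (.node (.leaf 0xb4) (.leaf 0x1001436)) (.node (.leaf 0x349) (.leaf 0))) (.node (.node (.leaf 0x1002001147) (.leaf 0)) (.node (.leaf 0x2000254) (.leaf 0)))) (.node (.node (.node (.leaf 0x166) (.leaf 0x4fe)) (.node (.leaf 0x3c6) (.leaf 0))) (.node (.node (.leaf 0x2b3) (.leaf 0)) (.node (.leaf 0x496) (.leaf 0))))))))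

/-- part of closing hints -/
def node8L0close25 : Trie :=
  (.node (.node (.node (.node (.node (.node (.node (.leaf 0x14) (.leaf 0x4a8)) (.node (.leaf 0x1005000128) (.leaf 0))) (.node (.node (.leaf 0x100300009b) (.leaf 0)) (.node (.leaf 0x3dd) (.leaf 0)))) (.node (.node (.node (.leaf 0xd7) (.leaf 0x200126b)) (.node (.leaf 0x364) (.leaf 0))) (.node (.node (.leaf 0x100300119b) (.leaf 0)) (.node (.leaf 0x5001376) (.leaf 0))))) (.node (.node (.node (.node (.leaf 0x79) (.leaf 0x4c9)) (.node (.leaf 0x318) (.leaf 0))) (.node (.node (.leaf 0x1d7) (.leaf 0)) (.node (.leaf 0x41a) (.leaf 0)))) (.node (.node (.node (.leaf 0x136) (.leaf 0x10030013bd)) (.node (.leaf 0x30011a1) (.leaf 0))) (.node (.node (.leaf 0x27e) (.leaf 0)) (.node (.leaf 0x47e) (.leaf 0)))))) (.node (.node (.node (.node (.node (.leaf 0x47) (.leaf 0x10040010a4)) (.node (.leaf 0x20002c6) (.leaf 0))) (.node (.node (.leaf 0x1b0) (.leaf 0)) (.node (.leaf 0x3fd) (.leaf 0)))) (.node (.node (.node (.leaf 0x108) (.leaf 0x5001057))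 (.node (.leaf 0x128e) (.leaf 0))) (.node (.node (.leaf 0x255) (.leaf 0)) (.node (.leaf 0x466) (.leaf 0))))) (.node (.node (.node (.node (.leaf 0xa9) (.leaf 0x2001454)) (.node (.leaf 0x33e) (.leaf 0))) (.node (.node (.leaf 0x203) (.leaf 0)) (.node (.leaf 0x1000000295) (.leaf 0)))) (.node (.node (.node (.leaf 0x15d) (.leaf 0x4fc)) (.node (.leaf 0x3c1) (.leaf 0))) (.node (.node (.leaf 0x2a7) (.leaf 0)) (.node (.leaf 0x490) (.leaf 0))))))) (.node (.node (.node (.node (.node (.node (.leaf 0x2d) (.leaf 0x1003001438)) (.node (.leaf 0x2e1) (.leaf 0))) (.node (.node (.leaf 0x197) (.leaf 0)) (.node (.leaf 0x3ee) (.leaf 0)))) (.node (.node (.node (.leaf 0xef) (.leaf 0x100000043d)) (.node (.leaf 0x378) (.leaf 0))) (.node (.node (.leaf 0x241) (.leaf 0)) (.node (.leaf 0x45a) (.leaf 0))))) (.node (.node (.node (.node (.leaf 0x91) (.leaf 0x50004bc)) (.node (.leaf 0x5001257) (.leaf 0))) (.node (.node (.leaf 0x1ec) (.leaf 0)) (.node (.leaf 0x42b) (.leaf 0)))) (.node (.node (.node (.leaf 0x149) (.leaf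 0x10050004f9)) (.node (.leaf 0x200039e) (.leaf 0))) (.node (.node (.leaf 0x291) (.leaf 0)) (.node (.leaf 0x40000b7) (.leaf 0)))))) (.node (.node (.node (.node (.node (.leaf 0x60) (.leaf 0x2001087)) (.node (.leaf 0x308) (.leaf 0))) (.node (.node (.leaf 0x1c3) (.leaf 0)) (.node (.leaf 0x40d) (.leaf 0)))) (.node (.node (.node (.leaf 0x11f) (.leaf 0x1001000426)) (.node (.leaf 0x398) (.leaf 0))) (.node (.node (.leaf 0x30000ad) (.leaf 0)) (.node (.leaf 0x473) (.leaf 0))))) (.node (.node (.node (.node (.leaf 0xc0) (.leaf 0x400144b)) (.node (.leaf 0x351) (.leaf 0))) (.node (.node (.leaf 0x21b) (.leaf 0)) (.node (.leaf 0x442) (.leaf 0)))) (.node (.node (.node (.leaf 0x16f) (.leaf 0x2000267)) (.node (.leaf 0x3ce) (.leaf 0))) (.node (.node (.leaf 0x2bc) (.leaf 0)) (.node (.leaf 0x3000324) (.leaf 0))))))))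

/-- part of closing hints -/
def node8L0close5 : Trie :=
  (.node (.node (.node (.node (.node (.node (.node (.leaf 0x4) (.leaf 0x4001417)) (.node (.leaf 0x5001239) (.leaf 0))) (.node (.node (.leaf 0x178) (.leaf 0)) (.node (.leaf 0x3d4) (.leaf 0)))) (.node (.node (.node (.leaf 0xc8) (.leaf 0x100100127a)) (.node (.leaf 0x358) (.leaf 0))) (.node (.node (.leaf 0x3000068) (.leaf 0)) (.node (.leaf 0x445) (.leaf 0))))) (.node (.node (.node (.node (.leaf 0x69) (.leaf 0x10040012ad)) (.node (.leaf 0x4000138) (.leaf 0))) (.node (.node (.leaf 0x1ca) (.leaf 0)) (.node (.leaf 0x1000001316) (.leaf 0)))) (.node (.node (.node (.leaf 0x127) (.leaf 0x4f7)) (.node (.leaf 0x39f) (.leaf 0))) (.node (.node (.leaf 0x26f) (.leaf 0)) (.node (.leaf 0x1001000404) (.leaf 0)))))) (.node (.node (.node (.node (.node (.leaf 0x37) (.leaf 0x4b8)) (.node (.leaf 0x4000182) (.leaf 0))) (.node (.node (.leaf 0x10040010fa) (.leaf 0)) (.node (.leaf 0x20013b1) (.leaf 0)))) (.node (.node (.node (.leaf 0xf9) (.leaf 0x100017a))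 (.node (.leaf 0x37f) (.leaf 0))) (.node (.node (.leaf 0x248) (.leaf 0)) (.node (.leaf 0x45e) (.leaf 0))))) (.node (.node (.node (.node (.leaf 0x9a) (.leaf 0x4d4)) (.node (.leaf 0x334) (.leaf 0))) (.node (.node (.leaf 0x1f4) (.leaf 0)) (.node (.leaf 0x430) (.leaf 0)))) (.node (.node (.node (.leaf 0x151) (.leaf 0x10010011e8)) (.node (.leaf 0x10020012f1) (.leaf 0))) (.node (.node (.leaf 0x299) (.leaf 0)) (.node (.leaf 0x50000aa) (.leaf 0))))))) (.node (.node (.node (.node (.node (.node (.leaf 0x1d) (.leaf 0x4ac)) (.node (.leaf 0x2d6) (.leaf 0))) (.node (.node (.leaf 0x18d) (.leaf 0)) (.node (.leaf 0x3e2) (.leaf 0)))) (.node (.node (.node (.leaf 0xe1) (.leaf 0x4ec)) (.node (.leaf 0x36c) (.leaf 0))) (.node (.node (.leaf 0x235) (.leaf 0)) (.node (.leaf 0x10040000b0) (.leaf 0))))) (.node (.node (.node (.node (.leaf 0x81) (.leaf 0x100200129c)) (.node (.leaf 0x320) (.leaf 0))) (.node (.node (.leaf 0x1df) (.leaf 0)) (.node (.leaf 0x420) (.leaf 0)))) (.node (.node (.node (.leaf 0x13e) (.leaf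 0x10030002cf)) (.node (.leaf 0x3aa) (.leaf 0))) (.node (.node (.leaf 0xbc) (.leaf 0)) (.node (.leaf 0x10000002af) (.leaf 0)))))) (.node (.node (.node (.node (.node (.leaf 0x50) (.leaf 0x100100103b)) (.node (.leaf 0x100400024e) (.leaf 0))) (.node (.node (.leaf 0x1b8) (.leaf 0)) (.node (.leaf 0x401) (.leaf 0)))) (.node (.node (.node (.leaf 0x1004000078) (.leaf 0x4000452)) (.node (.leaf 0x38f) (.leaf 0))) (.node (.node (.leaf 0x25e) (.leaf 0)) (.node (.leaf 0x1001001352) (.leaf 0))))) (.node (.node (.node (.node (.leaf 0xb1) (.leaf 0x50000ee)) (.node (.leaf 0x346) (.leaf 0))) (.node (.node (.leaf 0x20c) (.leaf 0)) (.node (.leaf 0x43b) (.leaf 0)))) (.node (.node (.node (.leaf 0x164) (.leaf 0x40004be)) (.node (.leaf 0x3c4) (.leaf 0))) (.node (.node (.leaf 0x2b0) (.leaf 0)) (.node (.leaf 0x1f) (.leaf 0))))))))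

/-- part of closing hints -/
def node8L0close21 : Trie :=
  (.node (.node (.node (.node (.node (.node (.node (.leaf 0x11) (.leaf 0x2001437)) (.node (.leaf 0x100200029f) (.leaf 0))) (.node (.node (.leaf 0x10040000a6) (.leaf 0)) (.node (.leaf 0x3dc) (.leaf 0)))) (.node (.node (.node (.leaf 0xd4) (.leaf 0x4e8)) (.node (.leaf 0x2001016) (.leaf 0))) (.node (.node (.leaf 0x22d) (.leaf 0)) (.node (.leaf 0x2000411) (.leaf 0))))) (.node (.node (.node (.node (.leaf 0x76) (.leaf 0x10040003ca)) (.node (.leaf 0x315) (.leaf 0))) (.node (.node (.leaf 0x1d4) (.leaf 0)) (.node (.leaf 0x418) (.leaf 0)))) (.node (.node (.node (.leaf 0x133) (.leaf 0x100100047b)) (.node (.leaf 0x10040010bf) (.leaf 0))) (.node (.node (.leaf 0x1000175) (.leaf 0)) (.node (.leaf 0x47d) (.leaf 0)))))) (.node (.node (.node (.node (.node (.leaf 0x44) (.leaf 0x10050000c5)) (.node (.leaf 0x2f2) (.leaf 0))) (.node (.node (.leaf 0x1ac) (.leaf 0)) (.node (.leaf 0x3fa) (.leaf 0)))) (.node (.node (.node (.leaf 0x105) (.leaf 0x13af))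 (.node (.leaf 0x388) (.leaf 0))) (.node (.node (.leaf 0x251) (.leaf 0)) (.node (.leaf 0x100139b) (.leaf 0))))) (.node (.node (.node (.node (.leaf 0xa7) (.leaf 0x4d7)) (.node (.leaf 0x33c) (.leaf 0))) (.node (.node (.leaf 0x200) (.leaf 0)) (.node (.leaf 0x435) (.leaf 0)))) (.node (.node (.node (.leaf 0x15b) (.leaf 0x400142e)) (.node (.leaf 0x3be) (.leaf 0))) (.node (.node (.leaf 0x2a5) (.leaf 0)) (.node (.leaf 0x48f) (.leaf 0))))))) (.node (.node (.node (.node (.node (.node (.leaf 0x2a) (.leaf 0x4b4)) (.node (.leaf 0x2df) (.leaf 0))) (.node (.node (.leaf 0x194) (.leaf 0)) (.node (.leaf 0x20010fd) (.leaf 0)))) (.node (.node (.node (.leaf 0xec) (.leaf 0x50011a7)) (.node (.leaf 0x375) (.leaf 0))) (.node (.node (.leaf 0x23e) (.leaf 0)) (.node (.leaf 0x458) (.leaf 0))))) (.node (.node (.node (.node (.leaf 0x8e) (.leaf 0x10020000f0)) (.node (.leaf 0x32b) (.leaf 0))) (.node (.node (.leaf 0x1eb) (.leaf 0)) (.node (.leaf 0x428) (.leaf 0)))) (.node (.node (.node (.leaf 0x146) (.leaf 0x10000011db))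 (.node (.leaf 0x1001000026) (.leaf 0))) (.node (.node (.leaf 0x200024c) (.leaf 0)) (.node (.leaf 0x10010002f3) (.leaf 0)))))) (.node (.node (.node (.node (.node (.leaf 0x5d) (.leaf 0x4c3)) (.node (.leaf 0x10020002ef) (.leaf 0))) (.node (.node (.leaf 0x100500115c) (.leaf 0)) (.node (.leaf 0x409) (.leaf 0)))) (.node (.node (.node (.leaf 0x11c) (.leaf 0x1004001361)) (.node (.leaf 0x397) (.leaf 0))) (.node (.node (.leaf 0x1000190) (.leaf 0)) (.node (.leaf 0x471) (.leaf 0))))) (.node (.node (.node (.node (.leaf 0xbd) (.leaf 0x4e1)) (.node (.leaf 0x350) (.leaf 0))) (.node (.node (.leaf 0x218) (.leaf 0)) (.node (.leaf 0x200133d) (.leaf 0)))) (.node (.node (.node (.leaf 0x16b) (.leaf 0x2000383)) (.node (.leaf 0x3cb) (.leaf 0))) (.node (.node (.leaf 0x2ba) (.leaf 0)) (.node (.leaf 0x1001000116) (.leaf 0))))))))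

/-- part of closing hints -/
def node8L0close13 : Trie :=
  (.node (.node (.node (.node (.node (.node (.node (.leaf 0xb) (.leaf 0x1002000244)) (.node (.leaf 0x2c8) (.leaf 0))) (.node (.node (.leaf 0x17d) (.leaf 0)) (.node (.leaf 0x3d7) (.leaf 0)))) (.node (.node (.node (.leaf 0xce) (.leaf 0x4e7)) (.node (.leaf 0x35e) (.leaf 0))) (.node (.node (.leaf 0x227) (.leaf 0)) (.node (.leaf 0x449) (.leaf 0))))) (.node (.node (.node (.node (.leaf 0x6f) (.leaf 0x4c7)) (.node (.leaf 0x1003000199) (.leaf 0))) (.node (.node (.leaf 0x1d0) (.leaf 0)) (.node (.leaf 0x10002b7) (.leaf 0)))) (.node (.node (.node (.leaf 0x12c) (.leaf 0x300138a)) (.node (.leaf 0x100010a) (.leaf 0))) (.node (.node (.leaf 0x273) (.leaf 0)) (.node (.leaf 0x479) (.leaf 0)))))) (.node (.node (.node (.node (.node (.leaf 0x3d) (.leaf 0x1486)) (.node (.leaf 0x2ed) (.leaf 0))) (.node (.node (.leaf 0x1a6) (.leaf 0)) (.node (.leaf 0x3f7) (.leaf 0)))) (.node (.node (.node (.leaf 0xff) (.leaf 0x4f1)) (.node (.leaf 0x100200115f)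 (.leaf 0))) (.node (.node (.leaf 0x24d) (.leaf 0)) (.node (.leaf 0x45f) (.leaf 0))))) (.node (.node (.node (.node (.leaf 0xa1) (.leaf 0x4d6)) (.node (.leaf 0x338) (.leaf 0))) (.node (.node (.leaf 0x1fb) (.leaf 0)) (.node (.leaf 0x432) (.leaf 0)))) (.node (.node (.node (.leaf 0x156) (.leaf 0x10030003e6)) (.node (.leaf 0x100300104d) (.leaf 0))) (.node (.node (.leaf 0x2a0) (.leaf 0)) (.node (.leaf 0x48e) (.leaf 0))))))) (.node (.node (.node (.node (.node (.node (.leaf 0x23) (.leaf 0x4b1)) (.node (.leaf 0x2da) (.leaf 0))) (.node (.node (.leaf 0x300000a) (.leaf 0)) (.node (.leaf 0x3e5) (.leaf 0)))) (.node (.node (.node (.leaf 0xe6) (.leaf 0x30014dc)) (.node (.leaf 0x36f) (.leaf 0))) (.node (.node (.leaf 0x23b) (.leaf 0)) (.node (.leaf 0x100000030a) (.leaf 0))))) (.node (.node (.node (.node (.leaf 0x88) (.leaf 0x1003000329)) (.node (.leaf 0x325) (.leaf 0))) (.node (.node (.leaf 0x1e6) (.leaf 0)) (.node (.leaf 0x10030013c2) (.leaf 0)))) (.node (.node (.node (.leaf 0x143) (.leaf 0x10050014ce))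 (.node (.leaf 0x3ad) (.leaf 0))) (.node (.node (.leaf 0x28a) (.leaf 0)) (.node (.leaf 0x50002e6) (.leaf 0)))))) (.node (.node (.node (.node (.node (.leaf 0x56) (.leaf 0x1002001274)) (.node (.leaf 0x300) (.leaf 0))) (.node (.node (.leaf 0x500108f) (.leaf 0)) (.node (.leaf 0x405) (.leaf 0)))) (.node (.node (.node (.leaf 0x117) (.leaf 0x293)) (.node (.leaf 0x4001092) (.leaf 0))) (.node (.node (.leaf 0x264) (.leaf 0)) (.node (.leaf 0x46d) (.leaf 0))))) (.node (.node (.node (.node (.leaf 0xb6) (.leaf 0x10050003c0)) (.node (.leaf 0x34b) (.leaf 0))) (.node (.node (.leaf 0x212) (.leaf 0)) (.node (.leaf 0x100500029a) (.leaf 0)))) (.node (.node (.node (.leaf 0x168) (.leaf 0x100500142d)) (.node (.leaf 0x10010003a0) (.leaf 0))) (.node (.node (.leaf 0x2b6) (.leaf 0)) (.node (.leaf 0x400112f) (.leaf 0))))))))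

/-- part of closing hints -/
def node8L0close29 : Trie :=
  (.node (.node (.node (.node (.node (.node (.node (.leaf 0x17) (.leaf 0x1000000230)) (.node (.leaf 0x2d1) (.leaf 0))) (.node (.node (.leaf 0x187) (.leaf 0)) (.node (.leaf 0x1005000030) (.leaf 0)))) (.node (.node (.node (.leaf 0xdb) (.leaf 0x4e9)) (.node (.leaf 0x100100124f) (.leaf 0))) (.node (.node (.leaf 0x231) (.leaf 0)) (.node (.leaf 0x100100016c) (.leaf 0))))) (.node (.node (.node (.node (.leaf 0x7c) (.leaf 0x1002001301)) (.node (.leaf 0x1003000222) (.leaf 0))) (.node (.node (.leaf 0x1da) (.leaf 0)) (.node (.leaf 0x41c) (.leaf 0)))) (.node (.node (.node (.leaf 0x139) (.leaf 0x40000a0)) (.node (.leaf 0x1003001313) (.leaf 0))) (.node (.node (.leaf 0x280) (.leaf 0)) (.node (.leaf 0x47f) (.leaf 0)))))) (.node (.node (.node (.node (.node (.leaf 0x49) (.leaf 0x100200118f)) (.node (.leaf 0x2f5) (.leaf 0))) (.node (.node (.leaf 0x1b2) (.leaf 0)) (.node (.leaf 0x3ff) (.leaf 0)))) (.node (.node (.node (.leaf 0x10b) (.leaf 0x408))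 (.node (.leaf 0x38b) (.leaf 0))) (.node (.node (.leaf 0x258) (.leaf 0)) (.node (.leaf 0x1003000180) (.leaf 0))))) (.node (.node (.node (.node (.leaf 0xac) (.leaf 0x4da)) (.node (.leaf 0x341) (.leaf 0))) (.node (.node (.leaf 0x205) (.leaf 0)) (.node (.leaf 0x2001054) (.leaf 0)))) (.node (.node (.node (.leaf 0x100400001b) (.leaf 0x10004a5)) (.node (.leaf 0x10030012db) (.leaf 0))) (.node (.node (.leaf 0x2aa) (.leaf 0)) (.node (.leaf 0x4001453) (.leaf 0))))))) (.node (.node (.node (.node (.node (.node (.leaf 0x31) (.leaf 0x10040001bd)) (.node (.leaf 0x2e3) (.leaf 0))) (.node (.node (.leaf 0x19a) (.leaf 0)) (.node (.leaf 0x3ef) (.leaf 0)))) (.node (.node (.node (.leaf 0xf2) (.leaf 0x4ef)) (.node (.leaf 0x37a) (.leaf 0))) (.node (.node (.leaf 0x1001000211) (.leaf 0)) (.node (.leaf 0x19) (.leaf 0))))) (.node (.node (.node (.node (.leaf 0x95) (.leaf 0x1002001416)) (.node (.leaf 0x330) (.leaf 0))) (.node (.node (.leaf 0x1ee) (.leaf 0)) (.node (.leaf 0x10050011c6) (.leaf 0)))) (.node (.node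 (.node (.leaf 0x14b) (.leaf 0x4000483)) (.node (.leaf 0x3b0) (.leaf 0))) (.node (.node (.leaf 0x294) (.leaf 0)) (.node (.leaf 0x488) (.leaf 0)))))) (.node (.node (.node (.node (.node (.leaf 0x63) (.leaf 0x500109e)) (.node (.leaf 0x30b) (.leaf 0))) (.node (.node (.leaf 0x1c7) (.leaf 0)) (.node (.leaf 0x410) (.leaf 0)))) (.node (.node (.node (.leaf 0x122) (.leaf 0x4f5)) (.node (.leaf 0x39a) (.leaf 0))) (.node (.node (.leaf 0x26a) (.leaf 0)) (.node (.leaf 0x474) (.leaf 0))))) (.node (.node (.node (.node (.leaf 0xc3) (.leaf 0x1003001468)) (.node (.leaf 0x353) (.leaf 0))) (.node (.node (.leaf 0x21e) (.leaf 0)) (.node (.leaf 0x1000001236) (.leaf 0)))) (.node (.node (.node (.leaf 0x171) (.leaf 0x4001333)) (.node (.leaf 0x3cf) (.leaf 0))) (.node (.node (.leaf 0x2be) (.leaf 0)) (.node (.leaf 0x49e) (.leaf 0))))))))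

/-- part of closing hints -/
def node8L0close3 : Trie :=
  (.node (.node (.node (.node (.node (.node (.node (.leaf 0x3) (.leaf 0x1001000321)) (.node (.leaf 0x2c1) (.leaf 0))) (.node (.node (.leaf 0x176) (.leaf 0)) (.node (.leaf 0x3d3) (.leaf 0)))) (.node (.node (.node (.leaf 0xc7) (.leaf 0x4e4)) (.node (.leaf 0x357) (.leaf 0))) (.node (.node (.leaf 0x221) (.leaf 0)) (.node (.leaf 0x50011fa) (.leaf 0))))) (.node (.node (.node (.node (.leaf 0x1002001033) (.leaf 0x1004000371)) (.node (.leaf 0x30f) (.leaf 0))) (.node (.node (.leaf 0x1c9) (.leaf 0)) (.node (.leaf 0x200003e) (.leaf 0)))) (.node (.node (.node (.leaf 0x126) (.leaf 0x100300136b)) (.node (.leaf 0x1000233) (.leaf 0))) (.node (.node (.leaf 0x26d) (.leaf 0)) (.node (.leaf 0x1000161) (.leaf 0)))))) (.node (.node (.node (.node (.node (.leaf 0x35) (.leaf 0x4b7)) (.node (.leaf 0x2e7) (.leaf 0))) (.node (.node (.leaf 0x19f) (.leaf 0)) (.node (.leaf 0x400016e) (.leaf 0)))) (.node (.node (.node (.leaf 0xf7) (.leaf 0x100400040c))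 (.node (.leaf 0x37d) (.leaf 0))) (.node (.node (.leaf 0x246) (.leaf 0)) (.node (.leaf 0x45d) (.leaf 0))))) (.node (.node (.node (.node (.leaf 0x99) (.leaf 0x100500125b)) (.node (.leaf 0x200021c) (.leaf 0))) (.node (.node (.leaf 0x1f2) (.leaf 0)) (.node (.leaf 0x42f) (.leaf 0)))) (.node (.node (.node (.leaf 0x14f) (.leaf 0x5000460)) (.node (.leaf 0x3b4) (.leaf 0))) (.node (.node (.leaf 0x298) (.leaf 0)) (.node (.leaf 0x1005000456) (.leaf 0))))))) (.node (.node (.node (.node (.node (.node (.leaf 0x1c) (.leaf 0x40003cd)) (.node (.leaf 0x2d4) (.leaf 0))) (.node (.node (.leaf 0x18b) (.leaf 0)) (.node (.leaf 0x50003b8) (.leaf 0)))) (.node (.node (.node (.leaf 0xe0) (.leaf 0x135f)) (.node (.leaf 0x36a) (.leaf 0))) (.node (.node (.leaf 0x234) (.leaf 0)) (.node (.leaf 0x450) (.leaf 0))))) (.node (.node (.node (.node (.leaf 0x80) (.leaf 0x10030004b2)) (.node (.leaf 0x31f) (.leaf 0))) (.node (.node (.leaf 0x1de) (.leaf 0)) (.node (.leaf 0x41f) (.leaf 0)))) (.node (.node (.node (.leaf 0x13d)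 (.leaf 0x50001a0)) (.node (.leaf 0x3a9) (.leaf 0))) (.node (.node (.leaf 0x284) (.leaf 0)) (.node (.leaf 0x481) (.leaf 0)))))) (.node (.node (.node (.node (.node (.leaf 0x4e) (.leaf 0x3000393)) (.node (.leaf 0x2fa) (.leaf 0))) (.node (.node (.leaf 0x1b6) (.leaf 0)) (.node (.leaf 0x200027d) (.leaf 0)))) (.node (.node (.node (.leaf 0x110) (.leaf 0x10030010df)) (.node (.leaf 0x38e) (.leaf 0))) (.node (.node (.leaf 0x25c) (.leaf 0)) (.node (.leaf 0x10020010f8) (.leaf 0))))) (.node (.node (.node (.node (.leaf 0x1001001064) (.leaf 0x4dd)) (.node (.leaf 0x345) (.leaf 0))) (.node (.node (.leaf 0x20b) (.leaf 0)) (.node (.leaf 0x43a) (.leaf 0)))) (.node (.node (.node (.leaf 0x162) (.leaf 0x300140f)) (.node (.leaf 0x100100002c) (.leaf 0))) (.node (.node (.leaf 0x2ae) (.leaf 0)) (.node (.leaf 0x493) (.leaf 0))))))))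

/-- part of closing hints -/
def node8L0close19 : Trie :=
  (.node (.node (.node (.node (.node (.node (.node (.leaf 0x10) (.leaf 0x1f3)) (.node (.leaf 0x2cc) (.leaf 0))) (.node (.node (.leaf 0x181) (.leaf 0)) (.node (.leaf 0x3db) (.leaf 0)))) (.node (.node (.node (.leaf 0xd3) (.leaf 0x30013ec)) (.node (.leaf 0x362) (.leaf 0))) (.node (.node (.leaf 0x22b) (.leaf 0)) (.node (.leaf 0x20013ba) (.leaf 0))))) (.node (.node (.node (.node (.leaf 0x75) (.leaf 0x1000000492)) (.node (.leaf 0x30002d2) (.leaf 0))) (.node (.node (.leaf 0x1d3) (.leaf 0)) (.node (.leaf 0x10030003f0) (.leaf 0)))) (.node (.node (.node (.leaf 0x132) (.leaf 0x100300046f)) (.node (.leaf 0x3a3) (.leaf 0))) (.node (.node (.leaf 0x279) (.leaf 0)) (.node (.leaf 0x47c) (.leaf 0)))))) (.node (.node (.node (.node (.node (.leaf 0x42) (.leaf 0x100300035a)) (.node (.leaf 0x2f0) (.leaf 0))) (.node (.node (.leaf 0x1ab) (.leaf 0)) (.node (.leaf 0x1002001067) (.leaf 0)))) (.node (.node (.node (.leaf 0x104) (.leaf 0x1005001119))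 (.node (.leaf 0x386) (.leaf 0))) (.node (.node (.leaf 0x250) (.leaf 0)) (.node (.leaf 0x463) (.leaf 0))))) (.node (.node (.node (.node (.leaf 0xa5) (.leaf 0x500005a)) (.node (.leaf 0x33b) (.leaf 0))) (.node (.node (.leaf 0x1ff) (.leaf 0)) (.node (.leaf 0x434) (.leaf 0)))) (.node (.node (.node (.leaf 0x2) (.leaf 0x200033f)) (.node (.leaf 0x10010012a3) (.leaf 0))) (.node (.node (.leaf 0x2a4) (.leaf 0)) (.node (.leaf 0x2001252) (.leaf 0))))))) (.node (.node (.node (.node (.node (.node (.leaf 0x28) (.leaf 0x4b3)) (.node (.leaf 0x2de) (.leaf 0))) (.node (.node (.leaf 0x10010010e5) (.leaf 0)) (.node (.leaf 0x3ea) (.leaf 0)))) (.node (.node (.node (.leaf 0xea) (.leaf 0x4ee)) (.node (.leaf 0x374) (.leaf 0))) (.node (.node (.leaf 0x40001e2) (.leaf 0)) (.node (.leaf 0x457) (.leaf 0))))) (.node (.node (.node (.node (.leaf 0x8d) (.leaf 0x4cf)) (.node (.leaf 0x32a) (.leaf 0))) (.node (.node (.leaf 0x1ea) (.leaf 0)) (.node (.leaf 0x200012a) (.leaf 0)))) (.node (.node (.node (.leaf 0x145) (.leaf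 0x10050010d0)) (.node (.leaf 0x1004000379) (.leaf 0))) (.node (.node (.leaf 0x28d) (.leaf 0)) (.node (.leaf 0x487) (.leaf 0)))))) (.node (.node (.node (.node (.node (.leaf 0x5b) (.leaf 0x40001b4)) (.node (.leaf 0x304) (.leaf 0))) (.node (.node (.leaf 0x1c0) (.leaf 0)) (.node (.leaf 0x407) (.leaf 0)))) (.node (.node (.node (.leaf 0x11b) (.leaf 0x4f4)) (.node (.leaf 0x10040001e5) (.leaf 0))) (.node (.node (.leaf 0x7) (.leaf 0)) (.node (.leaf 0x470) (.leaf 0))))) (.node (.node (.node (.node (.leaf 0xbb) (.leaf 0x500020d)) (.node (.leaf 0x34f) (.leaf 0))) (.node (.node (.leaf 0x217) (.leaf 0)) (.node (.leaf 0x440) (.leaf 0)))) (.node (.node (.node (.leaf 0x100000015a) (.leaf 0x4ff)) (.node (.leaf 0x3c9) (.leaf 0))) (.node (.node (.leaf 0x2b9) (.leaf 0)) (.node (.leaf 0x499) (.leaf 0))))))))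

/-- part of closing hints -/
def node8L0close11 : Trie :=
  (.node (.node (.node (.node (.node (.node (.node (.leaf 0x9) (.leaf 0x4a4)) (.node (.leaf 0x2c7) (.leaf 0))) (.node (.node (.leaf 0x17c) (.leaf 0)) (.node (.leaf 0x1003000072) (.leaf 0)))) (.node (.node (.node (.leaf 0xcc) (.leaf 0x100100140a)) (.node (.leaf 0x35d) (.leaf 0))) (.node (.node (.leaf 0x226) (.leaf 0)) (.node (.leaf 0x1000421) (.leaf 0))))) (.node (.node (.node (.node (.leaf 0x6d) (.leaf 0x4c6)) (.node (.leaf 0x312) (.leaf 0))) (.node (.node (.leaf 0x1ce) (.leaf 0)) (.node (.leaf 0x415) (.leaf 0)))) (.node (.node (.node (.leaf 0x200008c) (.leaf 0x10000014df)) (.node (.leaf 0x10010001be) (.leaf 0))) (.node (.node (.leaf 0x3000131) (.leaf 0)) (.node (.leaf 0x3000425) (.leaf 0)))))) (.node (.node (.node (.node (.node (.leaf 0x3c) (.leaf 0x10050012e8)) (.node (.leaf 0x2ec) (.leaf 0))) (.node (.node (.leaf 0x1a4) (.leaf 0)) (.node (.leaf 0x3f6) (.leaf 0)))) (.node (.node (.node (.leaf 0xfe) (.leaf 0x100200042c))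 (.node (.leaf 0x382) (.leaf 0))) (.node (.node (.leaf 0x24b) (.leaf 0)) (.node (.leaf 0x1002000288) (.leaf 0))))) (.node (.node (.node (.node (.leaf 0x9f) (.leaf 0x4d5)) (.node (.leaf 0x337) (.leaf 0))) (.node (.node (.leaf 0x1f9) (.leaf 0)) (.node (.leaf 0x1000001061) (.leaf 0)))) (.node (.node (.node (.leaf 0x154) (.leaf 0x10002a1)) (.node (.leaf 0x3b9) (.leaf 0))) (.node (.node (.leaf 0x29e) (.leaf 0)) (.node (.leaf 0x1003001447) (.leaf 0))))))) (.node (.node (.node (.node (.node (.node (.leaf 0x22) (.leaf 0x4b0)) (.node (.leaf 0x2d9) (.leaf 0))) (.node (.node (.leaf 0x1000097) (.leaf 0)) (.node (.leaf 0x3e4) (.leaf 0)))) (.node (.node (.node (.leaf 0x100400108a) (.leaf 0x1003000125)) (.node (.leaf 0x36e) (.leaf 0))) (.node (.node (.leaf 0x23a) (.leaf 0)) (.node (.leaf 0x1000000278) (.leaf 0))))) (.node (.node (.node (.node (.leaf 0x86) (.leaf 0x40003d6)) (.node (.leaf 0x323) (.leaf 0))) (.node (.node (.leaf 0x1e4) (.leaf 0)) (.node (.leaf 0x424) (.leaf 0)))) (.node (.node (.node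 (.leaf 0x142) (.leaf 0x10020011d9)) (.node (.leaf 0x10001b7) (.leaf 0))) (.node (.node (.leaf 0x289) (.leaf 0)) (.node (.leaf 0x1000281) (.leaf 0)))))) (.node (.node (.node (.node (.node (.leaf 0x55) (.leaf 0x4c0)) (.node (.leaf 0x2ff) (.leaf 0))) (.node (.node (.leaf 0x1bc) (.leaf 0)) (.node (.leaf 0x403) (.leaf 0)))) (.node (.node (.node (.leaf 0x115) (.leaf 0x2000476)) (.node (.leaf 0x1002001307) (.leaf 0))) (.node (.node (.leaf 0x262) (.leaf 0)) (.node (.leaf 0x46c) (.leaf 0))))) (.node (.node (.node (.node (.leaf 0xb5) (.leaf 0x1005000342)) (.node (.leaf 0x34a) (.leaf 0))) (.node (.node (.leaf 0x210) (.leaf 0)) (.node (.leaf 0x43e) (.leaf 0)))) (.node (.node (.node (.leaf 0x167) (.leaf 0x100000010c)) (.node (.leaf 0x400127b) (.leaf 0))) (.node (.node (.leaf 0x2b5) (.leaf 0)) (.node (.leaf 0x10000c6) (.leaf 0))))))))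

/-- part of closing hints -/
def node8L0close27 : Trie :=
  (.node (.node (.node (.node (.node (.node (.node (.leaf 0x15) (.leaf 0x1001427)) (.node (.leaf 0x2d0) (.leaf 0))) (.node (.node (.leaf 0x185) (.leaf 0)) (.node (.leaf 0x3de) (.leaf 0)))) (.node (.node (.node (.leaf 0xd9) (.leaf 0x1000001494)) (.node (.leaf 0x30012fd) (.leaf 0))) (.node (.node (.leaf 0x22f) (.leaf 0)) (.node (.leaf 0x44c) (.leaf 0))))) (.node (.node (.node (.node (.leaf 0x7a) (.leaf 0x216)) (.node (.leaf 0x31a) (.leaf 0))) (.node (.node (.leaf 0x1d8) (.leaf 0)) (.node (.leaf 0x4001373) (.leaf 0)))) (.node (.node (.node (.leaf 0x137) (.leaf 0x100400048c)) (.node (.leaf 0x3a5) (.leaf 0))) (.node (.node (.leaf 0x27f) (.leaf 0)) (.node (.leaf 0x10010e9) (.leaf 0)))))) (.node (.node (.node (.node (.node (.leaf 0x48) (.leaf 0x10030000e4)) (.node (.leaf 0x2f4) (.leaf 0))) (.node (.node (.leaf 0x1b1) (.leaf 0)) (.node (.leaf 0x3fe) (.leaf 0)))) (.node (.node (.node (.leaf 0x109) (.leaf 0x400149d)) (.node (.leaf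 0x50001f0) (.leaf 0))) (.node (.node (.leaf 0x256) (.leaf 0)) (.node (.leaf 0x467) (.leaf 0))))) (.node (.node (.node (.node (.leaf 0xab) (.leaf 0x4d9)) (.node (.leaf 0x340) (.leaf 0))) (.node (.node (.leaf 0x204) (.leaf 0)) (.node (.leaf 0x1001001219) (.leaf 0)))) (.node (.node (.node (.leaf 0x15e) (.leaf 0x40004e3)) (.node (.leaf 0x1005000387) (.leaf 0))) (.node (.node (.leaf 0x2a8) (.leaf 0)) (.node (.leaf 0x1002001412) (.leaf 0))))))) (.node (.node (.node (.node (.node (.node (.leaf 0x2f) (.leaf 0x4b5)) (.node (.leaf 0x2e2) (.leaf 0))) (.node (.node (.leaf 0x198) (.leaf 0)) (.node (.leaf 0x100300030c) (.leaf 0)))) (.node (.node (.node (.leaf 0xf1) (.leaf 0x3000448)) (.node (.leaf 0x30001fd) (.leaf 0))) (.node (.node (.leaf 0x242) (.leaf 0)) (.node (.leaf 0x200111d) (.leaf 0))))) (.node (.node (.node (.node (.leaf 0x93) (.leaf 0x4d3)) (.node (.leaf 0x32e) (.leaf 0))) (.node (.node (.leaf 0x1005000021) (.leaf 0)) (.node (.leaf 0x5001103) (.leaf 0)))) (.node (.node (.node (.leaf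 0x14a) (.leaf 0x3000314)) (.node (.leaf 0x10000001c4) (.leaf 0))) (.node (.node (.leaf 0x292) (.leaf 0)) (.node (.leaf 0x1389) (.leaf 0)))))) (.node (.node (.node (.node (.node (.leaf 0x62) (.leaf 0x300145b)) (.node (.leaf 0x309) (.leaf 0))) (.node (.node (.leaf 0x1c5) (.leaf 0)) (.node (.leaf 0x40e) (.leaf 0)))) (.node (.node (.node (.leaf 0x120) (.leaf 0x1005001201)) (.node (.leaf 0x399) (.leaf 0))) (.node (.node (.leaf 0x3000135) (.leaf 0)) (.node (.leaf 0x100041e) (.leaf 0))))) (.node (.node (.node (.node (.leaf 0xc1) (.leaf 0x4e2)) (.node (.leaf 0x100100107f) (.leaf 0))) (.node (.node (.leaf 0x3000052) (.leaf 0)) (.node (.leaf 0x5000152) (.leaf 0)))) (.node (.node (.node (.leaf 0x170) (.leaf 0x40011cd)) (.node (.leaf 0x2001186) (.leaf 0))) (.node (.node (.leaf 0x2bd) (.leaf 0)) (.node (.leaf 0x49c) (.leaf 0))))))))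

/-- part of closing hints -/
def node8L0close7 : Trie :=
  (.node (.node (.node (.node (.node (.node (.node (.leaf 0x6) (.leaf 0x4a1)) (.node (.leaf 0x2c3) (.leaf 0))) (.node (.node (.leaf 0x179) (.leaf 0)) (.node (.leaf 0x3d5) (.leaf 0)))) (.node (.node (.node (.leaf 0xc9) (.leaf 0x10020004af)) (.node (.leaf 0x359) (.leaf 0))) (.node (.node (.leaf 0x223) (.leaf 0)) (.node (.leaf 0x446) (.leaf 0))))) (.node (.node (.node (.node (.leaf 0x6a) (.leaf 0x300113f)) (.node (.leaf 0x310) (.leaf 0))) (.node (.node (.leaf 0x1cb) (.leaf 0)) (.node (.leaf 0x413) (.leaf 0)))) (.node (.node (.node (.leaf 0x129) (.leaf 0x4f8)) (.node (.leaf 0x5001150) (.leaf 0))) (.node (.node (.leaf 0x271) (.leaf 0)) (.node (.leaf 0x10003f5) (.leaf 0)))))) (.node (.node (.node (.node (.node (.leaf 0x39) (.leaf 0x3001477)) (.node (.leaf 0x2e9) (.leaf 0))) (.node (.node (.leaf 0x1a2) (.leaf 0)) (.node (.leaf 0x3f3) (.leaf 0)))) (.node (.node (.node (.leaf 0xfb) (.leaf 0x14c5)) (.node (.leaf 0x380) (.leaf 0)))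 (.node (.node (.leaf 0x249) (.leaf 0)) (.node (.leaf 0x400025f) (.leaf 0))))) (.node (.node (.node (.node (.leaf 0x9c) (.leaf 0x30013fc)) (.node (.leaf 0x335) (.leaf 0))) (.node (.node (.leaf 0x1f5) (.leaf 0)) (.node (.leaf 0x5000290) (.leaf 0)))) (.node (.node (.node (.leaf 0x153) (.leaf 0x40011c1)) (.node (.leaf 0x10000012b4) (.leaf 0))) (.node (.node (.leaf 0x29b) (.leaf 0)) (.node (.leaf 0x283) (.leaf 0))))))) (.node (.node (.node (.node (.node (.node (.leaf 0x1e) (.leaf 0x4ad)) (.node (.leaf 0x2d8) (.leaf 0))) (.node (.node (.leaf 0x200100f) (.leaf 0)) (.node (.leaf 0x3e3) (.leaf 0)))) (.node (.node (.node (.leaf 0xe2) (.leaf 0x10000014a9)) (.node (.leaf 0x36d) (.leaf 0))) (.node (.node (.leaf 0x237) (.leaf 0)) (.node (.leaf 0x451) (.leaf 0))))) (.node (.node (.node (.node (.leaf 0x83) (.leaf 0x100200128c)) (.node (.leaf 0x1002000214) (.leaf 0))) (.node (.node (.leaf 0x1e1) (.leaf 0)) (.node (.leaf 0x422) (.leaf 0)))) (.node (.node (.node (.leaf 0x300105f) (.leaf 0x10013a6))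 (.node (.leaf 0x3ab) (.leaf 0))) (.node (.node (.leaf 0x285) (.leaf 0)) (.node (.leaf 0x482) (.leaf 0)))))) (.node (.node (.node (.node (.node (.leaf 0x51) (.leaf 0x355)) (.node (.leaf 0x2fc) (.leaf 0))) (.node (.node (.leaf 0x1ba) (.leaf 0)) (.node (.leaf 0x402) (.leaf 0)))) (.node (.node (.node (.leaf 0x112) (.leaf 0x10020003f2)) (.node (.leaf 0x391) (.leaf 0))) (.node (.node (.leaf 0x260) (.leaf 0)) (.node (.leaf 0x469) (.leaf 0))))) (.node (.node (.node (.node (.leaf 0xb3) (.leaf 0x4de)) (.node (.leaf 0x348) (.leaf 0))) (.node (.node (.leaf 0x20e) (.leaf 0)) (.node (.leaf 0x43c) (.leaf 0)))) (.node (.node (.node (.leaf 0x165) (.leaf 0x100500032d)) (.node (.leaf 0x3c5) (.leaf 0))) (.node (.node (.leaf 0x2b1) (.leaf 0)) (.node (.leaf 0x495) (.leaf 0))))))))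

/-- part of closing hints -/
def node8L0close23 : Trie :=
  (.node (.node (.node (.node (.node (.node (.node (.leaf 0x13) (.leaf 0x4a7)) (.node (.leaf 0x2ce) (.leaf 0))) (.node (.node (.leaf 0x183) (.leaf 0)) (.node (.leaf 0x1169) (.leaf 0)))) (.node (.node (.node (.leaf 0xd6) (.leaf 0x100049a)) (.node (.leaf 0x363) (.leaf 0))) (.node (.node (.leaf 0x22e) (.leaf 0)) (.node (.leaf 0x5001327) (.leaf 0))))) (.node (.node (.node (.node (.leaf 0x77) (.leaf 0x4c8)) (.node (.leaf 0x317) (.leaf 0))) (.node (.node (.leaf 0x1d5) (.leaf 0)) (.node (.leaf 0x419) (.leaf 0)))) (.node (.node (.node (.leaf 0x134) (.leaf 0x10050014c2)) (.node (.leaf 0x121) (.leaf 0))) (.node (.node (.leaf 0x27c) (.leaf 0)) (.node (.leaf 0x40013a8) (.leaf 0)))))) (.node (.node (.node (.node (.node (.leaf 0x46) (.leaf 0x10050012e4)) (.node (.leaf 0x1001001206) (.leaf 0))) (.node (.node (.leaf 0x1ae) (.leaf 0)) (.node (.leaf 0x3fb) (.leaf 0)))) (.node (.node (.node (.leaf 0x106) (.leaf 0x44d)) (.node (.leaf 0x111)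 (.leaf 0))) (.node (.node (.leaf 0x253) (.leaf 0)) (.node (.leaf 0x465) (.leaf 0))))) (.node (.node (.node (.node (.leaf 0x1001000043) (.leaf 0x49b)) (.node (.leaf 0x100118c) (.leaf 0))) (.node (.node (.leaf 0x202) (.leaf 0)) (.node (.leaf 0x5001394) (.leaf 0)))) (.node (.node (.node (.leaf 0x100500014d) (.leaf 0x40000eb)) (.node (.leaf 0x3bf) (.leaf 0))) (.node (.node (.leaf 0x2a6) (.leaf 0)) (.node (.leaf 0x40012d7) (.leaf 0))))))) (.node (.node (.node (.node (.node (.node (.leaf 0x2b) (.leaf 0x100400034c)) (.node (.leaf 0x2e0) (.leaf 0))) (.node (.node (.leaf 0x195) (.leaf 0)) (.node (.leaf 0x3ed) (.leaf 0)))) (.node (.node (.node (.leaf 0xed) (.leaf 0x100500138d)) (.node (.leaf 0x377) (.leaf 0))) (.node (.node (.leaf 0x23f) (.leaf 0)) (.node (.leaf 0x459) (.leaf 0))))) (.node (.node (.node (.node (.leaf 0x90) (.leaf 0x4d0)) (.node (.leaf 0x32c) (.leaf 0))) (.node (.node (.leaf 0x500000d) (.leaf 0)) (.node (.leaf 0x42a) (.leaf 0)))) (.node (.node (.node (.leaf 0x10010010cd)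 (.leaf 0x30014d1)) (.node (.leaf 0x20001ed) (.leaf 0))) (.node (.node (.leaf 0x28f) (.leaf 0)) (.node (.leaf 0x100500046a) (.leaf 0)))))) (.node (.node (.node (.node (.node (.leaf 0x5e) (.leaf 0x4c4)) (.node (.leaf 0x306) (.leaf 0))) (.node (.node (.leaf 0x1c2) (.leaf 0)) (.node (.leaf 0x40b) (.leaf 0)))) (.node (.node (.node (.leaf 0x11e) (.leaf 0x20010ca)) (.node (.leaf 0x20012f6) (.leaf 0))) (.node (.node (.leaf 0x268) (.leaf 0)) (.node (.leaf 0x1000001228) (.leaf 0))))) (.node (.node (.node (.node (.leaf 0xbe) (.leaf 0x10050004b9)) (.node (.leaf 0x10050012c4) (.leaf 0))) (.node (.node (.leaf 0x21a) (.leaf 0)) (.node (.leaf 0x10000013a2) (.leaf 0)))) (.node (.node (.node (.leaf 0x16d) (.leaf 0x1005001400)) (.node (.leaf 0x3cc) (.leaf 0))) (.node (.node (.leaf 0x100400019d) (.leaf 0)) (.node (.leaf 0x10010001a5) (.leaf 0))))))))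

/-- part of closing hints -/
def node8L0close15 : Trie :=
  (.node (.node (.node (.node (.node (.node (.node (.leaf 0xc) (.leaf 0x1001485)) (.node (.leaf 0x2c9) (.leaf 0))) (.node (.node (.leaf 0x17e) (.leaf 0)) (.node (.leaf 0x3d8) (.leaf 0)))) (.node (.node (.node (.leaf 0xcf) (.leaf 0x10050003b6)) (.node (.leaf 0x10020012fe) (.leaf 0))) (.node (.node (.leaf 0x229) (.leaf 0)) (.node (.leaf 0x1390) (.leaf 0))))) (.node (.node (.node (.node (.leaf 0x71) (.leaf 0x1004000366)) (.node (.leaf 0x100200123d) (.leaf 0))) (.node (.node (.leaf 0x10000da) (.leaf 0)) (.node (.leaf 0x300017f) (.leaf 0)))) (.node (.node (.node (.leaf 0x12e) (.leaf 0x10050010c2)) (.node (.leaf 0x1002001311) (.leaf 0))) (.node (.node (.leaf 0x275) (.leaf 0)) (.node (.leaf 0x47a) (.leaf 0)))))) (.node (.node (.node (.node (.node (.leaf 0x3f) (.leaf 0x4bb)) (.node (.leaf 0x1002001012) (.leaf 0))) (.node (.node (.leaf 0x1a8) (.leaf 0)) (.node (.leaf 0x3f8) (.leaf 0)))) (.node (.node (.node (.leaf 0x101) (.leaf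 0x4f2)) (.node (.leaf 0x384) (.leaf 0))) (.node (.node (.leaf 0x1001000040) (.leaf 0)) (.node (.leaf 0x461) (.leaf 0))))) (.node (.node (.node (.node (.leaf 0xa2) (.leaf 0x1001429)) (.node (.leaf 0x339) (.leaf 0))) (.node (.node (.leaf 0x1fc) (.leaf 0)) (.node (.leaf 0x10040011ad) (.leaf 0)))) (.node (.node (.node (.leaf 0x158) (.leaf 0x10014d8)) (.node (.leaf 0x3bb) (.leaf 0))) (.node (.node (.leaf 0x2a2) (.leaf 0)) (.node (.leaf 0x1000240) (.leaf 0))))))) (.node (.node (.node (.node (.node (.node (.leaf 0x25) (.leaf 0x3d9)) (.node (.leaf 0x2dc) (.leaf 0))) (.node (.node (.leaf 0x191) (.leaf 0)) (.node (.leaf 0x3e7) (.leaf 0)))) (.node (.node (.node (.leaf 0xe7) (.leaf 0x1000000196)) (.node (.leaf 0x370) (.leaf 0))) (.node (.node (.leaf 0x23c) (.leaf 0)) (.node (.leaf 0x100000026e) (.leaf 0))))) (.node (.node (.node (.node (.leaf 0x89) (.leaf 0x1172)) (.node (.leaf 0x326) (.leaf 0))) (.node (.node (.leaf 0x1e7) (.leaf 0)) (.node (.leaf 0x100200106b) (.leaf 0)))) (.node (.node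 (.node (.leaf 0x2001005) (.leaf 0x4fa)) (.node (.leaf 0x3ae) (.leaf 0))) (.node (.node (.leaf 0x28b) (.leaf 0)) (.node (.leaf 0x4000189) (.leaf 0)))))) (.node (.node (.node (.node (.node (.leaf 0x58) (.leaf 0x24)) (.node (.leaf 0x302) (.leaf 0))) (.node (.node (.leaf 0x1bf) (.leaf 0)) (.node (.leaf 0x406) (.leaf 0)))) (.node (.node (.node (.leaf 0x118) (.leaf 0x10020014cc)) (.node (.leaf 0x1005000347) (.leaf 0))) (.node (.node (.leaf 0x265) (.leaf 0)) (.node (.leaf 0x5000423) (.leaf 0))))) (.node (.node (.node (.node (.leaf 0xb8) (.leaf 0x10010001b9)) (.node (.leaf 0x34d) (.leaf 0))) (.node (.node (.leaf 0x213) (.leaf 0)) (.node (.leaf 0x43f) (.leaf 0)))) (.node (.node (.node (.leaf 0x16a) (.leaf 0x100022c)) (.node (.leaf 0x3c7) (.leaf 0))) (.node (.node (.leaf 0x10030011e0) (.leaf 0)) (.node (.leaf 0x497) (.leaf 0))))))))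

/-- part of closing hints -/
def node8L0close31 : Trie :=
  (.node (.node (.node (.node (.node (.node (.node (.leaf 0x18) (.leaf 0x4aa)) (.node (.leaf 0x1000000269) (.leaf 0))) (.node (.node (.leaf 0x188) (.leaf 0)) (.node (.leaf 0x3e0) (.leaf 0)))) (.node (.node (.node (.leaf 0xdc) (.leaf 0x4ea)) (.node (.leaf 0x367) (.leaf 0))) (.node (.node (.leaf 0x1001001140) (.leaf 0)) (.node (.leaf 0x44e) (.leaf 0))))) (.node (.node (.node (.node (.leaf 0x4000000) (.leaf 0x50012d5)) (.node (.leaf 0x31b) (.leaf 0))) (.node (.node (.leaf 0x1dc) (.leaf 0)) (.node (.leaf 0x41d) (.leaf 0)))) (.node (.node (.node (.leaf 0x13b) (.leaf 0x100104f)) (.node (.leaf 0x100200124a) (.leaf 0))) (.node (.node (.leaf 0x1001001107) (.leaf 0)) (.node (.leaf 0x300004a) (.leaf 0)))))) (.node (.node (.node (.node (.node (.leaf 0x4b) (.leaf 0x400020a)) (.node (.leaf 0x2f7) (.leaf 0))) (.node (.node (.leaf 0x1b3) (.leaf 0)) (.node (.leaf 0x1000263) (.leaf 0)))) (.node (.node (.node (.leaf 0x10d) (.leaf 0x4f3))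 (.node (.leaf 0x38c) (.leaf 0))) (.node (.node (.leaf 0x259) (.leaf 0)) (.node (.leaf 0x400134e) (.leaf 0))))) (.node (.node (.node (.node (.leaf 0xae) (.leaf 0x4db)) (.node (.leaf 0x30001aa) (.leaf 0))) (.node (.node (.leaf 0x207) (.leaf 0)) (.node (.leaf 0x30003e8) (.leaf 0)))) (.node (.node (.node (.leaf 0x100000102e) (.leaf 0x10050010ba)) (.node (.leaf 0x3c3) (.leaf 0))) (.node (.node (.leaf 0x2ab) (.leaf 0)) (.node (.leaf 0x491) (.leaf 0))))))) (.node (.node (.node (.node (.node (.node (.leaf 0x32) (.leaf 0x30004a3)) (.node (.leaf 0x2e5) (.leaf 0))) (.node (.node (.leaf 0x19c) (.leaf 0)) (.node (.leaf 0x3001319) (.leaf 0)))) (.node (.node (.node (.leaf 0xf4) (.leaf 0x20014e5)) (.node (.leaf 0x37b) (.leaf 0))) (.node (.node (.leaf 0x245) (.leaf 0)) (.node (.leaf 0x45c) (.leaf 0))))) (.node (.node (.node (.node (.leaf 0x96) (.leaf 0x100400112d)) (.node (.leaf 0x331) (.leaf 0))) (.node (.node (.leaf 0x1ef) (.leaf 0)) (.node (.leaf 0x10010002f9) (.leaf 0)))) (.node (.node (.node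 (.leaf 0x14c) (.leaf 0x1003001365)) (.node (.leaf 0x1003001148) (.leaf 0))) (.node (.node (.leaf 0x100100121d) (.leaf 0)) (.node (.leaf 0x489) (.leaf 0)))))) (.node (.node (.node (.node (.node (.leaf 0x65) (.leaf 0x100500005c)) (.node (.leaf 0x30d) (.leaf 0))) (.node (.node (.leaf 0x50000d2) (.leaf 0)) (.node (.leaf 0x1003000163) (.leaf 0)))) (.node (.node (.node (.leaf 0x123) (.leaf 0x4f6)) (.node (.leaf 0x100125a) (.leaf 0))) (.node (.node (.leaf 0x200107b) (.leaf 0)) (.node (.leaf 0x1003000464) (.leaf 0))))) (.node (.node (.node (.node (.leaf 0xc4) (.leaf 0x10040001d6)) (.node (.leaf 0x354) (.leaf 0))) (.node (.node (.leaf 0x1001001038) (.leaf 0)) (.node (.leaf 0x444) (.leaf 0)))) (.node (.node (.node (.leaf 0x173) (.leaf 0x10030014cb)) (.node (.leaf 0x3d0) (.leaf 0))) (.node (.node (.leaf 0x2bf) (.leaf 0)) (.node (.leaf 0x4a0) (.leaf 0))))))))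

/-- closing hints -/
def node8L0close : Trie :=
  (.node (.node (.node (.node (.node node8L0close0 node8L0close16) (.node node8L0close8 node8L0close24)) (.node (.node node8L0close4 node8L0close20) (.node node8L0close12 node8L0close28))) (.node (.node (.node node8L0close2 node8L0close18) (.node node8L0close10 node8L0close26)) (.node (.node node8L0close6 node8L0close22) (.node node8L0close14 node8L0close30)))) (.node (.node (.node (.node node8L0close1 node8L0close17) (.node node8L0close9 node8L0close25)) (.node (.node node8L0close5 node8L0close21) (.node node8L0close13 node8L0close29))) (.node (.node (.node node8L0close3 node8L0close19) (.node node8L0close11 node8L0close27)) (.node (.node node8L0close7 node8L0close23) (.node node8L0close15 node8L0close31)))))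

/-- a level -/
def node8L0 : SLev := ⟨0, [0x1595d4eca65, 0x56d4964aa190b2cc], node8L0tree, node8L0word, 1280, node8L0close, [(283, 0), (544, 1), (825, 0)]⟩

/-- part of a tree -/
def node8L1tree0 : Trie :=
  (.node (.leaf 0x0) (.leaf 0x0))

/-- a tree -/
def node8L1tree : Trie :=
  node8L1tree0

/-- part of transversal words -/
def node8L1word0 : Trie :=
  (.node (.leaf 0x0) (.leaf 0x12289a9226642cb664))

/-- transversal words -/
def node8L1word : Trie :=
  node8L1word0

/-- part of closing hints -/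
def node8L1close0 : Trie :=
  (.node (.node (.node (.leaf 0x1) (.leaf 0x2000)) (.node (.leaf 0x1000) (.leaf 0))) (.node (.node (.leaf 0x2001) (.leaf 0x1003001)) (.node (.leaf 0x1000000) (.leaf 0))))

/-- closing hints -/
def node8L1close : Trie :=
  node8L1close0

/-- a level -/
def node8L1 : SLev := ⟨4, [0x12289a9226642cb664, 0xacaebb2c2e9, 0x5136a430b664], node8L1tree, node8L1word, 2, node8L1close, [(0, 2), (1, 1)]⟩

/-- part of a tree -/
def node8L2tree0 : Trie :=
  (.node (.node (.node (.leaf 0x0) (.leaf 0x2)) (.node (.leaf 0x100000) (.leaf 0))) (.node (.node (.leaf 0x0) (.leaf 0x100003)) (.node (.leaf 0x1) (.leaf 0))))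

/-- a tree -/
def node8L2tree : Trie :=
  node8L2tree0

/-- part of transversal words -/
def node8L2word0 : Trie :=
  (.node (.node (.node (.leaf 0x0) (.leaf 0x32cc859)) (.node (.leaf 0x4d330c2cb30c) (.leaf 0))) (.node (.node (.leaf 0x5136a430b664) (.leaf 0x185b30c)) (.node (.leaf 0x6d48596cc859) (.leaf 0))))

/-- transversal words -/
def node8L2word : Trie :=
  node8L2word0

/-- part of closing hints -/
def node8L2close0 : Trie :=
  (.node (.node (.node (.node (.leaf 0x1) (.leaf 0x1005)) (.node (.leaf 0x4) (.leaf 0))) (.node (.node (.leaf 0x3) (.leaf 0x1002)) (.node (.leaf 0x0) (.leaf 0)))) (.node (.node (.node (.leaf 0x2) (.leaf 0x1004)) (.node (.leaf 0x0) (.leaf 0))) (.node (.node (.leaf 0x1001) (.leaf 0x3)) (.node (.leaf 0x5) (.leaf 0)))))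

/-- closing hints -/
def node8L2close : Trie :=
  node8L2close0

/-- a level -/
def node8L2 : SLev := ⟨8, [0x5136a430b664, 0x4d330c2cb30c], node8L2tree, node8L2word, 6, node8L2close, [(4, 1)]⟩

/-- part of a tree -/
def node8L3tree0 : Trie :=
  (.node (.leaf 0x0) (.leaf 0x0))

/-- a tree -/
def node8L3tree : Trie :=
  node8L3tree0

/-- part of transversal words -/
def node8L3word0 : Trie :=
  (.node (.leaf 0x0) (.leaf 0x5132cc30b2cc))

/-- transversal words -/
def node8L3word : Trie :=
  node8L3word0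

/-- part of closing hints -/
def node8L3close0 : Trie :=
  (.node (.leaf 0x1) (.leaf 0x0))

/-- closing hints -/
def node8L3close : Trie :=
  node8L3close0

/-- a level -/
def node8L3 : SLev := ⟨9, [0x5132cc30b2cc], node8L3tree, node8L3word, 2, node8L3close, []⟩

/-- a chain -/
def node8 : List SLev := [node8L0, node8L1, node8L2, node8L3]

/-- part of a forest -/
def forest80 : Trie :=
  (.node (.node (.node (.node (.node (.node (.node (.leaf 0x630000000000) (.leaf 0x1000063000000049e)) (.node (.leaf 0xd00063000010030c) (.leaf 0))) (.node (.node (.leaf 0xa000640000100553) (.leaf 0xd000630000100552)) (.node (.leaf 0xd0006300001002f5) (.leaf 0)))) (.node (.node (.node (.leaf 0xf000630000100250) (.leaf 0xe00063000010016c)) (.node (.leaf 0xe00063000000016c) (.leaf 0))) (.node (.node (.leaf 0xd0006300001000a3) (.leaf 0)) (.node (.leaf 0x300063000010004a) (.leaf 0))))) (.node (.node (.node (.node (.leaf 0xd0006300000002b4) (.leaf 0xc00063000010033a)) (.node (.leaf 0x60006400001002a6)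 (.leaf 0))) (.node (.node (.leaf 0xc000630000100404) (.leaf 0xd00063000010043a)) (.node (.leaf 0x10000630000100065) (.leaf 0)))) (.node (.node (.node (.leaf 0xe000630000100364) (.leaf 0xd0006300001003d6)) (.node (.leaf 0xc00063000000012c) (.leaf 0))) (.node (.node (.leaf 0xa00064000010055d) (.leaf 0)) (.node (.leaf 0x1000063000000034d) (.leaf 0)))))) (.node (.node (.node (.node (.node (.leaf 0x10000630000100056) (.leaf 0xa000640000100577)) (.node (.leaf 0x100006300001003a4) (.leaf 0))) (.node (.node (.leaf 0xd00063000010023d) (.leaf 0x80006400001003f0)) (.node (.leaf 0xd000630000000045) (.leaf 0)))) (.node (.node (.node (.leaf 0xf000630000100160) (.leaf 0xe0006300000003f9)) (.node (.leaf 0xa000630000000128) (.leaf 0))) (.node (.node (.leaf 0xf000630000100198) (.leaf 0)) (.node (.leaf 0xd00063000000030e) (.leaf 0))))) (.node (.node (.node (.node (.leaf 0x500063000010038e) (.leaf 0xd0006300001002ee)) (.node (.leaf 0x110006300001000b1) (.leaf 0))) (.node (.node (.leaf 0xe00063000000044a)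 (.leaf 0xe0006300001002b5)) (.node (.leaf 0xc000630000100030) (.leaf 0)))) (.node (.node (.node (.leaf 0x1200063000010039e) (.leaf 0xd00063000010045e)) (.node (.leaf 0xf00063000010026c) (.leaf 0))) (.node (.node (.leaf 0x11000630000100283) (.leaf 0)) (.node (.leaf 0xf00063000010013d) (.leaf 0))))))) (.node (.node (.node (.node (.node (.node (.leaf 0xc0006300001001ff) (.leaf 0xd0006300001004c1)) (.node (.leaf 0xc00063000000019c) (.leaf 0))) (.node (.node (.leaf 0xf00063000010056f) (.leaf 0xd000630000100486)) (.node (.leaf 0xf000630000000311) (.leaf 0)))) (.node (.node (.node (.leaf 0xe0006300001001c8) (.leaf 0xf000630000100349)) (.node (.leaf 0xc00063000010001f) (.leaf 0))) (.node (.node (.leaf 0xd000630000100262) (.leaf 0)) (.node (.leaf 0xf000630000100146) (.leaf 0))))) (.node (.node (.node (.node (.leaf 0x11000630000100370) (.leaf 0xa000630000100128)) (.node (.leaf 0xe000630000000252) (.leaf 0))) (.node (.node (.leaf 0xe000630000100563) (.leaf 0xc0006300001000cd)) (.node (.leaf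 0xd000630000100289) (.leaf 0)))) (.node (.node (.node (.leaf 0x100006300001000d6) (.leaf 0x100006300000002b8)) (.node (.leaf 0xe0006300001004c3) (.leaf 0))) (.node (.node (.leaf 0x13000630000100458) (.leaf 0)) (.node (.leaf 0xb0006300001004c4) (.leaf 0)))))) (.node (.node (.node (.node (.node (.leaf 0xb000630000100416) (.leaf 0xa0006400000004a1)) (.node (.leaf 0xc0006300000001c1) (.leaf 0))) (.node (.node (.leaf 0x90006300001003e8) (.leaf 0x100006300000003bf)) (.node (.leaf 0x80006400001004b2) (.leaf 0)))) (.node (.node (.node (.leaf 0x70006300000000ae) (.leaf 0xf000630000100336)) (.node (.leaf 0x70006300001000bd) (.leaf 0))) (.node (.node (.leaf 0xe00063000010033d) (.leaf 0)) (.node (.leaf 0xe00063000010044a) (.leaf 0))))) (.node (.node (.node (.node (.leaf 0xd00063000010044c) (.leaf 0xe000630000100016)) (.node (.leaf 0x900064000010022d) (.leaf 0))) (.node (.node (.leaf 0xd00063000010007c) (.leaf 0x900063000010027a)) (.node (.leaf 0x10000630000100009) (.leaf 0)))) (.node (.node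 (.node (.leaf 0xe00063000010049d) (.leaf 0xd000630000000432)) (.node (.leaf 0x400064000010015b) (.leaf 0))) (.node (.node (.leaf 0x10000630000100501) (.leaf 0)) (.node (.leaf 0x70006400000002b1) (.leaf 0))))))))

/-- part of a forest -/
def forest88 : Trie :=
  (.node (.node (.node (.node (.node (.node (.node (.leaf 0x10000630000000009) (.leaf 0xb0006300001004f3)) (.node (.leaf 0xb0006300000003a9) (.leaf 0))) (.node (.node (.leaf 0xe000630000100040) (.leaf 0xf00063000000024a)) (.node (.leaf 0xf0006300000001dd) (.leaf 0)))) (.node (.node (.node (.leaf 0xa000630000000089) (.leaf 0xf0006300001004a5)) (.node (.leaf 0x90006300000000f4) (.leaf 0))) (.node (.node (.leaf 0xf0006300001001e5) (.leaf 0)) (.node (.leaf 0x100006300000004d6) (.leaf 0))))) (.node (.node (.node (.node (.leaf 0x110006300001004d8) (.leaf 0xf000630000100067)) (.node (.leaf 0xf0006300001001a7) (.leaf 0))) (.node (.node (.leaf 0x100006300001001da) (.leaf 0xc00063000010022a)) (.node (.leaf 0xa000630000100312) (.leaf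 0)))) (.node (.node (.node (.leaf 0x80006300000003cc) (.leaf 0x9000640000000330)) (.node (.leaf 0xc00063000010008d) (.leaf 0))) (.node (.node (.leaf 0xd0006300001002f6) (.leaf 0)) (.node (.leaf 0xc0006300000004f6) (.leaf 0)))))) (.node (.node (.node (.node (.node (.leaf 0x110006300001001bf) (.leaf 0xf000630000100314)) (.node (.leaf 0xe0006300001003dd) (.leaf 0))) (.node (.node (.leaf 0x90006300001003c1) (.leaf 0xf0006300001000fe)) (.node (.leaf 0xd000630000100140) (.leaf 0)))) (.node (.node (.node (.leaf 0xd0006300000000b3) (.leaf 0xe000630000100071)) (.node (.leaf 0xb000630000100565) (.leaf 0))) (.node (.node (.leaf 0xf000630000100221) (.leaf 0)) (.node (.leaf 0xb000630000100225) (.leaf 0))))) (.node (.node (.node (.node (.leaf 0x11000630000100236) (.leaf 0xe00063000000021f)) (.node (.leaf 0xb0006400001001c0) (.leaf 0))) (.node (.node (.leaf 0xe000630000100190) (.leaf 0x11000630000100446)) (.node (.leaf 0x90006300001000e4) (.leaf 0)))) (.node (.node (.node (.leaf 0x200063000010031d)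 (.leaf 0xf000630000100518)) (.node (.leaf 0x8000630000000447) (.leaf 0))) (.node (.node (.leaf 0x100006300001000c2) (.leaf 0)) (.node (.leaf 0x80006300001003ca) (.leaf 0))))))) (.node (.node (.node (.node (.node (.node (.leaf 0xf00063000000041a) (.leaf 0xd00063000010004d)) (.node (.leaf 0x1300063000010008e) (.leaf 0))) (.node (.node (.leaf 0x10000630000100061) (.leaf 0xe00063000010037c)) (.node (.leaf 0xe00063000000001b) (.leaf 0)))) (.node (.node (.node (.leaf 0xe0006300001004eb) (.leaf 0xe000630000100460)) (.node (.leaf 0xe0006300001004c0) (.leaf 0))) (.node (.node (.leaf 0xe00063000010037d) (.leaf 0)) (.node (.leaf 0xc0006300001003ad) (.leaf 0))))) (.node (.node (.node (.node (.leaf 0x100006300001002b8) (.leaf 0x120006300001003e6)) (.node (.leaf 0x10000630000000414) (.leaf 0))) (.node (.node (.leaf 0xf00063000010010b) (.leaf 0xe000630000100561)) (.node (.leaf 0xd000630000000503) (.leaf 0)))) (.node (.node (.node (.leaf 0xf000630000100093) (.leaf 0x100006300000003fb)) (.node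 (.leaf 0xc00063000000016a) (.leaf 0))) (.node (.node (.leaf 0xe0006300000001c8) (.leaf 0)) (.node (.leaf 0xf000630000000511) (.leaf 0)))))) (.node (.node (.node (.node (.node (.leaf 0x110006300001001ab) (.leaf 0x11000630000000538)) (.node (.leaf 0xf00063000010024b) (.leaf 0))) (.node (.node (.leaf 0xf0006300001004ca) (.leaf 0x100006300001000be)) (.node (.leaf 0xd00063000010049c) (.leaf 0)))) (.node (.node (.node (.leaf 0x90006300000000b9) (.leaf 0xa00063000010056b)) (.node (.leaf 0xf000630000100231) (.leaf 0))) (.node (.node (.leaf 0xf000630000000298) (.leaf 0)) (.node (.leaf 0x10000630000000065) (.leaf 0))))) (.node (.node (.node (.node (.leaf 0xf0006300000002bd) (.leaf 0xd00063000000025a)) (.node (.leaf 0xf000630000100406) (.leaf 0))) (.node (.node (.leaf 0xa000630000100368) (.leaf 0x10000630000100296)) (.node (.leaf 0xf00063000010023f) (.leaf 0)))) (.node (.node (.node (.leaf 0xa0006400000002bc) (.leaf 0xf00063000010034a)) (.node (.leaf 0xf00063000000057a) (.leaf 0))) (.node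 (.node (.leaf 0x6000630000100165) (.leaf 0)) (.node (.leaf 0x10000630000000293) (.leaf 0))))))))

/-- part of a forest -/
def forest84 : Trie :=
  (.node (.node (.node (.node (.node (.node (.node (.leaf 0xd0006300001002c8) (.leaf 0xb0006300001004cb)) (.node (.leaf 0x110006300000001ca) (.leaf 0))) (.node (.node (.leaf 0xd0006300001003b7) (.leaf 0xa0006300001000e9)) (.node (.leaf 0x110006300001004b7) (.leaf 0)))) (.node (.node (.node (.leaf 0xb000630000100282) (.leaf 0x80006400000001ae)) (.node (.leaf 0xe000630000000418) (.leaf 0))) (.node (.node (.leaf 0x90006300000000e4) (.leaf 0)) (.node (.leaf 0x12000630000100005) (.leaf 0))))) (.node (.node (.node (.node (.leaf 0x9000630000100012) (.leaf 0xe000630000100252)) (.node (.leaf 0x90006400000004d9) (.leaf 0))) (.node (.node (.leaf 0xe0006300001000d5) (.leaf 0xd000630000000398)) (.node (.leaf 0x50006300000001ba) (.leaf 0)))) (.node (.node (.node (.leaf 0x1100063000010003f) (.leaf 0xa000630000100087)) (.node (.leaf 0xb000630000000381)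 (.leaf 0))) (.node (.node (.leaf 0x700064000010038f) (.leaf 0)) (.node (.leaf 0xe0006300001002fd) (.leaf 0)))))) (.node (.node (.node (.node (.node (.leaf 0xf0006300000003c4) (.leaf 0xc00064000010046f)) (.node (.leaf 0x90006300000003a2) (.leaf 0))) (.node (.node (.leaf 0xf00063000010054c) (.leaf 0xe000630000100472)) (.node (.leaf 0xe000630000100121) (.leaf 0)))) (.node (.node (.node (.leaf 0x6000630000100060) (.leaf 0xa00064000000055d)) (.node (.leaf 0x900063000000033e) (.leaf 0))) (.node (.node (.leaf 0xd00063000000030b) (.leaf 0)) (.node (.leaf 0xf00063000010008a) (.leaf 0))))) (.node (.node (.node (.node (.leaf 0xf000630000100073) (.leaf 0xc00063000010010f)) (.node (.leaf 0xf000630000100142) (.leaf 0))) (.node (.node (.leaf 0x11000630000100549) (.leaf 0xd00063000010052b)) (.node (.leaf 0xd000630000100172) (.leaf 0)))) (.node (.node (.node (.leaf 0x80006300001000fd) (.leaf 0x100006300001001f7)) (.node (.leaf 0xe00063000010035b) (.leaf 0))) (.node (.node (.leaf 0xe000630000100180)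 (.leaf 0)) (.node (.leaf 0xa0006300000002c7) (.leaf 0))))))) (.node (.node (.node (.node (.node (.node (.leaf 0xf000630000000013) (.leaf 0xf0006300001004fe)) (.node (.leaf 0xd0006300001003a3) (.leaf 0))) (.node (.node (.leaf 0x110006300000003ed) (.leaf 0x100006300001004ea)) (.node (.leaf 0xe00063000010021f) (.leaf 0)))) (.node (.node (.node (.leaf 0x10000630000000023) (.leaf 0x90006400001002ca)) (.node (.leaf 0xc00063000000033a) (.leaf 0))) (.node (.node (.leaf 0xe0006300001003ff) (.leaf 0)) (.node (.leaf 0xf00063000010047e) (.leaf 0))))) (.node (.node (.node (.node (.leaf 0xe000630000000053) (.leaf 0xf0006300000002d0)) (.node (.leaf 0xa0006300001003ea) (.leaf 0))) (.node (.node (.leaf 0x1000063000000042b) (.leaf 0x10000630000000248)) (.node (.leaf 0x80006400000002db) (.leaf 0)))) (.node (.node (.node (.leaf 0xe000630000100274) (.leaf 0xf000630000100302)) (.node (.leaf 0x90006400000002ca) (.leaf 0))) (.node (.node (.leaf 0x1100063000000003c) (.leaf 0)) (.node (.leaf 0x11000630000100107)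 (.leaf 0)))))) (.node (.node (.node (.node (.node (.leaf 0xd000630000000033) (.leaf 0x10000630000100402)) (.node (.leaf 0x11000630000000235) (.leaf 0))) (.node (.node (.leaf 0x120006300001003e2) (.leaf 0x100006300001004e3)) (.node (.leaf 0xf0006300000004ca) (.leaf 0)))) (.node (.node (.node (.leaf 0x600064000010018d) (.leaf 0x80006400001002db)) (.node (.leaf 0xc00063000010028b) (.leaf 0))) (.node (.node (.leaf 0xc0006300001001a2) (.leaf 0)) (.node (.leaf 0x90006400000000a6) (.leaf 0))))) (.node (.node (.node (.node (.leaf 0xa000630000000075) (.leaf 0xd000630000100010)) (.node (.leaf 0xd0006300001001ce) (.leaf 0))) (.node (.node (.leaf 0xc0006300001002a8) (.leaf 0x50006400001000de)) (.node (.leaf 0xe00063000010001b) (.leaf 0)))) (.node (.node (.node (.leaf 0x800063000010055c) (.leaf 0x6000640000100574)) (.node (.leaf 0xd00063000000017b) (.leaf 0))) (.node (.node (.leaf 0x500063000000038e) (.leaf 0)) (.node (.leaf 0xd000630000000397) (.leaf 0))))))))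

/-- part of a forest -/
def forest812 : Trie :=
  (.node (.node (.node (.node (.node (.node (.node (.leaf 0x10000630000100315) (.leaf 0xd000630000000548)) (.node (.leaf 0xf000630000100266) (.leaf 0))) (.node (.node (.leaf 0xa000630000100333) (.leaf 0xf0006300001002d0)) (.node (.leaf 0xc0006300001003d2) (.leaf 0)))) (.node (.node (.node (.leaf 0xb00063000010012b) (.leaf 0xd000630000000441)) (.node (.leaf 0x100006300001002b3) (.leaf 0))) (.node (.node (.leaf 0xa000630000100288) (.leaf 0)) (.node (.leaf 0xc000630000000473) (.leaf 0))))) (.node (.node (.node (.node (.leaf 0xa00063000000004b) (.leaf 0xc00063000010029d)) (.node (.leaf 0x700063000010052a) (.leaf 0))) (.node (.node (.leaf 0xf00063000000023b) (.leaf 0xe0006300001001a4)) (.node (.leaf 0xa00063000010039b) (.leaf 0)))) (.node (.node (.node (.leaf 0x11000630000100235) (.leaf 0x9000630000000456)) (.node (.leaf 0x700063000010042d) (.leaf 0))) (.node (.node (.leaf 0xe0006300001000a8) (.leaf 0)) (.node (.leaf 0x700063000010016d)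 (.leaf 0)))))) (.node (.node (.node (.node (.node (.leaf 0x1100063000010023e) (.leaf 0x700064000010020f)) (.node (.leaf 0xd000630000100086) (.leaf 0))) (.node (.node (.leaf 0xb000630000100309) (.leaf 0xa00063000000037f)) (.node (.leaf 0xd000630000100467) (.leaf 0)))) (.node (.node (.node (.leaf 0xf000630000100298) (.leaf 0x10000630000000488)) (.node (.leaf 0xe00063000000037b) (.leaf 0))) (.node (.node (.leaf 0xe00063000010007e) (.leaf 0)) (.node (.leaf 0xf00063000010053e) (.leaf 0))))) (.node (.node (.node (.node (.leaf 0xe000630000100233) (.leaf 0x13000630000100134)) (.node (.leaf 0xe0006300000002af) (.leaf 0))) (.node (.node (.leaf 0xd0006300001003bc) (.leaf 0xb0006300001002a0)) (.node (.leaf 0x900063000000051e) (.leaf 0)))) (.node (.node (.node (.leaf 0xe00063000010053b) (.leaf 0x40006300000002b7)) (.node (.leaf 0x7000630000100536) (.leaf 0))) (.node (.node (.leaf 0xa000630000100570) (.leaf 0)) (.node (.leaf 0xa0006300000003eb) (.leaf 0))))))) (.node (.node (.node (.node (.node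 (.node (.leaf 0xa0006300001004cc) (.leaf 0xb00064000010043d)) (.node (.leaf 0xe000630000000423) (.leaf 0))) (.node (.node (.leaf 0x10000630000100264) (.leaf 0xf000630000100032)) (.node (.leaf 0xf0006300001003a6) (.leaf 0)))) (.node (.node (.node (.leaf 0xe00063000010029a) (.leaf 0xc000630000000537)) (.node (.leaf 0xc000640000100133) (.leaf 0))) (.node (.node (.leaf 0xb000630000100178) (.leaf 0)) (.node (.leaf 0x100006300000004e8) (.leaf 0))))) (.node (.node (.node (.node (.leaf 0xf000630000100470) (.leaf 0xe000630000000121)) (.node (.leaf 0x2000640000000329) (.leaf 0))) (.node (.node (.leaf 0xe000630000100125) (.leaf 0x700063000000052a)) (.node (.leaf 0x30006400000003de) (.leaf 0)))) (.node (.node (.node (.leaf 0xc00063000000006d) (.leaf 0x110006300001000e1)) (.node (.leaf 0xa00063000010057e) (.leaf 0))) (.node (.node (.leaf 0xd00063000000044c) (.leaf 0)) (.node (.leaf 0x90006300001003b2) (.leaf 0)))))) (.node (.node (.node (.node (.node (.leaf 0x100006300001004f9) (.leaf 0x110006300000004d3))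 (.node (.leaf 0x6000640000000286) (.leaf 0))) (.node (.node (.leaf 0xb000630000000055) (.leaf 0x4000630000100380)) (.node (.leaf 0x11000630000100554) (.leaf 0)))) (.node (.node (.node (.leaf 0xb00063000010044d) (.leaf 0x110006300001000ca)) (.node (.leaf 0x9000640000100354) (.leaf 0))) (.node (.node (.leaf 0x100006300001003ae) (.leaf 0)) (.node (.leaf 0xc00063000010012c) (.leaf 0))))) (.node (.node (.node (.node (.leaf 0xc0006300000002e3) (.leaf 0xe0006300001003e3)) (.node (.leaf 0xf0006300001001e1) (.leaf 0))) (.node (.node (.leaf 0xa000630000100075) (.leaf 0x100006300000001f5)) (.node (.leaf 0xd0006300000002ab) (.leaf 0)))) (.node (.node (.node (.leaf 0x30006400001003de) (.leaf 0x1000063000010048f)) (.node (.leaf 0xd0006300000004d5) (.leaf 0))) (.node (.node (.leaf 0xa00063000010025e) (.leaf 0)) (.node (.leaf 0x11000630000100220) (.leaf 0))))))))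

/-- part of a forest -/
def forest82 : Trie :=
  (.node (.node (.node (.node (.node (.node (.node (.leaf 0xf00063000010009f) (.leaf 0xf000630000000555)) (.node (.leaf 0xd000630000000290) (.leaf 0))) (.node (.node (.leaf 0xc0006300001003d0) (.leaf 0x120006300001001bb)) (.node (.leaf 0xe000630000000410) (.leaf 0)))) (.node (.node (.node (.leaf 0xe0006300001002d7) (.leaf 0xc000630000100085)) (.node (.leaf 0xa000630000000127) (.leaf 0))) (.node (.node (.leaf 0xe000630000100004) (.leaf 0)) (.node (.leaf 0xe000630000000516) (.leaf 0))))) (.node (.node (.node (.node (.leaf 0xa000630000000044) (.leaf 0x10000630000000394)) (.node (.leaf 0x70006300001001a9) (.leaf 0))) (.node (.node (.leaf 0xe0006300001003f9) (.leaf 0xb0006300001000c9)) (.node (.leaf 0x90006300001003a2) (.leaf 0)))) (.node (.node (.node (.leaf 0xf000630000100092) (.leaf 0xd0006300001001c9)) (.node (.leaf 0xf0006300000002d3) (.leaf 0))) (.node (.node (.leaf 0xc00063000000022f) (.leaf 0)) (.node (.leaf 0x8000630000100001)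 (.leaf 0)))))) (.node (.node (.node (.node (.node (.leaf 0xf000630000100363) (.leaf 0xf0006300001002da)) (.node (.leaf 0xf00063000000055f) (.leaf 0))) (.node (.node (.leaf 0x400064000000015b) (.leaf 0x11000630000100437)) (.node (.leaf 0x1000063000010033b) (.leaf 0)))) (.node (.node (.node (.leaf 0xb00063000010034c) (.leaf 0x10000630000100422)) (.node (.leaf 0x100006300000004f8) (.leaf 0))) (.node (.node (.leaf 0xb00063000010001c) (.leaf 0)) (.node (.leaf 0x8000630000100277) (.leaf 0))))) (.node (.node (.node (.node (.leaf 0xf0006300001004ae) (.leaf 0x10000630000100394)) (.node (.leaf 0xc0006300001003b6) (.leaf 0))) (.node (.node (.leaf 0xf00063000010053d) (.leaf 0xc0006300000000cd)) (.node (.leaf 0xe000630000100506) (.leaf 0)))) (.node (.node (.node (.leaf 0xf00063000010044b) (.leaf 0xf0006300001003c4)) (.node (.leaf 0xe000630000100457) (.leaf 0))) (.node (.node (.leaf 0xf000630000100011) (.leaf 0)) (.node (.leaf 0x11000630000000529) (.leaf 0))))))) (.node (.node (.node (.node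 (.node (.node (.leaf 0x80006300001004ed) (.leaf 0xc000630000100176)) (.node (.leaf 0xe0006300001001fb) (.leaf 0))) (.node (.node (.leaf 0x90006300001003c2) (.leaf 0x100006300000003c6)) (.node (.leaf 0x9000630000000313) (.leaf 0)))) (.node (.node (.node (.leaf 0xe000630000000131) (.leaf 0xc0006300001001e3)) (.node (.leaf 0xc000630000100359) (.leaf 0))) (.node (.node (.leaf 0x1000063000010005c) (.leaf 0)) (.node (.leaf 0xf000630000000198) (.leaf 0))))) (.node (.node (.node (.node (.leaf 0xf0006300001004bd) (.leaf 0x10000630000100557)) (.node (.leaf 0xd000630000100376) (.leaf 0))) (.node (.node (.leaf 0xb0006300001003c7) (.leaf 0xc00063000010040a)) (.node (.leaf 0xd000630000000365) (.leaf 0)))) (.node (.node (.node (.leaf 0xc0006300000001e3) (.leaf 0xc0006300001003fd)) (.node (.leaf 0x10000630000100331) (.leaf 0))) (.node (.node (.leaf 0xf0006300000001cc) (.leaf 0)) (.node (.leaf 0xb000630000100211) (.leaf 0)))))) (.node (.node (.node (.node (.node (.leaf 0xe00063000000008b) (.leaf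 0xc0006300001000ab)) (.node (.leaf 0xf000630000000425) (.leaf 0))) (.node (.node (.leaf 0xf000630000000091) (.leaf 0xd00063000010030b)) (.node (.leaf 0x1000063000000037a) (.leaf 0)))) (.node (.node (.node (.leaf 0xe0006300001004f0) (.leaf 0x70006400001004f4)) (.node (.leaf 0xe00063000000018a) (.leaf 0))) (.node (.node (.leaf 0x8000630000000206) (.leaf 0)) (.node (.leaf 0x8000630000100257) (.leaf 0))))) (.node (.node (.node (.node (.leaf 0xb00063000010004c) (.leaf 0xd000630000100412)) (.node (.leaf 0xb000630000000273) (.leaf 0))) (.node (.node (.leaf 0xc00063000010010e) (.leaf 0xc00064000010041c)) (.node (.leaf 0xf0006300001002e2) (.leaf 0)))) (.node (.node (.node (.leaf 0xd0006300000000d1) (.leaf 0x11000630000000236)) (.node (.leaf 0xd0006300000000cb) (.leaf 0))) (.node (.node (.leaf 0x1000063000000047a) (.leaf 0)) (.node (.leaf 0xe000640000100247) (.leaf 0))))))))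

/-- part of a forest -/
def forest810 : Trie :=
  (.node (.node (.node (.node (.node (.node (.node (.leaf 0xd0006300001002e6) (.leaf 0xb0006300000004bf)) (.node (.leaf 0xe000630000100415) (.leaf 0))) (.node (.node (.leaf 0xe0006300000002e5) (.leaf 0xb0006300000001ec)) (.node (.leaf 0xe000630000100170) (.leaf 0)))) (.node (.node (.node (.leaf 0xe000630000100300) (.leaf 0x300064000000027f)) (.node (.leaf 0x10000630000100162) (.leaf 0))) (.node (.node (.leaf 0xd0006300001000d2) (.leaf 0)) (.node (.leaf 0x10000630000000390) (.leaf 0))))) (.node (.node (.node (.node (.leaf 0x200063000000031d) (.leaf 0xd00063000010031f)) (.node (.leaf 0xe000630000100410) (.leaf 0))) (.node (.node (.leaf 0xc00063000000005e) (.leaf 0xc000630000100072)) (.node (.leaf 0xe000630000100203) (.leaf 0)))) (.node (.node (.node (.leaf 0x100006300000003e0) (.leaf 0xe000630000100053)) (.node (.leaf 0x80006400001003c3) (.leaf 0))) (.node (.node (.leaf 0x100006300001004cf) (.leaf 0)) (.node (.leaf 0x70006300000001f8)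 (.leaf 0)))))) (.node (.node (.node (.node (.node (.leaf 0xe0006300001002d9) (.leaf 0xb000630000000429)) (.node (.leaf 0xb000630000100042) (.leaf 0))) (.node (.node (.leaf 0x11000630000100373) (.leaf 0x60006300001001f4)) (.node (.leaf 0xa0006400000003d9) (.leaf 0)))) (.node (.node (.node (.leaf 0xf000630000100284) (.leaf 0xa0006300000004ab)) (.node (.leaf 0x1200063000010043f) (.leaf 0))) (.node (.node (.leaf 0x110006300000000c1) (.leaf 0)) (.node (.leaf 0xd0006300001002fe) (.leaf 0))))) (.node (.node (.node (.node (.leaf 0xd000630000100482) (.leaf 0xc0006300001002dd)) (.node (.leaf 0x400064000010048a) (.leaf 0))) (.node (.node (.leaf 0xb000630000100429) (.leaf 0xa000630000000570)) (.node (.leaf 0xe0006300001002f2) (.leaf 0)))) (.node (.node (.node (.leaf 0x8000630000100047) (.leaf 0xf000630000000558)) (.node (.leaf 0xf000630000000079) (.leaf 0))) (.node (.node (.leaf 0xe00063000000035b) (.leaf 0)) (.node (.leaf 0x90006300000003e9) (.leaf 0))))))) (.node (.node (.node (.node (.node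 (.node (.leaf 0x110006300001004fc) (.leaf 0xe00063000010000b)) (.node (.leaf 0xa000640000000270) (.leaf 0))) (.node (.node (.leaf 0x80006400000001b3) (.leaf 0x100006300001000bf)) (.node (.leaf 0x1000640000000096) (.leaf 0)))) (.node (.node (.node (.leaf 0x90006300000003b2) (.leaf 0xc000630000000496)) (.node (.leaf 0xd0006300001002ba) (.leaf 0))) (.node (.node (.leaf 0xd00063000000020e) (.leaf 0)) (.node (.leaf 0xb000630000100525) (.leaf 0))))) (.node (.node (.node (.node (.leaf 0xd00063000000013f) (.leaf 0x10000630000100488)) (.node (.leaf 0xc000630000100509) (.leaf 0))) (.node (.node (.leaf 0xd0006300000003d3) (.leaf 0x9000630000100161)) (.node (.leaf 0x100006300001002eb) (.leaf 0)))) (.node (.node (.node (.leaf 0x11000630000000149) (.leaf 0xe000630000100418)) (.node (.leaf 0xe000630000100287) (.leaf 0))) (.node (.node (.leaf 0xf0006300001001b5) (.leaf 0)) (.node (.leaf 0x12000630000100579) (.leaf 0)))))) (.node (.node (.node (.node (.node (.leaf 0xe0006300000000d5) (.leaf 0xc0006300000000f3))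 (.node (.leaf 0x11000630000100008) (.leaf 0))) (.node (.node (.leaf 0xe00063000010011b) (.leaf 0x100006300001002e0)) (.node (.leaf 0xb00063000010050f) (.leaf 0)))) (.node (.node (.node (.leaf 0xf0006300000000ec) (.leaf 0x100006300001000ee)) (.node (.leaf 0xc0006300001002c9) (.leaf 0))) (.node (.node (.leaf 0x40006300001002b7) (.leaf 0)) (.node (.leaf 0x12000630000000048) (.leaf 0))))) (.node (.node (.node (.node (.leaf 0xb0006300001001fc) (.leaf 0xf00063000010038b)) (.node (.leaf 0x800063000010024c) (.leaf 0))) (.node (.node (.leaf 0xb00063000010017e) (.leaf 0xe000630000100241)) (.node (.leaf 0xf0006300001001c6) (.leaf 0)))) (.node (.node (.node (.leaf 0xf000630000100041) (.leaf 0x60006400001002f7)) (.node (.leaf 0xf000630000100226) (.leaf 0))) (.node (.node (.leaf 0xb0006300001002be) (.leaf 0)) (.node (.leaf 0x110006300001004d0) (.leaf 0))))))))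

/-- part of a forest -/
def forest86 : Trie :=
  (.node (.node (.node (.node (.node (.node (.node (.leaf 0xd000630000100294) (.leaf 0xe000630000100214)) (.node (.leaf 0x700063000010005b) (.leaf 0))) (.node (.node (.leaf 0x120006300001004b9) (.leaf 0xd000630000100365)) (.node (.leaf 0x110006300000001df) (.leaf 0)))) (.node (.node (.node (.leaf 0xc0006300000000ab) (.leaf 0xc0006300000004c5)) (.node (.leaf 0x500064000010026a) (.leaf 0))) (.node (.node (.leaf 0xf000630000100137) (.leaf 0)) (.node (.leaf 0xf00063000010039f) (.leaf 0))))) (.node (.node (.node (.node (.leaf 0xb0006300001004b8) (.leaf 0x1000063000010005d)) (.node (.leaf 0xb00063000000050f) (.leaf 0))) (.node (.node (.leaf 0xe000630000100532) (.leaf 0xc00063000010005e)) (.node (.leaf 0xf00063000010051d) (.leaf 0)))) (.node (.node (.node (.leaf 0x100006300001001a8) (.leaf 0x100006300001004d6)) (.node (.leaf 0x10000630000000490) (.leaf 0))) (.node (.node (.leaf 0xe000630000000267) (.leaf 0)) (.node (.leaf 0xf00063000010002a)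 (.leaf 0)))))) (.node (.node (.node (.node (.node (.leaf 0x10000630000100353) (.leaf 0x80006300001002cc)) (.node (.leaf 0xe0006300000003a1) (.leaf 0))) (.node (.node (.leaf 0xc00063000010039a) (.leaf 0x1000063000000047b)) (.node (.leaf 0xc000630000100223) (.leaf 0)))) (.node (.node (.node (.leaf 0x80006400001001c4) (.leaf 0xd0006300000004c1)) (.node (.leaf 0x500064000010027b) (.leaf 0))) (.node (.node (.leaf 0x1000063000010047f) (.leaf 0)) (.node (.leaf 0xe000630000000443) (.leaf 0))))) (.node (.node (.node (.node (.leaf 0xd0006300000003b7) (.leaf 0x90006400000001fe)) (.node (.leaf 0xe00063000010045d) (.leaf 0))) (.node (.node (.leaf 0x1000063000010035f) (.leaf 0x10000630000100248)) (.node (.leaf 0xe0006300001003a1) (.leaf 0)))) (.node (.node (.node (.leaf 0xf0006300001001b9) (.leaf 0x90006400000004b4)) (.node (.leaf 0xc00063000010017a) (.leaf 0))) (.node (.node (.leaf 0x500063000000053c) (.leaf 0)) (.node (.leaf 0x110006300000004bb) (.leaf 0))))))) (.node (.node (.node (.node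 (.node (.node (.leaf 0xd00063000010046a) (.leaf 0xa0006300000000e9)) (.node (.leaf 0xd000630000100157) (.leaf 0))) (.node (.node (.leaf 0xc00063000000039a) (.leaf 0xd000630000100045)) (.node (.leaf 0xa00063000010028f) (.leaf 0)))) (.node (.node (.node (.leaf 0x640000000096) (.leaf 0xb000630000100185)) (.node (.leaf 0xf000630000100444) (.leaf 0))) (.node (.node (.leaf 0x1000063000010012d) (.leaf 0)) (.node (.leaf 0x12000630000100459) (.leaf 0))))) (.node (.node (.node (.node (.leaf 0xf00063000000013d) (.leaf 0x8000630000100255)) (.node (.leaf 0x100006300000000be) (.leaf 0))) (.node (.node (.leaf 0x110006300001001f3) (.leaf 0xf000630000000403)) (.node (.leaf 0x10000630000100278) (.leaf 0)))) (.node (.node (.node (.leaf 0xf000630000100339) (.leaf 0xf0006300001003e5)) (.node (.leaf 0x1000063000000051c) (.leaf 0))) (.node (.node (.leaf 0xc0006300000002a8) (.leaf 0)) (.node (.leaf 0xc000630000100272) (.leaf 0)))))) (.node (.node (.node (.node (.node (.leaf 0xf0006300001001dd) (.leaf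 0xf000630000000575)) (.node (.leaf 0x10000630000100479) (.leaf 0))) (.node (.node (.leaf 0x9000630000000012) (.leaf 0x6000630000100344)) (.node (.leaf 0xe000630000100034) (.leaf 0)))) (.node (.node (.node (.leaf 0x11000630000100193) (.leaf 0xe000630000000200)) (.node (.leaf 0x120006300001000c4) (.leaf 0))) (.node (.node (.leaf 0x10000630000100390) (.leaf 0)) (.node (.leaf 0xb0006300001003e4) (.leaf 0))))) (.node (.node (.node (.node (.leaf 0xd000630000000227) (.leaf 0x10000630000000475)) (.node (.leaf 0x8000630000000277) (.leaf 0))) (.node (.node (.leaf 0xb0006300000004e7) (.leaf 0xc0006300001001c1)) (.node (.leaf 0xc00063000000056c) (.leaf 0)))) (.node (.node (.node (.leaf 0xf00063000010042f) (.leaf 0xb00063000010018c)) (.node (.leaf 0xc000630000100543) (.leaf 0))) (.node (.node (.leaf 0xe00063000010053f) (.leaf 0)) (.node (.leaf 0xf000630000100245) (.leaf 0))))))))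

/-- part of a forest -/
def forest814 : Trie :=
  (.node (.node (.node (.node (.node (.node (.node (.leaf 0xc000630000100537) (.leaf 0xb00064000010021a)) (.node (.leaf 0xc00063000010025b) (.leaf 0))) (.node (.node (.leaf 0xb000630000100461) (.leaf 0xd0006300001002d5)) (.node (.leaf 0xc000630000100505) (.leaf 0)))) (.node (.node (.node (.leaf 0x120006300001003fc) (.leaf 0x90006400001004d9)) (.node (.leaf 0x80006300000004ed) (.leaf 0))) (.node (.node (.leaf 0xb00063000000018c) (.leaf 0)) (.node (.leaf 0x40006300001000b7) (.leaf 0))))) (.node (.node (.node (.node (.leaf 0xb00063000000000d) (.leaf 0xe0006300001000bb)) (.node (.leaf 0xe0006300001002f4) (.leaf 0))) (.node (.node (.leaf 0xd00063000000014f) (.leaf 0x100006300000002bb)) (.node (.leaf 0xa000630000000368) (.leaf 0)))) (.node (.node (.node (.leaf 0x1100063000000053a) (.leaf 0xd0006300001004d7)) (.node (.leaf 0x110006300001003ed) (.leaf 0))) (.node (.node (.leaf 0xc000630000100347) (.leaf 0)) (.node (.leaf 0xd000630000100147)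 (.leaf 0)))))) (.node (.node (.node (.node (.node (.leaf 0xf00063000010032d) (.leaf 0xf0006300001004b6)) (.node (.leaf 0xb0006300001004e7) (.leaf 0))) (.node (.node (.leaf 0xf0006300000000a1) (.leaf 0xa000640000100215)) (.node (.leaf 0xc000630000000404) (.leaf 0)))) (.node (.node (.node (.leaf 0x600063000010019e) (.leaf 0xe00063000000029a)) (.node (.leaf 0xb0006300000002ad) (.leaf 0))) (.node (.node (.leaf 0x70006400001004fa) (.leaf 0)) (.node (.leaf 0xf00063000000052f) (.leaf 0))))) (.node (.node (.node (.node (.leaf 0xa0006300001000eb) (.leaf 0xf00063000010035e)) (.node (.leaf 0xe00063000000026f) (.leaf 0))) (.node (.node (.leaf 0xc0006300001000a2) (.leaf 0xb000630000000450)) (.node (.leaf 0xa00063000000025e) (.leaf 0)))) (.node (.node (.node (.leaf 0xf00063000010036d) (.leaf 0xf000630000000524)) (.node (.leaf 0xc0006300001002f3) (.leaf 0))) (.node (.node (.leaf 0xd000630000100576) (.leaf 0)) (.node (.leaf 0x10000630000000115) (.leaf 0))))))) (.node (.node (.node (.node (.node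 (.node (.leaf 0x11000630000100526) (.leaf 0xf000630000000245)) (.node (.leaf 0xc00064000010056d) (.leaf 0))) (.node (.node (.leaf 0xe0006300000003ce) (.leaf 0x80006300001002f9)) (.node (.leaf 0x50006300001002c5) (.leaf 0)))) (.node (.node (.node (.leaf 0xf000630000100403) (.leaf 0xf000630000100463)) (.node (.leaf 0xe0006300001000f2) (.leaf 0))) (.node (.node (.leaf 0x50006300001004ec) (.leaf 0)) (.node (.leaf 0x110006300000000fb) (.leaf 0))))) (.node (.node (.node (.node (.leaf 0xb000630000100433) (.leaf 0xc00063000000022a)) (.node (.leaf 0x90006300001001b2) (.leaf 0))) (.node (.node (.leaf 0xe000630000000532) (.leaf 0x110006300000004a3)) (.node (.leaf 0xe00063000000041f) (.leaf 0)))) (.node (.node (.node (.leaf 0x40006400001000fc) (.leaf 0xf00063000010055b)) (.node (.leaf 0xb0006300001000e5) (.leaf 0))) (.node (.node (.leaf 0x110006300001004bb) (.leaf 0)) (.node (.leaf 0x2000640000100329) (.leaf 0)))))) (.node (.node (.node (.node (.node (.leaf 0xe000630000000104) (.leaf 0xe00063000010019a))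 (.node (.leaf 0x100006300001000ac) (.leaf 0))) (.node (.node (.leaf 0xc0006300001001fd) (.leaf 0xe000630000100469)) (.node (.leaf 0x80006300001003cc) (.leaf 0)))) (.node (.node (.node (.leaf 0xf0006300001004df) (.leaf 0x10000630000100123)) (.node (.leaf 0xa000630000100044) (.leaf 0))) (.node (.node (.leaf 0xf000630000100098) (.leaf 0)) (.node (.leaf 0xa00063000010036c) (.leaf 0))))) (.node (.node (.node (.node (.leaf 0xd0006300001002ab) (.leaf 0xe0006300001003d7)) (.node (.leaf 0x11000630000000113) (.leaf 0))) (.node (.node (.leaf 0xa0006300001004ab) (.leaf 0x90006300001002e8)) (.node (.leaf 0xb0006300000002dc) (.leaf 0)))) (.node (.node (.node (.leaf 0xe000630000000214) (.leaf 0xe00063000000015d)) (.node (.leaf 0xc00063000010006f) (.leaf 0))) (.node (.node (.leaf 0x8000640000100129) (.leaf 0)) (.node (.leaf 0xe0006300001004c2) (.leaf 0))))))))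

/-- part of a forest -/
def forest81 : Trie :=
  (.node (.node (.node (.node (.node (.node (.node (.leaf 0x70006300001000ae) (.leaf 0xa00063000010055a)) (.node (.leaf 0xc000630000100405) (.leaf 0))) (.node (.node (.leaf 0xb000630000100504) (.leaf 0xf000630000000560)) (.node (.leaf 0x11000630000100513) (.leaf 0)))) (.node (.node (.node (.leaf 0xb00063000000007f) (.leaf 0xa000640000100244)) (.node (.leaf 0x10000630000100064) (.leaf 0))) (.node (.node (.leaf 0x7000640000000240) (.leaf 0)) (.node (.leaf 0xa00063000010004b) (.leaf 0))))) (.node (.node (.node (.node (.leaf 0xe000630000100195) (.leaf 0xc0006300001001fa)) (.node (.leaf 0xd0006300001000cb) (.leaf 0))) (.node (.node (.leaf 0xa0006300001003eb) (.leaf 0xc000630000000542)) (.node (.leaf 0x1100063000010052d) (.leaf 0)))) (.node (.node (.node (.leaf 0x100006300001000a9) (.leaf 0xc00063000010019c)) (.node (.leaf 0x1000063000000012d) (.leaf 0))) (.node (.node (.leaf 0xb00063000010035d) (.leaf 0)) (.node (.leaf 0x80006300001002ec)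 (.leaf 0)))))) (.node (.node (.node (.node (.node (.leaf 0x1000063000010049b) (.leaf 0xe000630000000460)) (.node (.leaf 0xe0006300001004ce) (.leaf 0))) (.node (.node (.leaf 0xd0006300001001d6) (.leaf 0xc000630000100427)) (.node (.leaf 0xf000630000100182) (.leaf 0)))) (.node (.node (.node (.leaf 0xe0006300001003e7) (.leaf 0x90006400001000a6)) (.node (.leaf 0x8000640000000129) (.leaf 0))) (.node (.node (.leaf 0xc0006300001000bc) (.leaf 0)) (.node (.leaf 0xd000630000100397) (.leaf 0))))) (.node (.node (.node (.node (.leaf 0xf00063000010047d) (.leaf 0xa00063000000057e)) (.node (.leaf 0xf0006300001003d1) (.leaf 0))) (.node (.node (.leaf 0x80006300000002ec) (.leaf 0xd0006300001003d5)) (.node (.leaf 0xc0006300001004f6) (.leaf 0)))) (.node (.node (.node (.leaf 0x10000630000100334) (.leaf 0x100006300000000f7)) (.node (.leaf 0x100006300000002eb) (.leaf 0))) (.node (.node (.leaf 0xe0006300000004e0) (.leaf 0)) (.node (.leaf 0x1000063000010047a) (.leaf 0))))))) (.node (.node (.node (.node (.node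 (.node (.leaf 0xe000630000000135) (.leaf 0xd000630000100541)) (.node (.leaf 0xa00063000010009a) (.leaf 0))) (.node (.node (.leaf 0xf000630000100374) (.leaf 0xe000630000100411)) (.node (.leaf 0xe00063000010057f) (.leaf 0)))) (.node (.node (.node (.leaf 0xe000630000100540) (.leaf 0xb0006400001000f8)) (.node (.leaf 0xd00063000010054a) (.leaf 0))) (.node (.node (.leaf 0xe00063000010000f) (.leaf 0)) (.node (.leaf 0xd00063000010030e) (.leaf 0))))) (.node (.node (.node (.node (.leaf 0xf00063000010051b) (.leaf 0xc0006300000003d0)) (.node (.leaf 0x1200063000010043c) (.leaf 0))) (.node (.node (.leaf 0x4000640000000153) (.leaf 0xb000630000100348)) (.node (.leaf 0xb000640000100420) (.leaf 0)))) (.node (.node (.node (.leaf 0xc00063000010003d) (.leaf 0x1000063000000050c)) (.node (.leaf 0x100006300001000ad) (.leaf 0))) (.node (.node (.leaf 0xd0006300000001cd) (.leaf 0)) (.node (.leaf 0xe00063000010032c) (.leaf 0)))))) (.node (.node (.node (.node (.node (.leaf 0x10000630000100499) (.leaf 0x70006400000004fa))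 (.node (.leaf 0xe000630000100243) (.leaf 0))) (.node (.node (.leaf 0xd00063000010032b) (.leaf 0x11000630000000462)) (.node (.leaf 0xf0006300001004e9) (.leaf 0)))) (.node (.node (.node (.leaf 0x100006300000000ad) (.leaf 0x100006300001000d3)) (.node (.leaf 0x60006400001001f9) (.leaf 0))) (.node (.node (.leaf 0x1000063000010046b) (.leaf 0)) (.node (.leaf 0xf0006300000003b0) (.leaf 0))))) (.node (.node (.node (.node (.leaf 0xd0006300001003c8) (.leaf 0xa000640000000494)) (.node (.leaf 0xe00063000000021b) (.leaf 0))) (.node (.node (.leaf 0xf00063000000054c) (.leaf 0xd000630000100210)) (.node (.leaf 0x10000630000100297) (.leaf 0)))) (.node (.node (.node (.leaf 0x110006300000000d0) (.leaf 0x1200063000010043b)) (.node (.leaf 0x90006300001000f4) (.leaf 0))) (.node (.node (.leaf 0xe000630000100571) (.leaf 0)) (.node (.leaf 0xe000630000100006) (.leaf 0))))))))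

/-- part of a forest -/
def forest89 : Trie :=
  (.node (.node (.node (.node (.node (.node (.node (.leaf 0xf00063000010023b) (.leaf 0xd00063000010049a)) (.node (.leaf 0x110006300001004ac) (.leaf 0))) (.node (.node (.leaf 0xc0006300000000a2) (.leaf 0xb00063000000035d)) (.node (.leaf 0xa000630000100112) (.leaf 0)))) (.node (.node (.node (.leaf 0x9000630000100276) (.leaf 0x100006300001003b9)) (.node (.leaf 0xc000630000000505) (.leaf 0))) (.node (.node (.leaf 0xc000630000100084) (.leaf 0)) (.node (.leaf 0x50006400001002f0) (.leaf 0))))) (.node (.node (.node (.node (.leaf 0x100006300001001ef) (.leaf 0x9000640000100484)) (.node (.leaf 0x10000630000000422) (.leaf 0))) (.node (.node (.leaf 0x10000630000100186) (.leaf 0x1000063000010014c)) (.node (.leaf 0xe000630000100169) (.leaf 0)))) (.node (.node (.node (.leaf 0xa000630000100127) (.leaf 0x100006300001004e2)) (.node (.leaf 0xb000630000100495) (.leaf 0))) (.node (.node (.leaf 0xc0006300000001d7) (.leaf 0)) (.node (.leaf 0x60006400000001f9)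 (.leaf 0)))))) (.node (.node (.node (.node (.node (.leaf 0x100006300000000e6) (.leaf 0xa000630000100477)) (.node (.leaf 0xc0006300001000f3) (.leaf 0))) (.node (.node (.leaf 0x70006400001000b4) (.leaf 0x10000630000100143)) (.node (.leaf 0x1000640000100096) (.leaf 0)))) (.node (.node (.node (.leaf 0xf0006300000000b2) (.leaf 0xe0006300001003f4)) (.node (.leaf 0x400064000010035c) (.leaf 0))) (.node (.node (.leaf 0x6000630000000060) (.leaf 0)) (.node (.leaf 0xa0006300001002a4) (.leaf 0))))) (.node (.node (.node (.node (.leaf 0xb000630000000254) (.leaf 0xd000630000000521)) (.node (.leaf 0xd0006300000002f6) (.leaf 0))) (.node (.node (.leaf 0xd000630000100464) (.leaf 0x100006300000000fa)) (.node (.leaf 0xe000630000000364) (.leaf 0)))) (.node (.node (.node (.leaf 0x900063000010028e) (.leaf 0xe000630000100200)) (.node (.leaf 0xf00063000010044e) (.leaf 0))) (.node (.node (.leaf 0x10000630000000372) (.leaf 0)) (.node (.leaf 0x80006300001000b0) (.leaf 0))))))) (.node (.node (.node (.node (.node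 (.node (.leaf 0xe000630000100338) (.leaf 0x50006400000002a9)) (.node (.leaf 0xe00063000000037d) (.leaf 0))) (.node (.node (.leaf 0x110006300001001b6) (.leaf 0xd00063000000023d)) (.node (.leaf 0x11000630000100285) (.leaf 0)))) (.node (.node (.node (.leaf 0xf000630000000142) (.leaf 0xf000630000000498)) (.node (.leaf 0xc000630000000217) (.leaf 0))) (.node (.node (.leaf 0xe000630000000391) (.leaf 0)) (.node (.leaf 0xf0006300001003f1) (.leaf 0))))) (.node (.node (.node (.node (.leaf 0x1100063000010050b) (.leaf 0x11000630000100383)) (.node (.leaf 0xa000640000000163) (.leaf 0))) (.node (.node (.leaf 0x1000063000010046d) (.leaf 0xa00063000010022b)) (.node (.leaf 0xb000630000000309) (.leaf 0)))) (.node (.node (.node (.leaf 0x90006400000004f7) (.leaf 0x8000640000100181)) (.node (.leaf 0xd000630000000189) (.leaf 0))) (.node (.node (.leaf 0xa0006400000001c7) (.leaf 0)) (.node (.leaf 0x900064000010031b) (.leaf 0)))))) (.node (.node (.node (.node (.node (.leaf 0xb0006300000002be) (.leaf 0xf0006300001000d4))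 (.node (.leaf 0xf000630000100480) (.leaf 0))) (.node (.node (.leaf 0x10000630000000036) (.leaf 0x8000640000100431)) (.node (.leaf 0xe000630000000338) (.leaf 0)))) (.node (.node (.node (.leaf 0x8000630000100242) (.leaf 0x1100063000010028c)) (.node (.leaf 0xd00063000010032e) (.leaf 0))) (.node (.node (.leaf 0xe000630000000367) (.leaf 0)) (.node (.leaf 0xf000630000000082) (.leaf 0))))) (.node (.node (.node (.node (.leaf 0xe000630000100269) (.leaf 0xf000630000100228)) (.node (.leaf 0x110006300001001e9) (.leaf 0))) (.node (.node (.leaf 0xd0006300000003cf) (.leaf 0x110006300001001b7)) (.node (.leaf 0x10000630000000331) (.leaf 0)))) (.node (.node (.node (.leaf 0x1000063000000039d) (.leaf 0xf0006300000000f0)) (.node (.leaf 0x7000630000000536) (.leaf 0))) (.node (.node (.leaf 0x50006400001002a9) (.leaf 0)) (.node (.leaf 0xd000630000100562) (.leaf 0))))))))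

/-- part of a forest -/
def forest85 : Trie :=
  (.node (.node (.node (.node (.node (.node (.node (.leaf 0x11000630000100345) (.leaf 0xb000630000000316)) (.node (.leaf 0xe0006300000001ee) (.leaf 0))) (.node (.node (.leaf 0x10000630000100556) (.leaf 0xb000630000100055)) (.node (.leaf 0xb000630000000178) (.leaf 0)))) (.node (.node (.node (.leaf 0xb000630000100316) (.leaf 0x1000063000010012e)) (.node (.leaf 0x100006300000003a4) (.leaf 0))) (.node (.node (.leaf 0xa000630000100523) (.leaf 0)) (.node (.leaf 0x11000630000100514) (.leaf 0))))) (.node (.node (.node (.node (.leaf 0xc0006300001002e3) (.leaf 0xd00063000010013e)) (.node (.leaf 0xe00063000010018a) (.leaf 0))) (.node (.node (.leaf 0x800064000010015f) (.leaf 0xf0006300000001ac)) (.node (.leaf 0x1000063000010009d) (.leaf 0)))) (.node (.node (.node (.leaf 0xe000630000000453) (.leaf 0xb000630000100088)) (.node (.leaf 0x4000630000000380) (.leaf 0))) (.node (.node (.leaf 0xf0006300001000a1) (.leaf 0)) (.node (.leaf 0x11000630000100452)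 (.leaf 0)))))) (.node (.node (.node (.node (.node (.leaf 0xd000630000000140) (.leaf 0xe00063000010041b)) (.node (.leaf 0xa0006300001004c7) (.leaf 0))) (.node (.node (.leaf 0xd000630000000126) (.leaf 0xa000630000000567)) (.node (.leaf 0x11000630000100118) (.leaf 0)))) (.node (.node (.node (.leaf 0xf0006300000003b5) (.leaf 0xe0006300000004c0)) (.node (.leaf 0xd000630000100189) (.leaf 0))) (.node (.node (.leaf 0xf00063000010015c) (.leaf 0)) (.node (.leaf 0x100006300001000af) (.leaf 0))))) (.node (.node (.node (.node (.leaf 0xf000630000100318) (.leaf 0x11000630000000220)) (.node (.leaf 0xd000630000100521) (.leaf 0))) (.node (.node (.leaf 0x500063000010053c) (.leaf 0xa000630000000197)) (.node (.leaf 0xc000630000100152) (.leaf 0)))) (.node (.node (.node (.leaf 0xa000630000000130) (.leaf 0x10000630000100261)) (.node (.leaf 0xd00063000010000e) (.leaf 0))) (.node (.node (.leaf 0xe000630000000506) (.leaf 0)) (.node (.leaf 0xe00063000010041f) (.leaf 0))))))) (.node (.node (.node (.node (.node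 (.node (.leaf 0x8000630000100206) (.leaf 0xd0006300000002fe)) (.node (.leaf 0x900064000010011a) (.leaf 0))) (.node (.node (.leaf 0xf00063000010041a) (.leaf 0xb000640000000393)) (.node (.leaf 0xf000630000000314) (.leaf 0)))) (.node (.node (.node (.leaf 0x110006300001003a5) (.leaf 0xa00063000000011d)) (.node (.leaf 0xf000630000100091) (.leaf 0))) (.node (.node (.leaf 0xd000630000100432) (.leaf 0)) (.node (.leaf 0xc000630000000551) (.leaf 0))))) (.node (.node (.node (.node (.leaf 0xa000630000100089) (.leaf 0xa000630000100130)) (.node (.leaf 0x70006300000000bd) (.leaf 0))) (.node (.node (.leaf 0x1000063000010042e) (.leaf 0xe000630000100547)) (.node (.leaf 0x130006300001003ba) (.leaf 0)))) (.node (.node (.node (.leaf 0xd0006300001000dc) (.leaf 0xc00063000010006d)) (.node (.leaf 0xc0006300000002c9) (.leaf 0))) (.node (.node (.leaf 0xc00063000000022e) (.leaf 0)) (.node (.leaf 0xc0006300000002dd) (.leaf 0)))))) (.node (.node (.node (.node (.node (.leaf 0x10000630000000138) (.leaf 0xf0006300001001cc))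 (.node (.leaf 0x100006300001000a0) (.leaf 0))) (.node (.node (.leaf 0xd00063000010038c) (.leaf 0xc000630000000408)) (.node (.leaf 0xf000630000000336) (.leaf 0)))) (.node (.node (.node (.leaf 0xf000630000100560) (.leaf 0xc0006300001002c4)) (.node (.leaf 0xd00063000000016e) (.leaf 0))) (.node (.node (.leaf 0xe000630000100453) (.leaf 0)) (.node (.leaf 0xe0006300001002fc) (.leaf 0))))) (.node (.node (.node (.node (.leaf 0x9000630000100117) (.leaf 0xf0006300001000ec)) (.node (.leaf 0xc0006300000001fa) (.leaf 0))) (.node (.node (.leaf 0xd00063000000054a) (.leaf 0xe000630000100267)) (.node (.leaf 0xe00063000000057f) (.leaf 0)))) (.node (.node (.node (.leaf 0xf0006300001000c3) (.leaf 0xf00063000000054f)) (.node (.leaf 0xc00063000000017a) (.leaf 0))) (.node (.node (.leaf 0xf0006300001002c3) (.leaf 0)) (.node (.leaf 0xf00063000000036d) (.leaf 0))))))))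

/-- part of a forest -/
def forest813 : Trie :=
  (.node (.node (.node (.node (.node (.node (.node (.leaf 0xa0006300001002df) (.leaf 0xb00063000010017c)) (.node (.leaf 0xf00063000010040f) (.leaf 0))) (.node (.node (.leaf 0xe00063000010051f) (.leaf 0xe000630000100544)) (.node (.leaf 0x11000630000100322) (.leaf 0)))) (.node (.node (.node (.leaf 0xb000630000000185) (.leaf 0x10000630000100475)) (.node (.leaf 0x100006300000004cf) (.leaf 0))) (.node (.node (.leaf 0x5000640000100122) (.leaf 0)) (.node (.leaf 0x1000063000000047f) (.leaf 0))))) (.node (.node (.node (.node (.leaf 0xc00063000000008c) (.leaf 0xa0006300001003dc)) (.node (.leaf 0xb000640000000100) (.leaf 0))) (.node (.node (.leaf 0xe00063000010026f) (.leaf 0xf0006300000004a9)) (.node (.leaf 0xf000630000100375) (.leaf 0)))) (.node (.node (.node (.leaf 0xb000630000100074) (.leaf 0xb0006300001003be)) (.node (.leaf 0x80006300000002cc) (.leaf 0))) (.node (.node (.leaf 0xc000630000100408) (.leaf 0)) (.node (.leaf 0x9000640000000520)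 (.leaf 0)))))) (.node (.node (.node (.node (.node (.leaf 0x110006300001002c1) (.leaf 0x600063000010031e)) (.node (.leaf 0x80006400000001c4) (.leaf 0))) (.node (.node (.leaf 0xf00063000010052f) (.leaf 0x100006300000003ac)) (.node (.leaf 0xe00063000010000a) (.leaf 0)))) (.node (.node (.node (.leaf 0xf000630000100369) (.leaf 0x1000063000000029b)) (.node (.leaf 0xa0006300001000b8) (.leaf 0))) (.node (.node (.leaf 0xd0006300000004d2) (.leaf 0)) (.node (.leaf 0xb000630000000559) (.leaf 0))))) (.node (.node (.node (.node (.leaf 0xb0006300001003a7) (.leaf 0xf0006300001000b2)) (.node (.leaf 0x80006300000002b0) (.leaf 0))) (.node (.node (.leaf 0x60006300001001e6) (.leaf 0xb000640000100187)) (.node (.leaf 0xe0006300001002a5) (.leaf 0)))) (.node (.node (.node (.leaf 0xa0006400001002d4) (.leaf 0x700063000010019d)) (.node (.leaf 0x80006400001001ae) (.leaf 0))) (.node (.node (.leaf 0x110006300001000fb) (.leaf 0)) (.node (.leaf 0x10000630000100327) (.leaf 0))))))) (.node (.node (.node (.node (.node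 (.node (.leaf 0xc00063000000010e) (.leaf 0x90006400001003f3)) (.node (.leaf 0xe000630000000510) (.leaf 0))) (.node (.node (.leaf 0x90006300001003e9) (.leaf 0xe0006300000002b9)) (.node (.leaf 0x1000630000100000) (.leaf 0)))) (.node (.node (.node (.leaf 0xf0006300000000c0) (.leaf 0xd000630000000412)) (.node (.leaf 0xb000630000000211) (.leaf 0))) (.node (.node (.leaf 0x600063000000019e) (.leaf 0)) (.node (.leaf 0xf00063000010036a) (.leaf 0))))) (.node (.node (.node (.node (.leaf 0xf0006300000001a7) (.leaf 0xd000630000000172)) (.node (.leaf 0xe000630000000328) (.leaf 0))) (.node (.node (.leaf 0xd00063000010001d) (.leaf 0x90006400001002ed)) (.node (.leaf 0xa00063000010037f) (.leaf 0)))) (.node (.node (.node (.leaf 0x1100063000010017d) (.leaf 0xe000630000000120)) (.node (.leaf 0xb000630000100559) (.leaf 0))) (.node (.node (.leaf 0xe000630000100291) (.leaf 0)) (.node (.leaf 0xd000630000000174) (.leaf 0)))))) (.node (.node (.node (.node (.node (.leaf 0xb0006300001004aa) (.leaf 0xa0006400001004e6))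 (.node (.leaf 0xc000630000100305) (.leaf 0))) (.node (.node (.leaf 0xe00063000010015a) (.leaf 0xe0006300000002a5)) (.node (.leaf 0xd000630000100109) (.leaf 0)))) (.node (.node (.node (.leaf 0x6000630000100323) (.leaf 0xe00063000010008b)) (.node (.leaf 0xe000630000100564) (.leaf 0))) (.node (.node (.leaf 0x110006300000001bc) (.leaf 0)) (.node (.leaf 0xc000630000000046) (.leaf 0))))) (.node (.node (.node (.node (.leaf 0xf0006300000002e4) (.leaf 0xe0006300000004c3)) (.node (.leaf 0xc00063000000003d) (.leaf 0))) (.node (.node (.leaf 0x100006300001000e6) (.leaf 0xe000630000000457)) (.node (.leaf 0xd0006300001000b3) (.leaf 0)))) (.node (.node (.node (.leaf 0x700063000000042d) (.leaf 0xf00063000000015c)) (.node (.leaf 0xd000630000000147) (.leaf 0))) (.node (.node (.leaf 0xb0006300000001fc) (.leaf 0)) (.node (.leaf 0xb0006300000004b8) (.leaf 0))))))))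

/-- part of a forest -/
def forest83 : Trie :=
  (.node (.node (.node (.node (.node (.node (.node (.leaf 0xe00063000010008f) (.leaf 0xe00063000010021b)) (.node (.leaf 0xd0006300001003af) (.leaf 0))) (.node (.node (.leaf 0xb0006300001002ad) (.leaf 0xc00063000010022f)) (.node (.leaf 0xd0006300001001a1) (.leaf 0)))) (.node (.node (.node (.leaf 0xf000630000100555) (.leaf 0x1100063000000050b)) (.node (.leaf 0x100006300001000a5) (.leaf 0))) (.node (.node (.leaf 0xf000630000100271) (.leaf 0)) (.node (.leaf 0x10000630000100171) (.leaf 0))))) (.node (.node (.node (.node (.leaf 0xe0006300001001ee) (.leaf 0xd000630000100451)) (.node (.leaf 0xd000630000100102) (.leaf 0))) (.node (.node (.leaf 0xf000630000000098) (.leaf 0xb0006300000003c7)) (.node (.leaf 0x10000630000000083) (.leaf 0)))) (.node (.node (.node (.leaf 0xe0006300001001ad) (.leaf 0xd00063000010014a)) (.node (.leaf 0xe0006300001004a6) (.leaf 0))) (.node (.node (.leaf 0x1000063000000005c) (.leaf 0)) (.node (.leaf 0x7000640000100240)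 (.leaf 0)))))) (.node (.node (.node (.node (.node (.leaf 0xf0006300001002fb) (.leaf 0xd0006300001002b4)) (.node (.leaf 0xb0006300001003ec) (.leaf 0))) (.node (.node (.leaf 0xf000630000100108) (.leaf 0x90006300000003e8)) (.node (.leaf 0x50006300001001ba) (.leaf 0)))) (.node (.node (.node (.leaf 0xc0006300001001d7) (.leaf 0x100006300001001a3)) (.node (.leaf 0xf0006300001001f6) (.leaf 0))) (.node (.node (.leaf 0xf00063000000030a) (.leaf 0)) (.node (.leaf 0xc000630000000223) (.leaf 0))))) (.node (.node (.node (.node (.leaf 0xf0006300001001f1) (.leaf 0xe000630000100350)) (.node (.leaf 0x110006300000000e1) (.leaf 0))) (.node (.node (.leaf 0x90006400001004b4) (.leaf 0xd0006300000002ba)) (.node (.leaf 0xe000630000100500) (.leaf 0)))) (.node (.node (.node (.leaf 0xf000630000100144) (.leaf 0xf00063000000025f)) (.node (.leaf 0xb00063000010056a) (.leaf 0))) (.node (.node (.leaf 0xb00063000010052c) (.leaf 0)) (.node (.leaf 0xd0006300000002c8) (.leaf 0))))))) (.node (.node (.node (.node (.node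 (.node (.leaf 0xe000630000100066) (.leaf 0x10000630000100002)) (.node (.leaf 0x1100063000010045a) (.leaf 0))) (.node (.node (.leaf 0x10000630000100308) (.leaf 0x100006300001001b8)) (.node (.leaf 0x80006300001002b0) (.leaf 0)))) (.node (.node (.node (.leaf 0xe000630000100202) (.leaf 0xf000630000000470)) (.node (.leaf 0xf000630000100421) (.leaf 0))) (.node (.node (.leaf 0x10000630000100239) (.leaf 0)) (.node (.leaf 0xa0006400001003b4) (.leaf 0))))) (.node (.node (.node (.node (.leaf 0xd000630000100548) (.leaf 0xd00063000010016e)) (.node (.leaf 0xe00063000000006a) (.leaf 0))) (.node (.node (.leaf 0x300064000010027f) (.leaf 0x9000640000000539)) (.node (.leaf 0xf0006300000002da) (.leaf 0)))) (.node (.node (.node (.leaf 0xf00063000010017f) (.leaf 0x10000630000100110)) (.node (.leaf 0xe000630000100320) (.leaf 0))) (.node (.node (.leaf 0x100006300001004de) (.leaf 0)) (.node (.leaf 0xc000630000100101) (.leaf 0)))))) (.node (.node (.node (.node (.node (.leaf 0xc0006300001001db) (.leaf 0xa00063000000028f))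 (.node (.leaf 0xd0006300000001b4) (.leaf 0))) (.node (.node (.leaf 0xb00064000010018b) (.leaf 0x100006300001002e9)) (.node (.leaf 0x9000630000100313) (.leaf 0)))) (.node (.node (.node (.leaf 0xc0006300001002de) (.leaf 0x1100063000010002b)) (.node (.leaf 0xf000630000000041) (.leaf 0))) (.node (.node (.leaf 0x70006400001002b1) (.leaf 0)) (.node (.leaf 0x6000640000100419) (.leaf 0))))) (.node (.node (.node (.node (.leaf 0xe000630000100391) (.leaf 0xb000630000100401)) (.node (.leaf 0xa000630000100567) (.leaf 0))) (.node (.node (.leaf 0x100006300001000ba) (.leaf 0xf0006300000001e4)) (.node (.leaf 0x100006300001004ee) (.leaf 0)))) (.node (.node (.node (.leaf 0xb000630000100455) (.leaf 0xa0006300000003dc)) (.node (.leaf 0xb000630000100381) (.leaf 0))) (.node (.node (.leaf 0x1000063000010009e) (.leaf 0)) (.node (.leaf 0x80006400001001b3) (.leaf 0))))))))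

/-- part of a forest -/
def forest811 : Trie :=
  (.node (.node (.node (.node (.node (.node (.node (.leaf 0xd000630000100360) (.leaf 0x11000630000100417)) (.node (.leaf 0x10000630000100454) (.leaf 0))) (.node (.node (.leaf 0xe00063000000033d) (.leaf 0x10000630000100078)) (.node (.leaf 0xc00063000010056c) (.leaf 0)))) (.node (.node (.node (.leaf 0xd00063000010014f) (.leaf 0x10000630000000346)) (.node (.leaf 0xb00063000000044d) (.leaf 0))) (.node (.node (.leaf 0xa0006400001002bc) (.leaf 0)) (.node (.leaf 0xe000630000000195) (.leaf 0))))) (.node (.node (.node (.node (.leaf 0x9000630000100015) (.leaf 0xe000630000000561)) (.node (.leaf 0xe0006300000003cb) (.leaf 0))) (.node (.node (.leaf 0x11000630000100413) (.leaf 0xe000630000000170)) (.node (.leaf 0xb00063000000034c) (.leaf 0)))) (.node (.node (.node (.leaf 0xc00063000010050a) (.leaf 0xa000630000000333)) (.node (.leaf 0xf00063000010043e) (.leaf 0))) (.node (.node (.leaf 0x10000630000000295) (.leaf 0)) (.node (.leaf 0xd000630000100550)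 (.leaf 0)))))) (.node (.node (.node (.node (.node (.leaf 0x100006300001001a0) (.leaf 0xf00063000010003a)) (.node (.leaf 0x900063000000027a) (.leaf 0))) (.node (.node (.leaf 0xa000630000000342) (.leaf 0xc0006300000003a8)) (.node (.leaf 0xc0006300000004fb) (.leaf 0)))) (.node (.node (.node (.leaf 0xb00063000010034e) (.leaf 0x9000630000100426)) (.node (.leaf 0xc0006300001004fb) (.leaf 0))) (.node (.node (.leaf 0x10000630000100183) (.leaf 0)) (.node (.leaf 0xb00064000000052e) (.leaf 0))))) (.node (.node (.node (.node (.leaf 0xe000630000100076) (.leaf 0xf0006300000001f1)) (.node (.leaf 0x120006300001004bc) (.leaf 0))) (.node (.node (.leaf 0xf0006300001001ea) (.leaf 0x900063000010051e)) (.node (.leaf 0xc00063000000025b) (.leaf 0)))) (.node (.node (.node (.leaf 0x90006300000000ea) (.leaf 0xd00063000010017b)) (.node (.leaf 0xf0006300001003b5) (.leaf 0))) (.node (.node (.leaf 0xf000630000000518) (.leaf 0)) (.node (.leaf 0x900063000010026d) (.leaf 0))))))) (.node (.node (.node (.node (.node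 (.node (.leaf 0xd0006300001004d2) (.leaf 0xd00063000010013f)) (.node (.leaf 0xd0006300001004d5) (.leaf 0))) (.node (.node (.leaf 0xd000630000100229) (.leaf 0xe000630000000300)) (.node (.leaf 0x80006400000003c3) (.leaf 0)))) (.node (.node (.node (.leaf 0x11000630000000049) (.leaf 0xf0006300001004ff)) (.node (.leaf 0xf0006300001000c5) (.leaf 0))) (.node (.node (.leaf 0x1000063000000020d) (.leaf 0)) (.node (.leaf 0x9000630000000117) (.leaf 0))))) (.node (.node (.node (.node (.leaf 0x6000630000000165) (.leaf 0xe000630000000274)) (.node (.leaf 0xb000630000100141) (.leaf 0))) (.node (.node (.leaf 0x300064000010025c) (.leaf 0xe00063000010006a)) (.node (.leaf 0xd000630000100441) (.leaf 0)))) (.node (.node (.node (.leaf 0x11000630000000148) (.leaf 0x8000630000000242)) (.node (.leaf 0x70006400001003c9) (.leaf 0))) (.node (.node (.leaf 0xb000630000000225) (.leaf 0)) (.node (.leaf 0xf0006300001002ff) (.leaf 0)))))) (.node (.node (.node (.node (.node (.leaf 0x11000630000100196) (.leaf 0x1100063000010016f))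 (.node (.leaf 0xe000630000100445) (.leaf 0))) (.node (.node (.leaf 0xc000630000000072) (.leaf 0xd00063000010013b)) (.node (.leaf 0xf0006300001000c0) (.leaf 0)))) (.node (.node (.node (.leaf 0xd0006300000002e6) (.leaf 0x100006300001004d4)) (.node (.leaf 0xf000630000100212) (.leaf 0))) (.node (.node (.leaf 0x11000630000000345) (.leaf 0)) (.node (.leaf 0x70006400000003b3) (.leaf 0))))) (.node (.node (.node (.node (.leaf 0x1000063000010020d) (.leaf 0xf0006300001000cf)) (.node (.leaf 0x40006400000000fc) (.leaf 0))) (.node (.node (.leaf 0xc00063000010007a) (.leaf 0xf000630000000221)) (.node (.leaf 0xd000630000100290) (.leaf 0)))) (.node (.node (.node (.leaf 0x100006300001000e3) (.leaf 0xb000630000100254)) (.node (.leaf 0xe0006300000000d7) (.leaf 0))) (.node (.node (.leaf 0xd00063000000046a) (.leaf 0)) (.node (.leaf 0xf0006300001001e4) (.leaf 0))))))))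

/-- part of a forest -/
def forest87 : Trie :=
  (.node (.node (.node (.node (.node (.node (.node (.leaf 0x110006300001003f7) (.leaf 0x12000630000100156)) (.node (.leaf 0xf00063000000050d) (.leaf 0))) (.node (.node (.leaf 0x1000063000010016b) (.leaf 0x10000630000000399)) (.node (.leaf 0x11000630000100529) (.leaf 0)))) (.node (.node (.node (.leaf 0x90006300000003c2) (.leaf 0xb0006300000004c4)) (.node (.leaf 0xd000630000000157) (.leaf 0))) (.node (.node (.leaf 0xa0006400001001c7) (.leaf 0)) (.node (.leaf 0xf0006300001003b0) (.leaf 0))))) (.node (.node (.node (.node (.leaf 0x70006300000000a4) (.leaf 0x70006300001001f8)) (.node (.leaf 0xd000640000100572) (.leaf 0))) (.node (.node (.leaf 0xc000630000100473) (.leaf 0xd000630000100326)) (.node (.leaf 0xb000630000000348) (.leaf 0)))) (.node (.node (.node (.leaf 0xf00063000000020a) (.leaf 0x9000630000000426)) (.node (.leaf 0x90006300001004db) (.leaf 0))) (.node (.node (.leaf 0x9000640000100539) (.leaf 0)) (.node (.leaf 0xa000630000100197)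 (.leaf 0)))))) (.node (.node (.node (.node (.node (.leaf 0x12000630000100059) (.leaf 0xb000630000100273)) (.node (.leaf 0xc000630000100081) (.leaf 0))) (.node (.node (.leaf 0x900063000010045f) (.leaf 0xd0006300000004d7)) (.node (.leaf 0xf0006300000003fe) (.leaf 0)))) (.node (.node (.node (.leaf 0x100006300001004b0) (.leaf 0xd00063000010036b)) (.node (.leaf 0xe000630000000203) (.leaf 0))) (.node (.node (.leaf 0xe0006300001004e0) (.leaf 0)) (.node (.leaf 0xa0006300000002df) (.leaf 0))))) (.node (.node (.node (.node (.leaf 0xe000630000100478) (.leaf 0xc00063000010040d)) (.node (.leaf 0xd0006300001004b5) (.leaf 0))) (.node (.node (.leaf 0xa000630000000112) (.leaf 0x90006300001000c8)) (.node (.leaf 0xd000630000100535) (.leaf 0)))) (.node (.node (.node (.leaf 0x11000630000100343) (.leaf 0xa000630000100136)) (.node (.leaf 0xc0006300000000bc) (.leaf 0))) (.node (.node (.leaf 0xf000630000000374) (.leaf 0)) (.node (.leaf 0xd0006300001000d1) (.leaf 0))))))) (.node (.node (.node (.node (.node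 (.node (.leaf 0xd000630000000102) (.leaf 0x10000630000100051)) (.node (.leaf 0xb0006300001003a9) (.leaf 0))) (.node (.node (.leaf 0x8000630000100447) (.leaf 0x11000630000100379)) (.node (.leaf 0x100006300001004f5) (.leaf 0)))) (.node (.node (.node (.leaf 0xf00063000010034f) (.leaf 0x1100063000010020b)) (.node (.leaf 0xf000630000100082) (.leaf 0))) (.node (.node (.leaf 0x90006300001000ea) (.leaf 0)) (.node (.leaf 0xc000630000100208) (.leaf 0))))) (.node (.node (.node (.node (.leaf 0x10000630000100083) (.leaf 0xd000630000100398)) (.node (.leaf 0x700063000000016d) (.leaf 0))) (.node (.node (.leaf 0xc0006300001004c5) (.leaf 0xf0006300000003f1)) (.node (.leaf 0x100006300001001d2) (.leaf 0)))) (.node (.node (.node (.leaf 0xd000630000100201) (.leaf 0xc00063000010034b)) (.node (.leaf 0xd000630000100546) (.leaf 0))) (.node (.node (.leaf 0xb0006300001004bf) (.leaf 0)) (.node (.leaf 0xd000630000000552) (.leaf 0)))))) (.node (.node (.node (.node (.node (.leaf 0x10000630000100022) (.leaf 0x1000063000010049e))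 (.node (.leaf 0x10000630000100573) (.leaf 0))) (.node (.node (.leaf 0xe000630000000016) (.leaf 0xb00063000010006e)) (.node (.leaf 0xf00063000010025f) (.leaf 0)))) (.node (.node (.node (.leaf 0x30006300000000e8) (.leaf 0x100006300001001e7)) (.node (.leaf 0x30006300001000e8) (.leaf 0))) (.node (.node (.leaf 0x10000630000100392) (.leaf 0)) (.node (.leaf 0xc000630000100496) (.leaf 0))))) (.node (.node (.node (.node (.leaf 0xf0006300001004a9) (.leaf 0x9000630000000015)) (.node (.leaf 0x70006300001000a4) (.leaf 0))) (.node (.node (.leaf 0xf000630000100205) (.leaf 0x9000640000100145)) (.node (.leaf 0xd0006300001001b4) (.leaf 0)))) (.node (.node (.node (.leaf 0xf00063000010024e) (.leaf 0x800064000010042c)) (.node (.leaf 0x500064000000026a) (.leaf 0))) (.node (.node (.leaf 0xf0006300000001f6) (.leaf 0)) (.node (.leaf 0x100006300000003f6) (.leaf 0))))))))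

/-- part of a forest -/
def forest815 : Trie :=
  (.node (.node (.node (.node (.node (.node (.node (.leaf 0xd000630000100503) (.leaf 0xe0006300000004ce)) (.node (.leaf 0x6000640000100389) (.leaf 0))) (.node (.node (.leaf 0xb00063000000001c) (.leaf 0xa0006300001002f1)) (.node (.leaf 0x11000630000100105) (.leaf 0)))) (.node (.node (.node (.leaf 0xd000630000100292) (.leaf 0xf0006300000002c3)) (.node (.leaf 0x900063000010033e) (.leaf 0))) (.node (.node (.leaf 0xa000640000100270) (.leaf 0)) (.node (.leaf 0x6000640000000389) (.leaf 0))))) (.node (.node (.node (.node (.leaf 0x10000630000000052) (.leaf 0xb0006300000000c9)) (.node (.leaf 0x11000630000100538) (.leaf 0))) (.node (.node (.leaf 0xc00063000010042a) (.leaf 0xe000630000100216)) (.node (.leaf 0xe000630000000350) (.leaf 0)))) (.node (.node (.node (.leaf 0xe00063000000053b) (.leaf 0xf000630000100366)) (.node (.leaf 0x100006300001001e2) (.leaf 0))) (.node (.node (.leaf 0xd0006300000001ce) (.leaf 0)) (.node (.leaf 0xc00063000010013c)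 (.leaf 0)))))) (.node (.node (.node (.node (.node (.leaf 0xb00063000010036e) (.leaf 0xe000630000100131)) (.node (.leaf 0xb00063000010007f) (.leaf 0))) (.node (.node (.leaf 0x12000630000100517) (.leaf 0xe000630000100303)) (.node (.leaf 0x110006300000004c9) (.leaf 0)))) (.node (.node (.node (.leaf 0xf000630000100498) (.leaf 0xd000630000000550)) (.node (.leaf 0xd000630000100033) (.leaf 0))) (.node (.node (.leaf 0x11000630000000533) (.leaf 0)) (.node (.leaf 0xc000630000100487) (.leaf 0))))) (.node (.node (.node (.node (.leaf 0xb00063000000006e) (.leaf 0xb0006400001001d9)) (.node (.leaf 0xd000630000100227) (.leaf 0))) (.node (.node (.leaf 0x1000063000000046d) (.leaf 0xe000630000000409)) (.node (.leaf 0xf00063000010054b) (.leaf 0)))) (.node (.node (.node (.leaf 0xb000640000100393) (.leaf 0xd00064000010021e)) (.node (.leaf 0x11000630000100371) (.leaf 0))) (.node (.node (.leaf 0xf00063000010015e) (.leaf 0)) (.node (.leaf 0x11000630000100317) (.leaf 0))))))) (.node (.node (.node (.node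 (.node (.node (.leaf 0xb0006300001001ec) (.leaf 0xd00063000010027d)) (.node (.leaf 0xd000630000100492) (.leaf 0))) (.node (.node (.leaf 0x11000630000100037) (.leaf 0xd0006300001001c2)) (.node (.leaf 0xc0006300001003a8) (.leaf 0)))) (.node (.node (.node (.leaf 0xe0006300001003a0) (.leaf 0xb000630000000401)) (.node (.leaf 0x110006300001004e5) (.leaf 0))) (.node (.node (.leaf 0xf000630000100468) (.leaf 0)) (.node (.leaf 0xe00063000000011b) (.leaf 0))))) (.node (.node (.node (.node (.leaf 0xe0006300000002d7) (.leaf 0x800063000000024c)) (.node (.leaf 0xe000630000100527) (.leaf 0))) (.node (.node (.leaf 0x700064000000020f) (.leaf 0xe0006300001002e5)) (.node (.leaf 0xf00063000010054f) (.leaf 0)))) (.node (.node (.node (.leaf 0xa000640000100449) (.leaf 0xe000630000000564)) (.node (.leaf 0x90006300001002cd) (.leaf 0))) (.node (.node (.leaf 0x100006300001001eb) (.leaf 0)) (.node (.leaf 0xe000630000000445) (.leaf 0)))))) (.node (.node (.node (.node (.node (.leaf 0x1000063000000049b) (.leaf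 0x1100063000000023e)) (.node (.leaf 0xe0006300001003cb) (.leaf 0))) (.node (.node (.leaf 0xc00063000010008c) (.leaf 0xd000630000100174)) (.node (.leaf 0x100006300000000d8) (.leaf 0)))) (.node (.node (.node (.leaf 0xf000630000100219) (.leaf 0xa0006300001002c7)) (.node (.leaf 0x120006300001000dd) (.leaf 0))) (.node (.node (.leaf 0x10000630000000123) (.leaf 0)) (.node (.leaf 0xf0006300001004a0) (.leaf 0))))) (.node (.node (.node (.node (.leaf 0xa000630000100342) (.leaf 0xf000630000100168)) (.node (.leaf 0x200064000010031a) (.leaf 0))) (.node (.node (.leaf 0xe00063000000022c) (.leaf 0xd000630000100126)) (.node (.leaf 0x9000630000100456) (.leaf 0)))) (.node (.node (.node (.leaf 0x100006300001003e0) (.leaf 0xe000630000000571)) (.node (.leaf 0xe000630000100358) (.leaf 0))) (.node (.node (.leaf 0xb00063000010010c) (.leaf 0)) (.node (.leaf 0xd000630000000326) (.leaf 0))))))))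

/-- a forest -/
def forest8 : Trie :=
  (.node (.node (.node (.node forest80 forest88) (.node forest84 forest812)) (.node (.node forest82 forest810) (.node forest86 forest814))) (.node (.node (.node forest81 forest89) (.node forest85 forest813)) (.node (.node forest83 forest811) (.node forest87 forest815))))

/-- the nodes -/
def nodes : List NodeD := [⟨node0, forest0⟩, ⟨node1, forest1⟩, ⟨node2, forest2⟩, ⟨node3, forest3⟩, ⟨node4, forest4⟩, ⟨node5, forest5⟩, ⟨node6, forest6⟩, ⟨node7, forest7⟩, ⟨node8, forest8⟩]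

end

end Cfsg.Agent.HN.Dat
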