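import Cfsg.Agent.Lib.HN.Omega

/-! The orbit representatives. -/

set_option autoImplicit false
set_option maxRecDepth 100000
set_option maxHeartbeats 4000000
set_option Elab.async false

namespace Cfsg.Agent.HN.Dat

noncomputable section

/-- part of a tree -/
def tau0L0tree0 : Trie :=
  (.node (.node (.node (.node (.node (.node (.leaf 0x0) (.leaf 0x100013)) (.node (.leaf 0x8) (.leaf 0x100027))) (.node (.node (.leaf 0x100003) (.leaf 0x10001b)) (.node (.leaf 0xd) (.leaf 0)))) (.node (.node (.node (.leaf 0x100001) (.leaf 0x100016)) (.node (.leaf 0x10000a) (.leaf 0))) (.node (.node (.leaf 0x100005) (.leaf 0x21)) (.node (.leaf 0xf) (.leaf 0))))) (.node (.node (.node (.node (.leaf 0x100000) (.leaf 0x15)) (.node (.leaf 0x9) (.leaf 0))) (.node (.node (.leaf 0x100004) (.leaf 0x20)) (.node (.leaf 0xe) (.leaf 0)))) (.node (.node (.node (.leaf 0x100002) (.leaf 0x100018)) (.node (.leaf 0x10000b) (.leaf 0))) (.node (.node (.leaf 0x7) (.leaf 0x25)) (.node (.leaf 0x10)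 (.leaf 0)))))) (.node (.node (.node (.node (.node (.leaf 0x0) (.leaf 0x14)) (.node (.leaf 0x100008) (.leaf 0x100028))) (.node (.node (.leaf 0x4) (.leaf 0x1c)) (.node (.leaf 0x10000d) (.leaf 0)))) (.node (.node (.node (.leaf 0x2) (.leaf 0x17)) (.node (.leaf 0xb) (.leaf 0))) (.node (.node (.leaf 0x6) (.leaf 0x100021)) (.node (.leaf 0x10000f) (.leaf 0))))) (.node (.node (.node (.node (.leaf 0x1) (.leaf 0x100015)) (.node (.leaf 0xa) (.leaf 0))) (.node (.node (.leaf 0x5) (.leaf 0x100020)) (.node (.leaf 0x10000e) (.leaf 0)))) (.node (.node (.node (.leaf 0x3) (.leaf 0x10001a)) (.node (.leaf 0x10000c) (.leaf 0))) (.node (.node (.leaf 0x100007) (.leaf 0x100025)) (.node (.leaf 0x100010) (.leaf 0)))))))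

/-- a tree -/
def tau0L0tree : Trie :=
  tau0L0tree0

/-- part of transversal words -/
def tau0L0word0 : Trie :=
  (.node (.node (.node (.node (.node (.node (.leaf 0x0) (.leaf 0x455a6ebad3aeb65d)) (.node (.leaf 0x134d450c8596cc) (.leaf 0x114914861659661))) (.node (.node (.leaf 0xda65b30c859) (.leaf 0xa29134d986190b)) (.node (.leaf 0x9a8a18642db) (.leaf 0)))) (.node (.node (.node (.leaf 0xa2764964b2b765) (.leaf 0x4b25914b2575495b)) (.node (.leaf 0x26d34d366432190b) (.leaf 0))) (.node (.node (.leaf 0x9148a295badd6ea) (.leaf 0x1d92c964a6190c864)) (.node (.leaf 0x5243218596cb) (.leaf 0))))) (.node (.node (.node (.node (.leaf 0x351489b65b30c) (.leaf 0x92b75bad366194b)) (.node (.leaf 0x35142cb2d9659) (.leaf 0))) (.node (.node (.leaf 0x4b245144cbaeb329) (.leaf 0x1226d3659861659)) (.node (.leaf 0x4d48a42d985b) (.leaf 0)))) (.node (.node (.node (.leaf 0xda6da6d96d9) (.leaf 0x9a8a42d985b)) (.node (.leaf 0x1b52269b321864) (.leaf 0))) (.node (.node (.leaf 0x29135244d96596cb)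 (.leaf 0x5229144d96cc2cb)) (.node (.leaf 0x12295badd6ea659) (.leaf 0)))))) (.node (.node (.node (.node (.node (.leaf 0x2c9134e9864a65) (.leaf 0x451369b2d96cb)) (.node (.leaf 0x14add6ea6cc961) (.leaf 0xac56589966192b))) (.node (.node (.leaf 0x12291369b2d96cb) (.leaf 0x6a289a6cc8616cb)) (.node (.leaf 0x164513a996dd75b) (.leaf 0)))) (.node (.node (.node (.leaf 0x1648a42d975d665) (.leaf 0x135226d3659661)) (.node (.leaf 0x44ec92c32575d92c) (.leaf 0))) (.node (.node (.leaf 0x1592269b52595b2e9) (.leaf 0x2b24b2cb2196175b)) (.node (.leaf 0x12289a91485b2cb2db) (.leaf 0))))) (.node (.node (.node (.node (.leaf 0x9133216cb661) (.leaf 0x589d75d6a430badd)) (.node (.leaf 0x89b3216cb661) (.leaf 0))) (.node (.node (.leaf 0x52592596589bb29) (.leaf 0x2b2292286175d2ec)) (.node (.leaf 0x2964b156d4964ae9) (.leaf 0)))) (.node (.node (.node (.leaf 0x45228a290b6cc2d9) (.leaf 0xa5964b13add8a16dd)) (.node (.leaf 0xa291592ca6585bae9) (.leaf 0))) (.node (.node (.leaf 0x5244d48996cb321)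 (.leaf 0xd45145216cb2d9)) (.node (.leaf 0x9a69a90c85b2d9) (.leaf 0)))))))

/-- transversal words -/
def tau0L0word : Trie :=
  tau0L0word0

/-- part of closing hints -/
def tau0L0close0 : Trie :=
  (.node (.node (.node (.node (.node (.node (.node (.leaf 0x1) (.leaf 0x2a)) (.node (.leaf 0x1e) (.leaf 0x100300400b01d))) (.node (.node (.leaf 0x10) (.leaf 0x100300301d004)) (.node (.leaf 0x1004005019008) (.leaf 0)))) (.node (.node (.node (.leaf 0x9) (.leaf 0x300500e017)) (.node (.leaf 0x21) (.leaf 0))) (.node (.node (.leaf 0x2002025000) (.leaf 0x4002020020)) (.node (.leaf 0x29) (.leaf 0))))) (.node (.node (.node (.node (.leaf 0x5) (.leaf 0x100400001401b)) (.node (.leaf 0x100100201a019) (.leaf 0))) (.node (.node (.leaf 0x13) (.leaf 0x1003005014030)) (.node (.leaf 0x200202500c) (.leaf 0)))) (.node (.node (.node (.leaf 0xd) (.leaf 0x200301402f)) (.node (.leaf 0x2005029002) (.leaf 0))) (.node (.node (.leaf 0x1a) (.leaf 0x4004015026)) (.node (.leaf 0x1003005029011)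 (.leaf 0)))))) (.node (.node (.node (.node (.node (.leaf 0x3) (.leaf 0x2c)) (.node (.leaf 0x2002020006) (.leaf 0x1001027031))) (.node (.node (.leaf 0x12) (.leaf 0x100200200302b)) (.node (.leaf 0x4005023023) (.leaf 0)))) (.node (.node (.node (.leaf 0xb) (.leaf 0x2e)) (.node (.leaf 0x22) (.leaf 0))) (.node (.node (.leaf 0x18) (.leaf 0x1003003024024)) (.node (.leaf 0x1003001022014) (.leaf 0))))) (.node (.node (.node (.node (.leaf 0x7) (.leaf 0x2027)) (.node (.leaf 0x100300500c01f) (.leaf 0))) (.node (.node (.leaf 0x15) (.leaf 0x100400302500a)) (.node (.leaf 0x1001003007016) (.leaf 0)))) (.node (.node (.node (.leaf 0xe) (.leaf 0x100400a028)) (.node (.leaf 0x25) (.leaf 0))) (.node (.node (.leaf 0x1c) (.leaf 0x100200001f02d)) (.node (.leaf 0x100f) (.leaf 0))))))) (.node (.node (.node (.node (.node (.node (.leaf 0x2) (.leaf 0x2b)) (.node (.leaf 0x1f) (.leaf 0x300300102e))) (.node (.node (.leaf 0x11) (.leaf 0x31)) (.node (.leaf 0x26) (.leaf 0)))) (.node (.node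 (.node (.leaf 0xa) (.leaf 0x100000f02c)) (.node (.leaf 0x5005001) (.leaf 0))) (.node (.node (.leaf 0x17) (.leaf 0x400302801a)) (.node (.leaf 0x100300500b00d) (.leaf 0))))) (.node (.node (.node (.node (.leaf 0x6) (.leaf 0x4005003013)) (.node (.leaf 0x100300500701c) (.leaf 0))) (.node (.node (.leaf 0x14) (.leaf 0x1000001001022)) (.node (.leaf 0x27) (.leaf 0)))) (.node (.node (.node (.leaf 0x400401c009) (.leaf 0x300100202a)) (.node (.leaf 0x24) (.leaf 0))) (.node (.node (.leaf 0x1b) (.leaf 0x100000302600b)) (.node (.leaf 0x2003007010) (.leaf 0)))))) (.node (.node (.node (.node (.node (.leaf 0x4) (.leaf 0x2d)) (.node (.leaf 0x100100500b007) (.leaf 0x400001a012))) (.node (.node (.leaf 0x3001012000) (.leaf 0x4005018018)) (.node (.leaf 0x100501e00e) (.leaf 0)))) (.node (.node (.node (.leaf 0xc) (.leaf 0x2f)) (.node (.leaf 0x23) (.leaf 0))) (.node (.node (.leaf 0x19) (.leaf 0x1002004002021)) (.node (.leaf 0x1002003000025) (.leaf 0))))) (.node (.node (.node (.node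 (.leaf 0x8) (.leaf 0x5006005)) (.node (.leaf 0x20) (.leaf 0))) (.node (.node (.leaf 0x16) (.leaf 0x1004003018029)) (.node (.leaf 0x28) (.leaf 0)))) (.node (.node (.node (.leaf 0xf) (.leaf 0x30)) (.node (.leaf 0x100000001301e) (.leaf 0))) (.node (.node (.leaf 0x1d) (.leaf 0x1000001020003)) (.node (.leaf 0x300101a015) (.leaf 0))))))))

/-- closing hints -/
def tau0L0close : Trie :=
  tau0L0close0

/-- a level -/
def tau0L0 : SLev := ⟨4, [0x2c9134e9864a65, 0x351489b65b30c], tau0L0tree, tau0L0word, 50, tau0L0close, [(31, 0), (35, 0)]⟩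

/-- part of a tree -/
def tau0L1tree0 : Trie :=
  (.node (.node (.node (.node (.node (.node (.leaf 0x0) (.leaf 0x12)) (.node (.leaf 0x100007) (.leaf 0))) (.node (.node (.leaf 0x100003) (.leaf 0x21)) (.node (.leaf 0x10000b) (.leaf 0)))) (.node (.node (.node (.leaf 0x100001) (.leaf 0x100017)) (.node (.leaf 0x100009) (.leaf 0))) (.node (.node (.leaf 0x100005) (.leaf 0)) (.node (.leaf 0x10000f) (.leaf 0))))) (.node (.node (.node (.node (.leaf 0x100000) (.leaf 0x100016)) (.node (.leaf 0x100008) (.leaf 0))) (.node (.node (.leaf 0x100004) (.leaf 0)) (.node (.leaf 0x10000e) (.leaf 0)))) (.node (.node (.node (.leaf 0x100002) (.leaf 0x1c)) (.node (.leaf 0x10000a) (.leaf 0))) (.node (.node (.leaf 0x100006) (.leaf 0)) (.node (.leaf 0x100010) (.leaf 0)))))) (.node (.node (.node (.node (.node (.leaf 0x0) (.leaf 0x100012)) (.node (.leaf 0x8) (.leaf 0))) (.node (.node (.leaf 0x4) (.leaf 0x100021)) (.node (.leaf 0xe) (.leaf 0)))) (.node (.node (.node (.leaf 0x2) (.leaf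 0x19)) (.node (.leaf 0xa) (.leaf 0))) (.node (.node (.leaf 0x6) (.leaf 0)) (.node (.leaf 0x10) (.leaf 0))))) (.node (.node (.node (.node (.leaf 0x1) (.leaf 0x17)) (.node (.leaf 0x9) (.leaf 0))) (.node (.node (.leaf 0x5) (.leaf 0)) (.node (.leaf 0xf) (.leaf 0)))) (.node (.node (.node (.leaf 0x3) (.leaf 0x1d)) (.node (.leaf 0xb) (.leaf 0))) (.node (.node (.leaf 0x7) (.leaf 0)) (.node (.leaf 0x11) (.leaf 0)))))))

/-- a tree -/
def tau0L1tree : Trie :=
  tau0L1tree0

/-- part of transversal words -/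
def tau0L1word0 : Trie :=
  (.node (.node (.node (.node (.node (.node (.leaf 0x0) (.leaf 0xda69a8a185965b)) (.node (.leaf 0xa56ab69b4e96dd6cc) (.leaf 0))) (.node (.node (.leaf 0x51491366430c) (.leaf 0x1369b2cc861859)) (.node (.leaf 0x6d36a44d990c85b) (.leaf 0)))) (.node (.node (.node (.leaf 0xa28a44d990c859) (.leaf 0x292289b4cb66430b)) (.node (.leaf 0x44ccb2592c964) (.leaf 0))) (.node (.node (.leaf 0x52289a6d965b2cc) (.leaf 0)) (.node (.leaf 0x48a430b6cb321) (.leaf 0))))) (.node (.node (.node (.node (.leaf 0x1145134d9864321) (.leaf 0xa44da9142d9659)) (.node (.leaf 0x45229148642cc) (.leaf 0))) (.node (.node (.leaf 0x486430c864) (.leaf 0)) (.node (.leaf 0xd32d966185b) (.leaf 0)))) (.node (.node (.node (.leaf 0x24964b2589965d6cb) (.leaf 0x4d44da6d990c30c)) (.node (.leaf 0x144d34da86430b2cb) (.leaf 0))) (.node (.node (.leaf 0x12265986430c) (.leaf 0)) (.node (.leaf 0x4d369b66185b) (.leaf 0)))))) (.node (.node (.node (.node (.node (.leaf 0x45245134cb65b321) (.leaf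 0x1a6d45216cb65b)) (.node (.leaf 0x26a430c2cb659) (.leaf 0))) (.node (.node (.leaf 0xcb2db2cb) (.leaf 0x244da8a44d990c30c)) (.node (.leaf 0x69b4d450c85b30b) (.leaf 0)))) (.node (.node (.node (.leaf 0xd575d6a58a585d75d) (.leaf 0x10c8642cc)) (.node (.leaf 0x51451332190c85b) (.leaf 0))) (.node (.node (.leaf 0xd330c30b6cb) (.leaf 0)) (.node (.leaf 0x1142cb65b661) (.leaf 0))))) (.node (.node (.node (.node (.leaf 0x26d44d96d965b) (.leaf 0x28a29132cb30c)) (.node (.leaf 0x229228a430b65b) (.leaf 0))) (.node (.node (.leaf 0x135226d3521661861) (.leaf 0)) (.node (.leaf 0x48a26da90b321) (.leaf 0)))) (.node (.node (.node (.leaf 0x4ad56a290b65d2ec) (.leaf 0x96296585baeb6eb)) (.node (.leaf 0xd34d44d96d9661) (.leaf 0))) (.node (.node (.leaf 0x3b158a44d966532b) (.leaf 0)) (.node (.leaf 0x12c89bad375b2dd75d) (.leaf 0)))))))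

/-- transversal words -/
def tau0L1word : Trie :=
  tau0L1word0

/-- part of closing hints -/
def tau0L1close0 : Trie :=
  (.node (.node (.node (.node (.node (.node (.node (.leaf 0x1) (.leaf 0x1000018)) (.node (.leaf 0x1d) (.leaf 0))) (.node (.node (.leaf 0x11) (.leaf 0x100300301a)) (.node (.leaf 0x300500e) (.leaf 0)))) (.node (.node (.node (.leaf 0x9) (.leaf 0x1002000021)) (.node (.leaf 0x1001001004) (.leaf 0))) (.node (.node (.leaf 0x1000000012) (.leaf 0)) (.node (.leaf 0x26) (.leaf 0))))) (.node (.node (.node (.node (.leaf 0x5) (.leaf 0x2002000)) (.node (.leaf 0x20) (.leaf 0))) (.node (.node (.leaf 0x15) (.leaf 0)) (.node (.leaf 0x200301e) (.leaf 0)))) (.node (.node (.node (.leaf 0xd) (.leaf 0x3001024)) (.node (.leaf 0x4003010) (.leaf 0))) (.node (.node (.leaf 0x19) (.leaf 0)) (.node (.leaf 0x100100401c) (.leaf 0)))))) (.node (.node (.node (.node (.node (.leaf 0x3) (.leaf 0x28)) (.node (.leaf 0x1f) (.leaf 0))) (.node (.node (.leaf 0x13) (.leaf 0x200a))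 (.node (.leaf 0x25) (.leaf 0)))) (.node (.node (.node (.leaf 0xb) (.leaf 0x100000300c)) (.node (.leaf 0x2016) (.leaf 0))) (.node (.node (.leaf 0x2002002) (.leaf 0)) (.node (.leaf 0x27) (.leaf 0))))) (.node (.node (.node (.node (.leaf 0x7) (.leaf 0x3001006)) (.node (.leaf 0x1001008) (.leaf 0))) (.node (.node (.leaf 0x17) (.leaf 0)) (.node (.leaf 0x3001022) (.leaf 0)))) (.node (.node (.node (.leaf 0xf) (.leaf 0x1002003029)) (.node (.leaf 0x23) (.leaf 0))) (.node (.node (.leaf 0x1b) (.leaf 0)) (.node (.leaf 0x1000000014) (.leaf 0))))))) (.node (.node (.node (.node (.node (.node (.leaf 0x2) (.leaf 0x5003)) (.node (.leaf 0x1e) (.leaf 0))) (.node (.node (.leaf 0x12) (.leaf 0x3005015)) (.node (.leaf 0x400501b) (.leaf 0)))) (.node (.node (.node (.leaf 0xa) (.leaf 0x1002028)) (.node (.leaf 0x4004017) (.leaf 0))) (.node (.node (.leaf 0x3013) (.leaf 0)) (.node (.leaf 0x100200300b) (.leaf 0))))) (.node (.node (.node (.node (.leaf 0x6) (.leaf 0x1002000026)) (.node (.leaf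 0x21) (.leaf 0))) (.node (.node (.leaf 0x16) (.leaf 0)) (.node (.leaf 0x100100201d) (.leaf 0)))) (.node (.node (.node (.leaf 0xe) (.leaf 0x4003023)) (.node (.leaf 0x22) (.leaf 0))) (.node (.node (.leaf 0x1a) (.leaf 0)) (.node (.leaf 0x100400d) (.leaf 0)))))) (.node (.node (.node (.node (.node (.leaf 0x4) (.leaf 0x29)) (.node (.leaf 0x100100100f) (.leaf 0))) (.node (.node (.leaf 0x14) (.leaf 0x4005027)) (.node (.leaf 0x4000009) (.leaf 0)))) (.node (.node (.node (.leaf 0xc) (.leaf 0x1002002000)) (.node (.leaf 0x2001019) (.leaf 0))) (.node (.node (.leaf 0x1005) (.leaf 0)) (.node (.leaf 0x1000025) (.leaf 0))))) (.node (.node (.node (.node (.leaf 0x8) (.leaf 0x2001)) (.node (.leaf 0x1004005007) (.leaf 0))) (.node (.node (.leaf 0x18) (.leaf 0)) (.node (.leaf 0x100100001f) (.leaf 0)))) (.node (.node (.node (.leaf 0x10) (.leaf 0x1004005020)) (.node (.leaf 0x24) (.leaf 0))) (.node (.node (.leaf 0x1c) (.leaf 0)) (.node (.leaf 0x1004005011) (.leaf 0))))))))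

/-- closing hints -/
def tau0L1close : Trie :=
  tau0L1close0

/-- a level -/
def tau0L1 : SLev := ⟨6, [0x45245134cb65b321, 0x1145134d9864321], tau0L1tree, tau0L1word, 42, tau0L1close, [(13, 1), (21, 0), (12, 1)]⟩

/-- part of a tree -/
def tau0L2tree0 : Trie :=
  (.node (.node (.node (.leaf 0x0) (.leaf 0x1)) (.node (.leaf 0x100000) (.leaf 0))) (.node (.node (.leaf 0x0) (.leaf 0x3)) (.node (.leaf 0x200000) (.leaf 0))))

/-- a tree -/
def tau0L2tree : Trie :=
  tau0L2tree0

/-- part of transversal words -/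
def tau0L2word0 : Trie :=
  (.node (.node (.node (.leaf 0x0) (.leaf 0xa28a430b664)) (.node (.leaf 0x6d48596cc859) (.leaf 0))) (.node (.node (.leaf 0xda90b2d9659) (.leaf 0x136a28996cb661)) (.node (.leaf 0x89b30c85b659) (.leaf 0))))

/-- transversal words -/
def tau0L2word : Trie :=
  tau0L2word0

/-- part of closing hints -/
def tau0L2close0 : Trie :=
  (.node (.node (.node (.node (.node (.leaf 0x1) (.leaf 0x1001001)) (.node (.leaf 0x1001001) (.leaf 0))) (.node (.node (.leaf 0x4004) (.leaf 0)) (.node (.leaf 0x0) (.leaf 0)))) (.node (.node (.node (.leaf 0x3) (.leaf 0)) (.node (.leaf 0x3000) (.leaf 0))) (.node (.node (.leaf 0x1001003) (.leaf 0)) (.node (.leaf 0x1004004) (.leaf 0))))) (.node (.node (.node (.node (.leaf 0x2) (.leaf 0x2002)) (.node (.leaf 0x5) (.leaf 0))) (.node (.node (.leaf 0x1000) (.leaf 0)) (.node (.leaf 0x2005) (.leaf 0)))) (.node (.node (.node (.leaf 0x4) (.leaf 0)) (.node (.leaf 0x1000005) (.leaf 0))) (.node (.node (.leaf 0x2003) (.leaf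 0)) (.node (.leaf 0x1001002) (.leaf 0))))))

/-- closing hints -/
def tau0L2close : Trie :=
  tau0L2close0

/-- a level -/
def tau0L2 : SLev := ⟨8, [0xda90b2d9659, 0x6d48596cc859, 0x89b30c85b659], tau0L2tree, tau0L2word, 6, tau0L2close, [(1, 2), (2, 0)]⟩

/-- part of a tree -/
def tau0L3tree0 : Trie :=
  (.node (.node (.node (.leaf 0x0) (.leaf 0x100002)) (.node (.leaf 0x1) (.leaf 0))) (.node (.node (.leaf 0x0) (.leaf 0)) (.node (.leaf 0x2) (.leaf 0))))

/-- a tree -/
def tau0L3tree : Trie :=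
  tau0L3tree0

/-- part of transversal words -/
def tau0L3word0 : Trie :=
  (.node (.node (.node (.leaf 0x0) (.leaf 0x291369b66190b)) (.node (.leaf 0x1a69b2cc30b2cc) (.leaf 0))) (.node (.node (.leaf 0x5144d485b65b2cc) (.leaf 0)) (.node (.leaf 0x1a8a269986430c) (.leaf 0))))

/-- transversal words -/
def tau0L3word : Trie :=
  tau0L3word0

/-- part of closing hints -/
def tau0L3close0 : Trie :=
  (.node (.node (.node (.node (.leaf 0x1) (.leaf 0x1000)) (.node (.leaf 0x3) (.leaf 0))) (.node (.node (.leaf 0x2) (.leaf 0)) (.node (.leaf 0x1004) (.leaf 0)))) (.node (.node (.node (.leaf 0x1001) (.leaf 0x2)) (.node (.leaf 0x4) (.leaf 0))) (.node (.node (.leaf 0x1000) (.leaf 0)) (.node (.leaf 0x1003) (.leaf 0)))))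

/-- closing hints -/
def tau0L3close : Trie :=
  tau0L3close0

/-- a level -/
def tau0L3 : SLev := ⟨9, [0x5144d485b65b2cc, 0x34d45226d96cb30c], tau0L3tree, tau0L3word, 5, tau0L3close, [(3, 1)]⟩

/-- part of a tree -/
def tau0L4tree0 : Trie :=
  (.node (.leaf 0x0) (.leaf 0x0))

/-- a tree -/
def tau0L4tree : Trie :=
  tau0L4tree0

/-- part of transversal words -/
def tau0L4word0 : Trie :=
  (.node (.leaf 0x0) (.leaf 0x659659))

/-- transversal words -/
def tau0L4word : Trie :=
  tau0L4word0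

/-- part of closing hints -/
def tau0L4close0 : Trie :=
  (.node (.leaf 0x1) (.leaf 0x0))

/-- closing hints -/
def tau0L4close : Trie :=
  tau0L4close0

/-- a level -/
def tau0L4 : SLev := ⟨7, [0x659659], tau0L4tree, tau0L4word, 2, tau0L4close, []⟩

/-- a chain -/
def tau0 : List SLev := [tau0L0, tau0L1, tau0L2, tau0L3, tau0L4]

/-- a representative -/
def r0 : RepD := ⟨0, 0, 1, 0, 1408, tau0, [0x2005004000, 0x100100202502e000], [0x100200201901d, 0x2001017016]⟩

/-- part of a tree -/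
def tau1L0tree0 : Trie :=
  (.node (.node (.node (.node (.node (.node (.leaf 0x0) (.leaf 0x18)) (.node (.leaf 0xa) (.leaf 0x100027))) (.node (.node (.leaf 0x100004) (.leaf 0x10001d)) (.node (.leaf 0x10000f) (.leaf 0)))) (.node (.node (.node (.leaf 0x2) (.leaf 0x1a)) (.node (.leaf 0xd) (.leaf 0))) (.node (.node (.leaf 0x8) (.leaf 0x21)) (.node (.leaf 0x13) (.leaf 0))))) (.node (.node (.node (.node (.leaf 0x100000) (.leaf 0x19)) (.node (.leaf 0x10000b) (.leaf 0))) (.node (.node (.leaf 0x6) (.leaf 0x1f)) (.node (.leaf 0x11) (.leaf 0)))) (.node (.node (.node (.leaf 0x3) (.leaf 0x1b)) (.node (.leaf 0xe) (.leaf 0))) (.node (.node (.leaf 0x9) (.leaf 0x100024)) (.node (.leaf 0x100014) (.leaf 0)))))) (.node (.node (.node (.node (.node (.leaf 0x0) (.leaf 0x100018)) (.node (.leaf 0xb) (.leaf 0x30))) (.node (.node (.leaf 0x5) (.leaf 0x10001e)) (.node (.leaf 0x100010) (.leaf 0)))) (.node (.node (.node (.leaf 0x100002) (.leaf 0x10001a)) (.node (.leaf 0x10000d) (.leaf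 0))) (.node (.node (.leaf 0x100008) (.leaf 0x22)) (.node (.leaf 0x14) (.leaf 0))))) (.node (.node (.node (.node (.leaf 0x1) (.leaf 0x100019)) (.node (.leaf 0xc) (.leaf 0))) (.node (.node (.leaf 0x100006) (.leaf 0x20)) (.node (.leaf 0x100012) (.leaf 0)))) (.node (.node (.node (.leaf 0x100003) (.leaf 0x10001c)) (.node (.leaf 0xf) (.leaf 0))) (.node (.node (.leaf 0x100009) (.leaf 0x27)) (.node (.leaf 0x100016) (.leaf 0)))))))

/-- a tree -/
def tau1L0tree : Trie :=
  tau1L0tree0

/-- part of transversal words -/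
def tau1L0word0 : Trie :=
  (.node (.node (.node (.node (.node (.node (.leaf 0x0) (.leaf 0x49148596cb321)) (.node (.leaf 0x3) (.leaf 0x9b4da6cb6642db))) (.node (.node (.leaf 0x69b2db) (.leaf 0x245135216cb2db)) (.node (.leaf 0x9148596cb321) (.leaf 0)))) (.node (.node (.node (.leaf 0xdb521) (.leaf 0x6a42db)) (.node (.leaf 0x12432165b2db) (.leaf 0))) (.node (.node (.leaf 0x9b2db) (.leaf 0x122b13699964b25)) (.node (.leaf 0x489b2db) (.leaf 0))))) (.node (.node (.node (.node (.leaf 0x24521) (.leaf 0x6da90b)) (.node (.leaf 0x1229148642db) (.leaf 0))) (.node (.node (.leaf 0x1b) (.leaf 0x145144cb6cc859)) (.node (.leaf 0x36a42db) (.leaf 0)))) (.node (.node (.node (.leaf 0xdb) (.leaf 0x85b2d96cc)) (.node (.leaf 0xcc864321) (.leaf 0))) (.node (.node (.leaf 0x6cc864321) (.leaf 0x243216642db)) (.node (.leaf 0x1a6d485b2db) (.leaf 0)))))) (.node (.node (.node (.node (.node (.leaf 0x4) (.leaf 0x22b13699964b25)) (.node (.leaf 0x1b6a42db) (.leaf 0x89b4da6cb6642db))) (.node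 (.node (.leaf 0x490c864321) (.leaf 0x91489a6cc85b2db)) (.node (.leaf 0x12290b) (.leaf 0)))) (.node (.node (.node (.leaf 0x90c864321) (.leaf 0x1229136642db)) (.node (.leaf 0x9b2d96cc321) (.leaf 0))) (.node (.node (.leaf 0x2432165b2db) (.leaf 0xda90b)) (.node (.leaf 0x1b32165b2db) (.leaf 0))))) (.node (.node (.node (.node (.leaf 0x24) (.leaf 0x486432190b)) (.node (.leaf 0x89b2db) (.leaf 0))) (.node (.node (.leaf 0x48a42db) (.leaf 0x6d48596cb321)) (.node (.leaf 0x5b2d96cc) (.leaf 0)))) (.node (.node (.node (.leaf 0x914864) (.leaf 0x12291485b2db)) (.node (.leaf 0x16cb321) (.leaf 0))) (.node (.node (.leaf 0x196cb321) (.leaf 0x92291485b2db)) (.node (.leaf 0x48a42cc864321) (.leaf 0)))))))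

/-- transversal words -/
def tau1L0word : Trie :=
  tau1L0word0

/-- part of closing hints -/
def tau1L0close0 : Trie :=
  (.node (.node (.node (.node (.node (.node (.node (.leaf 0x1) (.leaf 0x2b)) (.node (.leaf 0x0) (.leaf 0x31))) (.node (.node (.leaf 0xc) (.leaf 0x2000020012)) (.node (.leaf 0x20) (.leaf 0)))) (.node (.node (.node (.leaf 0x300301f005) (.leaf 0x4003003028)) (.node (.leaf 0x1d) (.leaf 0))) (.node (.node (.leaf 0x13) (.leaf 0x1004001022008)) (.node (.leaf 0x3004002021) (.leaf 0))))) (.node (.node (.node (.node (.leaf 0x4) (.leaf 0x2d)) (.node (.leaf 0x400001e00b) (.leaf 0))) (.node (.node (.leaf 0x10) (.leaf 0x200501101f)) (.node (.leaf 0x24) (.leaf 0)))) (.node (.node (.node (.leaf 0xa) (.leaf 0x3023)) (.node (.leaf 0x1b002) (.leaf 0))) (.node (.node (.leaf 0x16) (.leaf 0x200f)) (.node (.leaf 0x4028025) (.leaf 0)))))) (.node (.node (.node (.node (.node (.leaf 0x3) (.leaf 0x2c)) (.node (.leaf 0x1a) (.leaf 0x1030))) (.node (.node (.leaf 0xe)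 (.leaf 0x100200402001e)) (.node (.leaf 0x22) (.leaf 0)))) (.node (.node (.node (.leaf 0x9) (.leaf 0x4005003029)) (.node (.leaf 0x100200000d) (.leaf 0))) (.node (.node (.leaf 0x14) (.leaf 0x1005002019)) (.node (.leaf 0x1001004027027) (.leaf 0))))) (.node (.node (.node (.node (.leaf 0x6) (.leaf 0x200500501b)) (.node (.leaf 0x1c) (.leaf 0))) (.node (.node (.leaf 0x11) (.leaf 0x100000200002e)) (.node (.leaf 0x26) (.leaf 0)))) (.node (.node (.node (.leaf 0x400501a007) (.leaf 0x2f)) (.node (.leaf 0x1003026018) (.leaf 0))) (.node (.node (.leaf 0x17) (.leaf 0x3003002015)) (.node (.leaf 0x2a) (.leaf 0))))))) (.node (.node (.node (.node (.node (.node (.leaf 0x2) (.leaf 0x1601a)) (.node (.leaf 0x19) (.leaf 0x400300301d))) (.node (.node (.leaf 0xd) (.leaf 0x200102001c)) (.node (.leaf 0x21) (.leaf 0)))) (.node (.node (.node (.leaf 0x8) (.leaf 0x2e)) (.node (.leaf 0x1e) (.leaf 0))) (.node (.node (.leaf 0x10) (.leaf 0x100300500402b)) (.node (.leaf 0x27) (.leaf 0)))))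 (.node (.node (.node (.node (.leaf 0x5) (.leaf 0x300c006)) (.node (.leaf 0x1b) (.leaf 0))) (.node (.node (.leaf 0x200101000a) (.leaf 0x100000401d009)) (.node (.leaf 0x25) (.leaf 0)))) (.node (.node (.node (.leaf 0xb) (.leaf 0x1000000007014)) (.node (.leaf 0x1f) (.leaf 0))) (.node (.node (.leaf 0x400400800e) (.leaf 0x100300100f017)) (.node (.leaf 0x29) (.leaf 0)))))) (.node (.node (.node (.node (.node (.leaf 0x1001005016001) (.leaf 0x400400802a)) (.node (.leaf 0x1003002015004) (.leaf 0x1003004027031))) (.node (.node (.leaf 0xf) (.leaf 0x100200200502f)) (.node (.leaf 0x23) (.leaf 0)))) (.node (.node (.node (.leaf 0x5008003) (.leaf 0x100200100b02c)) (.node (.leaf 0x100100100c011) (.leaf 0))) (.node (.node (.leaf 0x15) (.leaf 0x501602d)) (.node (.leaf 0x28) (.leaf 0))))) (.node (.node (.node (.node (.leaf 0x7) (.leaf 0x4004026013)) (.node (.leaf 0x100100101800c) (.leaf 0))) (.node (.node (.leaf 0x12) (.leaf 0x100300401b020)) (.node (.leaf 0x2001010022) (.leaf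 0)))) (.node (.node (.node (.leaf 0x1003002003000) (.leaf 0x30)) (.node (.leaf 0x300301f016) (.leaf 0))) (.node (.node (.leaf 0x18) (.leaf 0x1001001022026)) (.node (.leaf 0x400100e024) (.leaf 0))))))))

/-- closing hints -/
def tau1L0close : Trie :=
  tau1L0close0

/-- a level -/
def tau1L0 : SLev := ⟨4, [4, 0x24521], tau1L0tree, tau1L0word, 50, tau1L0close, [(49, 0), (46, 0)]⟩

/-- part of a tree -/
def tau1L1tree0 : Trie :=
  (.node (.node (.node (.node (.node (.node (.leaf 0x0) (.leaf 0x100015)) (.node (.leaf 0x100008) (.leaf 0))) (.node (.node (.leaf 0x4) (.leaf 0x100020)) (.node (.leaf 0xe) (.leaf 0)))) (.node (.node (.node (.leaf 0x100001) (.leaf 0x1a)) (.node (.leaf 0xb) (.leaf 0))) (.node (.node (.leaf 0x100006) (.leaf 0)) (.node (.leaf 0x12) (.leaf 0))))) (.node (.node (.node (.node (.leaf 0x100000) (.leaf 0x18)) (.node (.leaf 0x100009) (.leaf 0))) (.node (.node (.leaf 0x5) (.leaf 0)) (.node (.leaf 0x10000f) (.leaf 0)))) (.node (.node (.node (.leaf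 0x100002) (.leaf 0x10001e)) (.node (.leaf 0x10000c) (.leaf 0))) (.node (.node (.leaf 0x100007) (.leaf 0)) (.node (.leaf 0x14) (.leaf 0)))))) (.node (.node (.node (.node (.node (.leaf 0x0) (.leaf 0x16)) (.node (.leaf 0x9) (.leaf 0))) (.node (.node (.leaf 0x100004) (.leaf 0x100021)) (.node (.leaf 0x10000e) (.leaf 0)))) (.node (.node (.node (.leaf 0x2) (.leaf 0x10001a)) (.node (.leaf 0x10000b) (.leaf 0))) (.node (.node (.leaf 0x7) (.leaf 0)) (.node (.leaf 0x100012) (.leaf 0))))) (.node (.node (.node (.node (.leaf 0x1) (.leaf 0x100019)) (.node (.leaf 0x10000a) (.leaf 0))) (.node (.node (.leaf 0x100005) (.leaf 0)) (.node (.leaf 0x100010) (.leaf 0)))) (.node (.node (.node (.leaf 0x100003) (.leaf 0x20)) (.node (.leaf 0x10000d) (.leaf 0))) (.node (.node (.leaf 0x8) (.leaf 0)) (.node (.leaf 0x100014) (.leaf 0)))))))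

/-- a tree -/
def tau1L1tree : Trie :=
  tau1L1tree0

/-- part of transversal words -/
def tau1L1word0 : Trie :=
  (.node (.node (.node (.node (.node (.node (.leaf 0x0) (.leaf 0x9a91352c964b25)) (.node (.leaf 0x351369b30b664) (.leaf 0))) (.node (.node (.leaf 0x228a275badd6ea) (.leaf 0x44cc861659)) (.node (.leaf 0x289b30c861659) (.leaf 0)))) (.node (.node (.node (.leaf 0x1351369a6cc861659) (.leaf 0xd352289b30b659)) (.node (.leaf 0x135228a486430c864) (.leaf 0))) (.node (.node (.leaf 0x6a48642d9659) (.leaf 0)) (.node (.leaf 0x9a89b50b65990b) (.leaf 0))))) (.node (.node (.node (.node (.leaf 0x4d330c861861) (.leaf 0x9a9134d985b30b)) (.node (.leaf 0x1228a44da6cc2cb65b) (.leaf 0))) (.node (.node (.leaf 0x489a6a26cb65b661) (.leaf 0)) (.node (.leaf 0xa29149132cc30b) (.leaf 0)))) (.node (.node (.node (.leaf 0x5145216cb6cc) (.leaf 0x4dd6eb7596cc85d)) (.node (.leaf 0x4d32cb659861) (.leaf 0))) (.node (.node (.leaf 0x4d352452185b321) (.leaf 0)) (.node (.leaf 0x9badd6eb30b665)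 (.leaf 0)))))) (.node (.node (.node (.node (.node (.leaf 0x4add69b65d6ec) (.leaf 0x12592c96290c329)) (.node (.leaf 0x132d9859664) (.leaf 0))) (.node (.node (.leaf 0x1452bad332cb25764) (.leaf 0xa452269b2cc861)) (.node (.leaf 0x36a28a48a1859664) (.leaf 0)))) (.node (.node (.node (.leaf 0x489b4da69986430c) (.leaf 0x1142cb65b661)) (.node (.leaf 0x34eb6acadd74c959) (.leaf 0))) (.node (.node (.leaf 0xa45226d4861859) (.leaf 0)) (.node (.leaf 0x26a48a452166185b) (.leaf 0))))) (.node (.node (.node (.node (.leaf 0x3b2589b66592b) (.leaf 0x34d369a86190c85b)) (.node (.leaf 0x1134d34d9661864) (.leaf 0))) (.node (.node (.leaf 0x1a6ccadd6eb764) (.leaf 0)) (.node (.leaf 0x4da6d4864321) (.leaf 0)))) (.node (.node (.node (.leaf 0x9a69b4eb75badd) (.leaf 0x6a26d350c85b2cb)) (.node (.leaf 0x4d489b4cc85990c) (.leaf 0))) (.node (.node (.leaf 0xa26a42d96cc) (.leaf 0)) (.node (.leaf 0xda6da6d9864) (.leaf 0)))))))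

/-- transversal words -/
def tau1L1word : Trie :=
  tau1L1word0

/-- part of closing hints -/
def tau1L1close0 : Trie :=
  (.node (.node (.node (.node (.node (.node (.node (.leaf 0x1) (.leaf 0x27)) (.node (.leaf 0x200301a) (.leaf 0))) (.node (.node (.leaf 0xf) (.leaf 0x2016)) (.node (.leaf 0x22) (.leaf 0)))) (.node (.node (.node (.leaf 0x8) (.leaf 0x4004010)) (.node (.leaf 0x1e) (.leaf 0))) (.node (.node (.leaf 0x1001000013) (.leaf 0)) (.node (.leaf 0x400301f) (.leaf 0))))) (.node (.node (.node (.node (.leaf 0x5) (.leaf 0xe)) (.node (.leaf 0x1c) (.leaf 0))) (.node (.node (.leaf 0x2) (.leaf 0)) (.node (.leaf 0x24) (.leaf 0)))) (.node (.node (.node (.leaf 0x1004002006) (.leaf 0x3029)) (.node (.leaf 0x21) (.leaf 0))) (.node (.node (.leaf 0x18) (.leaf 0)) (.node (.leaf 0xb) (.leaf 0)))))) (.node (.node (.node (.node (.node (.leaf 0x3) (.leaf 0x2028)) (.node (.leaf 0x100100501b) (.leaf 0))) (.node (.node (.leaf 0x11) (.leaf 0x3003023)) (.node (.leaf 0x1000005020)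 (.leaf 0)))) (.node (.node (.node (.leaf 0xa) (.leaf 0x1003002025)) (.node (.leaf 0x1007) (.leaf 0))) (.node (.node (.leaf 0x1004002015) (.leaf 0)) (.node (.leaf 0x100300000c) (.leaf 0))))) (.node (.node (.node (.node (.leaf 0x0) (.leaf 0x3000026)) (.node (.leaf 0x100001d) (.leaf 0))) (.node (.node (.leaf 0x14) (.leaf 0)) (.node (.leaf 0x1001005009) (.leaf 0)))) (.node (.node (.node (.leaf 0xd) (.leaf 0x3004019)) (.node (.leaf 0x1002005017) (.leaf 0))) (.node (.node (.leaf 0x4) (.leaf 0)) (.node (.leaf 0x1004005012) (.leaf 0))))))) (.node (.node (.node (.node (.node (.node (.leaf 0x2) (.leaf 0x28)) (.node (.leaf 0x1b) (.leaf 0))) (.node (.node (.leaf 0x10) (.leaf 0x5)) (.node (.leaf 0x4018) (.leaf 0)))) (.node (.node (.node (.leaf 0x9) (.leaf 0x3000024)) (.node (.leaf 0x1f) (.leaf 0))) (.node (.node (.leaf 0x16) (.leaf 0)) (.node (.leaf 0x1002002014) (.leaf 0))))) (.node (.node (.node (.node (.leaf 0x6) (.leaf 0x3000027)) (.node (.leaf 0x1d) (.leaf 0)))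 (.node (.node (.leaf 0x13) (.leaf 0)) (.node (.leaf 0x25) (.leaf 0)))) (.node (.node (.node (.leaf 0xc) (.leaf 0x100101c)) (.node (.leaf 0x0) (.leaf 0))) (.node (.node (.leaf 0x19) (.leaf 0)) (.node (.leaf 0x26) (.leaf 0)))))) (.node (.node (.node (.node (.node (.leaf 0x4) (.leaf 0x29)) (.node (.leaf 0x400400a) (.leaf 0))) (.node (.node (.leaf 0x12) (.leaf 0x3001008)) (.node (.leaf 0x23) (.leaf 0)))) (.node (.node (.node (.leaf 0xb) (.leaf 0x1002002022)) (.node (.leaf 0x20) (.leaf 0))) (.node (.node (.leaf 0x17) (.leaf 0)) (.node (.leaf 0x1) (.leaf 0))))) (.node (.node (.node (.node (.leaf 0x7) (.leaf 0x3)) (.node (.leaf 0x100200d) (.leaf 0))) (.node (.node (.leaf 0x15) (.leaf 0)) (.node (.leaf 0x4005021) (.leaf 0)))) (.node (.node (.node (.leaf 0xe) (.leaf 0x100200400f)) (.node (.leaf 0x3004011) (.leaf 0))) (.node (.node (.leaf 0x1a) (.leaf 0)) (.node (.leaf 0x400501e) (.leaf 0))))))))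

/-- closing hints -/
def tau1L1close : Trie :=
  tau1L1close0

/-- a level -/
def tau1L1 : SLev := ⟨6, [0x4add69b65d6ec, 0x4d330c861861], tau1L1tree, tau1L1word, 42, tau1L1close, [(21, 0), (40, 0)]⟩

/-- part of a tree -/
def tau1L2tree0 : Trie :=
  (.node (.node (.node (.leaf 0x0) (.leaf 0x3)) (.node (.leaf 0x100000) (.leaf 0))) (.node (.node (.leaf 0x0) (.leaf 0x4)) (.node (.leaf 0x100001) (.leaf 0))))

/-- a tree -/
def tau1L2tree : Trie :=
  tau1L2tree0

/-- part of transversal words -/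
def tau1L2word0 : Trie :=
  (.node (.node (.node (.leaf 0x0) (.leaf 0x1b52269b2db30c)) (.node (.leaf 0x89a9144cb6596cc) (.leaf 0))) (.node (.node (.leaf 0x9a9145216cc859) (.leaf 0x1136a291366430b664)) (.node (.leaf 0x5135226d96cb30c) (.leaf 0))))

/-- transversal words -/
def tau1L2word : Trie :=
  tau1L2word0

/-- part of closing hints -/
def tau1L2close0 : Trie :=
  (.node (.node (.node (.node (.leaf 0x1) (.leaf 0x5)) (.node (.leaf 0x1000) (.leaf 0))) (.node (.node (.leaf 0x1004002) (.leaf 0x3)) (.node (.leaf 0x4) (.leaf 0)))) (.node (.node (.node (.leaf 0x2) (.leaf 0x2004)) (.node (.leaf 0x0) (.leaf 0))) (.node (.node (.leaf 0x3) (.leaf 0x4005)) (.node (.leaf 0x1) (.leaf 0)))))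

/-- closing hints -/
def tau1L2close : Trie :=
  tau1L2close0

/-- a level -/
def tau1L2 : SLev := ⟨8, [0x9a9145216cc859, 0x89a9144cb6596cc], tau1L2tree, tau1L2word, 6, tau1L2close, [(2, 0), (4, 1)]⟩

/-- part of a tree -/
def tau1L3tree0 : Trie :=
  (.node (.node (.node (.leaf 0x0) (.leaf 0x2)) (.node (.leaf 0x100000) (.leaf 0))) (.node (.node (.leaf 0x0) (.leaf 0)) (.node (.leaf 0x1) (.leaf 0))))

/-- a tree -/
def tau1L3tree : Trie :=
  tau1L3tree0

/-- part of transversal words -/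
def tau1L3word0 : Trie :=
  (.node (.node (.node (.leaf 0x0) (.leaf 0x4dd92591495b75b)) (.node (.leaf 0x291369b66190b) (.leaf 0))) (.node (.node (.leaf 0x1a8a269986430c) (.leaf 0)) (.node (.leaf 0x5144d485b65b2cc) (.leaf 0))))

/-- transversal words -/
def tau1L3word : Trie :=
  tau1L3word0

/-- part of closing hints -/
def tau1L3close0 : Trie :=
  (.node (.node (.node (.node (.leaf 0x1) (.leaf 0x1000)) (.node (.leaf 0x4) (.leaf 0))) (.node (.node (.leaf 0x3) (.leaf 0)) (.node (.leaf 0x1002) (.leaf 0)))) (.node (.node (.node (.leaf 0x2) (.leaf 0x1004)) (.node (.leaf 0x0) (.leaf 0))) (.node (.node (.leaf 0x1003) (.leaf 0)) (.node (.leaf 0x1001) (.leaf 0)))))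

/-- closing hints -/
def tau1L3close : Trie :=
  tau1L3close0

/-- a level -/
def tau1L3 : SLev := ⟨9, [0x1a8a269986430c, 0x291369b66190b], tau1L3tree, tau1L3word, 5, tau1L3close, [(3, 0)]⟩

/-- part of a tree -/
def tau1L4tree0 : Trie :=
  (.node (.leaf 0x0) (.leaf 0x0))

/-- a tree -/
def tau1L4tree : Trie :=
  tau1L4tree0

/-- part of transversal words -/
def tau1L4word0 : Trie :=
  (.node (.leaf 0x0) (.leaf 0x659659))

/-- transversal words -/
def tau1L4word : Trie :=
  tau1L4word0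

/-- part of closing hints -/
def tau1L4close0 : Trie :=
  (.node (.leaf 0x1) (.leaf 0x0))

/-- closing hints -/
def tau1L4close : Trie :=
  tau1L4close0

/-- a level -/
def tau1L4 : SLev := ⟨7, [0x659659], tau1L4tree, tau1L4word, 2, tau1L4close, []⟩

/-- a chain -/
def tau1 : List SLev := [tau1L0, tau1L1, tau1L2, tau1L3, tau1L4]

/-- a representative -/
def r1 : RepD := ⟨1, 0, 1, 2, 1, tau1, [1, 2], [0x1003002025019, 0x1011007]⟩

/-- part of a tree -/
def tau2L0tree0 : Trie :=
  (.node (.node (.node (.node (.node (.node (.leaf 0x0) (.leaf 0x17)) (.node (.leaf 0xa) (.leaf 0x10002b))) (.node (.node (.leaf 0x5) (.leaf 0x1d)) (.node (.leaf 0x10000e) (.leaf 0)))) (.node (.node (.node (.leaf 0x100001) (.leaf 0x10001a)) (.node (.leaf 0x10000c) (.leaf 0))) (.node (.node (.leaf 0x7) (.leaf 0x100020)) (.node (.leaf 0x14) (.leaf 0))))) (.node (.node (.node (.node (.leaf 0x100000) (.leaf 0x19)) (.node (.leaf 0x10000b) (.leaf 0))) (.node (.node (.leaf 0x6) (.leaf 0x1e))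 (.node (.leaf 0x100010) (.leaf 0)))) (.node (.node (.node (.leaf 0x100003) (.leaf 0x1c)) (.node (.leaf 0x10000d) (.leaf 0))) (.node (.node (.leaf 0x9) (.leaf 0x26)) (.node (.leaf 0x15) (.leaf 0)))))) (.node (.node (.node (.node (.node (.leaf 0x0) (.leaf 0x100018)) (.node (.leaf 0x10000a) (.leaf 0x10002f))) (.node (.node (.leaf 0x100005) (.leaf 0x10001d)) (.node (.leaf 0x10) (.leaf 0)))) (.node (.node (.node (.leaf 0x100002) (.leaf 0x1b)) (.node (.leaf 0xd) (.leaf 0))) (.node (.node (.leaf 0x100007) (.leaf 0x100024)) (.node (.leaf 0x100014) (.leaf 0))))) (.node (.node (.node (.node (.leaf 0x1) (.leaf 0x100019)) (.node (.leaf 0xc) (.leaf 0))) (.node (.node (.leaf 0x100006) (.leaf 0x10001e)) (.node (.leaf 0x12) (.leaf 0)))) (.node (.node (.node (.leaf 0x4) (.leaf 0x10001c)) (.node (.leaf 0xe) (.leaf 0))) (.node (.node (.leaf 0x100009) (.leaf 0x29)) (.node (.leaf 0x100016) (.leaf 0)))))))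

/-- a tree -/
def tau2L0tree : Trie :=
  tau2L0tree0

/-- part of transversal words -/
def tau2L0word0 : Trie :=
  (.node (.node (.node (.node (.node (.node (.leaf 0x0) (.leaf 0x5b2d96cc)) (.node (.leaf 0x9148596cb321) (.leaf 0xda90b))) (.node (.node (.leaf 0x914864) (.leaf 0x245135216cb2db)) (.node (.leaf 0x1b6a42db) (.leaf 0)))) (.node (.node (.node (.leaf 0xdb521) (.leaf 0x6d48596cb321)) (.node (.leaf 0x12432165b2db) (.leaf 0))) (.node (.node (.leaf 0x2432165b2db) (.leaf 0x85b2d96cc)) (.node (.leaf 0x1a6d485b2db) (.leaf 0))))) (.node (.node (.node (.node (.leaf 0x4) (.leaf 0x9b30c864321)) (.node (.leaf 0xcc864321) (.leaf 0))) (.node (.node (.leaf 0x196cb321) (.leaf 0x486432190b)) (.node (.leaf 0x49148596cb321) (.leaf 0)))) (.node (.node (.node (.leaf 0x490c864321) (.leaf 0x91489a6cc85b2db)) (.node (.leaf 0x89b2db) (.leaf 0))) (.node (.node (.leaf 0x48a42db) (.leaf 0xaeb69b52b65b74c)) (.node (.leaf 0x12290b) (.leaf 0)))))) (.node (.node (.node (.node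 (.node (.leaf 0x24521) (.leaf 0x36a42db)) (.node (.leaf 0x16cb321) (.leaf 0xa269b4cb2db2d9))) (.node (.node (.leaf 0xdb) (.leaf 0x332165b2db)) (.node (.leaf 0x22b13699964b25) (.leaf 0)))) (.node (.node (.node (.leaf 0x24) (.leaf 0x1455d764b2b6eb)) (.node (.leaf 0x3) (.leaf 0))) (.node (.node (.leaf 0x9b2db) (.leaf 0xd48596cb321)) (.node (.leaf 0x1b32165b2db) (.leaf 0))))) (.node (.node (.node (.node (.leaf 0x90c864321) (.leaf 0x122b13699964b25)) (.node (.leaf 0x9b2d96cc321) (.leaf 0))) (.node (.node (.leaf 0x6cc864321) (.leaf 0x6da90b)) (.node (.leaf 0x48a42cc864321) (.leaf 0)))) (.node (.node (.node (.leaf 0x69b2db) (.leaf 0x26d485b2db)) (.node (.leaf 0x1229148642db) (.leaf 0))) (.node (.node (.leaf 0x1b) (.leaf 0x12291352165b2db)) (.node (.leaf 0x489b2db) (.leaf 0)))))))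

/-- transversal words -/
def tau2L0word : Trie :=
  tau2L0word0

/-- part of closing hints -/
def tau2L0close0 : Trie :=
  (.node (.node (.node (.node (.node (.node (.node (.leaf 0x1) (.leaf 0x100400500202b)) (.node (.leaf 0x19) (.leaf 0x1004003019030))) (.node (.node (.leaf 0x3000017000) (.leaf 0x100100200501f)) (.node (.leaf 0x14004) (.leaf 0)))) (.node (.node (.node (.leaf 0x7) (.leaf 0x100300f01a)) (.node (.leaf 0x1c) (.leaf 0))) (.node (.node (.leaf 0x13) (.leaf 0x3001004014)) (.node (.leaf 0x26) (.leaf 0))))) (.node (.node (.node (.node (.leaf 0x1003003019002) (.leaf 0x6)) (.node (.leaf 0x1b) (.leaf 0))) (.node (.node (.leaf 0x10) (.leaf 0x1002003008016)) (.node (.leaf 0x2019021) (.leaf 0)))) (.node (.node (.node (.leaf 0xa) (.leaf 0x2e)) (.node (.leaf 0x300d) (.leaf 0))) (.node (.node (.leaf 0x17) (.leaf 0x200400502c)) (.node (.leaf 0x2a) (.leaf 0)))))) (.node (.node (.node (.node (.node (.leaf 0x3) (.leaf 0x1002003020027)) (.node (.leaf 0x100000300c012)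 (.leaf 0x100200001a031))) (.node (.node (.leaf 0xe) (.leaf 0x2f)) (.node (.leaf 0x22) (.leaf 0)))) (.node (.node (.node (.leaf 0x8) (.leaf 0x100200201102d)) (.node (.leaf 0x1e) (.leaf 0))) (.node (.node (.leaf 0x15) (.leaf 0x1003003015011)) (.node (.leaf 0x28) (.leaf 0))))) (.node (.node (.node (.node (.leaf 0x1001001010005) (.leaf 0x1004003013024)) (.node (.leaf 0x1018) (.leaf 0))) (.node (.node (.leaf 0x100000001000b) (.leaf 0x1003005001009)) (.node (.leaf 0x25) (.leaf 0)))) (.node (.node (.node (.leaf 0xc) (.leaf 0x4005021023)) (.node (.leaf 0x20) (.leaf 0))) (.node (.node (.leaf 0x100400500200f) (.leaf 0x200002201d)) (.node (.leaf 0x1003005025029) (.leaf 0))))))) (.node (.node (.node (.node (.node (.node (.leaf 0x2) (.leaf 0x2c)) (.node (.leaf 0x1a) (.leaf 0x100300002101e))) (.node (.node (.leaf 0x201a008) (.leaf 0x2004005017)) (.node (.leaf 0x21) (.leaf 0)))) (.node (.node (.node (.leaf 0x100000300c003) (.leaf 0x2d)) (.node (.leaf 0x1d) (.leaf 0)))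 (.node (.node (.leaf 0x14) (.leaf 0x301702a)) (.node (.leaf 0x27) (.leaf 0))))) (.node (.node (.node (.node (.leaf 0x5) (.leaf 0x100100202101b)) (.node (.leaf 0x100100f001) (.leaf 0))) (.node (.node (.leaf 0x11) (.leaf 0x200001e020)) (.node (.leaf 0x24) (.leaf 0)))) (.node (.node (.node (.leaf 0xb) (.leaf 0x100300300501c)) (.node (.leaf 0x1f) (.leaf 0))) (.node (.node (.leaf 0x18) (.leaf 0x2013)) (.node (.leaf 0x2b) (.leaf 0)))))) (.node (.node (.node (.node (.node (.leaf 0x4) (.leaf 0x2002011025)) (.node (.leaf 0x2005008010) (.leaf 0x101a02f))) (.node (.node (.leaf 0xf) (.leaf 0x100200402802e)) (.node (.leaf 0x23) (.leaf 0)))) (.node (.node (.node (.leaf 0x9) (.leaf 0x100200d028)) (.node (.leaf 0x0) (.leaf 0))) (.node (.node (.leaf 0x16) (.leaf 0x100300402100a)) (.node (.leaf 0x29) (.leaf 0))))) (.node (.node (.node (.node (.leaf 0x6) (.leaf 0x200401c007)) (.node (.leaf 0x100200100000c) (.leaf 0))) (.node (.node (.leaf 0x12) (.leaf 0x30)) (.node (.leaf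 0x301b022) (.leaf 0)))) (.node (.node (.node (.leaf 0xd) (.leaf 0x1000003018026)) (.node (.leaf 0x100100200900e) (.leaf 0))) (.node (.node (.leaf 0x15) (.leaf 0x31)) (.node (.leaf 0x4005021019) (.leaf 0))))))))

/-- closing hints -/
def tau2L0close : Trie :=
  tau2L0close0

/-- a level -/
def tau2L0 : SLev := ⟨4, [0x24521, 4], tau2L0tree, tau2L0word, 50, tau2L0close, [(19, 0), (46, 1), (22, 0)]⟩

/-- part of a tree -/
def tau2L1tree0 : Trie :=
  (.node (.node (.node (.node (.node (.node (.leaf 0x0) (.leaf 0x13)) (.node (.leaf 0x100006) (.leaf 0))) (.node (.node (.leaf 0x100002) (.leaf 0x18)) (.node (.leaf 0x10000c) (.leaf 0)))) (.node (.node (.node (.leaf 0x1) (.leaf 0x15)) (.node (.leaf 0xa) (.leaf 0))) (.node (.node (.leaf 0x5) (.leaf 0)) (.node (.leaf 0x20000e) (.leaf 0))))) (.node (.node (.node (.node (.leaf 0x100000) (.leaf 0x200013)) (.node (.leaf 0x8) (.leaf 0))) (.node (.node (.leaf 0x4) (.leaf 0)) (.node (.leaf 0xe) (.leaf 0)))) (.node (.node (.node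 (.leaf 0x200001) (.leaf 0x100016)) (.node (.leaf 0x20000b) (.leaf 0))) (.node (.node (.leaf 0x200005) (.leaf 0)) (.node (.leaf 0x200010) (.leaf 0)))))) (.node (.node (.node (.node (.node (.leaf 0x0) (.leaf 0x100013)) (.node (.leaf 0x200007) (.leaf 0))) (.node (.node (.leaf 0x100003) (.leaf 0x1a)) (.node (.leaf 0xd) (.leaf 0)))) (.node (.node (.node (.leaf 0x100001) (.leaf 0x100015)) (.node (.leaf 0x10000a) (.leaf 0))) (.node (.node (.leaf 0x100005) (.leaf 0)) (.node (.leaf 0x100010) (.leaf 0))))) (.node (.node (.node (.node (.leaf 0x200000) (.leaf 0x200014)) (.node (.leaf 0x100009) (.leaf 0))) (.node (.node (.leaf 0x100004) (.leaf 0)) (.node (.leaf 0x10000e) (.leaf 0)))) (.node (.node (.node (.leaf 0x2) (.leaf 0x200016)) (.node (.leaf 0xc) (.leaf 0))) (.node (.node (.leaf 0x6) (.leaf 0)) (.node (.leaf 0x200011) (.leaf 0)))))))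

/-- a tree -/
def tau2L1tree : Trie :=
  tau2L1tree0

/-- part of transversal words -/
def tau2L1word0 : Trie :=
  (.node (.node (.node (.node (.node (.node (.leaf 0x0) (.leaf 0x289a6a42cc861)) (.node (.leaf 0x48a451369b2cb30c) (.leaf 0))) (.node (.node (.leaf 0x4d369b66185b) (.leaf 0x8a269a6616cb6cc)) (.node (.leaf 0x1a6cb30c861) (.leaf 0)))) (.node (.node (.node (.leaf 0x5226d365b321) (.leaf 0x9d92c96265975b321)) (.node (.leaf 0xb6642d9) (.leaf 0))) (.node (.node (.leaf 0x8abada92b75d92b) (.leaf 0)) (.node (.leaf 0x256d596592b764) (.leaf 0))))) (.node (.node (.node (.node (.leaf 0xec56489b2e96dd861) (.leaf 0xa289b2cc85b)) (.node (.leaf 0xdb4db2db) (.leaf 0))) (.node (.node (.leaf 0x4da9148642d9) (.leaf 0)) (.node (.leaf 0x9148616cb2cc) (.leaf 0)))) (.node (.node (.node (.leaf 0x44da69b66185b) (.leaf 0xb32190b)) (.node (.leaf 0x13b2b75d65b65d759) (.leaf 0))) (.node (.node (.leaf 0x4da6d44db2cc30b) (.leaf 0)) (.node (.leaf 0x6a486185b659) (.leaf 0))))))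 (.node (.node (.node (.node (.node (.leaf 0xc85b321) (.leaf 0x48a2914861864)) (.node (.leaf 0x7656ebacb6cbaeb) (.leaf 0))) (.node (.node (.leaf 0x52269b4db2cb2cc) (.leaf 0xa26da6cb30c)) (.node (.leaf 0x9132cb6cc861) (.leaf 0)))) (.node (.node (.node (.leaf 0x256abadd85d6e9765) (.leaf 0x8a489a6a16cb30c)) (.node (.leaf 0x2762b132ebae992b) (.leaf 0))) (.node (.node (.leaf 0x2290c30c2cb) (.leaf 0)) (.node (.leaf 0x289b5148616d96cc) (.leaf 0))))) (.node (.node (.node (.node (.leaf 0x1a6a489b2cc85b) (.leaf 0x289b4d990b6cb)) (.node (.leaf 0x6a42d990c861) (.leaf 0))) (.node (.node (.leaf 0x9b5258a285d6eb761) (.leaf 0)) (.node (.leaf 0x4d48a44cb6642d9) (.leaf 0)))) (.node (.node (.node (.leaf 0x229134da90b65990c) (.leaf 0x4da89d6ec8a4add)) (.node (.leaf 0x289a6a594b76595d) (.leaf 0))) (.node (.node (.leaf 0xa451452290c30b2cb) (.leaf 0)) (.node (.leaf 0x45148a26596cb664) (.leaf 0)))))))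

/-- transversal words -/
def tau2L1word : Trie :=
  tau2L1word0

/-- part of closing hints -/
def tau2L1close0 : Trie :=
  (.node (.node (.node (.node (.node (.node (.node (.leaf 0x1) (.leaf 0x25)) (.node (.leaf 0x2001015) (.leaf 0x4004027))) (.node (.node (.leaf 0xd) (.leaf 0x1004024)) (.node (.leaf 0x1003000002) (.leaf 0x100400500a)))) (.node (.node (.node (.leaf 0x1002001002) (.leaf 0x28)) (.node (.leaf 0x1004000006) (.leaf 0x200200c))) (.node (.node (.leaf 0x12) (.leaf 0x1000001)) (.node (.leaf 0x200101a) (.leaf 0x100300501e))))) (.node (.node (.node (.node (.leaf 0x5) (.leaf 0x27)) (.node (.leaf 0x17) (.leaf 0x2005020))) (.node (.node (.leaf 0x1003005009) (.leaf 0x1000004026)) (.node (.leaf 0x1003019) (.leaf 0x2000019)))) (.node (.node (.node (.leaf 0xa) (.leaf 0x1004005028)) (.node (.leaf 0x1c) (.leaf 0x1004005018))) (.node (.node (.leaf 0x13) (.leaf 0x2029)) (.node (.leaf 0x0) (.leaf 0x4001003)))))) (.node (.node (.node (.node (.node (.leaf 0x3)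 (.leaf 0x300001c)) (.node (.leaf 0x100300f) (.leaf 0x100100100a))) (.node (.node (.leaf 0xf) (.leaf 0x100401a)) (.node (.leaf 0x1e) (.leaf 0x1004000022)))) (.node (.node (.node (.leaf 0x9) (.leaf 0x1002002018)) (.node (.leaf 0x1a) (.leaf 0x100400501f))) (.node (.node (.leaf 0x1002004000) (.leaf 0x2000015)) (.node (.leaf 0x21) (.leaf 0x300f))))) (.node (.node (.node (.node (.leaf 0x7) (.leaf 0x1003005014)) (.node (.leaf 0x4013) (.leaf 0x501d))) (.node (.node (.leaf 0x100400500c) (.leaf 0x5)) (.node (.leaf 0x3011) (.leaf 0x4023)))) (.node (.node (.node (.leaf 0x1002005004) (.leaf 0x29)) (.node (.leaf 0x1001005004) (.leaf 0x1000012))) (.node (.node (.leaf 0x14) (.leaf 0x100000000e)) (.node (.leaf 0x23) (.leaf 0))))))) (.node (.node (.node (.node (.node (.node (.leaf 0x2) (.leaf 0x1000005020)) (.node (.leaf 0x1003005005) (.leaf 0x2000029))) (.node (.node (.leaf 0xe) (.leaf 0x100200001f)) (.node (.leaf 0x1d) (.leaf 0x4000026)))) (.node (.node (.node (.leaf 0x2005003)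 (.leaf 0x3022)) (.node (.leaf 0x1002001014) (.leaf 0x1000023))) (.node (.node (.leaf 0x5011) (.leaf 0x3004021)) (.node (.leaf 0x20) (.leaf 0x1004005000))))) (.node (.node (.node (.node (.leaf 0x6) (.leaf 0x1004005025)) (.node (.leaf 0x18) (.leaf 0x1004017))) (.node (.node (.leaf 0x4003006) (.leaf 0x100100301e)) (.node (.leaf 0x1f) (.leaf 0x100300101b)))) (.node (.node (.node (.leaf 0xb) (.leaf 0x1000025)) (.node (.leaf 0x3003010) (.leaf 0x1003005012))) (.node (.node (.leaf 0x1003005001) (.leaf 0x1001000013)) (.node (.leaf 0x100200401c) (.leaf 0x2010)))))) (.node (.node (.node (.node (.node (.leaf 0x4) (.leaf 0x26)) (.node (.leaf 0x16) (.leaf 0x1004005009))) (.node (.node (.leaf 0x10) (.leaf 0x2000028)) (.node (.leaf 0x100100d) (.leaf 0x4003007)))) (.node (.node (.node (.leaf 0x1002003008) (.leaf 0x1003005008)) (.node (.leaf 0x1b) (.leaf 0x100100400d))) (.node (.node (.leaf 0x400400e) (.leaf 0x24)) (.node (.leaf 0x22) (.leaf 0x3001021))))) (.node (.node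 (.node (.node (.leaf 0x8) (.leaf 0x100000401d)) (.node (.leaf 0x19) (.leaf 0x2000016))) (.node (.node (.leaf 0x11) (.leaf 0x1003001016)) (.node (.leaf 0x1003005017) (.leaf 0xb)))) (.node (.node (.node (.leaf 0xc) (.leaf 0x1027)) (.node (.leaf 0x200301b) (.leaf 0x200000b))) (.node (.node (.leaf 0x15) (.leaf 0x7)) (.node (.leaf 0x24) (.leaf 0))))))))

/-- closing hints -/
def tau2L1close : Trie :=
  tau2L1close0

/-- a level -/
def tau2L1 : SLev := ⟨6, [0xc85b321, 0xec56489b2e96dd861, 0x1a6a489b2cc85b], tau2L1tree, tau2L1word, 42, tau2L1close, [(26, 1), (41, 2), (32, 1)]⟩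

/-- part of a tree -/
def tau2L2tree0 : Trie :=
  (.node (.node (.node (.leaf 0x0) (.leaf 0x200002)) (.node (.leaf 0x100000) (.leaf 0))) (.node (.node (.leaf 0x0) (.leaf 0x100003)) (.node (.leaf 0x200001) (.leaf 0))))

/-- a tree -/
def tau2L2tree : Trie :=
  tau2L2tree0

/-- part of transversal words -/
def tau2L2word0 : Trie :=
  (.node (.node (.node (.leaf 0x0) (.leaf 0xd32cb65990b)) (.node (.leaf 0x1452289a66190c30c) (.leaf 0))) (.node (.node (.leaf 0x89a9144cb6596cc) (.leaf 0xa28a430b664)) (.node (.leaf 0x51491365990b) (.leaf 0))))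

/-- transversal words -/
def tau2L2word : Trie :=
  tau2L2word0

/-- part of closing hints -/
def tau2L2close0 : Trie :=
  (.node (.node (.node (.node (.node (.leaf 0x1) (.leaf 0x3)) (.node (.leaf 0x4) (.leaf 0))) (.node (.node (.leaf 0x1001001) (.leaf 0)) (.node (.leaf 0x1003) (.leaf 0)))) (.node (.node (.node (.leaf 0x2000) (.leaf 0)) (.node (.leaf 0x5) (.leaf 0))) (.node (.node (.leaf 0x1001002) (.leaf 0)) (.node (.leaf 0x2) (.leaf 0))))) (.node (.node (.node (.node (.leaf 0x2) (.leaf 0x1001005)) (.node (.leaf 0x1004004) (.leaf 0))) (.node (.node (.leaf 0x3) (.leaf 0)) (.node (.leaf 0x2004) (.leaf 0)))) (.node (.node (.node (.leaf 0x0) (.leaf 0)) (.node (.leaf 0x1) (.leaf 0))) (.node (.node (.leaf 0x0) (.leaf 0)) (.node (.leaf 0x1000005) (.leaf 0))))))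

/-- closing hints -/
def tau2L2close : Trie :=
  tau2L2close0

/-- a level -/
def tau2L2 : SLev := ⟨8, [0x89a9144cb6596cc, 0x1452289a66190c30c, 0x5132cc30b2cc], tau2L2tree, tau2L2word, 6, tau2L2close, [(4, 0), (0, 2)]⟩

/-- part of a tree -/
def tau2L3tree0 : Trie :=
  (.node (.node (.node (.leaf 0x0) (.leaf 0x2)) (.node (.leaf 0x100000) (.leaf 0))) (.node (.node (.leaf 0x0) (.leaf 0)) (.node (.leaf 0x1) (.leaf 0))))

/-- a tree -/
def tau2L3tree : Trie :=
  tau2L3tree0

/-- part of transversal words -/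
def tau2L3word0 : Trie :=
  (.node (.node (.node (.leaf 0x0) (.leaf 0x291369b66190b)) (.node (.leaf 0x5132cc30b2cc) (.leaf 0))) (.node (.node (.leaf 0x5144d485b65b2cc) (.leaf 0)) (.node (.leaf 0x1a69b2cc30b2cc) (.leaf 0))))

/-- transversal words -/
def tau2L3word : Trie :=
  tau2L3word0

/-- part of closing hints -/
def tau2L3close0 : Trie :=
  (.node (.node (.node (.node (.leaf 0x1) (.leaf 0x1000)) (.node (.leaf 0x4) (.leaf 0))) (.node (.node (.leaf 0x3) (.leaf 0)) (.node (.leaf 0x1002) (.leaf 0)))) (.node (.node (.node (.leaf 0x2) (.leaf 0x1004)) (.node (.leaf 0x0) (.leaf 0))) (.node (.node (.leaf 0x1003) (.leaf 0)) (.node (.leaf 0x1001) (.leaf 0)))))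

/-- closing hints -/
def tau2L3close : Trie :=
  tau2L3close0

/-- a level -/
def tau2L3 : SLev := ⟨9, [0x5144d485b65b2cc, 0x5132cc30b2cc], tau2L3tree, tau2L3word, 5, tau2L3close, [(3, 1)]⟩

/-- part of a tree -/
def tau2L4tree0 : Trie :=
  (.node (.leaf 0x0) (.leaf 0x0))

/-- a tree -/
def tau2L4tree : Trie :=
  tau2L4tree0

/-- part of transversal words -/
def tau2L4word0 : Trie :=
  (.node (.leaf 0x0) (.leaf 0x659659))

/-- transversal words -/
def tau2L4word : Trie :=
  tau2L4word0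

/-- part of closing hints -/
def tau2L4close0 : Trie :=
  (.node (.leaf 0x1) (.leaf 0x0))

/-- closing hints -/
def tau2L4close : Trie :=
  tau2L4close0

/-- a level -/
def tau2L4 : SLev := ⟨7, [0x659659], tau2L4tree, tau2L4word, 2, tau2L4close, []⟩

/-- a chain -/
def tau2 : List SLev := [tau2L0, tau2L1, tau2L2, tau2L3, tau2L4]

/-- a representative -/
def r2 : RepD := ⟨1, 1, 1, 9, 1, tau2, [2, 1], [0x1011007, 0x1003002025019]⟩

/-- part of a tree -/
def tau3L0tree0 : Trie :=
  (.node (.node (.node (.node (.node (.node (.leaf 0x0) (.leaf 0x18)) (.node (.leaf 0xa) (.leaf 0x100027))) (.node (.node (.leaf 0x100004) (.leaf 0x10001d)) (.node (.leaf 0x10000f) (.leaf 0)))) (.node (.node (.node (.leaf 0x2) (.leaf 0x1a)) (.node (.leaf 0xd) (.leaf 0))) (.node (.node (.leaf 0x8) (.leaf 0x21)) (.node (.leaf 0x13) (.leaf 0))))) (.node (.node (.node (.node (.leaf 0x100000) (.leaf 0x19)) (.node (.leaf 0x10000b) (.leaf 0))) (.node (.node (.leaf 0x6) (.leaf 0x1f)) (.node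 (.leaf 0x11) (.leaf 0)))) (.node (.node (.node (.leaf 0x3) (.leaf 0x1b)) (.node (.leaf 0xe) (.leaf 0))) (.node (.node (.leaf 0x9) (.leaf 0x100024)) (.node (.leaf 0x100014) (.leaf 0)))))) (.node (.node (.node (.node (.node (.leaf 0x0) (.leaf 0x100018)) (.node (.leaf 0xb) (.leaf 0x30))) (.node (.node (.leaf 0x5) (.leaf 0x10001e)) (.node (.leaf 0x100010) (.leaf 0)))) (.node (.node (.node (.leaf 0x100002) (.leaf 0x10001a)) (.node (.leaf 0x10000d) (.leaf 0))) (.node (.node (.leaf 0x100008) (.leaf 0x22)) (.node (.leaf 0x14) (.leaf 0))))) (.node (.node (.node (.node (.leaf 0x1) (.leaf 0x100019)) (.node (.leaf 0xc) (.leaf 0))) (.node (.node (.leaf 0x100006) (.leaf 0x20)) (.node (.leaf 0x100012) (.leaf 0)))) (.node (.node (.node (.leaf 0x100003) (.leaf 0x10001c)) (.node (.leaf 0xf) (.leaf 0))) (.node (.node (.leaf 0x100009) (.leaf 0x27)) (.node (.leaf 0x100016) (.leaf 0)))))))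

/-- a tree -/
def tau3L0tree : Trie :=
  tau3L0tree0

/-- part of transversal words -/
def tau3L0word0 : Trie :=
  (.node (.node (.node (.node (.node (.node (.leaf 0x0) (.leaf 0x49148596cb321)) (.node (.leaf 0x3) (.leaf 0x9b4da6cb6642db))) (.node (.node (.leaf 0x69b2db) (.leaf 0x245135216cb2db)) (.node (.leaf 0x9148596cb321) (.leaf 0)))) (.node (.node (.node (.leaf 0xdb521) (.leaf 0x6a42db)) (.node (.leaf 0x12432165b2db) (.leaf 0))) (.node (.node (.leaf 0x9b2db) (.leaf 0x122b13699964b25)) (.node (.leaf 0x489b2db) (.leaf 0))))) (.node (.node (.node (.node (.leaf 0x24521) (.leaf 0x6da90b)) (.node (.leaf 0x1229148642db) (.leaf 0))) (.node (.node (.leaf 0x1b) (.leaf 0x145144cb6cc859)) (.node (.leaf 0x36a42db) (.leaf 0)))) (.node (.node (.node (.leaf 0xdb) (.leaf 0x85b2d96cc)) (.node (.leaf 0xcc864321) (.leaf 0))) (.node (.node (.leaf 0x6cc864321) (.leaf 0x243216642db)) (.node (.leaf 0x1a6d485b2db) (.leaf 0)))))) (.node (.node (.node (.node (.node (.leaf 0x4)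 (.leaf 0x22b13699964b25)) (.node (.leaf 0x1b6a42db) (.leaf 0x89b4da6cb6642db))) (.node (.node (.leaf 0x490c864321) (.leaf 0x91489a6cc85b2db)) (.node (.leaf 0x12290b) (.leaf 0)))) (.node (.node (.node (.leaf 0x90c864321) (.leaf 0x1229136642db)) (.node (.leaf 0x9b2d96cc321) (.leaf 0))) (.node (.node (.leaf 0x2432165b2db) (.leaf 0xda90b)) (.node (.leaf 0x1b32165b2db) (.leaf 0))))) (.node (.node (.node (.node (.leaf 0x24) (.leaf 0x486432190b)) (.node (.leaf 0x89b2db) (.leaf 0))) (.node (.node (.leaf 0x48a42db) (.leaf 0x6d48596cb321)) (.node (.leaf 0x5b2d96cc) (.leaf 0)))) (.node (.node (.node (.leaf 0x914864) (.leaf 0x12291485b2db)) (.node (.leaf 0x16cb321) (.leaf 0))) (.node (.node (.leaf 0x196cb321) (.leaf 0x92291485b2db)) (.node (.leaf 0x48a42cc864321) (.leaf 0)))))))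

/-- transversal words -/
def tau3L0word : Trie :=
  tau3L0word0

/-- part of closing hints -/
def tau3L0close0 : Trie :=
  (.node (.node (.node (.node (.node (.node (.node (.leaf 0x1) (.leaf 0x2b)) (.node (.leaf 0x0) (.leaf 0x31))) (.node (.node (.leaf 0xc) (.leaf 0x1004000013012)) (.node (.leaf 0x20) (.leaf 0)))) (.node (.node (.node (.leaf 0x100100100a005) (.leaf 0x1002004003028)) (.node (.leaf 0x1d) (.leaf 0))) (.node (.node (.leaf 0x13) (.leaf 0x1003005020008)) (.node (.leaf 0x1002027021) (.leaf 0))))) (.node (.node (.node (.node (.leaf 0x4) (.leaf 0x2d)) (.node (.leaf 0x300002800b) (.leaf 0))) (.node (.node (.leaf 0x10) (.leaf 0x100400101c01f)) (.node (.leaf 0x24) (.leaf 0)))) (.node (.node (.node (.leaf 0xa) (.leaf 0x2001003023)) (.node (.leaf 0x1001002005002) (.leaf 0))) (.node (.node (.leaf 0x16) (.leaf 0x2700f)) (.node (.leaf 0x100400e025) (.leaf 0)))))) (.node (.node (.node (.node (.node (.leaf 0x3) (.leaf 0x2c)) (.node (.leaf 0x1a) (.leaf 0x2026030)))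 (.node (.node (.leaf 0xe) (.leaf 0x100000301301e)) (.node (.leaf 0x22) (.leaf 0)))) (.node (.node (.node (.leaf 0x9) (.leaf 0x3029)) (.node (.leaf 0x100000400000d) (.leaf 0))) (.node (.node (.leaf 0x14) (.leaf 0x1003005027019)) (.node (.leaf 0x2027) (.leaf 0))))) (.node (.node (.node (.node (.leaf 0x6) (.leaf 0x400500d01b)) (.node (.leaf 0x1c) (.leaf 0))) (.node (.node (.leaf 0x11) (.leaf 0x100400002e)) (.node (.leaf 0x26) (.leaf 0)))) (.node (.node (.node (.leaf 0x4025007) (.leaf 0x2f)) (.node (.leaf 0x1004000004018) (.leaf 0))) (.node (.node (.leaf 0x17) (.leaf 0x1002003027015)) (.node (.leaf 0x2a) (.leaf 0))))))) (.node (.node (.node (.node (.node (.node (.leaf 0x2) (.leaf 0x100400000f01a)) (.node (.leaf 0x19) (.leaf 0x100200400301d))) (.node (.node (.leaf 0xd) (.leaf 0x200401301c)) (.node (.leaf 0x21) (.leaf 0)))) (.node (.node (.node (.leaf 0x8) (.leaf 0x2e)) (.node (.leaf 0x1e) (.leaf 0))) (.node (.node (.leaf 0x10) (.leaf 0x100100202402b)) (.node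 (.leaf 0x27) (.leaf 0))))) (.node (.node (.node (.node (.leaf 0x5) (.leaf 0x100100000b006)) (.node (.leaf 0x1b) (.leaf 0))) (.node (.node (.leaf 0x100a) (.leaf 0x100200101a009)) (.node (.leaf 0x25) (.leaf 0)))) (.node (.node (.node (.leaf 0xb) (.leaf 0x1018014)) (.node (.leaf 0x1f) (.leaf 0))) (.node (.node (.leaf 0x100501500e) (.leaf 0x3004022017)) (.node (.leaf 0x29) (.leaf 0)))))) (.node (.node (.node (.node (.node (.leaf 0x200100f001) (.leaf 0x100501502a)) (.node (.leaf 0x3005014004) (.leaf 0x1002000002031))) (.node (.node (.leaf 0xf) (.leaf 0x100400200d02f)) (.node (.leaf 0x23) (.leaf 0)))) (.node (.node (.node (.leaf 0x1002015003) (.leaf 0x100100200902c)) (.node (.leaf 0x400500b011) (.leaf 0))) (.node (.node (.leaf 0x15) (.leaf 0x100400100f02d)) (.node (.leaf 0x28) (.leaf 0))))) (.node (.node (.node (.node (.leaf 0x7) (.leaf 0x4001004013)) (.node (.leaf 0x100100200c00c) (.leaf 0))) (.node (.node (.leaf 0x12) (.leaf 0x5020)) (.node (.leaf 0x1022) (.leaf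 0)))) (.node (.node (.node (.leaf 0x1005003000) (.leaf 0x30)) (.node (.leaf 0x100100100a016) (.leaf 0))) (.node (.node (.leaf 0x18) (.leaf 0x5020026)) (.node (.leaf 0x1001004010024) (.leaf 0))))))))

/-- closing hints -/
def tau3L0close : Trie :=
  tau3L0close0

/-- a level -/
def tau3L0 : SLev := ⟨4, [4, 0x24521], tau3L0tree, tau3L0word, 50, tau3L0close, [(10, 1), (29, 0), (43, 0), (37, 0)]⟩

/-- part of a tree -/
def tau3L1tree0 : Trie :=
  (.node (.node (.node (.node (.node (.node (.leaf 0x0) (.leaf 0x100012)) (.node (.leaf 0x300004) (.leaf 0))) (.node (.node (.leaf 0x2) (.leaf 0x23)) (.node (.leaf 0x10000a) (.leaf 0)))) (.node (.node (.node (.leaf 0x1) (.leaf 0x10001a)) (.node (.leaf 0x8) (.leaf 0))) (.node (.node (.leaf 0x200003) (.leaf 0)) (.node (.leaf 0xe) (.leaf 0))))) (.node (.node (.node (.node (.leaf 0x100000) (.leaf 0x15)) (.node (.leaf 0x300005) (.leaf 0))) (.node (.node (.leaf 0x3) (.leaf 0)) (.node (.leaf 0xc) (.leaf 0)))) (.node (.node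 (.node (.leaf 0x200001) (.leaf 0x200020)) (.node (.leaf 0x100009) (.leaf 0))) (.node (.node (.leaf 0x100004) (.leaf 0)) (.node (.leaf 0x10000f) (.leaf 0)))))) (.node (.node (.node (.node (.node (.leaf 0x0) (.leaf 0x200012)) (.node (.leaf 0x5) (.leaf 0))) (.node (.node (.leaf 0x300002) (.leaf 0x200023)) (.node (.leaf 0x20000b) (.leaf 0)))) (.node (.node (.node (.leaf 0x100001) (.leaf 0x30001a)) (.node (.leaf 0x9) (.leaf 0))) (.node (.node (.leaf 0x4) (.leaf 0)) (.node (.leaf 0xf) (.leaf 0))))) (.node (.node (.node (.node (.leaf 0x300000) (.leaf 0x300019)) (.node (.leaf 0x6) (.leaf 0))) (.node (.node (.leaf 0x100003) (.leaf 0)) (.node (.leaf 0x30000c) (.leaf 0)))) (.node (.node (.node (.leaf 0x300001) (.leaf 0x300021)) (.node (.leaf 0xa) (.leaf 0))) (.node (.node (.leaf 0x200004) (.leaf 0)) (.node (.leaf 0x11) (.leaf 0)))))))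

/-- a tree -/
def tau3L1tree : Trie :=
  tau3L1tree0

/-- part of transversal words -/
def tau3L1word0 : Trie :=
  (.node (.node (.node (.node (.node (.node (.leaf 0x0) (.leaf 0x489bad34ccb2592b)) (.node (.leaf 0x12b75badd2cb2cc) (.leaf 0))) (.node (.node (.leaf 0x269a8acaebb252eb) (.leaf 0x90b6616cb)) (.node (.leaf 0x295ab24b0badd2ec) (.leaf 0)))) (.node (.node (.node (.leaf 0x1b32190c85b) (.leaf 0x13aeb69aaeb4dd665)) (.node (.leaf 0x69b4d450c85b30b) (.leaf 0))) (.node (.node (.leaf 0x114522964b2592a) (.leaf 0)) (.node (.leaf 0x1a6cb659861) (.leaf 0))))) (.node (.node (.node (.node (.leaf 0x296275d965759) (.leaf 0x2762b132ebae992b)) (.node (.leaf 0x3b2592c4cb2eb664) (.leaf 0))) (.node (.node (.leaf 0x8abada92b75d92b) (.leaf 0)) (.node (.leaf 0x8a29144d98642cb) (.leaf 0)))) (.node (.node (.node (.leaf 0x134d489986190b) (.leaf 0x144d350c2cb6cb)) (.node (.leaf 0x22aecb2589d75d2ec) (.leaf 0))) (.node (.node (.leaf 0x2290c861659) (.leaf 0)) (.node (.leaf 0x4da9134d96d9861)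 (.leaf 0)))))) (.node (.node (.node (.node (.node (.leaf 0x6d485b) (.leaf 0xa28a452c964b25)) (.node (.leaf 0x6a26d48a18596cb) (.leaf 0))) (.node (.node (.leaf 0x114b244d369d6e9959) (.leaf 0x44da6a290b664321)) (.node (.leaf 0x2269a8a165b659) (.leaf 0)))) (.node (.node (.node (.leaf 0x143218596cb) (.leaf 0x8a29132cb6cc)) (.node (.leaf 0x144da8a430b661) (.leaf 0))) (.node (.node (.leaf 0x242d96cb664) (.leaf 0)) (.node (.leaf 0x28a269986190b) (.leaf 0))))) (.node (.node (.node (.node (.leaf 0x1a6d45226cc8616cb) (.leaf 0x244da6d36616cb)) (.node (.leaf 0x522add90c95bad9) (.leaf 0))) (.node (.node (.leaf 0x352269b3216cc) (.leaf 0)) (.node (.leaf 0x1a66190c30c) (.leaf 0)))) (.node (.node (.node (.leaf 0x6d569a6cbadd6ec) (.leaf 0x4d330c861861)) (.node (.leaf 0x1134d3a5badd6ec) (.leaf 0))) (.node (.node (.leaf 0x269a8a16596cc) (.leaf 0)) (.node (.leaf 0x4da9148642d9) (.leaf 0)))))))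

/-- transversal words -/
def tau3L1word : Trie :=
  tau3L1word0

/-- part of closing hints -/
def tau3L1close0 : Trie :=
  (.node (.node (.node (.node (.node (.node (.node (.leaf 0x1) (.leaf 0x10)) (.node (.leaf 0x1001000002) (.leaf 0))) (.node (.node (.leaf 0x14) (.leaf 0x1002029)) (.node (.leaf 0x1004005006) (.leaf 0)))) (.node (.node (.node (.leaf 0xd) (.leaf 0x1000001019)) (.node (.leaf 0x1001000020) (.leaf 0))) (.node (.node (.leaf 0x1a) (.leaf 0)) (.node (.leaf 0x3005005) (.leaf 0))))) (.node (.node (.node (.node (.leaf 0x8) (.leaf 0x100000300f)) (.node (.leaf 0x300401e) (.leaf 0))) (.node (.node (.leaf 0x17) (.leaf 0)) (.node (.leaf 0x1000000021) (.leaf 0)))) (.node (.node (.node (.leaf 0x13) (.leaf 0x1003005026)) (.node (.leaf 0x7) (.leaf 0))) (.node (.node (.leaf 0x1c) (.leaf 0)) (.node (.leaf 0x4002018) (.leaf 0)))))) (.node (.node (.node (.node (.node (.leaf 0x4) (.leaf 0x3002024)) (.node (.leaf 0x1f) (.leaf 0))) (.node (.node (.leaf 0x15) (.leaf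 0x1001003027)) (.node (.leaf 0x100000100c) (.leaf 0)))) (.node (.node (.node (.leaf 0x11) (.leaf 0x3003025)) (.node (.leaf 0x22) (.leaf 0))) (.node (.node (.leaf 0x100100000b) (.leaf 0)) (.node (.leaf 0x4002009) (.leaf 0))))) (.node (.node (.node (.node (.leaf 0xa) (.leaf 0x28)) (.node (.leaf 0x1003012) (.leaf 0))) (.node (.node (.leaf 0x1001000000) (.leaf 0)) (.node (.leaf 0x1003003023) (.leaf 0)))) (.node (.node (.node (.leaf 0x3005003) (.leaf 0x101b)) (.node (.leaf 0x3005016) (.leaf 0))) (.node (.node (.leaf 0x1d) (.leaf 0)) (.node (.leaf 0x300500e) (.leaf 0))))))) (.node (.node (.node (.node (.node (.node (.leaf 0x1004000) (.leaf 0x26)) (.node (.leaf 0x1000000010) (.leaf 0))) (.node (.node (.leaf 0x1002002002) (.leaf 0x1004000027)) (.node (.leaf 0x1003003016) (.leaf 0)))) (.node (.node (.node (.leaf 0xf) (.leaf 0x201c)) (.node (.leaf 0x1001002014) (.leaf 0))) (.node (.node (.leaf 0x3) (.leaf 0)) (.node (.leaf 0x1003024) (.leaf 0))))) (.node (.node (.node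 (.node (.leaf 0x4004008) (.leaf 0x400501e)) (.node (.leaf 0x21) (.leaf 0))) (.node (.node (.leaf 0x2005) (.leaf 0)) (.node (.leaf 0x1003003015) (.leaf 0)))) (.node (.node (.node (.leaf 0x1) (.leaf 0x20)) (.node (.leaf 0x1003003018) (.leaf 0))) (.node (.node (.leaf 0x4004013) (.leaf 0)) (.node (.leaf 0x4005022) (.leaf 0)))))) (.node (.node (.node (.node (.node (.leaf 0x6) (.leaf 0x12)) (.node (.leaf 0x100100301d) (.leaf 0))) (.node (.node (.leaf 0x300d) (.leaf 0x23)) (.node (.leaf 0xb) (.leaf 0)))) (.node (.node (.node (.leaf 0x100300a) (.leaf 0x1001000025)) (.node (.leaf 0x100300301a) (.leaf 0))) (.node (.node (.leaf 0x1005009) (.leaf 0)) (.node (.leaf 0x2005011) (.leaf 0))))) (.node (.node (.node (.node (.leaf 0xc) (.leaf 0x29)) (.node (.leaf 0x100200200e) (.leaf 0))) (.node (.node (.leaf 0x19) (.leaf 0)) (.node (.leaf 0x400001b) (.leaf 0)))) (.node (.node (.node (.leaf 0x1007) (.leaf 0x3000028)) (.node (.leaf 0x300401f) (.leaf 0))) (.node (.node (.leaf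 0x4) (.leaf 0)) (.node (.leaf 0x4003017) (.leaf 0))))))))

/-- part of closing hints -/
def tau3L1close1 : Trie :=
  (.node (.node (.node (.node (.node (.node (.node (.leaf 0x2) (.leaf 0x12)) (.node (.leaf 0x1001000011) (.leaf 0))) (.node (.node (.leaf 0x4005007) (.leaf 0x1028)) (.node (.leaf 0xa) (.leaf 0)))) (.node (.node (.node (.leaf 0xe) (.leaf 0x1a)) (.node (.leaf 0x400401d) (.leaf 0))) (.node (.node (.leaf 0x300500c) (.leaf 0)) (.node (.leaf 0x300501c) (.leaf 0))))) (.node (.node (.node (.node (.leaf 0x0) (.leaf 0x17)) (.node (.leaf 0x20) (.leaf 0))) (.node (.node (.leaf 0x18) (.leaf 0)) (.node (.leaf 0x24) (.leaf 0)))) (.node (.node (.node (.leaf 0x100100300d) (.leaf 0x3005021)) (.node (.leaf 0x9) (.leaf 0))) (.node (.node (.leaf 0x4) (.leaf 0)) (.node (.leaf 0xf) (.leaf 0)))))) (.node (.node (.node (.node (.node (.leaf 0x5) (.leaf 0x3005026)) (.node (.leaf 0x1001000010) (.leaf 0))) (.node (.node (.leaf 0x16) (.leaf 0x3002029)) (.node (.leaf 0x3005019)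 (.leaf 0)))) (.node (.node (.node (.leaf 0x1) (.leaf 0x300201b)) (.node (.leaf 0x3005015) (.leaf 0))) (.node (.node (.leaf 0x2005006) (.leaf 0)) (.node (.leaf 0x1002002014) (.leaf 0))))) (.node (.node (.node (.node (.leaf 0xb) (.leaf 0x1003002027)) (.node (.leaf 0x100100201f) (.leaf 0))) (.node (.node (.leaf 0x3) (.leaf 0)) (.node (.leaf 0x3002025) (.leaf 0)))) (.node (.node (.node (.leaf 0x4005008) (.leaf 0x1003005023)) (.node (.leaf 0x22) (.leaf 0))) (.node (.node (.leaf 0x1e) (.leaf 0)) (.node (.leaf 0x1001002013) (.leaf 0))))))) (.node (.node (.node (.node (.node (.node (.leaf 0x3) (.leaf 0x4005016)) (.node (.leaf 0x1c) (.leaf 0))) (.node (.node (.leaf 0x1001000000) (.leaf 0x3005024)) (.node (.leaf 0xe) (.leaf 0)))) (.node (.node (.node (.leaf 0x10) (.leaf 0x4001029)) (.node (.leaf 0x4005002) (.leaf 0))) (.node (.node (.leaf 0x1b) (.leaf 0)) (.node (.leaf 0x100100001f) (.leaf 0))))) (.node (.node (.node (.node (.leaf 0x9) (.leaf 0x1001000020)) (.node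 (.leaf 0x4) (.leaf 0))) (.node (.node (.leaf 0x400500b) (.leaf 0)) (.node (.leaf 0x25) (.leaf 0)))) (.node (.node (.node (.leaf 0x100100200a) (.leaf 0x1028)) (.node (.leaf 0x100200301e) (.leaf 0))) (.node (.node (.leaf 0x17) (.leaf 0)) (.node (.leaf 0x1002003015) (.leaf 0)))))) (.node (.node (.node (.node (.node (.leaf 0x7) (.leaf 0x27)) (.node (.leaf 0x4005014) (.leaf 0))) (.node (.node (.leaf 0x1) (.leaf 0x1001005021)) (.node (.leaf 0x23) (.leaf 0)))) (.node (.node (.node (.leaf 0x12) (.leaf 0x1000001019)) (.node (.leaf 0x100200301d) (.leaf 0))) (.node (.node (.leaf 0x100000300f) (.leaf 0)) (.node (.leaf 0x1002002022) (.leaf 0))))) (.node (.node (.node (.node (.leaf 0x8) (.leaf 0x300200c)) (.node (.leaf 0x1001003018) (.leaf 0))) (.node (.node (.leaf 0x1001002006) (.leaf 0)) (.node (.leaf 0x300501a) (.leaf 0)))) (.node (.node (.node (.leaf 0x11) (.leaf 0x1003003026)) (.node (.leaf 0xd) (.leaf 0))) (.node (.node (.leaf 0x1002004013) (.leaf 0)) (.node (.leaf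 0x1001000005) (.leaf 0))))))))

/-- closing hints -/
def tau3L1close : Trie :=
  (.node tau3L1close0 tau3L1close1)

/-- a level -/
def tau3L1 : SLev := ⟨6, [0x6d485b, 0x296275d965759, 0x4da69b4cc321664, 0x1a6d45226cc8616cb], tau3L1tree, tau3L1word, 42, tau3L1close, [(40, 1), (36, 2)]⟩

/-- part of a tree -/
def tau3L2tree0 : Trie :=
  (.node (.node (.node (.leaf 0x0) (.leaf 0x100002)) (.node (.leaf 0x100000) (.leaf 0))) (.node (.node (.leaf 0x0) (.leaf 0x3)) (.node (.leaf 0x100001) (.leaf 0))))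

/-- a tree -/
def tau3L2tree : Trie :=
  tau3L2tree0

/-- part of transversal words -/
def tau3L2word0 : Trie :=
  (.node (.node (.node (.leaf 0x0) (.leaf 0x89b30c85b659)) (.node (.leaf 0x89a9148a16596cc) (.leaf 0))) (.node (.node (.leaf 0x9a9136cb661) (.leaf 0x145144d48596cc859)) (.node (.leaf 0x452269b2cc864) (.leaf 0))))

/-- transversal words -/
def tau3L2word : Trie :=
  tau3L2word0

/-- part of closing hints -/
def tau3L2close0 : Trie :=
  (.node (.node (.node (.node (.leaf 0x1) (.leaf 0x4004)) (.node (.leaf 0x2002) (.leaf 0))) (.node (.node (.leaf 0x0) (.leaf 0x3)) (.node (.leaf 0x5) (.leaf 0)))) (.node (.node (.node (.leaf 0x2) (.leaf 0x1001)) (.node (.leaf 0x4) (.leaf 0))) (.node (.node (.leaf 0x3) (.leaf 0x1005)) (.node (.leaf 0x1002000) (.leaf 0)))))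

/-- closing hints -/
def tau3L2close : Trie :=
  tau3L2close0

/-- a level -/
def tau3L2 : SLev := ⟨8, [0x9a9136cb661, 0x89a9148a16596cc], tau3L2tree, tau3L2word, 6, tau3L2close, [(4, 1), (2, 0)]⟩

/-- part of a tree -/
def tau3L3tree0 : Trie :=
  (.node (.node (.node (.leaf 0x0) (.leaf 0x100001)) (.node (.leaf 0x100000) (.leaf 0))) (.node (.node (.leaf 0x0) (.leaf 0)) (.node (.leaf 0x1) (.leaf 0))))

/-- a tree -/
def tau3L3tree : Trie :=
  tau3L3tree0

/-- part of transversal words -/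
def tau3L3word0 : Trie :=
  (.node (.node (.node (.leaf 0x0) (.leaf 0x291369b66190b)) (.node (.leaf 0x4dd92591495b75b) (.leaf 0))) (.node (.node (.leaf 0x1a8a269986430c) (.leaf 0)) (.node (.leaf 0x5144d485b65b2cc) (.leaf 0))))

/-- transversal words -/
def tau3L3word : Trie :=
  tau3L3word0

/-- part of closing hints -/
def tau3L3close0 : Trie :=
  (.node (.node (.node (.node (.leaf 0x1) (.leaf 0x2)) (.node (.leaf 0x1000) (.leaf 0))) (.node (.node (.leaf 0x3) (.leaf 0)) (.node (.leaf 0x1004) (.leaf 0)))) (.node (.node (.node (.leaf 0x2) (.leaf 0x1)) (.node (.leaf 0x0) (.leaf 0))) (.node (.node (.leaf 0x4) (.leaf 0)) (.node (.leaf 0x1003) (.leaf 0)))))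

/-- closing hints -/
def tau3L3close : Trie :=
  tau3L3close0

/-- a level -/
def tau3L3 : SLev := ⟨9, [0x1a8a269986430c, 0x4dd92591495b75b], tau3L3tree, tau3L3word, 5, tau3L3close, [(3, 1)]⟩

/-- part of a tree -/
def tau3L4tree0 : Trie :=
  (.node (.leaf 0x0) (.leaf 0x0))

/-- a tree -/
def tau3L4tree : Trie :=
  tau3L4tree0

/-- part of transversal words -/
def tau3L4word0 : Trie :=
  (.node (.leaf 0x0) (.leaf 0x659659))

/-- transversal words -/
def tau3L4word : Trie :=
  tau3L4word0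

/-- part of closing hints -/
def tau3L4close0 : Trie :=
  (.node (.leaf 0x1) (.leaf 0x0))

/-- closing hints -/
def tau3L4close : Trie :=
  tau3L4close0

/-- a level -/
def tau3L4 : SLev := ⟨7, [0x659659], tau3L4tree, tau3L4word, 2, tau3L4close, []⟩

/-- a chain -/
def tau3 : List SLev := [tau3L0, tau3L1, tau3L2, tau3L3, tau3L4]

/-- a representative -/
def r3 : RepD := ⟨1, 2, 1, 1, 1, tau3, [1, 2], [1, 2]⟩

/-- part of a tree -/
def tau4L0tree0 : Trie :=
  (.node (.node (.node (.node (.node (.node (.leaf 0x0) (.leaf 0x18)) (.node (.leaf 0xa) (.leaf 0x100027))) (.node (.node (.leaf 0x100004) (.leaf 0x10001d)) (.node (.leaf 0x10000f) (.leaf 0)))) (.node (.node (.node (.leaf 0x2) (.leaf 0x1a)) (.node (.leaf 0xd) (.leaf 0))) (.node (.node (.leaf 0x8) (.leaf 0x21)) (.node (.leaf 0x13) (.leaf 0))))) (.node (.node (.node (.node (.leaf 0x100000) (.leaf 0x19)) (.node (.leaf 0x10000b) (.leaf 0))) (.node (.node (.leaf 0x6) (.leaf 0x1f)) (.node (.leaf 0x11) (.leaf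 0)))) (.node (.node (.node (.leaf 0x3) (.leaf 0x1b)) (.node (.leaf 0xe) (.leaf 0))) (.node (.node (.leaf 0x9) (.leaf 0x100024)) (.node (.leaf 0x100014) (.leaf 0)))))) (.node (.node (.node (.node (.node (.leaf 0x0) (.leaf 0x100018)) (.node (.leaf 0xb) (.leaf 0x30))) (.node (.node (.leaf 0x5) (.leaf 0x10001e)) (.node (.leaf 0x100010) (.leaf 0)))) (.node (.node (.node (.leaf 0x100002) (.leaf 0x10001a)) (.node (.leaf 0x10000d) (.leaf 0))) (.node (.node (.leaf 0x100008) (.leaf 0x22)) (.node (.leaf 0x14) (.leaf 0))))) (.node (.node (.node (.node (.leaf 0x1) (.leaf 0x100019)) (.node (.leaf 0xc) (.leaf 0))) (.node (.node (.leaf 0x100006) (.leaf 0x20)) (.node (.leaf 0x100012) (.leaf 0)))) (.node (.node (.node (.leaf 0x100003) (.leaf 0x10001c)) (.node (.leaf 0xf) (.leaf 0))) (.node (.node (.leaf 0x100009) (.leaf 0x27)) (.node (.leaf 0x100016) (.leaf 0)))))))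

/-- a tree -/
def tau4L0tree : Trie :=
  tau4L0tree0

/-- part of transversal words -/
def tau4L0word0 : Trie :=
  (.node (.node (.node (.node (.node (.node (.leaf 0x0) (.leaf 0x49148596cb321)) (.node (.leaf 0x3) (.leaf 0x9b4da6cb6642db))) (.node (.node (.leaf 0x69b2db) (.leaf 0x245135216cb2db)) (.node (.leaf 0x9148596cb321) (.leaf 0)))) (.node (.node (.node (.leaf 0xdb521) (.leaf 0x6a42db)) (.node (.leaf 0x12432165b2db) (.leaf 0))) (.node (.node (.leaf 0x9b2db) (.leaf 0x122b13699964b25)) (.node (.leaf 0x489b2db) (.leaf 0))))) (.node (.node (.node (.node (.leaf 0x24521) (.leaf 0x6da90b)) (.node (.leaf 0x1229148642db) (.leaf 0))) (.node (.node (.leaf 0x1b) (.leaf 0x145144cb6cc859)) (.node (.leaf 0x36a42db) (.leaf 0)))) (.node (.node (.node (.leaf 0xdb) (.leaf 0x85b2d96cc)) (.node (.leaf 0xcc864321) (.leaf 0))) (.node (.node (.leaf 0x6cc864321) (.leaf 0x243216642db)) (.node (.leaf 0x1a6d485b2db) (.leaf 0)))))) (.node (.node (.node (.node (.node (.leaf 0x4)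 (.leaf 0x22b13699964b25)) (.node (.leaf 0x1b6a42db) (.leaf 0x89b4da6cb6642db))) (.node (.node (.leaf 0x490c864321) (.leaf 0x91489a6cc85b2db)) (.node (.leaf 0x12290b) (.leaf 0)))) (.node (.node (.node (.leaf 0x90c864321) (.leaf 0x1229136642db)) (.node (.leaf 0x9b2d96cc321) (.leaf 0))) (.node (.node (.leaf 0x2432165b2db) (.leaf 0xda90b)) (.node (.leaf 0x1b32165b2db) (.leaf 0))))) (.node (.node (.node (.node (.leaf 0x24) (.leaf 0x486432190b)) (.node (.leaf 0x89b2db) (.leaf 0))) (.node (.node (.leaf 0x48a42db) (.leaf 0x6d48596cb321)) (.node (.leaf 0x5b2d96cc) (.leaf 0)))) (.node (.node (.node (.leaf 0x914864) (.leaf 0x12291485b2db)) (.node (.leaf 0x16cb321) (.leaf 0))) (.node (.node (.leaf 0x196cb321) (.leaf 0x92291485b2db)) (.node (.leaf 0x48a42cc864321) (.leaf 0)))))))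

/-- transversal words -/
def tau4L0word : Trie :=
  tau4L0word0

/-- part of closing hints -/
def tau4L0close0 : Trie :=
  (.node (.node (.node (.node (.node (.node (.node (.leaf 0x1) (.leaf 0x2b)) (.node (.leaf 0x0) (.leaf 0x31))) (.node (.node (.leaf 0xc) (.leaf 0x5015012)) (.node (.leaf 0x20) (.leaf 0)))) (.node (.node (.node (.leaf 0x2004020005) (.leaf 0x4003019028)) (.node (.leaf 0x1d) (.leaf 0))) (.node (.node (.leaf 0x13) (.leaf 0x100000000d008)) (.node (.leaf 0x1002005007021) (.leaf 0))))) (.node (.node (.node (.node (.leaf 0x4) (.leaf 0x2d)) (.node (.leaf 0x100300101c00b) (.leaf 0))) (.node (.node (.leaf 0x10) (.leaf 0x400301701f)) (.node (.leaf 0x24) (.leaf 0)))) (.node (.node (.node (.leaf 0xa) (.leaf 0x1000005019023)) (.node (.leaf 0x100300500b002) (.leaf 0))) (.node (.node (.leaf 0x16) (.leaf 0x100100000700f)) (.node (.leaf 0x100100e025) (.leaf 0)))))) (.node (.node (.node (.node (.node (.leaf 0x3) (.leaf 0x2c)) (.node (.leaf 0x1a) (.leaf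 0x100300400f030))) (.node (.node (.leaf 0xe) (.leaf 0x100400301501e)) (.node (.leaf 0x22) (.leaf 0)))) (.node (.node (.node (.leaf 0x9) (.leaf 0x1002002019029)) (.node (.leaf 0x100100000d) (.leaf 0))) (.node (.node (.leaf 0x14) (.leaf 0x4007019)) (.node (.leaf 0x400000c027) (.leaf 0))))) (.node (.node (.node (.node (.leaf 0x6) (.leaf 0x201b)) (.node (.leaf 0x1c) (.leaf 0))) (.node (.node (.leaf 0x11) (.leaf 0x100002e)) (.node (.leaf 0x26) (.leaf 0)))) (.node (.node (.node (.leaf 0x2004024007) (.leaf 0x2f)) (.node (.leaf 0x1000004001018) (.leaf 0))) (.node (.node (.leaf 0x17) (.leaf 0x1004003007015)) (.node (.leaf 0x2a) (.leaf 0))))))) (.node (.node (.node (.node (.node (.node (.leaf 0x2) (.leaf 0x100400101601a)) (.node (.leaf 0x19) (.leaf 0x400301901d))) (.node (.node (.leaf 0xd) (.leaf 0x100000201501c)) (.node (.leaf 0x21) (.leaf 0)))) (.node (.node (.node (.leaf 0x8) (.leaf 0x2e)) (.node (.leaf 0x1e) (.leaf 0))) (.node (.node (.leaf 0x10) (.leaf 0x400201202b))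 (.node (.leaf 0x27) (.leaf 0))))) (.node (.node (.node (.node (.leaf 0x5) (.leaf 0x3003025006)) (.node (.leaf 0x1b) (.leaf 0))) (.node (.node (.leaf 0x100400301a00a) (.leaf 0x100501f009)) (.node (.leaf 0x25) (.leaf 0)))) (.node (.node (.node (.leaf 0xb) (.leaf 0x1004004022014)) (.node (.leaf 0x1f) (.leaf 0))) (.node (.node (.leaf 0x100200000500e) (.leaf 0x100000001b017)) (.node (.leaf 0x29) (.leaf 0)))))) (.node (.node (.node (.node (.node (.leaf 0x3000016001) (.leaf 0x100200000502a)) (.node (.leaf 0x401e004) (.leaf 0x300000c031))) (.node (.node (.leaf 0xf) (.leaf 0x300400202f)) (.node (.leaf 0x23) (.leaf 0)))) (.node (.node (.node (.leaf 0x3005005003) (.leaf 0x200501d02c)) (.node (.leaf 0x1002025011) (.leaf 0))) (.node (.node (.leaf 0x15) (.leaf 0x100400001602d)) (.node (.leaf 0x28) (.leaf 0))))) (.node (.node (.node (.node (.leaf 0x7) (.leaf 0x1013)) (.node (.leaf 0x300c) (.leaf 0))) (.node (.node (.leaf 0x12) (.leaf 0x100400100b020)) (.node (.leaf 0x100400301a022)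 (.leaf 0)))) (.node (.node (.node (.leaf 0x1004001019000) (.leaf 0x30)) (.node (.leaf 0x2004020016) (.leaf 0))) (.node (.node (.leaf 0x18) (.leaf 0x400000d026)) (.node (.leaf 0x1004001010024) (.leaf 0))))))))

/-- closing hints -/
def tau4L0close : Trie :=
  tau4L0close0

/-- a level -/
def tau4L0 : SLev := ⟨4, [4, 0x24521], tau4L0tree, tau4L0word, 50, tau4L0close, [(35, 1), (35, 0)]⟩

/-- part of a tree -/
def tau4L1tree0 : Trie :=
  (.node (.node (.node (.node (.node (.node (.leaf 0x0) (.leaf 0x12)) (.node (.leaf 0x8) (.leaf 0))) (.node (.node (.leaf 0x4) (.leaf 0x10001d)) (.node (.leaf 0xd) (.leaf 0)))) (.node (.node (.node (.leaf 0x100001) (.leaf 0x17)) (.node (.leaf 0x10000a) (.leaf 0))) (.node (.node (.leaf 0x6) (.leaf 0)) (.node (.leaf 0x10000f) (.leaf 0))))) (.node (.node (.node (.node (.leaf 0x100000) (.leaf 0x100015)) (.node (.leaf 0x9) (.leaf 0))) (.node (.node (.leaf 0x5) (.leaf 0)) (.node (.leaf 0x10000e) (.leaf 0)))) (.node (.node (.node (.leaf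 0x100002) (.leaf 0x1b)) (.node (.leaf 0xc) (.leaf 0))) (.node (.node (.leaf 0x7) (.leaf 0)) (.node (.leaf 0x11) (.leaf 0)))))) (.node (.node (.node (.node (.node (.leaf 0x0) (.leaf 0x14)) (.node (.leaf 0x100008) (.leaf 0))) (.node (.node (.leaf 0x100004) (.leaf 0x21)) (.node (.leaf 0xe) (.leaf 0)))) (.node (.node (.node (.leaf 0x2) (.leaf 0x10001a)) (.node (.leaf 0x10000b) (.leaf 0))) (.node (.node (.leaf 0x100006) (.leaf 0)) (.node (.leaf 0x100010) (.leaf 0))))) (.node (.node (.node (.node (.leaf 0x1) (.leaf 0x100016)) (.node (.leaf 0x100009) (.leaf 0))) (.node (.node (.leaf 0x100005) (.leaf 0)) (.node (.leaf 0xf) (.leaf 0)))) (.node (.node (.node (.leaf 0x100003) (.leaf 0x1c)) (.node (.leaf 0x10000c) (.leaf 0))) (.node (.node (.leaf 0x100007) (.leaf 0)) (.node (.leaf 0x100011) (.leaf 0)))))))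

/-- a tree -/
def tau4L1tree : Trie :=
  tau4L1tree0

/-- part of transversal words -/
def tau4L1word0 : Trie :=
  (.node (.node (.node (.node (.node (.node (.leaf 0x0) (.leaf 0x289d76595d6a5)) (.node (.leaf 0x4d489b4eb75badd) (.leaf 0))) (.node (.node (.leaf 0x351369a6cc86190b) (.leaf 0x135228a486430c864)) (.node (.leaf 0x85b2db2cb) (.leaf 0)))) (.node (.node (.node (.leaf 0x45145226cb2d96cb) (.leaf 0x26ec9648643252ec)) (.node (.leaf 0xda75a6eb6a16dd6ec) (.leaf 0))) (.node (.node (.leaf 0x34da89b2db2cc) (.leaf 0)) (.node (.leaf 0xa291485b2cb) (.leaf 0))))) (.node (.node (.node (.node (.leaf 0x6a42cb65990b) (.leaf 0x4d369aadd6eb75b)) (.node (.leaf 0x12452291366165b) (.leaf 0))) (.node (.node (.leaf 0x36a28a48a1859664) (.leaf 0)) (.node (.leaf 0x134d35148616cb2cc) (.leaf 0)))) (.node (.node (.node (.leaf 0x26da6d96d9) (.leaf 0x12289a90b65b2db)) (.node (.leaf 0xd490c861659) (.leaf 0))) (.node (.node (.leaf 0x145144d485b2cb30c) (.leaf 0)) (.node (.leaf 0xa26d36642cc)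 (.leaf 0)))))) (.node (.node (.node (.node (.node (.leaf 0x244da8a42db30c) (.leaf 0x352291366430c)) (.node (.leaf 0x258a592b765964) (.leaf 0))) (.node (.node (.leaf 0xa28996cb6cc) (.leaf 0x28a29136596d96cc)) (.node (.leaf 0x1a92291450c85b2cb) (.leaf 0)))) (.node (.node (.node (.leaf 0x1143216cb659) (.leaf 0x8a28a452186190c)) (.node (.leaf 0x28a452286190b6cb) (.leaf 0))) (.node (.node (.leaf 0x89b30c8616cc) (.leaf 0)) (.node (.leaf 0x69b4d450b2d96cb) (.leaf 0))))) (.node (.node (.node (.node (.leaf 0x1a6a489b2cc85b) (.leaf 0x95d764add69d659)) (.node (.leaf 0x36a289a65b659664) (.leaf 0))) (.node (.node (.leaf 0x34d34da90c85b30b) (.leaf 0)) (.node (.leaf 0x33216d96cc) (.leaf 0)))) (.node (.node (.node (.leaf 0x8616d990b) (.leaf 0x1489a6a26cb30c2cb)) (.node (.leaf 0xd45148a16cb2cc) (.leaf 0))) (.node (.node (.leaf 0x351491485990c) (.leaf 0)) (.node (.leaf 0x4d48a44cb6642d9) (.leaf 0)))))))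

/-- transversal words -/
def tau4L1word : Trie :=
  tau4L1word0

/-- part of closing hints -/
def tau4L1close0 : Trie :=
  (.node (.node (.node (.node (.node (.node (.node (.leaf 0x1) (.leaf 0x9)) (.node (.leaf 0x4) (.leaf 0))) (.node (.node (.leaf 0x10) (.leaf 0x2002028)) (.node (.leaf 0x1000005015) (.leaf 0)))) (.node (.node (.node (.leaf 0x8) (.leaf 0x100101d)) (.node (.leaf 0x21) (.leaf 0))) (.node (.node (.leaf 0x16) (.leaf 0)) (.node (.leaf 0x27) (.leaf 0))))) (.node (.node (.node (.node (.leaf 0x5) (.leaf 0x3004022)) (.node (.leaf 0x20) (.leaf 0))) (.node (.node (.leaf 0x2) (.leaf 0)) (.node (.leaf 0x100101a) (.leaf 0)))) (.node (.node (.node (.leaf 0xc) (.leaf 0xf)) (.node (.leaf 0x6) (.leaf 0))) (.node (.node (.leaf 0x19) (.leaf 0)) (.node (.leaf 0x3004023) (.leaf 0)))))) (.node (.node (.node (.node (.node (.leaf 0x3) (.leaf 0x29)) (.node (.leaf 0x1e) (.leaf 0))) (.node (.node (.leaf 0x12) (.leaf 0x14)) (.node (.leaf 0x7) (.leaf 0)))) (.node (.node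 (.node (.leaf 0xa) (.leaf 0x100000101c)) (.node (.leaf 0x100000500d) (.leaf 0))) (.node (.node (.leaf 0x18) (.leaf 0)) (.node (.leaf 0x2017) (.leaf 0))))) (.node (.node (.node (.node (.leaf 0x0) (.leaf 0x4001011)) (.node (.leaf 0x100400501f) (.leaf 0))) (.node (.node (.leaf 0x1001000013) (.leaf 0)) (.node (.leaf 0x26) (.leaf 0)))) (.node (.node (.node (.leaf 0xe) (.leaf 0x1000001025)) (.node (.leaf 0x24) (.leaf 0))) (.node (.node (.leaf 0x1b) (.leaf 0)) (.node (.leaf 0x100100100b) (.leaf 0))))))) (.node (.node (.node (.node (.node (.node (.leaf 0x2) (.leaf 0x1004002027)) (.node (.leaf 0x1d) (.leaf 0))) (.node (.node (.leaf 0x11) (.leaf 0x3002019)) (.node (.leaf 0x1001002012) (.leaf 0)))) (.node (.node (.node (.leaf 0x9) (.leaf 0x1000002008)) (.node (.leaf 0x100300000a) (.leaf 0))) (.node (.node (.leaf 0x17) (.leaf 0)) (.node (.leaf 0x3) (.leaf 0))))) (.node (.node (.node (.node (.leaf 0x6) (.leaf 0x5)) (.node (.leaf 0x3000018) (.leaf 0))) (.node (.node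 (.leaf 0x14) (.leaf 0)) (.node (.leaf 0x25) (.leaf 0)))) (.node (.node (.node (.leaf 0xd) (.leaf 0x1000004029)) (.node (.leaf 0x23) (.leaf 0))) (.node (.node (.leaf 0x1a) (.leaf 0)) (.node (.leaf 0x100400100c) (.leaf 0)))))) (.node (.node (.node (.node (.node (.leaf 0x4) (.leaf 0x100200000e)) (.node (.leaf 0x1f) (.leaf 0))) (.node (.node (.leaf 0x13) (.leaf 0x2001026)) (.node (.leaf 0x1004003010) (.leaf 0)))) (.node (.node (.node (.leaf 0xb) (.leaf 0x1001000021)) (.node (.leaf 0x22) (.leaf 0))) (.node (.node (.leaf 0x0) (.leaf 0)) (.node (.leaf 0x28) (.leaf 0))))) (.node (.node (.node (.node (.leaf 0x7) (.leaf 0x1002002020)) (.node (.leaf 0x1) (.leaf 0))) (.node (.node (.leaf 0x15) (.leaf 0)) (.node (.leaf 0x300201e) (.leaf 0)))) (.node (.node (.node (.leaf 0xf) (.leaf 0x1016)) (.node (.leaf 0x100200201b) (.leaf 0))) (.node (.node (.leaf 0x1c) (.leaf 0)) (.node (.leaf 0x1002001024) (.leaf 0))))))))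

/-- closing hints -/
def tau4L1close : Trie :=
  tau4L1close0

/-- a level -/
def tau4L1 : SLev := ⟨6, [0x244da8a42db30c, 0x6a42cb65990b], tau4L1tree, tau4L1word, 42, tau4L1close, [(39, 1), (29, 0), (35, 1)]⟩

/-- part of a tree -/
def tau4L2tree0 : Trie :=
  (.node (.node (.node (.leaf 0x0) (.leaf 0x3)) (.node (.leaf 0x100000) (.leaf 0))) (.node (.node (.leaf 0x0) (.leaf 0x100004)) (.node (.leaf 0x200001) (.leaf 0))))

/-- a tree -/
def tau4L2tree : Trie :=
  tau4L2tree0

/-- part of transversal words -/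
def tau4L2word0 : Trie :=
  (.node (.node (.node (.leaf 0x0) (.leaf 0x133218642cc)) (.node (.leaf 0x4da9132d990b) (.leaf 0))) (.node (.node (.leaf 0x4da69b4cc321664) (.leaf 0x4d36a48a42cc30c)) (.node (.leaf 0x135229142cb321) (.leaf 0))))

/-- transversal words -/
def tau4L2word : Trie :=
  tau4L2word0

/-- part of closing hints -/
def tau4L2close0 : Trie :=
  (.node (.node (.node (.node (.node (.leaf 0x1) (.leaf 0x1003)) (.node (.leaf 0x1001000) (.leaf 0))) (.node (.node (.leaf 0x1000) (.leaf 0)) (.node (.leaf 0x3) (.leaf 0)))) (.node (.node (.node (.leaf 0x1002002) (.leaf 0)) (.node (.leaf 0x1004) (.leaf 0))) (.node (.node (.leaf 0x1002) (.leaf 0)) (.node (.leaf 0x1003004) (.leaf 0))))) (.node (.node (.node (.node (.leaf 0x2) (.leaf 0x2005)) (.node (.leaf 0x4) (.leaf 0))) (.node (.node (.leaf 0x3) (.leaf 0)) (.node (.leaf 0x5) (.leaf 0)))) (.node (.node (.node (.leaf 0x0) (.leaf 0)) (.node (.leaf 0x1) (.leaf 0))) (.node (.node (.leaf 0x1001) (.leaf 0))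 (.node (.leaf 0x1005) (.leaf 0))))))

/-- closing hints -/
def tau4L2close : Trie :=
  tau4L2close0

/-- a level -/
def tau4L2 : SLev := ⟨8, [0x4da69b4cc321664, 0x4da9132d990b, 0x185b659], tau4L2tree, tau4L2word, 6, tau4L2close, [(5, 0), (5, 2)]⟩

/-- part of a tree -/
def tau4L3tree0 : Trie :=
  (.node (.node (.node (.leaf 0x0) (.leaf 0x2)) (.node (.leaf 0x100000) (.leaf 0))) (.node (.node (.leaf 0x0) (.leaf 0)) (.node (.leaf 0x100001) (.leaf 0))))

/-- a tree -/
def tau4L3tree : Trie :=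
  tau4L3tree0

/-- part of transversal words -/
def tau4L3word0 : Trie :=
  (.node (.node (.node (.leaf 0x0) (.leaf 0x5134da6d990b30c)) (.node (.leaf 0x5132cc30b2cc) (.leaf 0))) (.node (.node (.leaf 0x4dd92591495b75b) (.leaf 0)) (.node (.leaf 0x5144d485b65b2cc) (.leaf 0))))

/-- transversal words -/
def tau4L3word : Trie :=
  tau4L3word0

/-- part of closing hints -/
def tau4L3close0 : Trie :=
  (.node (.node (.node (.node (.leaf 0x1) (.leaf 0x2)) (.node (.leaf 0x4) (.leaf 0))) (.node (.node (.leaf 0x0) (.leaf 0)) (.node (.leaf 0x1003) (.leaf 0)))) (.node (.node (.node (.leaf 0x2) (.leaf 0x1004)) (.node (.leaf 0x0) (.leaf 0))) (.node (.node (.leaf 0x3) (.leaf 0)) (.node (.leaf 0x1) (.leaf 0)))))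

/-- closing hints -/
def tau4L3close : Trie :=
  tau4L3close0

/-- a level -/
def tau4L3 : SLev := ⟨9, [0x4dd92591495b75b, 0x5132cc30b2cc], tau4L3tree, tau4L3word, 5, tau4L3close, [(4, 1)]⟩

/-- part of a tree -/
def tau4L4tree0 : Trie :=
  (.node (.leaf 0x0) (.leaf 0x0))

/-- a tree -/
def tau4L4tree : Trie :=
  tau4L4tree0

/-- part of transversal words -/
def tau4L4word0 : Trie :=
  (.node (.leaf 0x0) (.leaf 0x659659))

/-- transversal words -/
def tau4L4word : Trie :=
  tau4L4word0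

/-- part of closing hints -/
def tau4L4close0 : Trie :=
  (.node (.leaf 0x1) (.leaf 0x0))

/-- closing hints -/
def tau4L4close : Trie :=
  tau4L4close0

/-- a level -/
def tau4L4 : SLev := ⟨7, [0x659659], tau4L4tree, tau4L4word, 2, tau4L4close, []⟩

/-- a chain -/
def tau4 : List SLev := [tau4L0, tau4L1, tau4L2, tau4L3, tau4L4]

/-- a representative -/
def r4 : RepD := ⟨1, 9, 0, 9, 1, tau4, [1, 2], [0x1000000004014000, 0x100100200a018000]⟩

/-- part of a tree -/
def tau5L0tree0 : Trie :=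
  (.node (.node (.node (.node (.node (.node (.leaf 0x0) (.leaf 0x18)) (.node (.leaf 0x8) (.leaf 0))) (.node (.node (.leaf 0x100003) (.leaf 0x20)) (.node (.leaf 0x100010) (.leaf 0)))) (.node (.node (.node (.leaf 0x100001) (.leaf 0x10001b)) (.node (.leaf 0x10000c) (.leaf 0))) (.node (.node (.leaf 0x6) (.leaf 0)) (.node (.leaf 0x100013) (.leaf 0))))) (.node (.node (.node (.node (.leaf 0x100000) (.leaf 0x100019)) (.node (.leaf 0x100009) (.leaf 0))) (.node (.node (.leaf 0x100004) (.leaf 0)) (.node (.leaf 0x100012) (.leaf 0)))) (.node (.node (.node (.leaf 0x100002) (.leaf 0x10001d)) (.node (.leaf 0x10000e) (.leaf 0))) (.node (.node (.leaf 0x7) (.leaf 0)) (.node (.leaf 0x16) (.leaf 0)))))) (.node (.node (.node (.node (.node (.leaf 0x0) (.leaf 0x100018)) (.node (.leaf 0x100008) (.leaf 0))) (.node (.node (.leaf 0x4) (.leaf 0x24)) (.node (.leaf 0x11) (.leaf 0)))) (.node (.node (.node (.leaf 0x2) (.leaf 0x1c)) (.node (.leaf 0xd) (.leaf 0))) (.node (.node (.leaf 0x100006)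 (.leaf 0)) (.node (.leaf 0x14) (.leaf 0))))) (.node (.node (.node (.node (.leaf 0x1) (.leaf 0x10001a)) (.node (.leaf 0xc) (.leaf 0))) (.node (.node (.leaf 0x5) (.leaf 0)) (.node (.leaf 0x13) (.leaf 0)))) (.node (.node (.node (.leaf 0x3) (.leaf 0x10001e)) (.node (.leaf 0xf) (.leaf 0))) (.node (.node (.leaf 0x100007) (.leaf 0)) (.node (.leaf 0x100017) (.leaf 0)))))))

/-- a tree -/
def tau5L0tree : Trie :=
  tau5L0tree0

/-- part of transversal words -/
def tau5L0word0 : Trie :=
  (.node (.node (.node (.node (.node (.node (.leaf 0x0) (.leaf 0x44da6da65b30b)) (.node (.leaf 0x1bb256ebae992b) (.leaf 0))) (.node (.node (.leaf 0x14add92596292c865) (.leaf 0x6a4ada6a2b2565bacc)) (.node (.leaf 0x492baeb69d2eb2dd) (.leaf 0)))) (.node (.node (.node (.leaf 0x26d45216d9864) (.leaf 0x229228a275badd6eb)) (.node (.leaf 0x26d36a44d966190b) (.leaf 0))) (.node (.node (.leaf 0x91366190c859) (.leaf 0)) (.node (.leaf 0x4d44da6cb65990b) (.leaf 0))))) (.node (.node (.node (.node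 (.leaf 0x6a42cb65990b) (.leaf 0x36a42d96642cb)) (.node (.leaf 0x8a42db2cb321) (.leaf 0))) (.node (.node (.leaf 0x34da8a42cb65b) (.leaf 0)) (.node (.leaf 0x256abadd85d6e9765) (.leaf 0)))) (.node (.node (.node (.leaf 0x26da6d96d9) (.leaf 0x913664)) (.node (.leaf 0x51489a6cc864321) (.leaf 0))) (.node (.node (.leaf 0x5144cb6cc85b) (.leaf 0)) (.node (.leaf 0xa4b2592c321865) (.leaf 0)))))) (.node (.node (.node (.node (.node (.leaf 0xa26d34d990c859) (.leaf 0x24add6eb7626cb)) (.node (.leaf 0x269d753b2caec) (.leaf 0))) (.node (.node (.leaf 0xa44dd69a66592c959) (.leaf 0x135228a486430c864)) (.node (.leaf 0x48a430b65990c) (.leaf 0)))) (.node (.node (.node (.leaf 0x22b24b24ad4b25929) (.leaf 0x2589b4d4b2592b2db)) (.node (.leaf 0xd35144cb2db2cb) (.leaf 0))) (.node (.node (.leaf 0x89b30c8616cc) (.leaf 0)) (.node (.leaf 0x44da8a42d990b) (.leaf 0))))) (.node (.node (.node (.node (.leaf 0x91365b661659) (.leaf 0x5226d365b321)) (.node (.leaf 0x9a8a44db2d9661) (.leaf 0))) (.node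 (.node (.leaf 0x4d489a6cb65b30b) (.leaf 0)) (.node (.leaf 0x12289a90b65b2db) (.leaf 0)))) (.node (.node (.node (.leaf 0x5226a450b2d965b) (.leaf 0x1452b69a94c2dbb2b)) (.node (.leaf 0x4d45133216d9864) (.leaf 0))) (.node (.node (.leaf 0x248ac4d3add6e9659) (.leaf 0)) (.node (.leaf 0x1a6a2913321661) (.leaf 0)))))))

/-- transversal words -/
def tau5L0word : Trie :=
  tau5L0word0

/-- part of closing hints -/
def tau5L0close0 : Trie :=
  (.node (.node (.node (.node (.node (.node (.node (.leaf 0x1) (.leaf 0x28)) (.node (.leaf 0x100d) (.leaf 0))) (.node (.node (.leaf 0x10) (.leaf 0x100300101f)) (.node (.leaf 0x20) (.leaf 0)))) (.node (.node (.node (.leaf 0x9) (.leaf 0x29)) (.node (.leaf 0x1d) (.leaf 0))) (.node (.node (.leaf 0x13) (.leaf 0)) (.node (.leaf 0x25) (.leaf 0))))) (.node (.node (.node (.node (.leaf 0x5) (.leaf 0x1004023)) (.node (.leaf 0x1004005018) (.leaf 0))) (.node (.node (.leaf 0x2000) (.leaf 0)) (.node (.leaf 0x1003000021) (.leaf 0)))) (.node (.node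 (.node (.leaf 0xc) (.leaf 0x100400401a)) (.node (.leaf 0x1e) (.leaf 0))) (.node (.node (.leaf 0x200a) (.leaf 0)) (.node (.leaf 0x101c) (.leaf 0)))))) (.node (.node (.node (.node (.node (.leaf 0x3) (.leaf 0x1002026)) (.node (.leaf 0x19) (.leaf 0))) (.node (.node (.leaf 0x1000001008) (.leaf 0x1000002014)) (.node (.leaf 0x6) (.leaf 0)))) (.node (.node (.node (.leaf 0xb) (.leaf 0x100000000f)) (.node (.leaf 0x1000000004) (.leaf 0))) (.node (.node (.leaf 0x15) (.leaf 0)) (.node (.leaf 0x1000002022) (.leaf 0))))) (.node (.node (.node (.node (.leaf 0x7) (.leaf 0x1002000024)) (.node (.leaf 0x1b) (.leaf 0))) (.node (.node (.leaf 0x3001002) (.leaf 0)) (.node (.leaf 0x11) (.leaf 0)))) (.node (.node (.node (.leaf 0xe) (.leaf 0x1003003012)) (.node (.leaf 0x1000001016) (.leaf 0))) (.node (.node (.leaf 0x17) (.leaf 0)) (.node (.leaf 0x3003027) (.leaf 0))))))) (.node (.node (.node (.node (.node (.node (.leaf 0x2) (.leaf 0x1003002015)) (.node (.leaf 0x18) (.leaf 0))) (.node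 (.node (.leaf 0x11) (.leaf 0x3000010)) (.node (.leaf 0x21) (.leaf 0)))) (.node (.node (.node (.leaf 0xa) (.leaf 0x201b)) (.node (.leaf 0x2019) (.leaf 0))) (.node (.node (.leaf 0x14) (.leaf 0)) (.node (.leaf 0xe) (.leaf 0))))) (.node (.node (.node (.node (.leaf 0x6) (.leaf 0x200c)) (.node (.leaf 0x1a) (.leaf 0))) (.node (.node (.leaf 0x1003001005) (.leaf 0)) (.node (.leaf 0x23) (.leaf 0)))) (.node (.node (.node (.leaf 0xd) (.leaf 0x1001001020)) (.node (.leaf 0x13) (.leaf 0))) (.node (.node (.leaf 0x16) (.leaf 0)) (.node (.leaf 0x27) (.leaf 0)))))) (.node (.node (.node (.node (.node (.leaf 0x4) (.leaf 0x3000028)) (.node (.leaf 0x100b) (.leaf 0))) (.node (.node (.leaf 0x12) (.leaf 0x2002017)) (.node (.leaf 0x22) (.leaf 0)))) (.node (.node (.node (.leaf 0x4002001) (.leaf 0x1004029)) (.node (.leaf 0x200201d) (.leaf 0))) (.node (.node (.leaf 0x0) (.leaf 0)) (.node (.leaf 0x26) (.leaf 0))))) (.node (.node (.node (.node (.leaf 0x8) (.leaf 0x9)) (.node (.leaf 0x1c)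 (.leaf 0))) (.node (.node (.leaf 0x1003) (.leaf 0)) (.node (.leaf 0x24) (.leaf 0)))) (.node (.node (.node (.leaf 0xf) (.leaf 0x300001e)) (.node (.leaf 0x1f) (.leaf 0))) (.node (.node (.leaf 0x2007) (.leaf 0)) (.node (.leaf 0x1003000025) (.leaf 0))))))))

/-- closing hints -/
def tau5L0close : Trie :=
  tau5L0close0

/-- a level -/
def tau5L0 : SLev := ⟨6, [0xa26d34d990c859, 0x6a42cb65990b], tau5L0tree, tau5L0word, 42, tau5L0close, [(16, 0), (33, 1), (14, 0)]⟩

/-- part of a tree -/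
def tau5L1tree0 : Trie :=
  (.node (.node (.node (.leaf 0x0) (.leaf 0x200003)) (.node (.leaf 0x200000) (.leaf 0))) (.node (.node (.leaf 0x0) (.leaf 0x4)) (.node (.leaf 0x100002) (.leaf 0))))

/-- a tree -/
def tau5L1tree : Trie :=
  tau5L1tree0

/-- part of transversal words -/
def tau5L1word0 : Trie :=
  (.node (.node (.node (.leaf 0x0) (.leaf 0x4da69b4cc321664)) (.node (.leaf 0x185b659) (.leaf 0))) (.node (.node (.leaf 0xcb2db30c) (.leaf 0x4d34da90c2db2cb)) (.node (.leaf 0x135229142cb321) (.leaf 0))))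

/-- transversal words -/
def tau5L1word : Trie :=
  tau5L1word0

/-- part of closing hints -/
def tau5L1close0 : Trie :=
  (.node (.node (.node (.node (.node (.leaf 0x1) (.leaf 0x1004)) (.node (.leaf 0x0) (.leaf 0))) (.node (.node (.leaf 0x3001) (.leaf 0)) (.node (.leaf 0x5) (.leaf 0)))) (.node (.node (.node (.leaf 0x2) (.leaf 0)) (.node (.leaf 0x2) (.leaf 0))) (.node (.node (.leaf 0x1000002) (.leaf 0)) (.node (.leaf 0x3) (.leaf 0))))) (.node (.node (.node (.node (.leaf 0x3000) (.leaf 0x1000005)) (.node (.leaf 0x1000003) (.leaf 0))) (.node (.node (.leaf 0x1000001) (.leaf 0)) (.node (.leaf 0x1005) (.leaf 0)))) (.node (.node (.node (.leaf 0x0) (.leaf 0)) (.node (.leaf 0x4) (.leaf 0))) (.node (.node (.leaf 0x3) (.leaf 0)) (.node (.leaf 0x4) (.leaf 0))))))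

/-- closing hints -/
def tau5L1close : Trie :=
  tau5L1close0

/-- a level -/
def tau5L1 : SLev := ⟨8, [0xcb2db30c, 0x34d45226d96cb30c, 0x185b659], tau5L1tree, tau5L1word, 6, tau5L1close, [(4, 1), (2, 0)]⟩

/-- part of a tree -/
def tau5L2tree0 : Trie :=
  (.node (.node (.node (.leaf 0x0) (.leaf 0x100003)) (.node (.leaf 0x100001) (.leaf 0))) (.node (.node (.leaf 0x0) (.leaf 0)) (.node (.leaf 0x2) (.leaf 0))))

/-- a tree -/
def tau5L2tree : Trie :=
  tau5L2tree0

/-- part of transversal words -/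
def tau5L2word0 : Trie :=
  (.node (.node (.node (.leaf 0x0) (.leaf 0x5134da6d990b30c)) (.node (.leaf 0x1a69b2cc30b2cc) (.leaf 0))) (.node (.node (.leaf 0x5132cc30b2cc) (.leaf 0)) (.node (.leaf 0x34d45226d96cb30c) (.leaf 0))))

/-- transversal words -/
def tau5L2word : Trie :=
  tau5L2word0

/-- part of closing hints -/
def tau5L2close0 : Trie :=
  (.node (.node (.node (.node (.leaf 0x1) (.leaf 0x1004)) (.node (.leaf 0x3) (.leaf 0))) (.node (.node (.leaf 0x0) (.leaf 0)) (.node (.leaf 0x2) (.leaf 0)))) (.node (.node (.node (.leaf 0x1000) (.leaf 0x3)) (.node (.leaf 0x1) (.leaf 0))) (.node (.node (.leaf 0x2) (.leaf 0)) (.node (.leaf 0x4) (.leaf 0)))))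

/-- closing hints -/
def tau5L2close : Trie :=
  tau5L2close0

/-- a level -/
def tau5L2 : SLev := ⟨9, [0x5132cc30b2cc, 0x659659], tau5L2tree, tau5L2word, 5, tau5L2close, [(0, 1)]⟩

/-- part of a tree -/
def tau5L3tree0 : Trie :=
  (.node (.leaf 0x0) (.leaf 0x0))

/-- a tree -/
def tau5L3tree : Trie :=
  tau5L3tree0

/-- part of transversal words -/
def tau5L3word0 : Trie :=
  (.node (.leaf 0x0) (.leaf 0x659659))

/-- transversal words -/
def tau5L3word : Trie :=
  tau5L3word0

/-- part of closing hints -/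
def tau5L3close0 : Trie :=
  (.node (.leaf 0x1) (.leaf 0x0))

/-- closing hints -/
def tau5L3close : Trie :=
  tau5L3close0

/-- a level -/
def tau5L3 : SLev := ⟨7, [0x659659], tau5L3tree, tau5L3word, 2, tau5L3close, []⟩

/-- a chain -/
def tau5 : List SLev := [tau5L0, tau5L1, tau5L2, tau5L3]

/-- a representative -/
def r5 : RepD := ⟨1, 5, 1, 329, 50, tau5, [0x4003004000, 0x100100301c000], [0x4003004000, 0x100100301c000]⟩

/-- part of a tree -/
def tau6L0tree0 : Trie :=
  (.node (.node (.node (.node (.node (.node (.leaf 0x0) (.leaf 0x100017)) (.node (.leaf 0x8) (.leaf 0))) (.node (.node (.leaf 0x100002) (.leaf 0x200023)) (.node (.leaf 0xf) (.leaf 0)))) (.node (.node (.node (.leaf 0x1) (.leaf 0x20001c)) (.node (.leaf 0x10000b) (.leaf 0))) (.node (.node (.leaf 0x5) (.leaf 0)) (.node (.leaf 0x100013) (.leaf 0))))) (.node (.node (.node (.node (.leaf 0x100000) (.leaf 0x20001b)) (.node (.leaf 0x9) (.leaf 0))) (.node (.node (.leaf 0x3) (.leaf 0)) (.node (.leaf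 0x100010) (.leaf 0)))) (.node (.node (.node (.leaf 0x200001) (.leaf 0x200020)) (.node (.leaf 0xd) (.leaf 0))) (.node (.node (.leaf 0x100006) (.leaf 0)) (.node (.leaf 0x100014) (.leaf 0)))))) (.node (.node (.node (.node (.node (.leaf 0x0) (.leaf 0x100019)) (.node (.leaf 0x100008) (.leaf 0))) (.node (.node (.leaf 0x200002) (.leaf 0x100024)) (.node (.leaf 0x10000f) (.leaf 0)))) (.node (.node (.node (.leaf 0x100001) (.leaf 0x10001e)) (.node (.leaf 0x10000c) (.leaf 0))) (.node (.node (.leaf 0x100005) (.leaf 0)) (.node (.leaf 0x14) (.leaf 0))))) (.node (.node (.node (.node (.leaf 0x200000) (.leaf 0x1c)) (.node (.leaf 0x100009) (.leaf 0))) (.node (.node (.leaf 0x100004) (.leaf 0)) (.node (.leaf 0x100011) (.leaf 0)))) (.node (.node (.node (.leaf 0x2) (.leaf 0x200021)) (.node (.leaf 0x10000d) (.leaf 0))) (.node (.node (.leaf 0x200007) (.leaf 0)) (.node (.leaf 0x100015) (.leaf 0)))))))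

/-- a tree -/
def tau6L0tree : Trie :=
  tau6L0tree0

/-- part of transversal words -/
def tau6L0word0 : Trie :=
  (.node (.node (.node (.node (.node (.node (.leaf 0x0) (.leaf 0x34d36a44d965b30b)) (.node (.leaf 0x51369b4eb75badd) (.leaf 0))) (.node (.node (.leaf 0x29148a290b659664) (.leaf 0x285990c2cb)) (.node (.leaf 0x1351369a8642d9659) (.leaf 0)))) (.node (.node (.node (.leaf 0x4d48a42d96cb) (.leaf 0x2592c95430b74b)) (.node (.leaf 0x89b3216cb2cb) (.leaf 0))) (.node (.node (.leaf 0x92292289b30c864) (.leaf 0)) (.node (.leaf 0x369b5148a430c2cb) (.leaf 0))))) (.node (.node (.node (.node (.leaf 0x28a592596585bb2c) (.leaf 0xd451452185965b)) (.node (.leaf 0x9132cc32190b) (.leaf 0))) (.node (.node (.leaf 0x6d45226da861859) (.leaf 0)) (.node (.leaf 0xa5964ad375a92cb0b) (.leaf 0)))) (.node (.node (.node (.leaf 0x89a69b2cc864) (.leaf 0x28a45134cc321661)) (.node (.leaf 0xa26d450c85b321) (.leaf 0))) (.node (.node (.leaf 0x4b2c914aa16d992b) (.leaf 0)) (.node (.leaf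 0x52592c964aa190c) (.leaf 0)))))) (.node (.node (.node (.node (.node (.leaf 0x4da6d4864321) (.leaf 0x28ac962b2c2dd764)) (.node (.leaf 0x26d451485b2cb65b) (.leaf 0))) (.node (.node (.leaf 0x144da6d42cb30c) (.leaf 0x4964522add65b2dd)) (.node (.leaf 0x6a42d96642d9) (.leaf 0)))) (.node (.node (.node (.leaf 0x26d48a26d990b30c) (.leaf 0x369a69b2d965b)) (.node (.leaf 0x1a6cc2cb321) (.leaf 0))) (.node (.node (.leaf 0x1d6eb7532cc94c) (.leaf 0)) (.node (.leaf 0x8a4522914861861) (.leaf 0))))) (.node (.node (.node (.node (.leaf 0x33216d96cc) (.leaf 0x295d69aadd6d3ae9)) (.node (.leaf 0x48a451494b75badd) (.leaf 0))) (.node (.node (.leaf 0x91352c964b252d9) (.leaf 0)) (.node (.leaf 0x269a8a26598642cc) (.leaf 0)))) (.node (.node (.node (.leaf 0x48a2914861864) (.leaf 0x45244da6d42cb321)) (.node (.leaf 0x492baeb69d2eb2dd) (.leaf 0))) (.node (.node (.leaf 0x12c52592a86595d) (.leaf 0)) (.node (.leaf 0x34d45148642cb65b) (.leaf 0)))))))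

/-- transversal words -/
def tau6L0word : Trie :=
  tau6L0word0

/-- part of closing hints -/
def tau6L0close0 : Trie :=
  (.node (.node (.node (.node (.node (.node (.node (.leaf 0x1) (.leaf 0x1f)) (.node (.leaf 0x100300200a) (.leaf 0x300301c))) (.node (.node (.leaf 0xd) (.leaf 0x300001d)) (.node (.leaf 0x1003017) (.leaf 0x4)))) (.node (.node (.node (.leaf 0x9) (.leaf 0x1001002011)) (.node (.leaf 0x17) (.leaf 0x1b))) (.node (.node (.leaf 0x10) (.leaf 0x1004000018)) (.node (.leaf 0x3003012) (.leaf 0x1004002029))))) (.node (.node (.node (.node (.leaf 0x5) (.leaf 0x1003018)) (.node (.leaf 0x100300200e) (.leaf 0x2001006))) (.node (.node (.leaf 0x1) (.leaf 0x23)) (.node (.leaf 0x1b) (.leaf 0x20)))) (.node (.node (.node (.leaf 0x0) (.leaf 0x21)) (.node (.leaf 0x1002002014) (.leaf 0x3004027))) (.node (.node (.leaf 0x13) (.leaf 0x3000019)) (.node (.leaf 0x1d) (.leaf 0x22)))))) (.node (.node (.node (.node (.node (.leaf 0x3) (.leaf 0x200501e)) (.node (.leaf 0x14)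 (.leaf 0x26))) (.node (.node (.leaf 0x3002003) (.leaf 0x0)) (.node (.leaf 0x4001010) (.leaf 0x1002004028)))) (.node (.node (.node (.leaf 0x1000000007) (.leaf 0x1003016)) (.node (.leaf 0x1003002005) (.leaf 0x200000a))) (.node (.node (.leaf 0x1002001005) (.leaf 0x200500d)) (.node (.leaf 0x1c) (.leaf 0x23))))) (.node (.node (.node (.node (.leaf 0x7) (.leaf 0x20)) (.node (.leaf 0x1002002015) (.leaf 0x1002004024))) (.node (.node (.leaf 0x2000009) (.leaf 0x24)) (.node (.leaf 0x1001003019) (.leaf 0x1000001026)))) (.node (.node (.node (.leaf 0x1000000004) (.leaf 0x100100001f)) (.node (.leaf 0x19) (.leaf 0x1c))) (.node (.node (.leaf 0x3002006) (.leaf 0x1001001023)) (.node (.leaf 0x100100e) (.leaf 0))))))) (.node (.node (.node (.node (.node (.node (.leaf 0x2) (.leaf 0x100100c)) (.node (.leaf 0x3002002) (.leaf 0x1))) (.node (.node (.leaf 0x1001004008) (.leaf 0x1021)) (.node (.leaf 0x1a) (.leaf 0x1000029)))) (.node (.node (.node (.leaf 0xa) (.leaf 0x3003010)) (.node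 (.leaf 0x100200b) (.leaf 0x3003020))) (.node (.node (.leaf 0x11) (.leaf 0x300001a)) (.node (.leaf 0x4014) (.leaf 0x3028))))) (.node (.node (.node (.node (.leaf 0x6) (.leaf 0x1003008)) (.node (.leaf 0x15) (.leaf 0x27))) (.node (.node (.leaf 0x300200b) (.leaf 0x1002000003)) (.node (.leaf 0x1002000011) (.leaf 0x4000022)))) (.node (.node (.node (.leaf 0xb) (.leaf 0x300001e)) (.node (.leaf 0x18) (.leaf 0x29))) (.node (.node (.leaf 0x2) (.leaf 0x1004004015)) (.node (.leaf 0x1e) (.leaf 0x1003000025)))))) (.node (.node (.node (.node (.node (.leaf 0x4) (.leaf 0x100400401d)) (.node (.leaf 0x100100100d) (.leaf 0x4000025))) (.node (.node (.leaf 0xe) (.leaf 0x22)) (.node (.leaf 0x300500f) (.leaf 0x1001004024)))) (.node (.node (.node (.leaf 0x0) (.leaf 0x1003004009)) (.node (.leaf 0x100400300f) (.leaf 0x28))) (.node (.node (.leaf 0x12) (.leaf 0x25)) (.node (.leaf 0x1017) (.leaf 0x1004026))))) (.node (.node (.node (.node (.leaf 0x8) (.leaf 0x4013)) (.node (.leaf 0x16)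 (.leaf 0x4000027))) (.node (.node (.leaf 0xf) (.leaf 0x1013)) (.node (.leaf 0x1003004012) (.leaf 0x21)))) (.node (.node (.node (.leaf 0xc) (.leaf 0x2005016)) (.node (.leaf 0x7) (.leaf 0x200401b))) (.node (.node (.leaf 0x100300200c) (.leaf 0x100400001f)) (.node (.leaf 0x200401a) (.leaf 0))))))))

/-- closing hints -/
def tau6L0close : Trie :=
  tau6L0close0

/-- a level -/
def tau6L0 : SLev := ⟨6, [0x4da6d4864321, 0x28a592596585bb2c, 0x33216d96cc], tau6L0tree, tau6L0word, 42, tau6L0close, [(19, 2), (16, 2)]⟩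

/-- part of a tree -/
def tau6L1tree0 : Trie :=
  (.node (.node (.node (.leaf 0x0) (.leaf 0x3)) (.node (.leaf 0x1) (.leaf 0))) (.node (.node (.leaf 0x0) (.leaf 0x100003)) (.node (.leaf 0x2) (.leaf 0))))

/-- a tree -/
def tau6L1tree : Trie :=
  tau6L1tree0

/-- part of transversal words -/
def tau6L1word0 : Trie :=
  (.node (.node (.node (.leaf 0x0) (.leaf 0x89a6a44cc8642cc)) (.node (.leaf 0x89b30c85b659) (.leaf 0))) (.node (.node (.leaf 0x89a9148a16596cc) (.leaf 0xa28a430b664)) (.node (.leaf 0x51491365990b) (.leaf 0))))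

/-- transversal words -/
def tau6L1word : Trie :=
  tau6L1word0

/-- part of closing hints -/
def tau6L1close0 : Trie :=
  (.node (.node (.node (.node (.leaf 0x1) (.leaf 0x0)) (.node (.leaf 0x3) (.leaf 0))) (.node (.node (.leaf 0x2) (.leaf 0x1005)) (.node (.leaf 0x4) (.leaf 0)))) (.node (.node (.node (.leaf 0x4001) (.leaf 0x1004004)) (.node (.leaf 0x1000002) (.leaf 0))) (.node (.node (.leaf 0x2000) (.leaf 0x3)) (.node (.leaf 0x5) (.leaf 0)))))

/-- closing hints -/
def tau6L1close : Trie :=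
  tau6L1close0

/-- a level -/
def tau6L1 : SLev := ⟨8, [0x89a9148a16596cc, 0x1452289a66190c30c], tau6L1tree, tau6L1word, 6, tau6L1close, [(5, 0), (2, 1)]⟩

/-- part of a tree -/
def tau6L2tree0 : Trie :=
  (.node (.node (.node (.leaf 0x0) (.leaf 0x2)) (.node (.leaf 0x1) (.leaf 0))) (.node (.node (.leaf 0x0) (.leaf 0)) (.node (.leaf 0x100001) (.leaf 0))))

/-- a tree -/
def tau6L2tree : Trie :=
  tau6L2tree0

/-- part of transversal words -/
def tau6L2word0 : Trie :=
  (.node (.node (.node (.leaf 0x0) (.leaf 0x5144d485b65b2cc)) (.node (.leaf 0x5134da6d990b30c) (.leaf 0))) (.node (.node (.leaf 0x1a69b2cc30b2cc) (.leaf 0)) (.node (.leaf 0x5132cc30b2cc) (.leaf 0))))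

/-- transversal words -/
def tau6L2word : Trie :=
  tau6L2word0

/-- part of closing hints -/
def tau6L2close0 : Trie :=
  (.node (.node (.node (.node (.leaf 0x1) (.leaf 0x1003)) (.node (.leaf 0x4) (.leaf 0))) (.node (.node (.leaf 0x2) (.leaf 0)) (.node (.leaf 0x1000) (.leaf 0)))) (.node (.node (.node (.leaf 0x1000) (.leaf 0x1002)) (.node (.leaf 0x1004) (.leaf 0))) (.node (.node (.leaf 0x3) (.leaf 0)) (.node (.leaf 0x1) (.leaf 0)))))

/-- closing hints -/
def tau6L2close : Trie :=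
  tau6L2close0

/-- a level -/
def tau6L2 : SLev := ⟨9, [0x1a69b2cc30b2cc, 0x659659], tau6L2tree, tau6L2word, 5, tau6L2close, [(3, 0)]⟩

/-- part of a tree -/
def tau6L3tree0 : Trie :=
  (.node (.leaf 0x0) (.leaf 0x0))

/-- a tree -/
def tau6L3tree : Trie :=
  tau6L3tree0

/-- part of transversal words -/
def tau6L3word0 : Trie :=
  (.node (.leaf 0x0) (.leaf 0x659659))

/-- transversal words -/
def tau6L3word : Trie :=
  tau6L3word0

/-- part of closing hints -/
def tau6L3close0 : Trie :=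
  (.node (.leaf 0x1) (.leaf 0x0))

/-- closing hints -/
def tau6L3close : Trie :=
  tau6L3close0

/-- a level -/
def tau6L3 : SLev := ⟨7, [0x659659], tau6L3tree, tau6L3word, 2, tau6L3close, []⟩

/-- a chain -/
def tau6 : List SLev := [tau6L0, tau6L1, tau6L2, tau6L3]

/-- a representative -/
def r6 : RepD := ⟨1, 42, 2, 1, 50, tau6, [0x1001001015000, 0x1002003008000, 0x3001006000], [0x2004015000, 0x100001c000, 0x1002000018000]⟩

/-- part of a tree -/
def tau7L0tree0 : Trie :=
  (.node (.node (.node (.node (.node (.node (.leaf 0x0) (.leaf 0x18)) (.node (.leaf 0x100008) (.leaf 0))) (.node (.node (.leaf 0x100003) (.leaf 0x100020)) (.node (.leaf 0x10) (.leaf 0)))) (.node (.node (.node (.leaf 0x100001) (.leaf 0x1b)) (.node (.leaf 0xc) (.leaf 0))) (.node (.node (.leaf 0x100005) (.leaf 0)) (.node (.leaf 0x13) (.leaf 0))))) (.node (.node (.node (.node (.leaf 0x100000) (.leaf 0x1a)) (.node (.leaf 0xa) (.leaf 0))) (.node (.node (.leaf 0x100004) (.leaf 0)) (.node (.leaf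 0x100011) (.leaf 0)))) (.node (.node (.node (.leaf 0x100002) (.leaf 0x1f)) (.node (.leaf 0xd) (.leaf 0))) (.node (.node (.leaf 0x7) (.leaf 0)) (.node (.leaf 0x15) (.leaf 0)))))) (.node (.node (.node (.node (.node (.leaf 0x0) (.leaf 0x19)) (.node (.leaf 0x9) (.leaf 0))) (.node (.node (.leaf 0x4) (.leaf 0x28)) (.node (.leaf 0x11) (.leaf 0)))) (.node (.node (.node (.leaf 0x2) (.leaf 0x10001e)) (.node (.leaf 0x10000c) (.leaf 0))) (.node (.node (.leaf 0x6) (.leaf 0)) (.node (.leaf 0x100013) (.leaf 0))))) (.node (.node (.node (.node (.leaf 0x1) (.leaf 0x10001a)) (.node (.leaf 0xb) (.leaf 0))) (.node (.node (.leaf 0x5) (.leaf 0)) (.node (.leaf 0x100012) (.leaf 0)))) (.node (.node (.node (.leaf 0x3) (.leaf 0x10001f)) (.node (.leaf 0x10000e) (.leaf 0))) (.node (.node (.leaf 0x100007) (.leaf 0)) (.node (.leaf 0x16) (.leaf 0)))))))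

/-- a tree -/
def tau7L0tree : Trie :=
  tau7L0tree0

/-- part of transversal words -/
def tau7L0word0 : Trie :=
  (.node (.node (.node (.node (.node (.node (.leaf 0x0) (.leaf 0x48a42db)) (.node (.leaf 0x156ac91332c2cb764) (.leaf 0))) (.node (.node (.leaf 0x4da91450b2cb6cb) (.leaf 0x89b3216d9661)) (.node (.leaf 0x69ab2b65b2dbb25) (.leaf 0)))) (.node (.node (.node (.leaf 0x2b134d56eb69bb0c) (.leaf 0x5136a290c3216cb)) (.node (.leaf 0x134d369b661859) (.leaf 0))) (.node (.node (.leaf 0x36a291486430b) (.leaf 0)) (.node (.leaf 0x1a9226d42d96cc) (.leaf 0))))) (.node (.node (.node (.node (.leaf 0x8a2b2a95d765) (.leaf 0x9b30b6616cc)) (.node (.leaf 0x135244db2db2cc) (.leaf 0))) (.node (.node (.leaf 0x245226da661864) (.leaf 0)) (.node (.leaf 0x55bb2274baeb6eb) (.leaf 0)))) (.node (.node (.node (.leaf 0x8a2913321864) (.leaf 0x2ada962add95365d)) (.node (.leaf 0x95b4d4b13325329) (.leaf 0))) (.node (.node (.leaf 0x350b661859) (.leaf 0)) (.node (.leaf 0x9a69b4cc30b6cb)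 (.leaf 0)))))) (.node (.node (.node (.node (.node (.leaf 0x28596642cc) (.leaf 0x29226a4964b2592a)) (.node (.leaf 0xa28a48a430b661) (.leaf 0))) (.node (.node (.leaf 0xa291486430c) (.leaf 0x89b4d48996d9661)) (.node (.leaf 0x14b256d3764a59) (.leaf 0)))) (.node (.node (.node (.leaf 0xa269b4db2cb661) (.leaf 0x44d369b2d9664)) (.node (.leaf 0x1644da759759929) (.leaf 0))) (.node (.node (.leaf 0x524321664321) (.leaf 0)) (.node (.leaf 0x35228a44d990c321) (.leaf 0))))) (.node (.node (.node (.node (.leaf 0x44da6a42cb664) (.leaf 0x9b4da6a18596cc)) (.node (.leaf 0x244ec964b0b32175b) (.leaf 0))) (.node (.node (.leaf 0x1b5244d350c3216cc) (.leaf 0)) (.node (.leaf 0xab6a432c32c2dd) (.leaf 0)))) (.node (.node (.node (.leaf 0x36a430b66190b) (.leaf 0x9142cc8596cc)) (.node (.leaf 0x4da6d42d96d9) (.leaf 0))) (.node (.node (.leaf 0x55aada85d66192b) (.leaf 0)) (.node (.leaf 0x8a48a289965b321) (.leaf 0)))))))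

/-- transversal words -/
def tau7L0word : Trie :=
  tau7L0word0

/-- part of closing hints -/
def tau7L0close0 : Trie :=
  (.node (.node (.node (.node (.node (.node (.node (.leaf 0x1) (.leaf 0x1000001027)) (.node (.leaf 0x18) (.leaf 0))) (.node (.node (.leaf 0x200100c) (.leaf 0x29)) (.node (.leaf 0x20) (.leaf 0)))) (.node (.node (.node (.leaf 0x9) (.leaf 0x1003008)) (.node (.leaf 0x100500201b) (.leaf 0))) (.node (.node (.leaf 0x14) (.leaf 0)) (.node (.leaf 0x2) (.leaf 0))))) (.node (.node (.node (.node (.leaf 0x5) (.leaf 0x2025)) (.node (.leaf 0x3001015) (.leaf 0))) (.node (.node (.leaf 0x12) (.leaf 0)) (.node (.leaf 0x22) (.leaf 0)))) (.node (.node (.node (.leaf 0xd) (.leaf 0x6)) (.node (.leaf 0x1f) (.leaf 0))) (.node (.node (.leaf 0x0) (.leaf 0)) (.node (.leaf 0x1000003023) (.leaf 0)))))) (.node (.node (.node (.node (.node (.leaf 0x3) (.leaf 0x4)) (.node (.leaf 0x19) (.leaf 0))) (.node (.node (.leaf 0x11) (.leaf 0x401a)) (.node (.leaf 0x21) (.leaf 0))))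 (.node (.node (.node (.leaf 0xb) (.leaf 0x4028)) (.node (.leaf 0x1e) (.leaf 0))) (.node (.node (.leaf 0x16) (.leaf 0)) (.node (.leaf 0x4000010) (.leaf 0))))) (.node (.node (.node (.node (.leaf 0x7) (.leaf 0x100400300a)) (.node (.leaf 0x1c) (.leaf 0))) (.node (.node (.leaf 0x13) (.leaf 0)) (.node (.leaf 0x24) (.leaf 0)))) (.node (.node (.node (.leaf 0xe) (.leaf 0x400301d)) (.node (.leaf 0x2017) (.leaf 0))) (.node (.node (.leaf 0x400100f) (.leaf 0)) (.node (.leaf 0x26) (.leaf 0))))))) (.node (.node (.node (.node (.node (.node (.leaf 0x2) (.leaf 0x28)) (.node (.leaf 0x3) (.leaf 0))) (.node (.node (.leaf 0x10) (.leaf 0x5003029)) (.node (.leaf 0x1003002019) (.leaf 0)))) (.node (.node (.node (.leaf 0xa) (.leaf 0x100101f)) (.node (.leaf 0x1004000014) (.leaf 0))) (.node (.node (.leaf 0x15) (.leaf 0)) (.node (.leaf 0x12) (.leaf 0))))) (.node (.node (.node (.node (.leaf 0x6) (.leaf 0x1002000022)) (.node (.leaf 0x1b) (.leaf 0))) (.node (.node (.leaf 0x1) (.leaf 0))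 (.node (.leaf 0x23) (.leaf 0)))) (.node (.node (.node (.leaf 0x0) (.leaf 0x1e)) (.node (.leaf 0x1007) (.leaf 0))) (.node (.node (.leaf 0x17) (.leaf 0)) (.node (.leaf 0x25) (.leaf 0)))))) (.node (.node (.node (.node (.node (.leaf 0x4) (.leaf 0x18)) (.node (.leaf 0x1a) (.leaf 0))) (.node (.node (.leaf 0x1004003009) (.leaf 0x1005004020)) (.node (.leaf 0x1005001021) (.leaf 0)))) (.node (.node (.node (.leaf 0xc) (.leaf 0x26)) (.node (.leaf 0x5) (.leaf 0))) (.node (.node (.leaf 0x100200300e) (.leaf 0)) (.node (.leaf 0x100b) (.leaf 0))))) (.node (.node (.node (.node (.leaf 0x8) (.leaf 0x11)) (.node (.leaf 0x1d) (.leaf 0))) (.node (.node (.leaf 0x3013) (.leaf 0)) (.node (.leaf 0x1c) (.leaf 0)))) (.node (.node (.node (.leaf 0xf) (.leaf 0x4003024)) (.node (.leaf 0x200d) (.leaf 0))) (.node (.node (.leaf 0x3016) (.leaf 0)) (.node (.leaf 0x27) (.leaf 0))))))))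

/-- closing hints -/
def tau7L0close : Trie :=
  tau7L0close0

/-- a level -/
def tau7L0 : SLev := ⟨4, [0x28596642cc, 0x8a2b2a95d765], tau7L0tree, tau7L0word, 42, tau7L0close, [(29, 1), (23, 1)]⟩

/-- part of a tree -/
def tau7L1tree0 : Trie :=
  (.node (.node (.node (.leaf 0x0) (.leaf 0x100002)) (.node (.leaf 0x100000) (.leaf 0))) (.node (.node (.leaf 0x0) (.leaf 0)) (.node (.leaf 0x1) (.leaf 0))))

/-- a tree -/
def tau7L1tree : Trie :=
  tau7L1tree0

/-- part of transversal words -/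
def tau7L1word0 : Trie :=
  (.node (.node (.node (.leaf 0x0) (.leaf 0x1a6618596cb)) (.node (.leaf 0x4d351485b65b30b) (.leaf 0))) (.node (.node (.leaf 0x6a430c85b2cb) (.leaf 0)) (.node (.leaf 0x8a29136596cc) (.leaf 0))))

/-- transversal words -/
def tau7L1word : Trie :=
  tau7L1word0

/-- part of closing hints -/
def tau7L1close0 : Trie :=
  (.node (.node (.node (.node (.leaf 0x1) (.leaf 0x1004)) (.node (.leaf 0x5002) (.leaf 0))) (.node (.node (.leaf 0x3) (.leaf 0)) (.node (.leaf 0x0) (.leaf 0)))) (.node (.node (.node (.leaf 0x2) (.leaf 0x1000001)) (.node (.leaf 0x4) (.leaf 0))) (.node (.node (.leaf 0x2003) (.leaf 0)) (.node (.leaf 0x1000) (.leaf 0)))))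

/-- closing hints -/
def tau7L1close : Trie :=
  tau7L1close0

/-- a level -/
def tau7L1 : SLev := ⟨6, [0x6a430c85b2cb, 0x4d351485b65b30b], tau7L1tree, tau7L1word, 5, tau7L1close, [(4, 0), (1, 1)]⟩

/-- part of a tree -/
def tau7L2tree0 : Trie :=
  (.node (.node (.node (.leaf 0x0) (.leaf 0x100002)) (.node (.leaf 0x100000) (.leaf 0))) (.node (.node (.leaf 0x0) (.leaf 0x100003)) (.node (.leaf 0x100001) (.leaf 0))))

/-- a tree -/
def tau7L2tree : Trie :=
  tau7L2tree0

/-- part of transversal words -/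
def tau7L2word0 : Trie :=
  (.node (.node (.node (.leaf 0x0) (.leaf 0x42d9861)) (.node (.leaf 0x165990b) (.leaf 0))) (.node (.node (.leaf 0x185b30c) (.leaf 0x89b32185b321)) (.node (.leaf 0x4d330c2cb30c) (.leaf 0))))

/-- transversal words -/
def tau7L2word : Trie :=
  tau7L2word0

/-- part of closing hints -/
def tau7L2close0 : Trie :=
  (.node (.node (.node (.node (.leaf 0x1) (.leaf 0x1005)) (.node (.leaf 0x1000) (.leaf 0))) (.node (.node (.leaf 0x1002) (.leaf 0x1003)) (.node (.leaf 0x4) (.leaf 0)))) (.node (.node (.node (.leaf 0x2) (.leaf 0x0)) (.node (.leaf 0x4) (.leaf 0))) (.node (.node (.leaf 0x3) (.leaf 0x1)) (.node (.leaf 0x5) (.leaf 0)))))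

/-- closing hints -/
def tau7L2close : Trie :=
  tau7L2close0

/-- a level -/
def tau7L2 : SLev := ⟨8, [0x185b30c, 0x165990b], tau7L2tree, tau7L2word, 6, tau7L2close, [(5, 0)]⟩

/-- part of a tree -/
def tau7L3tree0 : Trie :=
  (.node (.leaf 0x0) (.leaf 0x0))

/-- a tree -/
def tau7L3tree : Trie :=
  tau7L3tree0

/-- part of transversal words -/
def tau7L3word0 : Trie :=
  (.node (.leaf 0x0) (.leaf 0x5132cc30b2cc))

/-- transversal words -/
def tau7L3word : Trie :=
  tau7L3word0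

/-- part of closing hints -/
def tau7L3close0 : Trie :=
  (.node (.leaf 0x1) (.leaf 0x0))

/-- closing hints -/
def tau7L3close : Trie :=
  tau7L3close0

/-- a level -/
def tau7L3 : SLev := ⟨9, [0x5132cc30b2cc], tau7L3tree, tau7L3word, 2, tau7L3close, []⟩

/-- a chain -/
def tau7 : List SLev := [tau7L0, tau7L1, tau7L2, tau7L3]

/-- a representative -/
def r7 : RepD := ⟨1, 353, 3, 0x42d990b, 50, tau7, [0x1003003024009, 0x100002e], [0x100300001d000, 0x2002007000]⟩

/-- part of a tree -/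
def tau8L0tree0 : Trie :=
  (.node (.node (.node (.leaf 0x0) (.leaf 0x100002)) (.node (.leaf 0x100001) (.leaf 0x4))) (.node (.node (.leaf 0x0) (.leaf 0x3)) (.node (.leaf 0x2) (.leaf 0))))

/-- a tree -/
def tau8L0tree : Trie :=
  tau8L0tree0

/-- part of transversal words -/
def tau8L0word0 : Trie :=
  (.node (.node (.node (.leaf 0x0) (.leaf 0x29145132db2cb65b)) (.node (.leaf 0x5226a452165b2cc) (.leaf 0x29226a592c964b14))) (.node (.node (.leaf 0xd3664) (.leaf 0x1a8a29142cb2cc)) (.node (.leaf 0x2269b4db321864) (.leaf 0))))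

/-- transversal words -/
def tau8L0word : Trie :=
  tau8L0word0

/-- part of closing hints -/
def tau8L0close0 : Trie :=
  (.node (.node (.node (.node (.leaf 0x1) (.leaf 0x6)) (.node (.leaf 0x3) (.leaf 0x1002023004))) (.node (.node (.leaf 0x1004020000) (.leaf 0x2002)) (.node (.leaf 0x5) (.leaf 0)))) (.node (.node (.node (.leaf 0x1001002001) (.leaf 0x1000)) (.node (.leaf 0x4) (.leaf 0x1003016006))) (.node (.node (.leaf 0x2) (.leaf 0x3003)) (.node (.leaf 0x1004022005) (.leaf 0)))))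

/-- closing hints -/
def tau8L0close : Trie :=
  tau8L0close0

/-- a level -/
def tau8L0 : SLev := ⟨4, [0xd3664, 0x11485b659861], tau8L0tree, tau8L0word, 7, tau8L0close, [(4, 1), (5, 0), (5, 1)]⟩

/-- part of a tree -/
def tau8L1tree0 : Trie :=
  (.node (.node (.node (.node (.node (.node (.leaf 0x0) (.leaf 0x200015)) (.node (.leaf 0x6) (.leaf 0))) (.node (.node (.leaf 0x100003) (.leaf 0)) (.node (.leaf 0xc) (.leaf 0)))) (.node (.node (.node (.leaf 0x1) (.leaf 0)) (.node (.leaf 0x9) (.leaf 0))) (.node (.node (.leaf 0x200004) (.leaf 0)) (.node (.leaf 0x10) (.leaf 0))))) (.node (.node (.node (.node (.leaf 0x100000) (.leaf 0x10001a)) (.node (.leaf 0x100007) (.leaf 0))) (.node (.node (.leaf 0x4) (.leaf 0)) (.node (.leaf 0xd) (.leaf 0)))) (.node (.node (.node (.leaf 0x200002) (.leaf 0)) (.node (.leaf 0x20000a) (.leaf 0))) (.node (.node (.leaf 0x100005) (.leaf 0)) (.node (.leaf 0x100014) (.leaf 0)))))) (.node (.node (.node (.node (.node (.leaf 0x0) (.leaf 0x100016))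 (.node (.leaf 0x7) (.leaf 0))) (.node (.node (.leaf 0x200003) (.leaf 0)) (.node (.leaf 0x10000c) (.leaf 0)))) (.node (.node (.node (.leaf 0x200001) (.leaf 0)) (.node (.leaf 0x200009) (.leaf 0))) (.node (.node (.leaf 0x5) (.leaf 0)) (.node (.leaf 0x100010) (.leaf 0))))) (.node (.node (.node (.node (.leaf 0x200000) (.leaf 0x20001d)) (.node (.leaf 0x8) (.leaf 0))) (.node (.node (.leaf 0x100004) (.leaf 0)) (.node (.leaf 0x10000d) (.leaf 0)))) (.node (.node (.node (.leaf 0x3) (.leaf 0)) (.node (.leaf 0x20000b) (.leaf 0))) (.node (.node (.leaf 0x200005) (.leaf 0)) (.node (.leaf 0x100015) (.leaf 0)))))))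

/-- a tree -/
def tau8L1tree : Trie :=
  tau8L1tree0

/-- part of transversal words -/
def tau8L1word0 : Trie :=
  (.node (.node (.node (.node (.node (.node (.leaf 0x0) (.leaf 0x48a28a48a190c2d9)) (.node (.leaf 0x30c861) (.leaf 0))) (.node (.node (.leaf 0x5148a489b30b659) (.leaf 0)) (.node (.leaf 0x28a26abb2cadd32c) (.leaf 0)))) (.node (.node (.node (.leaf 0x69b4d450b2d96cb) (.leaf 0)) (.node (.leaf 0x1226d34db30c85b) (.leaf 0))) (.node (.node (.leaf 0x134d34da6618596cb) (.leaf 0)) (.node (.leaf 0x4d45132db2cb65b) (.leaf 0))))) (.node (.node (.node (.node (.leaf 0x26acaebb254ec) (.leaf 0x2cb659)) (.node (.leaf 0x85b65b30b) (.leaf 0))) (.node (.node (.leaf 0x8a452289966190c) (.leaf 0)) (.node (.leaf 0x5144cb6cc85b) (.leaf 0)))) (.node (.node (.node (.leaf 0x228596cb659) (.leaf 0)) (.node (.leaf 0x69a89b65b321) (.leaf 0))) (.node (.node (.leaf 0x1b30c2d9) (.leaf 0)) (.node (.leaf 0x134d450c85b321) (.leaf 0)))))) (.node (.node (.node (.node (.node (.leaf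 0x5148a452190c2cb) (.leaf 0x1a6cb30c861)) (.node (.leaf 0x9132cb659664) (.leaf 0))) (.node (.node (.leaf 0x244d9859659) (.leaf 0)) (.node (.leaf 0x244da6d36616cb) (.leaf 0)))) (.node (.node (.node (.leaf 0x269a8acaebb252eb) (.leaf 0)) (.node (.leaf 0x1432166185b) (.leaf 0))) (.node (.node (.leaf 0x42d96d990b) (.leaf 0)) (.node (.leaf 0x4d491430b6cb) (.leaf 0))))) (.node (.node (.node (.node (.leaf 0x28a26a42db30c85b) (.leaf 0x861659)) (.node (.leaf 0x1330b66430c) (.leaf 0))) (.node (.node (.leaf 0x1a6d44d96cb664) (.leaf 0)) (.node (.leaf 0x369a69b65965b) (.leaf 0)))) (.node (.node (.node (.leaf 0x91365b661659) (.leaf 0)) (.node (.leaf 0x145134d432166185b) (.leaf 0))) (.node (.node (.leaf 0x276575d94cb0c) (.leaf 0)) (.node (.leaf 0x1489b321861659) (.leaf 0)))))))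

/-- transversal words -/
def tau8L1word : Trie :=
  tau8L1word0

/-- part of closing hints -/
def tau8L1close0 : Trie :=
  (.node (.node (.node (.node (.node (.node (.node (.leaf 0x1) (.leaf 0x1f)) (.node (.leaf 0x16) (.leaf 0x100100e))) (.node (.node (.leaf 0xe) (.leaf 0x1001002)) (.node (.leaf 0x1c) (.leaf 0)))) (.node (.node (.node (.leaf 0x6) (.leaf 0x20)) (.node (.leaf 0x1b) (.leaf 0x4001))) (.node (.node (.leaf 0x13) (.leaf 0x10)) (.node (.leaf 0x1003011) (.leaf 0))))) (.node (.node (.node (.node (.leaf 0x1004001) (.leaf 0x1000008)) (.node (.leaf 0x18) (.leaf 0x16))) (.node (.node (.leaf 0x100400e) (.leaf 0x1002019)) (.node (.leaf 0x3011) (.leaf 0)))) (.node (.node (.node (.leaf 0xa) (.leaf 0xc)) (.node (.leaf 0x3014) (.leaf 0))) (.node (.node (.leaf 0x2006) (.leaf 0x401e)) (.node (.leaf 0x1005) (.leaf 0)))))) (.node (.node (.node (.node (.node (.leaf 0x3) (.leaf 0x401f)) (.node (.leaf 0x4) (.leaf 0x0))) (.node (.node (.leaf 0x10) (.leaf 0xd)) (.node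 (.leaf 0x2007) (.leaf 0)))) (.node (.node (.node (.leaf 0x8) (.leaf 0x401f)) (.node (.leaf 0x1000012) (.leaf 0x1001020))) (.node (.node (.leaf 0x1004012) (.leaf 0x23)) (.node (.leaf 0x1003018) (.leaf 0))))) (.node (.node (.node (.node (.leaf 0x2000) (.leaf 0x100400f)) (.node (.leaf 0x1003019) (.leaf 0x1003008))) (.node (.node (.leaf 0x12) (.leaf 0x2004)) (.node (.leaf 0x100200c) (.leaf 0)))) (.node (.node (.node (.leaf 0xc) (.leaf 0x1009)) (.node (.leaf 0x1004017) (.leaf 0))) (.node (.node (.leaf 0x1001002) (.leaf 0x15)) (.node (.leaf 0x1a) (.leaf 0))))))) (.node (.node (.node (.node (.node (.node (.leaf 0x2) (.leaf 0x20)) (.node (.leaf 0x100300b) (.leaf 0x2023))) (.node (.node (.leaf 0xf) (.leaf 0x1003006)) (.node (.leaf 0x1d) (.leaf 0)))) (.node (.node (.node (.leaf 0x7) (.leaf 0x4013)) (.node (.leaf 0x18) (.leaf 0x1002021))) (.node (.node (.leaf 0x3) (.leaf 0x23)) (.node (.leaf 0x1001016) (.leaf 0))))) (.node (.node (.node (.node (.leaf 0x5) (.leaf 0x100001e))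 (.node (.leaf 0x19) (.leaf 0x100301d))) (.node (.node (.leaf 0x11) (.leaf 0x301c)) (.node (.leaf 0xa) (.leaf 0)))) (.node (.node (.node (.leaf 0xb) (.leaf 0x3013)) (.node (.leaf 0x15) (.leaf 0))) (.node (.node (.leaf 0x15) (.leaf 0x2022)) (.node (.leaf 0x1e) (.leaf 0)))))) (.node (.node (.node (.node (.node (.leaf 0x4) (.leaf 0x21)) (.node (.leaf 0x17) (.leaf 0x201d))) (.node (.node (.leaf 0x1001009) (.leaf 0x3022)) (.node (.leaf 0x100f) (.leaf 0)))) (.node (.node (.node (.leaf 0x9) (.leaf 0x301b)) (.node (.leaf 0x5) (.leaf 0x100b))) (.node (.node (.leaf 0x14) (.leaf 0x14)) (.node (.leaf 0x101c) (.leaf 0))))) (.node (.node (.node (.node (.leaf 0x0) (.leaf 0x1002021)) (.node (.leaf 0x1a) (.leaf 0x1a))) (.node (.node (.leaf 0xd) (.leaf 0x1003017)) (.node (.leaf 0x7) (.leaf 0)))) (.node (.node (.node (.leaf 0xd) (.leaf 0x22)) (.node (.leaf 0x100001b) (.leaf 0))) (.node (.node (.leaf 0x100200a) (.leaf 0x4010)) (.node (.leaf 0x1003) (.leaf 0))))))))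

/-- closing hints -/
def tau8L1close : Trie :=
  tau8L1close0

/-- a level -/
def tau8L1 : SLev := ⟨6, [0x5148a452190c2cb, 0x26acaebb254ec, 0x28a26a42db30c85b], tau8L1tree, tau8L1word, 36, tau8L1close, [(23, 0), (26, 0)]⟩

/-- part of a tree -/
def tau8L2tree0 : Trie :=
  (.node (.node (.node (.leaf 0x0) (.leaf 0x3)) (.node (.leaf 0x1) (.leaf 0))) (.node (.node (.leaf 0x100000) (.leaf 0)) (.node (.leaf 0x100002) (.leaf 0))))

/-- a tree -/
def tau8L2tree : Trie :=
  tau8L2tree0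

/-- part of transversal words -/
def tau8L2word0 : Trie :=
  (.node (.node (.node (.leaf 0x0) (.leaf 0x514861659861)) (.node (.leaf 0x5135226d96cb30c) (.leaf 0))) (.node (.node (.leaf 0x9a9136cb661) (.leaf 0)) (.node (.leaf 0x4d330c2cb30c) (.leaf 0))))

/-- transversal words -/
def tau8L2word : Trie :=
  tau8L2word0

/-- part of closing hints -/
def tau8L2close0 : Trie :=
  (.node (.node (.node (.node (.leaf 0x1000) (.leaf 0x3)) (.node (.leaf 0x1) (.leaf 0))) (.node (.node (.leaf 0x2) (.leaf 0)) (.node (.leaf 0x4) (.leaf 0)))) (.node (.node (.node (.leaf 0x1) (.leaf 0x1004)) (.node (.leaf 0x3) (.leaf 0))) (.node (.node (.leaf 0x0) (.leaf 0)) (.node (.leaf 0x2) (.leaf 0)))))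

/-- closing hints -/
def tau8L2close : Trie :=
  tau8L2close0

/-- a level -/
def tau8L2 : SLev := ⟨8, [0x659659, 0x9a9136cb661], tau8L2tree, tau8L2word, 5, tau8L2close, [(0, 0)]⟩

/-- part of a tree -/
def tau8L3tree0 : Trie :=
  (.node (.leaf 0x0) (.leaf 0x0))

/-- a tree -/
def tau8L3tree : Trie :=
  tau8L3tree0

/-- part of transversal words -/
def tau8L3word0 : Trie :=
  (.node (.leaf 0x0) (.leaf 0x659659))

/-- transversal words -/
def tau8L3word : Trie :=
  tau8L3word0

/-- part of closing hints -/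
def tau8L3close0 : Trie :=
  (.node (.leaf 0x1) (.leaf 0x0))

/-- closing hints -/
def tau8L3close : Trie :=
  tau8L3close0

/-- a level -/
def tau8L3 : SLev := ⟨7, [0x659659], tau8L3tree, tau8L3word, 2, tau8L3close, []⟩

/-- a chain -/
def tau8 : List SLev := [tau8L0, tau8L1, tau8L2, tau8L3]

/-- a representative -/
def r8 : RepD := ⟨1, 0x52cb, 2, 0xb32190b, 50, tau8, [0x400201b006, 0x1021006], [0x4002016000, 0x3001013000]⟩

/-- part of a tree -/
def tau9L0tree0 : Trie :=
  (.node (.node (.node (.node (.node (.node (.leaf 0x0) (.leaf 0x100018)) (.node (.leaf 0x100009) (.leaf 0))) (.node (.node (.leaf 0x4) (.leaf 0)) (.node (.leaf 0x10) (.leaf 0)))) (.node (.node (.node (.leaf 0x100001) (.leaf 0)) (.node (.leaf 0xe) (.leaf 0))) (.node (.node (.leaf 0x6) (.leaf 0)) (.node (.leaf 0x100014) (.leaf 0))))) (.node (.node (.node (.node (.leaf 0x100000) (.leaf 0x10001c)) (.node (.leaf 0xc) (.leaf 0))) (.node (.node (.leaf 0x5) (.leaf 0)) (.node (.leaf 0x12) (.leaf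 0)))) (.node (.node (.node (.leaf 0x100002) (.leaf 0)) (.node (.leaf 0xf) (.leaf 0))) (.node (.node (.leaf 0x7) (.leaf 0)) (.node (.leaf 0x100016) (.leaf 0)))))) (.node (.node (.node (.node (.node (.leaf 0x0) (.leaf 0x10001a)) (.node (.leaf 0xa) (.leaf 0))) (.node (.node (.leaf 0x100004) (.leaf 0)) (.node (.leaf 0x100011) (.leaf 0)))) (.node (.node (.node (.leaf 0x2) (.leaf 0)) (.node (.leaf 0x10000e) (.leaf 0))) (.node (.node (.leaf 0x100006) (.leaf 0)) (.node (.leaf 0x16) (.leaf 0))))) (.node (.node (.node (.node (.leaf 0x1) (.leaf 0x10001e)) (.node (.leaf 0x10000c) (.leaf 0))) (.node (.node (.leaf 0x100005) (.leaf 0)) (.node (.leaf 0x14) (.leaf 0)))) (.node (.node (.node (.leaf 0x100003) (.leaf 0)) (.node (.leaf 0x10000f) (.leaf 0))) (.node (.node (.leaf 0x100008) (.leaf 0)) (.node (.leaf 0x17) (.leaf 0)))))))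

/-- a tree -/
def tau9L0tree : Trie :=
  tau9L0tree0

/-- part of transversal words -/
def tau9L0word0 : Trie :=
  (.node (.node (.node (.node (.node (.node (.leaf 0x0) (.leaf 0x2cb30c)) (.node (.leaf 0x2290c2cb659) (.leaf 0))) (.node (.node (.leaf 0x1a66190c2cb) (.leaf 0)) (.node (.leaf 0x12caebb254ec861) (.leaf 0)))) (.node (.node (.node (.leaf 0x6d485b2cb659) (.leaf 0)) (.node (.leaf 0x9132cb6cc861) (.leaf 0))) (.node (.node (.leaf 0x8a452289966190c) (.leaf 0)) (.node (.leaf 0x1b5226a432190c) (.leaf 0))))) (.node (.node (.node (.node (.leaf 0x145134da6618596cb) (.leaf 0x4d44da6d990c2cb)) (.node (.leaf 0x26a29142d965b2db) (.leaf 0))) (.node (.node (.leaf 0x91365b2cb321) (.leaf 0)) (.node (.leaf 0x6a486185b659) (.leaf 0)))) (.node (.node (.node (.leaf 0x42d96d990b) (.leaf 0)) (.node (.leaf 0x1489a69b661659) (.leaf 0))) (.node (.node (.leaf 0x5148a286432190c) (.leaf 0)) (.node (.leaf 0x5148a190b664) (.leaf 0)))))) (.node (.node (.node (.node (.node (.leaf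 0x5142cb659659) (.leaf 0x5226d369b30b659)) (.node (.leaf 0x2286190c2cb) (.leaf 0))) (.node (.node (.leaf 0x1432166185b) (.leaf 0)) (.node (.leaf 0x6a26d365b30b) (.leaf 0)))) (.node (.node (.node (.leaf 0x228642d9859) (.leaf 0)) (.node (.leaf 0x6a48642d9659) (.leaf 0))) (.node (.node (.leaf 0x136a289a90c2cb30c) (.leaf 0)) (.node (.leaf 0x6a486185b2cb) (.leaf 0))))) (.node (.node (.node (.node (.leaf 0x4d34d990b6cb) (.leaf 0x5142cb30c861)) (.node (.leaf 0x8a42db2cb321) (.leaf 0))) (.node (.node (.leaf 0x145134db30c2d9) (.leaf 0)) (.node (.leaf 0x52289a6d965b2cc) (.leaf 0)))) (.node (.node (.node (.leaf 0x1a6d369b30b664) (.leaf 0)) (.node (.leaf 0x1b52291485990c) (.leaf 0))) (.node (.node (.leaf 0x275a96575d961) (.leaf 0)) (.node (.leaf 0x51352265b659664) (.leaf 0)))))))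

/-- transversal words -/
def tau9L0word : Trie :=
  tau9L0word0

/-- part of closing hints -/
def tau9L0close0 : Trie :=
  (.node (.node (.node (.node (.node (.node (.node (.leaf 0x1) (.leaf 0x1001023)) (.node (.leaf 0x18) (.leaf 0))) (.node (.node (.leaf 0x1002000) (.leaf 0)) (.node (.leaf 0x201c) (.leaf 0)))) (.node (.node (.node (.leaf 0x8) (.leaf 0)) (.node (.leaf 0x1b) (.leaf 0))) (.node (.node (.leaf 0x12) (.leaf 0)) (.node (.leaf 0x1e) (.leaf 0))))) (.node (.node (.node (.node (.leaf 0x5) (.leaf 0x1022)) (.node (.leaf 0x1a) (.leaf 0))) (.node (.node (.leaf 0x11) (.leaf 0)) (.node (.leaf 0x2015) (.leaf 0)))) (.node (.node (.node (.leaf 0xc) (.leaf 0)) (.node (.leaf 0x1d) (.leaf 0))) (.node (.node (.leaf 0x14) (.leaf 0)) (.node (.leaf 0xd) (.leaf 0)))))) (.node (.node (.node (.node (.node (.leaf 0x3) (.leaf 0x1002009)) (.node (.leaf 0x1001013) (.leaf 0))) (.node (.node (.leaf 0x100000f) (.leaf 0)) (.node (.leaf 0x1000017) (.leaf 0)))) (.node (.node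 (.node (.leaf 0xa) (.leaf 0)) (.node (.leaf 0x2006) (.leaf 0))) (.node (.node (.leaf 0x2010) (.leaf 0)) (.node (.leaf 0x3021) (.leaf 0))))) (.node (.node (.node (.node (.leaf 0x1003004) (.leaf 0x1002019)) (.node (.leaf 0x1001002) (.leaf 0))) (.node (.node (.leaf 0x1007) (.leaf 0)) (.node (.leaf 0x100400b) (.leaf 0)))) (.node (.node (.node (.leaf 0xe) (.leaf 0)) (.node (.leaf 0x1f) (.leaf 0))) (.node (.node (.leaf 0x16) (.leaf 0)) (.node (.leaf 0x1003020) (.leaf 0))))))) (.node (.node (.node (.node (.node (.node (.leaf 0x2) (.leaf 0x100100c)) (.node (.leaf 0x1) (.leaf 0))) (.node (.node (.leaf 0xf) (.leaf 0)) (.node (.leaf 0x20) (.leaf 0)))) (.node (.node (.node (.leaf 0x9) (.leaf 0)) (.node (.leaf 0x1c) (.leaf 0))) (.node (.node (.leaf 0x13) (.leaf 0)) (.node (.leaf 0x22) (.leaf 0))))) (.node (.node (.node (.node (.leaf 0x6) (.leaf 0x101d)) (.node (.leaf 0x4016) (.leaf 0))) (.node (.node (.leaf 0x1008) (.leaf 0)) (.node (.leaf 0x21) (.leaf 0)))) (.node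 (.node (.node (.leaf 0xd) (.leaf 0)) (.node (.leaf 0x1e) (.leaf 0))) (.node (.node (.leaf 0x15) (.leaf 0)) (.node (.leaf 0x23) (.leaf 0)))))) (.node (.node (.node (.node (.node (.leaf 0x4) (.leaf 0x1011)) (.node (.leaf 0x19) (.leaf 0))) (.node (.node (.leaf 0x10) (.leaf 0)) (.node (.leaf 0x100401a) (.leaf 0)))) (.node (.node (.node (.leaf 0xb) (.leaf 0)) (.node (.leaf 0x100100e) (.leaf 0))) (.node (.node (.leaf 0x0) (.leaf 0)) (.node (.leaf 0x1004014) (.leaf 0))))) (.node (.node (.node (.node (.leaf 0x7) (.leaf 0x4012)) (.node (.leaf 0x1001018) (.leaf 0))) (.node (.node (.leaf 0x1004003) (.leaf 0)) (.node (.leaf 0x1f) (.leaf 0)))) (.node (.node (.node (.leaf 0x1005) (.leaf 0)) (.node (.leaf 0x100400a) (.leaf 0))) (.node (.node (.leaf 0x17) (.leaf 0)) (.node (.leaf 0x401b) (.leaf 0))))))))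

/-- closing hints -/
def tau9L0close : Trie :=
  tau9L0close0

/-- a level -/
def tau9L0 : SLev := ⟨6, [0x5142cb659659, 0x145134da6618596cb], tau9L0tree, tau9L0word, 36, tau9L0close, [(33, 1), (24, 0)]⟩

/-- part of a tree -/
def tau9L1tree0 : Trie :=
  (.node (.node (.node (.leaf 0x0) (.leaf 0x3)) (.node (.leaf 0x100000) (.leaf 0))) (.node (.node (.leaf 0x0) (.leaf 0)) (.node (.leaf 0x2) (.leaf 0))))

/-- a tree -/
def tau9L1tree : Trie :=
  tau9L1tree0

/-- part of transversal words -/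
def tau9L1word0 : Trie :=
  (.node (.node (.node (.leaf 0x0) (.leaf 0x1452289a66190c30c)) (.node (.leaf 0xa269b4db321859) (.leaf 0))) (.node (.node (.leaf 0x4d330c2cb659) (.leaf 0)) (.node (.leaf 0x9a9136cb661) (.leaf 0))))

/-- transversal words -/
def tau9L1word : Trie :=
  tau9L1word0

/-- part of closing hints -/
def tau9L1close0 : Trie :=
  (.node (.node (.node (.node (.leaf 0x1) (.leaf 0x1000)) (.node (.leaf 0x3) (.leaf 0))) (.node (.node (.leaf 0x1002) (.leaf 0)) (.node (.leaf 0x4) (.leaf 0)))) (.node (.node (.node (.leaf 0x2) (.leaf 0x1003)) (.node (.leaf 0x0) (.leaf 0))) (.node (.node (.leaf 0x1001) (.leaf 0)) (.node (.leaf 0x1004) (.leaf 0)))))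

/-- closing hints -/
def tau9L1close : Trie :=
  tau9L1close0

/-- a level -/
def tau9L1 : SLev := ⟨8, [0x4d330c2cb659, 0xa269b4db321859], tau9L1tree, tau9L1word, 5, tau9L1close, [(3, 1)]⟩

/-- part of a tree -/
def tau9L2tree0 : Trie :=
  (.node (.leaf 0x0) (.leaf 0x0))

/-- a tree -/
def tau9L2tree : Trie :=
  tau9L2tree0

/-- part of transversal words -/
def tau9L2word0 : Trie :=
  (.node (.leaf 0x0) (.leaf 0x659659))

/-- transversal words -/
def tau9L2word : Trie :=
  tau9L2word0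

/-- part of closing hints -/
def tau9L2close0 : Trie :=
  (.node (.leaf 0x1) (.leaf 0x0))

/-- closing hints -/
def tau9L2close : Trie :=
  tau9L2close0

/-- a level -/
def tau9L2 : SLev := ⟨7, [0x659659], tau9L2tree, tau9L2word, 2, tau9L2close, []⟩

/-- a chain -/
def tau9 : List SLev := [tau9L0, tau9L1, tau9L2]

/-- a representative -/
def r9 : RepD := ⟨1, 0x2965d, 4, 0x2cb659, 350, tau9, [0x2001003000, 0x4000020000], [0x1001007000, 0x3005000]⟩

/-- part of a tree -/
def tau10L0tree0 : Trie :=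
  (.node (.node (.node (.leaf 0x0) (.leaf 0x100001)) (.node (.leaf 0x100000) (.leaf 0))) (.node (.node (.leaf 0x0) (.leaf 0x200003)) (.node (.leaf 0x200000) (.leaf 0))))

/-- a tree -/
def tau10L0tree : Trie :=
  tau10L0tree0

/-- part of transversal words -/
def tau10L0word0 : Trie :=
  (.node (.node (.node (.leaf 0x0) (.leaf 0x228a44da86430c85b)) (.node (.leaf 0x8a29148996cb2d9) (.leaf 0))) (.node (.node (.leaf 0xdb) (.leaf 0x49136616596d9)) (.node (.leaf 0x9228a269986185b) (.leaf 0))))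

/-- transversal words -/
def tau10L0word : Trie :=
  tau10L0word0

/-- part of closing hints -/
def tau10L0close0 : Trie :=
  (.node (.node (.node (.node (.node (.leaf 0x1) (.leaf 0x3005)) (.node (.leaf 0x1010004) (.leaf 0))) (.node (.node (.leaf 0x4) (.leaf 0)) (.node (.leaf 0x1014002) (.leaf 0)))) (.node (.node (.node (.leaf 0x3) (.leaf 0)) (.node (.leaf 0x100e001) (.leaf 0))) (.node (.node (.leaf 0x1013004) (.leaf 0)) (.node (.leaf 0x11000) (.leaf 0))))) (.node (.node (.node (.node (.leaf 0x2) (.leaf 0x1019002)) (.node (.leaf 0x2003) (.leaf 0))) (.node (.node (.leaf 0x1001) (.leaf 0)) (.node (.leaf 0x100c000) (.leaf 0)))) (.node (.node (.node (.leaf 0x0) (.leaf 0)) (.node (.leaf 0x5) (.leaf 0))) (.node (.node (.leaf 0x101c003) (.leaf 0)) (.node (.leaf 0x100e005) (.leaf 0))))))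

/-- closing hints -/
def tau10L0close : Trie :=
  tau10L0close0

/-- a level -/
def tau10L0 : SLev := ⟨4, [219, 0x8a29148996cb2d9, 0x9228a269986185b], tau10L0tree, tau10L0word, 6, tau10L0close, [(1, 2), (3, 0)]⟩

/-- part of a tree -/
def tau10L1tree0 : Trie :=
  (.node (.node (.node (.node (.node (.leaf 0x0) (.leaf 0x100009)) (.node (.leaf 0x4) (.leaf 0x12))) (.node (.node (.leaf 0x100001) (.leaf 0xe)) (.node (.leaf 0x100006) (.leaf 0x100017)))) (.node (.node (.node (.leaf 0x100000) (.leaf 0x10000b)) (.node (.leaf 0x100005) (.leaf 0x14))) (.node (.node (.leaf 0x3) (.leaf 0xf)) (.node (.leaf 0x8) (.leaf 0))))) (.node (.node (.node (.node (.leaf 0x0) (.leaf 0xa)) (.node (.leaf 0x5) (.leaf 0x13))) (.node (.node (.leaf 0x2) (.leaf 0x10000e)) (.node (.leaf 0x7) (.leaf 0x18)))) (.node (.node (.node (.leaf 0x1) (.leaf 0xd)) (.node (.leaf 0x6) (.leaf 0x15))) (.node (.node (.leaf 0x100003) (.leaf 0x10)) (.node (.leaf 0x9) (.leaf 0))))))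

/-- a tree -/
def tau10L1tree : Trie :=
  tau10L1tree0

/-- part of transversal words -/
def tau10L1word0 : Trie :=
  (.node (.node (.node (.node (.node (.leaf 0x0) (.leaf 0x1489a69b661659)) (.node (.leaf 0x5142cb659861) (.leaf 0x351489b65b2cc))) (.node (.node (.leaf 0x30c861) (.leaf 0x4da9148642d9)) (.node (.leaf 0x90b6616cb) (.leaf 0x4da9148a42cc861)))) (.node (.node (.node (.leaf 0xda9144db2cb664) (.leaf 0x134d44db2cb321)) (.node (.leaf 0x4d36a48a42cc861) (.leaf 0x2286190c30c))) (.node (.node (.leaf 0x8a485b321861) (.leaf 0x2cb659)) (.node (.leaf 0x8a29132cb6cc) (.leaf 0))))) (.node (.node (.node (.node (.leaf 0x5142cb659659) (.leaf 0x51489a90b6cb659)) (.node (.leaf 0x8642cc85b) (.leaf 0x269d753b2caec))) (.node (.node (.leaf 0x136a289b659861) (.leaf 0x1485b30b659)) (.node (.leaf 0x143216642d9) (.leaf 0x6a48642d9659)))) (.node (.node (.node (.leaf 0x4d34d990b6cb) (.leaf 0x145134db30c2d9)) (.node (.leaf 0x51430c861659) (.leaf 0x4d330c861659))) (.node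 (.node (.leaf 0x5226d44d96cb659) (.leaf 0x6a486185b2cb)) (.node (.leaf 0x5148a45216642d9) (.leaf 0))))))

/-- transversal words -/
def tau10L1word : Trie :=
  tau10L1word0

/-- part of closing hints -/
def tau10L1close0 : Trie :=
  (.node (.node (.node (.node (.node (.node (.leaf 0x1) (.leaf 0x17)) (.node (.leaf 0xe) (.leaf 0x1d))) (.node (.node (.leaf 0x8) (.leaf 0x1a)) (.node (.leaf 0x100a) (.leaf 0x1007)))) (.node (.node (.node (.leaf 0x5) (.leaf 0x18)) (.node (.leaf 0x11) (.leaf 0x4))) (.node (.node (.leaf 0xb) (.leaf 0x2)) (.node (.leaf 0x14) (.leaf 0))))) (.node (.node (.node (.node (.leaf 0x3) (.leaf 0x1010)) (.node (.leaf 0xf) (.leaf 0x101c))) (.node (.node (.leaf 0x9) (.leaf 0x1b)) (.node (.leaf 0x13) (.leaf 0x15)))) (.node (.node (.node (.leaf 0x6) (.leaf 0x19)) (.node (.leaf 0x0) (.leaf 0x12))) (.node (.node (.leaf 0xd) (.leaf 0xc)) (.node (.leaf 0x16) (.leaf 0)))))) (.node (.node (.node (.node (.node (.leaf 0x2) (.leaf 0x9)) (.node (.leaf 0x100d)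 (.leaf 0x1018))) (.node (.node (.leaf 0x1) (.leaf 0x1011)) (.node (.leaf 0x6) (.leaf 0x17)))) (.node (.node (.node (.leaf 0x0) (.leaf 0xb)) (.node (.leaf 0x5) (.leaf 0x101b))) (.node (.node (.leaf 0xc) (.leaf 0x1016)) (.node (.leaf 0x15) (.leaf 0))))) (.node (.node (.node (.node (.leaf 0x4) (.leaf 0x1014)) (.node (.leaf 0x10) (.leaf 0x1d))) (.node (.node (.leaf 0xa) (.leaf 0xe)) (.node (.leaf 0x1008) (.leaf 0x19)))) (.node (.node (.node (.leaf 0x7) (.leaf 0xf)) (.node (.leaf 0x12) (.leaf 0x101a))) (.node (.node (.leaf 0x3) (.leaf 0x1c)) (.node (.leaf 0x13) (.leaf 0)))))))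

/-- closing hints -/
def tau10L1close : Trie :=
  tau10L1close0

/-- a level -/
def tau10L1 : SLev := ⟨6, [0x5142cb659659, 0xda9144db2cb664], tau10L1tree, tau10L1word, 30, tau10L1close, [(24, 1)]⟩

/-- part of a tree -/
def tau10L2tree0 : Trie :=
  (.node (.leaf 0x0) (.leaf 0x0))

/-- a tree -/
def tau10L2tree : Trie :=
  tau10L2tree0

/-- part of transversal words -/
def tau10L2word0 : Trie :=
  (.node (.leaf 0x0) (.leaf 0x9a9136cb661))

/-- transversal words -/
def tau10L2word : Trie :=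
  tau10L2word0

/-- part of closing hints -/
def tau10L2close0 : Trie :=
  (.node (.leaf 0x1) (.leaf 0x0))

/-- closing hints -/
def tau10L2close : Trie :=
  tau10L2close0

/-- a level -/
def tau10L2 : SLev := ⟨8, [0x9a9136cb661], tau10L2tree, tau10L2word, 2, tau10L2close, []⟩

/-- a chain -/
def tau10 : List SLev := [tau10L0, tau10L1, tau10L2]

/-- a representative -/
def r10 : RepD := ⟨1, 0x1536e9, 2, 0xec962b2c95a861, 350, tau10, [6, 0x400102900d, 0x200101f029], [0x4001001000, 0x4025000, 0x200400f000]⟩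

/-- part of a tree -/
def tau11L0tree0 : Trie :=
  (.node (.node (.node (.node (.node (.leaf 0x0) (.leaf 0x100006)) (.node (.leaf 0x3) (.leaf 0x100010))) (.node (.node (.leaf 0x100001) (.leaf 0x100009)) (.node (.leaf 0x200004) (.leaf 0)))) (.node (.node (.node (.leaf 0x100000) (.leaf 0x100007)) (.node (.leaf 0x4) (.leaf 0))) (.node (.node (.leaf 0x2) (.leaf 0x10000b)) (.node (.leaf 0x200005) (.leaf 0))))) (.node (.node (.node (.node (.leaf 0x0) (.leaf 0x200006)) (.node (.leaf 0x100003) (.leaf 0))) (.node (.node (.leaf 0x200001) (.leaf 0xa)) (.node (.leaf 0x5) (.leaf 0)))) (.node (.node (.node (.leaf 0x200000) (.leaf 0x200007)) (.node (.leaf 0x100004) (.leaf 0))) (.node (.node (.leaf 0x200002) (.leaf 0x20000c)) (.node (.leaf 0x6) (.leaf 0))))))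

/-- a tree -/
def tau11L0tree : Trie :=
  tau11L0tree0

/-- part of transversal words -/
def tau11L0word0 : Trie :=
  (.node (.node (.node (.node (.node (.leaf 0x0) (.leaf 0x4da9134d965b321)) (.node (.leaf 0x2b245226d3ae9761) (.leaf 0xa29144d96cb659))) (.node (.node (.leaf 0x2296589a65bacb32c) (.leaf 0x369a8a44d9661864)) (.node (.leaf 0x6a485b30b2cb) (.leaf 0)))) (.node (.node (.node (.leaf 0x4d3aeb6a594cb25) (.leaf 0x8a45134cb30c2db)) (.node (.leaf 0xad352caa592c94b) (.leaf 0))) (.node (.node (.leaf 0x28a48996cc2db) (.leaf 0x45229134d990c30c)) (.node (.leaf 0x289a6a290b661659) (.leaf 0))))) (.node (.node (.node (.node (.leaf 0x26a44d36618642db) (.leaf 0x8a289990b6cc)) (.node (.leaf 0x1b5136a430b664) (.leaf 0))) (.node (.node (.leaf 0x1134d352185b2d9) (.leaf 0x3aeb32c2e9765)) (.node (.leaf 0x5244d369966190c) (.leaf 0)))) (.node (.node (.node (.leaf 0x1244d32d9659861) (.leaf 0x495d75b2cb6eb765)) (.node (.leaf 0x44da8a290b66430b) (.leaf 0))) (.node (.node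 (.leaf 0xb136a452c964a5b) (.leaf 0x6ac4da90cb2592c)) (.node (.leaf 0x6a26d365965b) (.leaf 0))))))

/-- transversal words -/
def tau11L0word : Trie :=
  tau11L0word0

/-- part of closing hints -/
def tau11L0close0 : Trie :=
  (.node (.node (.node (.node (.node (.node (.node (.leaf 0x1) (.leaf 0x2007)) (.node (.leaf 0x1015) (.leaf 0))) (.node (.node (.leaf 0x1001008) (.leaf 0)) (.node (.leaf 0x2011) (.leaf 0)))) (.node (.node (.node (.leaf 0x7) (.leaf 0x1004017)) (.node (.leaf 0x1002011) (.leaf 0))) (.node (.node (.leaf 0x100300e) (.leaf 0)) (.node (.leaf 0x1002010) (.leaf 0))))) (.node (.node (.node (.node (.leaf 0x4) (.leaf 0x4002)) (.node (.leaf 0x4016) (.leaf 0))) (.node (.node (.leaf 0x11) (.leaf 0)) (.node (.leaf 0x5) (.leaf 0)))) (.node (.node (.node (.leaf 0xa) (.leaf 0)) (.node (.leaf 0x1000004) (.leaf 0))) (.node (.node (.leaf 0x14) (.leaf 0)) (.node (.leaf 0x1002003) (.leaf 0)))))) (.node (.node (.node (.node (.node (.leaf 0x3) (.leaf 0x2005))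 (.node (.leaf 0x16) (.leaf 0))) (.node (.node (.leaf 0xf) (.leaf 0)) (.node (.leaf 0x200f) (.leaf 0)))) (.node (.node (.node (.leaf 0x9) (.leaf 0x1000016)) (.node (.leaf 0x1001013) (.leaf 0))) (.node (.node (.leaf 0x100300d) (.leaf 0)) (.node (.leaf 0x100d) (.leaf 0))))) (.node (.node (.node (.node (.leaf 0x6) (.leaf 0x3015)) (.node (.leaf 0x17) (.leaf 0))) (.node (.node (.leaf 0x12) (.leaf 0)) (.node (.leaf 0x1010) (.leaf 0)))) (.node (.node (.node (.leaf 0xc) (.leaf 0)) (.node (.leaf 0x200c) (.leaf 0))) (.node (.node (.leaf 0x15) (.leaf 0)) (.node (.leaf 0x1002001) (.leaf 0))))))) (.node (.node (.node (.node (.node (.node (.leaf 0x2) (.leaf 0x3012)) (.node (.leaf 0x200c) (.leaf 0))) (.node (.node (.leaf 0xe) (.leaf 0)) (.node (.leaf 0x18) (.leaf 0)))) (.node (.node (.node (.leaf 0x8) (.leaf 0x100200f)) (.node (.leaf 0x100200b) (.leaf 0))) (.node (.node (.leaf 0x1003013) (.leaf 0)) (.node (.leaf 0x4014) (.leaf 0))))) (.node (.node (.node (.node (.leaf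 0x5) (.leaf 0x1000012)) (.node (.leaf 0x1000006) (.leaf 0))) (.node (.node (.leaf 0x1004) (.leaf 0)) (.node (.leaf 0x4014) (.leaf 0)))) (.node (.node (.node (.leaf 0xb) (.leaf 0)) (.node (.leaf 0x3000) (.leaf 0))) (.node (.node (.leaf 0x1002006) (.leaf 0)) (.node (.leaf 0x1000) (.leaf 0)))))) (.node (.node (.node (.node (.node (.leaf 0x1001002) (.leaf 0x100200a)) (.node (.leaf 0x200a) (.leaf 0))) (.node (.node (.leaf 0x10) (.leaf 0)) (.node (.leaf 0x4018) (.leaf 0)))) (.node (.node (.node (.leaf 0x1003008) (.leaf 0)) (.node (.leaf 0x17) (.leaf 0))) (.node (.node (.leaf 0x1002007) (.leaf 0)) (.node (.leaf 0x4018) (.leaf 0))))) (.node (.node (.node (.node (.leaf 0x1003) (.leaf 0x1004009)) (.node (.leaf 0x100b) (.leaf 0))) (.node (.node (.leaf 0x13) (.leaf 0)) (.node (.leaf 0x400e) (.leaf 0)))) (.node (.node (.node (.leaf 0xd) (.leaf 0)) (.node (.leaf 0x1000000) (.leaf 0))) (.node (.node (.leaf 0x1004001) (.leaf 0)) (.node (.leaf 0x1003009) (.leaf 0))))))))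

/-- closing hints -/
def tau11L0close : Trie :=
  tau11L0close0

/-- a level -/
def tau11L0 : SLev := ⟨4, [0x26a44d36618642db, 0x4d3aeb6a594cb25, 0x1244d32d9659861], tau11L0tree, tau11L0word, 25, tau11L0close, [(7, 0), (11, 0)]⟩

/-- part of a tree -/
def tau11L1tree0 : Trie :=
  (.node (.node (.node (.leaf 0x0) (.leaf 0x100003)) (.node (.leaf 0x100000) (.leaf 0))) (.node (.node (.leaf 0x0) (.leaf 0)) (.node (.leaf 0x2) (.leaf 0))))

/-- a tree -/
def tau11L1tree : Trie :=
  tau11L1tree0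

/-- part of transversal words -/
def tau11L1word0 : Trie :=
  (.node (.node (.node (.leaf 0x0) (.leaf 0x42d96d990b)) (.node (.leaf 0x351489b65b2cc) (.leaf 0))) (.node (.node (.leaf 0x5142cb30c2cb) (.leaf 0)) (.node (.leaf 0x1a6cb30c2cb) (.leaf 0))))

/-- transversal words -/
def tau11L1word : Trie :=
  tau11L1word0

/-- part of closing hints -/
def tau11L1close0 : Trie :=
  (.node (.node (.node (.node (.leaf 0x1) (.leaf 0x1004)) (.node (.leaf 0x3) (.leaf 0))) (.node (.node (.leaf 0x0) (.leaf 0)) (.node (.leaf 0x2) (.leaf 0)))) (.node (.node (.node (.leaf 0x2) (.leaf 0x3)) (.node (.leaf 0x0) (.leaf 0))) (.node (.node (.leaf 0x1001) (.leaf 0)) (.node (.leaf 0x4) (.leaf 0)))))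

/-- closing hints -/
def tau11L1close : Trie :=
  tau11L1close0

/-- a level -/
def tau11L1 : SLev := ⟨6, [0x5142cb30c2cb, 0x351489b65b2cc], tau11L1tree, tau11L1word, 5, tau11L1close, [(1, 1)]⟩

/-- part of a tree -/
def tau11L2tree0 : Trie :=
  (.node (.leaf 0x0) (.leaf 0x0))

/-- a tree -/
def tau11L2tree : Trie :=
  tau11L2tree0

/-- part of transversal words -/
def tau11L2word0 : Trie :=
  (.node (.leaf 0x0) (.leaf 0x659659))

/-- transversal words -/
def tau11L2word : Trie :=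
  tau11L2word0

/-- part of closing hints -/
def tau11L2close0 : Trie :=
  (.node (.leaf 0x1) (.leaf 0x0))

/-- closing hints -/
def tau11L2close : Trie :=
  tau11L2close0

/-- a level -/
def tau11L2 : SLev := ⟨7, [0x659659], tau11L2tree, tau11L2word, 2, tau11L2close, []⟩

/-- a chain -/
def tau11 : List SLev := [tau11L0, tau11L1, tau11L2]

/-- a representative -/
def r11 : RepD := ⟨1, 0xa656e9, 5, 0, 504, tau11, [0x100501e01a, 0x200401100c, 0x100200802a], [0x1000017000, 0x1003002000, 0x200b000]⟩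

/-- part of a tree -/
def tau12L0tree0 : Trie :=
  (.node (.node (.node (.node (.node (.node (.leaf 0x0) (.leaf 0x13)) (.node (.leaf 0x100007) (.leaf 0))) (.node (.node (.leaf 0x100003) (.leaf 0x23)) (.node (.leaf 0xd) (.leaf 0)))) (.node (.node (.node (.leaf 0x100001) (.leaf 0x1a)) (.node (.leaf 0x100009) (.leaf 0))) (.node (.node (.leaf 0x100005) (.leaf 0)) (.node (.leaf 0x11) (.leaf 0))))) (.node (.node (.node (.node (.leaf 0x100000) (.leaf 0x16)) (.node (.leaf 0x100008) (.leaf 0))) (.node (.node (.leaf 0x100004) (.leaf 0)) (.node (.leaf 0xf) (.leaf 0)))) (.node (.node (.node (.leaf 0x100002) (.leaf 0x1b)) (.node (.leaf 0xc) (.leaf 0))) (.node (.node (.leaf 0x100006) (.leaf 0)) (.node (.leaf 0x12) (.leaf 0)))))) (.node (.node (.node (.node (.node (.leaf 0x0) (.leaf 0x100013)) (.node (.leaf 0x8) (.leaf 0))) (.node (.node (.leaf 0x4) (.leaf 0x100023)) (.node (.leaf 0x10000d) (.leaf 0)))) (.node (.node (.node (.leaf 0x2) (.leaf 0x10001a)) (.node (.leaf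 0xb) (.leaf 0))) (.node (.node (.leaf 0x6) (.leaf 0)) (.node (.leaf 0x100011) (.leaf 0))))) (.node (.node (.node (.node (.leaf 0x1) (.leaf 0x17)) (.node (.leaf 0x9) (.leaf 0))) (.node (.node (.leaf 0x5) (.leaf 0)) (.node (.leaf 0x10) (.leaf 0)))) (.node (.node (.node (.leaf 0x3) (.leaf 0x22)) (.node (.leaf 0x10000c) (.leaf 0))) (.node (.node (.leaf 0x7) (.leaf 0)) (.node (.leaf 0x100012) (.leaf 0)))))))

/-- a tree -/
def tau12L0tree : Trie :=
  tau12L0tree0

/-- part of transversal words -/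
def tau12L0word0 : Trie :=
  (.node (.node (.node (.node (.node (.node (.leaf 0x0) (.leaf 0x34da8a44cb65990c)) (.node (.leaf 0x244da69b65b2cc) (.leaf 0))) (.node (.node (.leaf 0x2269b4db2cb664) (.leaf 0x8a485986190b)) (.node (.leaf 0x29136a430b6cb) (.leaf 0)))) (.node (.node (.node (.leaf 0x134da6d485b2cc85b) (.leaf 0x9a91352c964b25)) (.node (.leaf 0x8a42db2cb321) (.leaf 0))) (.node (.node (.leaf 0x35145226cb6cc2d9) (.leaf 0)) (.node (.leaf 0x1a6a430b2cc30b) (.leaf 0))))) (.node (.node (.node (.node (.leaf 0x9badd6eb30b665) (.leaf 0x144da6d4861861)) (.node (.leaf 0x489b32185b659) (.leaf 0))) (.node (.node (.leaf 0x5134d430b6cb6cc) (.leaf 0)) (.node (.leaf 0x5144da6642cb6cb) (.leaf 0)))) (.node (.node (.node (.leaf 0x5149144d98642cb) (.leaf 0x26a430c861659)) (.node (.leaf 0x51489b659664) (.leaf 0))) (.node (.node (.leaf 0xd45134cb6cc861) (.leaf 0)) (.node (.leaf 0x114b244d330cb252ec) (.leaf 0)))))) (.node (.node (.node (.node (.node (.leaf 0xdd6ec9142eb329)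 (.leaf 0x229228a275badd6eb)) (.node (.leaf 0x9144da6cc8642db) (.leaf 0))) (.node (.node (.leaf 0x26a28a42d96d985b) (.leaf 0x89b5149132cc30b)) (.node (.leaf 0x4da8a450c85965b) (.leaf 0)))) (.node (.node (.node (.leaf 0x137656ebacc32cacb) (.leaf 0x1136a275badd6ea)) (.node (.leaf 0x4d351486432190c) (.leaf 0))) (.node (.node (.leaf 0x113522914861659) (.leaf 0)) (.node (.leaf 0x351369a6cc8616cc) (.leaf 0))))) (.node (.node (.node (.node (.leaf 0x8a48a26d4321659) (.leaf 0xa56d4564b256ea75b)) (.node (.leaf 0x228596cb659) (.leaf 0))) (.node (.node (.leaf 0x89a6a285b65b661) (.leaf 0)) (.node (.leaf 0x35229136596cc) (.leaf 0)))) (.node (.node (.node (.leaf 0x9a8a26596d990c) (.leaf 0x9a6a452c964b25)) (.node (.leaf 0x1430b2d96cb) (.leaf 0))) (.node (.node (.leaf 0xd36a4861859661) (.leaf 0)) (.node (.leaf 0x1a96452ca6192cb29) (.leaf 0)))))))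

/-- transversal words -/
def tau12L0word : Trie :=
  tau12L0word0

/-- part of closing hints -/
def tau12L0close0 : Trie :=
  (.node (.node (.node (.node (.node (.node (.node (.leaf 0x1) (.leaf 0x1008)) (.node (.leaf 0x1b) (.leaf 0))) (.node (.node (.leaf 0x11) (.leaf 0x1004000010)) (.node (.leaf 0x300201f) (.leaf 0)))) (.node (.node (.node (.leaf 0x9) (.leaf 0x0)) (.node (.leaf 0x1001005002) (.leaf 0))) (.node (.node (.leaf 0x16) (.leaf 0)) (.node (.leaf 0x1004005004) (.leaf 0))))) (.node (.node (.node (.node (.leaf 0x5) (.leaf 0x27)) (.node (.leaf 0x1e) (.leaf 0))) (.node (.node (.leaf 0x1001014) (.leaf 0)) (.node (.leaf 0x24) (.leaf 0)))) (.node (.node (.node (.leaf 0xd) (.leaf 0x1000001025)) (.node (.leaf 0x22) (.leaf 0))) (.node (.node (.leaf 0x4001019) (.leaf 0)) (.node (.leaf 0x100200100c) (.leaf 0)))))) (.node (.node (.node (.node (.node (.leaf 0x3) (.leaf 0x100a)) (.node (.leaf 0x1c) (.leaf 0))) (.node (.node (.leaf 0x13) (.leaf 0x1004000012))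 (.node (.leaf 0x300201d) (.leaf 0)))) (.node (.node (.node (.leaf 0xb) (.leaf 0x1004004017)) (.node (.leaf 0x1000001021) (.leaf 0))) (.node (.node (.leaf 0x18) (.leaf 0)) (.node (.leaf 0x1004005006) (.leaf 0))))) (.node (.node (.node (.node (.leaf 0x7) (.leaf 0x28)) (.node (.leaf 0x20) (.leaf 0))) (.node (.node (.leaf 0x15) (.leaf 0)) (.node (.leaf 0x26) (.leaf 0)))) (.node (.node (.node (.leaf 0xf) (.leaf 0x2003029)) (.node (.leaf 0x23) (.leaf 0))) (.node (.node (.leaf 0x1a) (.leaf 0)) (.node (.leaf 0x100200100e) (.leaf 0))))))) (.node (.node (.node (.node (.node (.node (.leaf 0x2) (.leaf 0x1007)) (.node (.leaf 0x100100001b) (.leaf 0))) (.node (.node (.leaf 0x12) (.leaf 0x100400000f)) (.node (.leaf 0x300201e) (.leaf 0)))) (.node (.node (.node (.leaf 0xa) (.leaf 0x1004004015)) (.node (.leaf 0x1001005001) (.leaf 0))) (.node (.node (.leaf 0x17) (.leaf 0)) (.node (.leaf 0x1004005003) (.leaf 0))))) (.node (.node (.node (.node (.leaf 0x6) (.leaf 0x1003005027))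 (.node (.leaf 0x1f) (.leaf 0))) (.node (.node (.leaf 0x1001013) (.leaf 0)) (.node (.leaf 0x25) (.leaf 0)))) (.node (.node (.node (.leaf 0xe) (.leaf 0x1000001024)) (.node (.leaf 0x3005022) (.leaf 0))) (.node (.node (.leaf 0x4001018) (.leaf 0)) (.node (.leaf 0x100200100b) (.leaf 0)))))) (.node (.node (.node (.node (.node (.leaf 0x4) (.leaf 0x1009)) (.node (.leaf 0x1d) (.leaf 0))) (.node (.node (.leaf 0x14) (.leaf 0x1004000011)) (.node (.leaf 0x300201c) (.leaf 0)))) (.node (.node (.node (.leaf 0xc) (.leaf 0x1004004016)) (.node (.leaf 0x1000001020) (.leaf 0))) (.node (.node (.leaf 0x19) (.leaf 0)) (.node (.leaf 0x1004005005) (.leaf 0))))) (.node (.node (.node (.node (.leaf 0x8) (.leaf 0x29)) (.node (.leaf 0x21) (.leaf 0))) (.node (.node (.leaf 0x1001001000) (.leaf 0)) (.node (.leaf 0x3003026) (.leaf 0)))) (.node (.node (.node (.leaf 0x10) (.leaf 0x2003028)) (.node (.leaf 0x3005023) (.leaf 0))) (.node (.node (.leaf 0x100100001a) (.leaf 0)) (.node (.leaf 0x100200100d)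 (.leaf 0))))))))

/-- closing hints -/
def tau12L0close : Trie :=
  tau12L0close0

/-- a level -/
def tau12L0 : SLev := ⟨6, [0xdd6ec9142eb329, 0x9badd6eb30b665], tau12L0tree, tau12L0word, 42, tau12L0close, [(16, 1), (32, 0)]⟩

/-- part of a tree -/
def tau12L1tree0 : Trie :=
  (.node (.node (.node (.leaf 0x0) (.leaf 0x100003)) (.node (.leaf 0x1) (.leaf 0))) (.node (.node (.leaf 0x100000) (.leaf 0x4)) (.node (.leaf 0x100001) (.leaf 0))))

/-- a tree -/
def tau12L1tree : Trie :=
  tau12L1tree0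

/-- part of transversal words -/
def tau12L1word0 : Trie :=
  (.node (.node (.node (.leaf 0x0) (.leaf 0x89a6a44cc8642cc)) (.node (.leaf 0x145144d48596cc859) (.leaf 0))) (.node (.node (.leaf 0x51491365990b) (.leaf 0x5136a430b664)) (.node (.leaf 0x89a9148a16596cc) (.leaf 0))))

/-- transversal words -/
def tau12L1word : Trie :=
  tau12L1word0

/-- part of closing hints -/
def tau12L1close0 : Trie :=
  (.node (.node (.node (.node (.leaf 0x1001000) (.leaf 0x5)) (.node (.leaf 0x1) (.leaf 0))) (.node (.node (.leaf 0x2) (.leaf 0x4)) (.node (.leaf 0x1002003) (.leaf 0)))) (.node (.node (.node (.leaf 0x1) (.leaf 0x1004005)) (.node (.leaf 0x2002) (.leaf 0))) (.node (.node (.leaf 0x3) (.leaf 0x1000)) (.node (.leaf 0x4) (.leaf 0)))))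

/-- closing hints -/
def tau12L1close : Trie :=
  tau12L1close0

/-- a level -/
def tau12L1 : SLev := ⟨8, [0x4dd92591495b75b, 0x51491365990b], tau12L1tree, tau12L1word, 6, tau12L1close, [(5, 1), (0, 0)]⟩

/-- part of a tree -/
def tau12L2tree0 : Trie :=
  (.node (.node (.node (.leaf 0x0) (.leaf 0x100002)) (.node (.leaf 0x1) (.leaf 0))) (.node (.node (.leaf 0x0) (.leaf 0)) (.node (.leaf 0x2) (.leaf 0))))

/-- a tree -/
def tau12L2tree : Trie :=
  tau12L2tree0

/-- part of transversal words -/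
def tau12L2word0 : Trie :=
  (.node (.node (.node (.leaf 0x0) (.leaf 0x5132cc30b2cc)) (.node (.leaf 0x5134da6d990b30c) (.leaf 0))) (.node (.node (.leaf 0x1a69b2cc30b2cc) (.leaf 0)) (.node (.leaf 0x5144d485b65b2cc) (.leaf 0))))

/-- transversal words -/
def tau12L2word : Trie :=
  tau12L2word0

/-- part of closing hints -/
def tau12L2close0 : Trie :=
  (.node (.node (.node (.node (.leaf 0x1) (.leaf 0x1000)) (.node (.leaf 0x3) (.leaf 0))) (.node (.node (.leaf 0x2) (.leaf 0)) (.node (.leaf 0x1004) (.leaf 0)))) (.node (.node (.node (.leaf 0x1001) (.leaf 0x2)) (.node (.leaf 0x4) (.leaf 0))) (.node (.node (.leaf 0x1000) (.leaf 0)) (.node (.leaf 0x1003) (.leaf 0)))))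

/-- closing hints -/
def tau12L2close : Trie :=
  tau12L2close0

/-- a level -/
def tau12L2 : SLev := ⟨9, [0x1a69b2cc30b2cc, 0x4dd92591495b75b], tau12L2tree, tau12L2word, 5, tau12L2close, [(3, 0)]⟩

/-- part of a tree -/
def tau12L3tree0 : Trie :=
  (.node (.leaf 0x0) (.leaf 0x0))

/-- a tree -/
def tau12L3tree : Trie :=
  tau12L3tree0

/-- part of transversal words -/
def tau12L3word0 : Trie :=
  (.node (.leaf 0x0) (.leaf 0x659659))

/-- transversal words -/
def tau12L3word : Trie :=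
  tau12L3word0

/-- part of closing hints -/
def tau12L3close0 : Trie :=
  (.node (.leaf 0x1) (.leaf 0x0))

/-- closing hints -/
def tau12L3close : Trie :=
  tau12L3close0

/-- a level -/
def tau12L3 : SLev := ⟨7, [0x659659], tau12L3tree, tau12L3word, 2, tau12L3close, []⟩

/-- a chain -/
def tau12 : List SLev := [tau12L0, tau12L1, tau12L2, tau12L3]

/-- a representative -/
def r12 : RepD := ⟨2, 0, 3, 0, 2, tau12, [8192, 4096], [0x1000005018000, 0x100000100a000]⟩

/-- part of a tree -/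
def tau13L0tree0 : Trie :=
  (.node (.node (.node (.node (.node (.node (.leaf 0x0) (.leaf 0x13)) (.node (.leaf 0x100007) (.leaf 0))) (.node (.node (.leaf 0x100003) (.leaf 0x23)) (.node (.leaf 0xe) (.leaf 0)))) (.node (.node (.node (.leaf 0x100001) (.leaf 0x1e)) (.node (.leaf 0xb) (.leaf 0))) (.node (.node (.leaf 0x100005) (.leaf 0)) (.node (.leaf 0x10) (.leaf 0))))) (.node (.node (.node (.node (.leaf 0x100000) (.leaf 0x18)) (.node (.leaf 0x100009) (.leaf 0))) (.node (.node (.leaf 0x100004) (.leaf 0)) (.node (.leaf 0xf) (.leaf 0)))) (.node (.node (.node (.leaf 0x100002) (.leaf 0x1f)) (.node (.leaf 0xd) (.leaf 0))) (.node (.node (.leaf 0x100006) (.leaf 0)) (.node (.leaf 0x11) (.leaf 0)))))) (.node (.node (.node (.node (.node (.leaf 0x0) (.leaf 0x100013)) (.node (.leaf 0x9) (.leaf 0))) (.node (.node (.leaf 0x4) (.leaf 0x100023)) (.node (.leaf 0x10000e) (.leaf 0)))) (.node (.node (.node (.leaf 0x2) (.leaf 0x10001e)) (.node (.leaf 0x10000b) (.leaf 0))) (.node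 (.node (.leaf 0x6) (.leaf 0)) (.node (.leaf 0x100010) (.leaf 0))))) (.node (.node (.node (.node (.leaf 0x1) (.leaf 0x19)) (.node (.leaf 0x10000a) (.leaf 0))) (.node (.node (.leaf 0x5) (.leaf 0)) (.node (.leaf 0x10000f) (.leaf 0)))) (.node (.node (.node (.leaf 0x3) (.leaf 0x22)) (.node (.leaf 0x10000d) (.leaf 0))) (.node (.node (.leaf 0x7) (.leaf 0)) (.node (.leaf 0x12) (.leaf 0)))))))

/-- a tree -/
def tau13L0tree : Trie :=
  tau13L0tree0

/-- part of transversal words -/
def tau13L0word0 : Trie :=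
  (.node (.node (.node (.node (.node (.node (.leaf 0x0) (.leaf 0x4564b159626ebb21)) (.node (.leaf 0x9a6a290c8642cc) (.leaf 0))) (.node (.node (.leaf 0x113522914861659) (.leaf 0x28a45144cc861659)) (.node (.leaf 0x244da69b65b2cc) (.leaf 0)))) (.node (.node (.node (.leaf 0x137656ebacc32cacb) (.leaf 0x8a44d369990c30b)) (.node (.leaf 0x69a8a452190c861) (.leaf 0))) (.node (.node (.leaf 0x26a28a42d96d985b) (.leaf 0)) (.node (.leaf 0x9a91489b2cb661) (.leaf 0))))) (.node (.node (.node (.node (.leaf 0xdd6ec9142eb329) (.leaf 0x122914321859659)) (.node (.leaf 0x51489b659664) (.leaf 0))) (.node (.node (.leaf 0x89a6a285b65b661) (.leaf 0)) (.node (.leaf 0x8a26d352165b659) (.leaf 0)))) (.node (.node (.node (.leaf 0x8a48a26d4321659) (.leaf 0x4add69b65d6ec)) (.node (.leaf 0x489b32185b659) (.leaf 0))) (.node (.node (.leaf 0x9a8a26596d990c) (.leaf 0)) (.node (.leaf 0xa29648ac89b2dd2ec) (.leaf 0)))))) (.node (.node (.node (.node (.node (.leaf 0x9badd6eb30b665) (.leaf 0x34d48a26cb65b321))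 (.node (.leaf 0x1430b2d96cb) (.leaf 0))) (.node (.node (.leaf 0x35145226cb6cc2d9) (.leaf 0xd369a6a16cb30c)) (.node (.leaf 0xd36a4861859661) (.leaf 0)))) (.node (.node (.node (.leaf 0x134da6d485b2cc85b) (.leaf 0x4b2592c96265b)) (.node (.leaf 0x4d351485b65b30b) (.leaf 0))) (.node (.node (.leaf 0x2269b4db2cb664) (.leaf 0)) (.node (.leaf 0xa45228a430b2cb) (.leaf 0))))) (.node (.node (.node (.node (.leaf 0x5149144d98642cb) (.leaf 0x134ecb142ebadd95b)) (.node (.leaf 0x4d351486432190c) (.leaf 0))) (.node (.node (.leaf 0x5134d430b6cb6cc) (.leaf 0)) (.node (.leaf 0x136a44d36642d96cb) (.leaf 0)))) (.node (.node (.node (.leaf 0xd45134cb6cc861) (.leaf 0x51489a6cc85b2d9)) (.node (.leaf 0x9144da6cc8642db) (.leaf 0))) (.node (.node (.leaf 0x9a6d491430b2cc) (.leaf 0)) (.node (.leaf 0x144d48a265b321861) (.leaf 0)))))))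

/-- transversal words -/
def tau13L0word : Trie :=
  tau13L0word0

/-- part of closing hints -/
def tau13L0close0 : Trie :=
  (.node (.node (.node (.node (.node (.node (.node (.leaf 0x1) (.leaf 0x100400e)) (.node (.leaf 0x1c) (.leaf 0))) (.node (.node (.leaf 0x1003001010) (.leaf 0x4005012)) (.node (.leaf 0x22) (.leaf 0)))) (.node (.node (.node (.leaf 0x9) (.leaf 0x1002001017)) (.node (.leaf 0x4000021) (.leaf 0))) (.node (.node (.leaf 0x1004001015) (.leaf 0)) (.node (.leaf 0x1002000006) (.leaf 0))))) (.node (.node (.node (.node (.leaf 0x5) (.leaf 0x27)) (.node (.leaf 0x1f) (.leaf 0))) (.node (.node (.leaf 0x4001000) (.leaf 0)) (.node (.leaf 0x100200500a) (.leaf 0)))) (.node (.node (.node (.leaf 0xd) (.leaf 0x1004003025)) (.node (.leaf 0x100400301b) (.leaf 0))) (.node (.node (.leaf 0x18) (.leaf 0)) (.node (.leaf 0x24) (.leaf 0)))))) (.node (.node (.node (.node (.node (.leaf 0x3) (.leaf 0x100400c)) (.node (.leaf 0x1e) (.leaf 0))) (.node (.node (.leaf 0x11)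 (.leaf 0x4005013)) (.node (.leaf 0x23) (.leaf 0)))) (.node (.node (.node (.leaf 0xb) (.leaf 0x1002001019)) (.node (.leaf 0x1002) (.leaf 0))) (.node (.node (.leaf 0x16) (.leaf 0)) (.node (.leaf 0x1002000004) (.leaf 0))))) (.node (.node (.node (.node (.leaf 0x7) (.leaf 0x28)) (.node (.leaf 0x20) (.leaf 0))) (.node (.node (.leaf 0x14) (.leaf 0)) (.node (.leaf 0x1002005008) (.leaf 0)))) (.node (.node (.node (.leaf 0xf) (.leaf 0x3001029)) (.node (.leaf 0x100400301d) (.leaf 0))) (.node (.node (.leaf 0x1a) (.leaf 0)) (.node (.leaf 0x26) (.leaf 0))))))) (.node (.node (.node (.node (.node (.node (.leaf 0x2) (.leaf 0x100400d)) (.node (.leaf 0x1d) (.leaf 0))) (.node (.node (.leaf 0x100300100f) (.leaf 0x4005011)) (.node (.leaf 0x1000022) (.leaf 0)))) (.node (.node (.node (.leaf 0xa) (.leaf 0x1002001016)) (.node (.leaf 0x4000020) (.leaf 0))) (.node (.node (.leaf 0x1004001014) (.leaf 0)) (.node (.leaf 0x1002000005) (.leaf 0))))) (.node (.node (.node (.node (.leaf 0x6)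 (.leaf 0x1004004027)) (.node (.leaf 0x100300201f) (.leaf 0))) (.node (.node (.leaf 0x13) (.leaf 0)) (.node (.leaf 0x1002005009) (.leaf 0)))) (.node (.node (.node (.leaf 0xe) (.leaf 0x1004003024)) (.node (.leaf 0x100400301a) (.leaf 0))) (.node (.node (.leaf 0x19) (.leaf 0)) (.node (.leaf 0x25) (.leaf 0)))))) (.node (.node (.node (.node (.node (.leaf 0x4) (.leaf 0x100400b)) (.node (.leaf 0x100300201e) (.leaf 0))) (.node (.node (.leaf 0x12) (.leaf 0x1000000)) (.node (.leaf 0x1000023) (.leaf 0)))) (.node (.node (.node (.leaf 0xc) (.leaf 0x1002001018)) (.node (.leaf 0x1001) (.leaf 0))) (.node (.node (.leaf 0x17) (.leaf 0)) (.node (.leaf 0x1002000003) (.leaf 0))))) (.node (.node (.node (.node (.leaf 0x8) (.leaf 0x29)) (.node (.leaf 0x21) (.leaf 0))) (.node (.node (.leaf 0x15) (.leaf 0)) (.node (.leaf 0x1002005007) (.leaf 0)))) (.node (.node (.node (.leaf 0x10) (.leaf 0x3001028)) (.node (.leaf 0x100400301c) (.leaf 0))) (.node (.node (.leaf 0x1b) (.leaf 0)) (.node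 (.leaf 0x3002026) (.leaf 0))))))))

/-- closing hints -/
def tau13L0close : Trie :=
  tau13L0close0

/-- a level -/
def tau13L0 : SLev := ⟨6, [0x9badd6eb30b665, 0xdd6ec9142eb329], tau13L0tree, tau13L0word, 42, tau13L0close, [(21, 0), (29, 0)]⟩

/-- part of a tree -/
def tau13L1tree0 : Trie :=
  (.node (.node (.node (.leaf 0x0) (.leaf 0x100002)) (.node (.leaf 0x1) (.leaf 0))) (.node (.node (.leaf 0x0) (.leaf 0x100004)) (.node (.leaf 0x100001) (.leaf 0))))

/-- a tree -/
def tau13L1tree : Trie :=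
  tau13L1tree0

/-- part of transversal words -/
def tau13L1word0 : Trie :=
  (.node (.node (.node (.leaf 0x0) (.leaf 0x135228a42d9659)) (.node (.leaf 0x144da9144d9859659) (.leaf 0))) (.node (.node (.leaf 0x8a292269b321861) (.leaf 0x452269b2cc864)) (.node (.leaf 0x4d330c2cb659) (.leaf 0))))

/-- transversal words -/
def tau13L1word : Trie :=
  tau13L1word0

/-- part of closing hints -/
def tau13L1close0 : Trie :=
  (.node (.node (.node (.node (.leaf 0x1) (.leaf 0x1000)) (.node (.leaf 0x2003) (.leaf 0))) (.node (.node (.leaf 0x2) (.leaf 0x1002005)) (.node (.leaf 0x1002004) (.leaf 0)))) (.node (.node (.node (.leaf 0x1002000) (.leaf 0x5)) (.node (.leaf 0x4) (.leaf 0))) (.node (.node (.leaf 0x3) (.leaf 0x1000001)) (.node (.leaf 0x1000002) (.leaf 0)))))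

/-- closing hints -/
def tau13L1close : Trie :=
  tau13L1close0

/-- a level -/
def tau13L1 : SLev := ⟨8, [0x8a292269b321861, 0x5144d485b65b2cc], tau13L1tree, tau13L1word, 6, tau13L1close, [(4, 0), (2, 0)]⟩

/-- part of a tree -/
def tau13L2tree0 : Trie :=
  (.node (.node (.node (.leaf 0x0) (.leaf 0x3)) (.node (.leaf 0x100000) (.leaf 0))) (.node (.node (.leaf 0x0) (.leaf 0)) (.node (.leaf 0x100001) (.leaf 0))))

/-- a tree -/
def tau13L2tree : Trie :=
  tau13L2tree0

/-- part of transversal words -/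
def tau13L2word0 : Trie :=
  (.node (.node (.node (.leaf 0x0) (.leaf 0x5132cc30b2cc)) (.node (.leaf 0x34d45226d96cb30c) (.leaf 0))) (.node (.node (.leaf 0x4dd92591495b75b) (.leaf 0)) (.node (.leaf 0x5134da6d990b30c) (.leaf 0))))

/-- transversal words -/
def tau13L2word : Trie :=
  tau13L2word0

/-- part of closing hints -/
def tau13L2close0 : Trie :=
  (.node (.node (.node (.node (.leaf 0x1) (.leaf 0x3)) (.node (.leaf 0x1002) (.leaf 0))) (.node (.node (.leaf 0x0) (.leaf 0)) (.node (.leaf 0x4) (.leaf 0)))) (.node (.node (.node (.leaf 0x2) (.leaf 0x1004)) (.node (.leaf 0x0) (.leaf 0))) (.node (.node (.leaf 0x3) (.leaf 0)) (.node (.leaf 0x1) (.leaf 0)))))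

/-- closing hints -/
def tau13L2close : Trie :=
  tau13L2close0

/-- a level -/
def tau13L2 : SLev := ⟨9, [0x4dd92591495b75b, 0x34d45226d96cb30c], tau13L2tree, tau13L2word, 5, tau13L2close, [(2, 0)]⟩

/-- part of a tree -/
def tau13L3tree0 : Trie :=
  (.node (.leaf 0x0) (.leaf 0x0))

/-- a tree -/
def tau13L3tree : Trie :=
  tau13L3tree0

/-- part of transversal words -/
def tau13L3word0 : Trie :=
  (.node (.leaf 0x0) (.leaf 0x659659))

/-- transversal words -/
def tau13L3word : Trie :=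
  tau13L3word0

/-- part of closing hints -/
def tau13L3close0 : Trie :=
  (.node (.leaf 0x1) (.leaf 0x0))

/-- closing hints -/
def tau13L3close : Trie :=
  tau13L3close0

/-- a level -/
def tau13L3 : SLev := ⟨7, [0x659659], tau13L3tree, tau13L3word, 2, tau13L3close, []⟩

/-- a chain -/
def tau13 : List SLev := [tau13L0, tau13L1, tau13L2, tau13L3]

/-- a representative -/
def r13 : RepD := ⟨2, 1, 2, 2, 2, tau13, [4096, 8192], [4096, 8192]⟩

/-- part of a tree -/
def tau14L0tree0 : Trie :=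
  (.node (.node (.node (.node (.node (.node (.leaf 0x0) (.leaf 0x13)) (.node (.leaf 0x100007) (.leaf 0))) (.node (.node (.leaf 0x100003) (.leaf 0x23)) (.node (.leaf 0xd) (.leaf 0)))) (.node (.node (.node (.leaf 0x100001) (.leaf 0x1a)) (.node (.leaf 0x100009) (.leaf 0))) (.node (.node (.leaf 0x100005) (.leaf 0)) (.node (.leaf 0x11) (.leaf 0))))) (.node (.node (.node (.node (.leaf 0x100000) (.leaf 0x16)) (.node (.leaf 0x100008) (.leaf 0))) (.node (.node (.leaf 0x100004) (.leaf 0)) (.node (.leaf 0xf) (.leaf 0)))) (.node (.node (.node (.leaf 0x100002) (.leaf 0x1b)) (.node (.leaf 0xc) (.leaf 0))) (.node (.node (.leaf 0x100006) (.leaf 0)) (.node (.leaf 0x12) (.leaf 0)))))) (.node (.node (.node (.node (.node (.leaf 0x0) (.leaf 0x100013)) (.node (.leaf 0x8) (.leaf 0))) (.node (.node (.leaf 0x4) (.leaf 0x100023)) (.node (.leaf 0x10000d) (.leaf 0)))) (.node (.node (.node (.leaf 0x2) (.leaf 0x10001a)) (.node (.leaf 0xb) (.leaf 0))) (.node (.node (.leaf 0x6) (.leaf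 0)) (.node (.leaf 0x100011) (.leaf 0))))) (.node (.node (.node (.node (.leaf 0x1) (.leaf 0x17)) (.node (.leaf 0x9) (.leaf 0))) (.node (.node (.leaf 0x5) (.leaf 0)) (.node (.leaf 0x10) (.leaf 0)))) (.node (.node (.node (.leaf 0x3) (.leaf 0x22)) (.node (.leaf 0x10000c) (.leaf 0))) (.node (.node (.leaf 0x7) (.leaf 0)) (.node (.leaf 0x100012) (.leaf 0)))))))

/-- a tree -/
def tau14L0tree : Trie :=
  tau14L0tree0

/-- part of transversal words -/
def tau14L0word0 : Trie :=
  (.node (.node (.node (.node (.node (.node (.leaf 0x0) (.leaf 0x34da8a44cb65990c)) (.node (.leaf 0x244da69b65b2cc) (.leaf 0))) (.node (.node (.leaf 0x2269b4db2cb664) (.leaf 0x8a485986190b)) (.node (.leaf 0x29136a430b6cb) (.leaf 0)))) (.node (.node (.node (.leaf 0x134da6d485b2cc85b) (.leaf 0x9a91352c964b25)) (.node (.leaf 0x8a42db2cb321) (.leaf 0))) (.node (.node (.leaf 0x35145226cb6cc2d9) (.leaf 0)) (.node (.leaf 0x1a6a430b2cc30b) (.leaf 0))))) (.node (.node (.node (.node (.leaf 0x9badd6eb30b665)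 (.leaf 0x144da6d4861861)) (.node (.leaf 0x489b32185b659) (.leaf 0))) (.node (.node (.leaf 0x5134d430b6cb6cc) (.leaf 0)) (.node (.leaf 0x5144da6642cb6cb) (.leaf 0)))) (.node (.node (.node (.leaf 0x5149144d98642cb) (.leaf 0x26a430c861659)) (.node (.leaf 0x51489b659664) (.leaf 0))) (.node (.node (.leaf 0xd45134cb6cc861) (.leaf 0)) (.node (.leaf 0x114b244d330cb252ec) (.leaf 0)))))) (.node (.node (.node (.node (.node (.leaf 0xdd6ec9142eb329) (.leaf 0x229228a275badd6eb)) (.node (.leaf 0x9144da6cc8642db) (.leaf 0))) (.node (.node (.leaf 0x26a28a42d96d985b) (.leaf 0x89b5149132cc30b)) (.node (.leaf 0x4da8a450c85965b) (.leaf 0)))) (.node (.node (.node (.leaf 0x137656ebacc32cacb) (.leaf 0x1136a275badd6ea)) (.node (.leaf 0x4d351486432190c) (.leaf 0))) (.node (.node (.leaf 0x113522914861659) (.leaf 0)) (.node (.leaf 0x351369a6cc8616cc) (.leaf 0))))) (.node (.node (.node (.node (.leaf 0x8a48a26d4321659) (.leaf 0xa56d4564b256ea75b)) (.node (.leaf 0x228596cb659) (.leaf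 0))) (.node (.node (.leaf 0x89a6a285b65b661) (.leaf 0)) (.node (.leaf 0x35229136596cc) (.leaf 0)))) (.node (.node (.node (.leaf 0x9a8a26596d990c) (.leaf 0x9a6a452c964b25)) (.node (.leaf 0x1430b2d96cb) (.leaf 0))) (.node (.node (.leaf 0xd36a4861859661) (.leaf 0)) (.node (.leaf 0x1a96452ca6192cb29) (.leaf 0)))))))

/-- transversal words -/
def tau14L0word : Trie :=
  tau14L0word0

/-- part of closing hints -/
def tau14L0close0 : Trie :=
  (.node (.node (.node (.node (.node (.node (.node (.leaf 0x1) (.leaf 0x1001008)) (.node (.leaf 0x1b) (.leaf 0))) (.node (.node (.leaf 0x11) (.leaf 0x1000010)) (.node (.leaf 0x401f) (.leaf 0)))) (.node (.node (.node (.leaf 0x9) (.leaf 0x0)) (.node (.leaf 0x1003005002) (.leaf 0))) (.node (.node (.leaf 0x16) (.leaf 0)) (.node (.leaf 0x1002005004) (.leaf 0))))) (.node (.node (.node (.node (.leaf 0x5) (.leaf 0x27)) (.node (.leaf 0x1e) (.leaf 0))) (.node (.node (.leaf 0x1014) (.leaf 0)) (.node (.leaf 0x24) (.leaf 0)))) (.node (.node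 (.node (.leaf 0xd) (.leaf 0x1001001025)) (.node (.leaf 0x22) (.leaf 0))) (.node (.node (.leaf 0x1002001019) (.leaf 0)) (.node (.leaf 0x300100c) (.leaf 0)))))) (.node (.node (.node (.node (.node (.leaf 0x3) (.leaf 0x100100a)) (.node (.leaf 0x1c) (.leaf 0))) (.node (.node (.leaf 0x13) (.leaf 0x1000012)) (.node (.leaf 0x401d) (.leaf 0)))) (.node (.node (.node (.leaf 0xb) (.leaf 0x2017)) (.node (.leaf 0x1001001021) (.leaf 0))) (.node (.node (.leaf 0x18) (.leaf 0)) (.node (.leaf 0x1002005006) (.leaf 0))))) (.node (.node (.node (.node (.leaf 0x7) (.leaf 0x28)) (.node (.leaf 0x20) (.leaf 0))) (.node (.node (.leaf 0x15) (.leaf 0)) (.node (.leaf 0x26) (.leaf 0)))) (.node (.node (.node (.leaf 0xf) (.leaf 0x1002003029)) (.node (.leaf 0x23) (.leaf 0))) (.node (.node (.leaf 0x1a) (.leaf 0)) (.node (.leaf 0x300100e) (.leaf 0))))))) (.node (.node (.node (.node (.node (.node (.leaf 0x2) (.leaf 0x1001007)) (.node (.leaf 0x300001b) (.leaf 0))) (.node (.node (.leaf 0x12)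 (.leaf 0x100000f)) (.node (.leaf 0x401e) (.leaf 0)))) (.node (.node (.node (.leaf 0xa) (.leaf 0x2015)) (.node (.leaf 0x1003005001) (.leaf 0))) (.node (.node (.leaf 0x17) (.leaf 0)) (.node (.leaf 0x1002005003) (.leaf 0))))) (.node (.node (.node (.node (.leaf 0x6) (.leaf 0x1005027)) (.node (.leaf 0x1f) (.leaf 0))) (.node (.node (.leaf 0x1013) (.leaf 0)) (.node (.leaf 0x25) (.leaf 0)))) (.node (.node (.node (.leaf 0xe) (.leaf 0x1001001024)) (.node (.leaf 0x1001005022) (.leaf 0))) (.node (.node (.leaf 0x1002001018) (.leaf 0)) (.node (.leaf 0x300100b) (.leaf 0)))))) (.node (.node (.node (.node (.node (.leaf 0x4) (.leaf 0x1001009)) (.node (.leaf 0x1d) (.leaf 0))) (.node (.node (.leaf 0x14) (.leaf 0x1000011)) (.node (.leaf 0x401c) (.leaf 0)))) (.node (.node (.node (.leaf 0xc) (.leaf 0x2016)) (.node (.leaf 0x1001001020) (.leaf 0))) (.node (.node (.leaf 0x19) (.leaf 0)) (.node (.leaf 0x1002005005) (.leaf 0))))) (.node (.node (.node (.node (.leaf 0x8) (.leaf 0x29))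 (.node (.leaf 0x21) (.leaf 0))) (.node (.node (.leaf 0x1000001000) (.leaf 0)) (.node (.leaf 0x1004003026) (.leaf 0)))) (.node (.node (.node (.leaf 0x10) (.leaf 0x1002003028)) (.node (.leaf 0x1001005023) (.leaf 0))) (.node (.node (.leaf 0x300001a) (.leaf 0)) (.node (.leaf 0x300100d) (.leaf 0))))))))

/-- closing hints -/
def tau14L0close : Trie :=
  tau14L0close0

/-- a level -/
def tau14L0 : SLev := ⟨6, [0xdd6ec9142eb329, 0x9badd6eb30b665], tau14L0tree, tau14L0word, 42, tau14L0close, [(10, 0), (37, 0), (40, 1)]⟩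

/-- part of a tree -/
def tau14L1tree0 : Trie :=
  (.node (.node (.node (.leaf 0x0) (.leaf 0x2)) (.node (.leaf 0x100000) (.leaf 0))) (.node (.node (.leaf 0x0) (.leaf 0x200002)) (.node (.leaf 0x200001) (.leaf 0))))

/-- a tree -/
def tau14L1tree : Trie :=
  tau14L1tree0

/-- part of transversal words -/
def tau14L1word0 : Trie :=
  (.node (.node (.node (.leaf 0x0) (.leaf 0x4d330c2cb30c)) (.node (.leaf 0x5135226d96cb30c) (.leaf 0))) (.node (.node (.leaf 0x9a9136cb661) (.leaf 0xa26d489b2cb661)) (.node (.leaf 0x4d34da90c2db2cb) (.leaf 0))))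

/-- transversal words -/
def tau14L1word : Trie :=
  tau14L1word0

/-- part of closing hints -/
def tau14L1close0 : Trie :=
  (.node (.node (.node (.node (.node (.leaf 0x1) (.leaf 0x1005)) (.node (.leaf 0x5) (.leaf 0))) (.node (.node (.leaf 0x1000000) (.leaf 0)) (.node (.leaf 0x2) (.leaf 0)))) (.node (.node (.node (.leaf 0x1000) (.leaf 0)) (.node (.leaf 0x1004004) (.leaf 0))) (.node (.node (.leaf 0x4) (.leaf 0)) (.node (.leaf 0x4002) (.leaf 0))))) (.node (.node (.node (.node (.leaf 0x2) (.leaf 0x1002001)) (.node (.leaf 0x1001003) (.leaf 0))) (.node (.node (.leaf 0x3) (.leaf 0)) (.node (.leaf 0x1) (.leaf 0)))) (.node (.node (.node (.leaf 0x0) (.leaf 0)) (.node (.leaf 0x3004) (.leaf 0))) (.node (.node (.leaf 0x4003) (.leaf 0)) (.node (.leaf 0x1001005) (.leaf 0))))))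

/-- closing hints -/
def tau14L1close : Trie :=
  tau14L1close0

/-- a level -/
def tau14L1 : SLev := ⟨8, [0x9a9136cb661, 0x5135226d96cb30c, 0x1a8a269986430c], tau14L1tree, tau14L1word, 6, tau14L1close, [(0, 2), (1, 1)]⟩

/-- part of a tree -/
def tau14L2tree0 : Trie :=
  (.node (.node (.node (.leaf 0x0) (.leaf 0x2)) (.node (.leaf 0x1) (.leaf 0))) (.node (.node (.leaf 0x0) (.leaf 0)) (.node (.leaf 0x100001) (.leaf 0))))

/-- a tree -/
def tau14L2tree : Trie :=
  tau14L2tree0

/-- part of transversal words -/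
def tau14L2word0 : Trie :=
  (.node (.node (.node (.leaf 0x0) (.leaf 0x5134da6d990b30c)) (.node (.leaf 0x5144d485b65b2cc) (.leaf 0))) (.node (.node (.leaf 0x1a8a269986430c) (.leaf 0)) (.node (.leaf 0x4dd92591495b75b) (.leaf 0))))

/-- transversal words -/
def tau14L2word : Trie :=
  tau14L2word0

/-- part of closing hints -/
def tau14L2close0 : Trie :=
  (.node (.node (.node (.node (.leaf 0x1) (.leaf 0x1003)) (.node (.leaf 0x4) (.leaf 0))) (.node (.node (.leaf 0x2) (.leaf 0)) (.node (.leaf 0x1000) (.leaf 0)))) (.node (.node (.node (.leaf 0x1000) (.leaf 0x1002)) (.node (.leaf 0x1004) (.leaf 0))) (.node (.node (.leaf 0x3) (.leaf 0)) (.node (.leaf 0x1) (.leaf 0)))))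

/-- closing hints -/
def tau14L2close : Trie :=
  tau14L2close0

/-- a level -/
def tau14L2 : SLev := ⟨9, [0x1a8a269986430c, 0x659659], tau14L2tree, tau14L2word, 5, tau14L2close, [(3, 0)]⟩

/-- part of a tree -/
def tau14L3tree0 : Trie :=
  (.node (.leaf 0x0) (.leaf 0x0))

/-- a tree -/
def tau14L3tree : Trie :=
  tau14L3tree0

/-- part of transversal words -/
def tau14L3word0 : Trie :=
  (.node (.leaf 0x0) (.leaf 0x659659))

/-- transversal words -/
def tau14L3word : Trie :=
  tau14L3word0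

/-- part of closing hints -/
def tau14L3close0 : Trie :=
  (.node (.leaf 0x1) (.leaf 0x0))

/-- closing hints -/
def tau14L3close : Trie :=
  tau14L3close0

/-- a level -/
def tau14L3 : SLev := ⟨7, [0x659659], tau14L3tree, tau14L3word, 2, tau14L3close, []⟩

/-- a chain -/
def tau14 : List SLev := [tau14L0, tau14L1, tau14L2, tau14L3]

/-- a representative -/
def r14 : RepD := ⟨2, 2, 1, 41, 2, tau14, [8192, 4096], [0x1025000, 0x1002004009000]⟩

/-- part of a tree -/
def tau15L0tree0 : Trie :=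
  (.node (.node (.node (.node (.node (.node (.leaf 0x0) (.leaf 0x13)) (.node (.leaf 0x100007) (.leaf 0))) (.node (.node (.leaf 0x100003) (.leaf 0x23)) (.node (.leaf 0xd) (.leaf 0)))) (.node (.node (.node (.leaf 0x100001) (.leaf 0x1a)) (.node (.leaf 0x100009) (.leaf 0))) (.node (.node (.leaf 0x100005) (.leaf 0)) (.node (.leaf 0x11) (.leaf 0))))) (.node (.node (.node (.node (.leaf 0x100000) (.leaf 0x16)) (.node (.leaf 0x100008) (.leaf 0))) (.node (.node (.leaf 0x100004) (.leaf 0)) (.node (.leaf 0xf) (.leaf 0)))) (.node (.node (.node (.leaf 0x100002) (.leaf 0x1b)) (.node (.leaf 0xc) (.leaf 0))) (.node (.node (.leaf 0x100006) (.leaf 0)) (.node (.leaf 0x12) (.leaf 0)))))) (.node (.node (.node (.node (.node (.leaf 0x0) (.leaf 0x100013)) (.node (.leaf 0x8) (.leaf 0))) (.node (.node (.leaf 0x4) (.leaf 0x100023)) (.node (.leaf 0x10000d) (.leaf 0)))) (.node (.node (.node (.leaf 0x2) (.leaf 0x10001a)) (.node (.leaf 0xb) (.leaf 0))) (.node (.node (.leaf 0x6) (.leaf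 0)) (.node (.leaf 0x100011) (.leaf 0))))) (.node (.node (.node (.node (.leaf 0x1) (.leaf 0x17)) (.node (.leaf 0x9) (.leaf 0))) (.node (.node (.leaf 0x5) (.leaf 0)) (.node (.leaf 0x10) (.leaf 0)))) (.node (.node (.node (.leaf 0x3) (.leaf 0x22)) (.node (.leaf 0x10000c) (.leaf 0))) (.node (.node (.leaf 0x7) (.leaf 0)) (.node (.leaf 0x100012) (.leaf 0)))))))

/-- a tree -/
def tau15L0tree : Trie :=
  tau15L0tree0

/-- part of transversal words -/
def tau15L0word0 : Trie :=
  (.node (.node (.node (.node (.node (.node (.leaf 0x0) (.leaf 0x34da8a44cb65990c)) (.node (.leaf 0x244da69b65b2cc) (.leaf 0))) (.node (.node (.leaf 0x2269b4db2cb664) (.leaf 0x8a485986190b)) (.node (.leaf 0x29136a430b6cb) (.leaf 0)))) (.node (.node (.node (.leaf 0x134da6d485b2cc85b) (.leaf 0x9a91352c964b25)) (.node (.leaf 0x8a42db2cb321) (.leaf 0))) (.node (.node (.leaf 0x35145226cb6cc2d9) (.leaf 0)) (.node (.leaf 0x1a6a430b2cc30b) (.leaf 0))))) (.node (.node (.node (.node (.leaf 0x9badd6eb30b665)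 (.leaf 0x144da6d4861861)) (.node (.leaf 0x489b32185b659) (.leaf 0))) (.node (.node (.leaf 0x5134d430b6cb6cc) (.leaf 0)) (.node (.leaf 0x5144da6642cb6cb) (.leaf 0)))) (.node (.node (.node (.leaf 0x5149144d98642cb) (.leaf 0x26a430c861659)) (.node (.leaf 0x51489b659664) (.leaf 0))) (.node (.node (.leaf 0xd45134cb6cc861) (.leaf 0)) (.node (.leaf 0x114b244d330cb252ec) (.leaf 0)))))) (.node (.node (.node (.node (.node (.leaf 0xdd6ec9142eb329) (.leaf 0x229228a275badd6eb)) (.node (.leaf 0x9144da6cc8642db) (.leaf 0))) (.node (.node (.leaf 0x26a28a42d96d985b) (.leaf 0x89b5149132cc30b)) (.node (.leaf 0x4da8a450c85965b) (.leaf 0)))) (.node (.node (.node (.leaf 0x137656ebacc32cacb) (.leaf 0x1136a275badd6ea)) (.node (.leaf 0x4d351486432190c) (.leaf 0))) (.node (.node (.leaf 0x113522914861659) (.leaf 0)) (.node (.leaf 0x351369a6cc8616cc) (.leaf 0))))) (.node (.node (.node (.node (.leaf 0x8a48a26d4321659) (.leaf 0xa56d4564b256ea75b)) (.node (.leaf 0x228596cb659) (.leaf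 0))) (.node (.node (.leaf 0x89a6a285b65b661) (.leaf 0)) (.node (.leaf 0x35229136596cc) (.leaf 0)))) (.node (.node (.node (.leaf 0x9a8a26596d990c) (.leaf 0x9a6a452c964b25)) (.node (.leaf 0x1430b2d96cb) (.leaf 0))) (.node (.node (.leaf 0xd36a4861859661) (.leaf 0)) (.node (.leaf 0x1a96452ca6192cb29) (.leaf 0)))))))

/-- transversal words -/
def tau15L0word : Trie :=
  tau15L0word0

/-- part of closing hints -/
def tau15L0close0 : Trie :=
  (.node (.node (.node (.node (.node (.node (.node (.leaf 0x1) (.leaf 0x1000001008)) (.node (.leaf 0x1b) (.leaf 0))) (.node (.node (.leaf 0x11) (.leaf 0x1003000010)) (.node (.leaf 0x100200401f) (.leaf 0)))) (.node (.node (.node (.leaf 0x9) (.leaf 0x0)) (.node (.leaf 0x1001002002) (.leaf 0))) (.node (.node (.leaf 0x16) (.leaf 0)) (.node (.leaf 0x1002002004) (.leaf 0))))) (.node (.node (.node (.node (.leaf 0x5) (.leaf 0x27)) (.node (.leaf 0x1e) (.leaf 0))) (.node (.node (.leaf 0x3001014) (.leaf 0)) (.node (.leaf 0x24) (.leaf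 0)))) (.node (.node (.node (.leaf 0xd) (.leaf 0x1025)) (.node (.leaf 0x22) (.leaf 0))) (.node (.node (.leaf 0x1001001019) (.leaf 0)) (.node (.leaf 0x200100c) (.leaf 0)))))) (.node (.node (.node (.node (.node (.leaf 0x3) (.leaf 0x100000100a)) (.node (.leaf 0x1c) (.leaf 0))) (.node (.node (.leaf 0x13) (.leaf 0x1003000012)) (.node (.leaf 0x100200401d) (.leaf 0)))) (.node (.node (.node (.leaf 0xb) (.leaf 0x1004003017)) (.node (.leaf 0x1021) (.leaf 0))) (.node (.node (.leaf 0x18) (.leaf 0)) (.node (.leaf 0x1002002006) (.leaf 0))))) (.node (.node (.node (.node (.leaf 0x7) (.leaf 0x28)) (.node (.leaf 0x20) (.leaf 0))) (.node (.node (.leaf 0x15) (.leaf 0)) (.node (.leaf 0x26) (.leaf 0)))) (.node (.node (.node (.leaf 0xf) (.leaf 0x1005029)) (.node (.leaf 0x23) (.leaf 0))) (.node (.node (.leaf 0x1a) (.leaf 0)) (.node (.leaf 0x200100e) (.leaf 0))))))) (.node (.node (.node (.node (.node (.node (.leaf 0x2) (.leaf 0x1000001007)) (.node (.leaf 0x100001b) (.leaf 0))) (.node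 (.node (.leaf 0x12) (.leaf 0x100300000f)) (.node (.leaf 0x100200401e) (.leaf 0)))) (.node (.node (.node (.leaf 0xa) (.leaf 0x1004003015)) (.node (.leaf 0x1001002001) (.leaf 0))) (.node (.node (.leaf 0x17) (.leaf 0)) (.node (.leaf 0x1002002003) (.leaf 0))))) (.node (.node (.node (.node (.leaf 0x6) (.leaf 0x1003002027)) (.node (.leaf 0x1f) (.leaf 0))) (.node (.node (.leaf 0x3001013) (.leaf 0)) (.node (.leaf 0x25) (.leaf 0)))) (.node (.node (.node (.leaf 0xe) (.leaf 0x1024)) (.node (.leaf 0x3002022) (.leaf 0))) (.node (.node (.leaf 0x1001001018) (.leaf 0)) (.node (.leaf 0x200100b) (.leaf 0)))))) (.node (.node (.node (.node (.node (.leaf 0x4) (.leaf 0x1000001009)) (.node (.leaf 0x1d) (.leaf 0))) (.node (.node (.leaf 0x14) (.leaf 0x1003000011)) (.node (.leaf 0x100200401c) (.leaf 0)))) (.node (.node (.node (.leaf 0xc) (.leaf 0x1004003016)) (.node (.leaf 0x1020) (.leaf 0))) (.node (.node (.leaf 0x19) (.leaf 0)) (.node (.leaf 0x1002002005) (.leaf 0))))) (.node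 (.node (.node (.node (.leaf 0x8) (.leaf 0x29)) (.node (.leaf 0x21) (.leaf 0))) (.node (.node (.leaf 0x1003001000) (.leaf 0)) (.node (.leaf 0x1000005026) (.leaf 0)))) (.node (.node (.node (.leaf 0x10) (.leaf 0x1005028)) (.node (.leaf 0x3002023) (.leaf 0))) (.node (.node (.leaf 0x100001a) (.leaf 0)) (.node (.leaf 0x200100d) (.leaf 0))))))))

/-- closing hints -/
def tau15L0close : Trie :=
  tau15L0close0

/-- a level -/
def tau15L0 : SLev := ⟨6, [0xdd6ec9142eb329, 0x9badd6eb30b665], tau15L0tree, tau15L0word, 42, tau15L0close, [(21, 1), (31, 0)]⟩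

/-- part of a tree -/
def tau15L1tree0 : Trie :=
  (.node (.node (.node (.leaf 0x0) (.leaf 0x100002)) (.node (.leaf 0x1) (.leaf 0))) (.node (.node (.leaf 0x0) (.leaf 0x3)) (.node (.leaf 0x100001) (.leaf 0))))

/-- a tree -/
def tau15L1tree : Trie :=
  tau15L1tree0

/-- part of transversal words -/
def tau15L1word0 : Trie :=
  (.node (.node (.node (.leaf 0x0) (.leaf 0x135229142cb321)) (.node (.leaf 0xa26d489b2cb661) (.leaf 0))) (.node (.node (.leaf 0x9a9145216cc859) (.leaf 0x514861659861)) (.node (.leaf 0xd32cb65990b) (.leaf 0))))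

/-- transversal words -/
def tau15L1word : Trie :=
  tau15L1word0

/-- part of closing hints -/
def tau15L1close0 : Trie :=
  (.node (.node (.node (.node (.leaf 0x1) (.leaf 0x1003)) (.node (.leaf 0x0) (.leaf 0))) (.node (.node (.leaf 0x2) (.leaf 0x1004)) (.node (.leaf 0x5) (.leaf 0)))) (.node (.node (.node (.leaf 0x2001) (.leaf 0x1000000)) (.node (.leaf 0x4) (.leaf 0))) (.node (.node (.leaf 0x3) (.leaf 0x1001005)) (.node (.leaf 0x1002002) (.leaf 0)))))

/-- closing hints -/
def tau15L1close : Trie :=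
  tau15L1close0

/-- a level -/
def tau15L1 : SLev := ⟨8, [0x9a9145216cc859, 0x9b4d369b2cb2d9], tau15L1tree, tau15L1word, 6, tau15L1close, [(4, 0), (0, 1)]⟩

/-- part of a tree -/
def tau15L2tree0 : Trie :=
  (.node (.node (.node (.leaf 0x0) (.leaf 0x3)) (.node (.leaf 0x100000) (.leaf 0))) (.node (.node (.leaf 0x0) (.leaf 0)) (.node (.leaf 0x100001) (.leaf 0))))

/-- a tree -/
def tau15L2tree : Trie :=
  tau15L2tree0

/-- part of transversal words -/
def tau15L2word0 : Trie :=
  (.node (.node (.node (.leaf 0x0) (.leaf 0x5134da6d990b30c)) (.node (.leaf 0x5144d485b65b2cc) (.leaf 0))) (.node (.node (.leaf 0x4dd92591495b75b) (.leaf 0)) (.node (.leaf 0x5132cc30b2cc) (.leaf 0))))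

/-- transversal words -/
def tau15L2word : Trie :=
  tau15L2word0

/-- part of closing hints -/
def tau15L2close0 : Trie :=
  (.node (.node (.node (.node (.leaf 0x1) (.leaf 0x3)) (.node (.leaf 0x1002) (.leaf 0))) (.node (.node (.leaf 0x0) (.leaf 0)) (.node (.leaf 0x4) (.leaf 0)))) (.node (.node (.node (.leaf 0x2) (.leaf 0x0)) (.node (.leaf 0x1001) (.leaf 0))) (.node (.node (.leaf 0x3) (.leaf 0)) (.node (.leaf 0x1004) (.leaf 0)))))

/-- closing hints -/
def tau15L2close : Trie :=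
  tau15L2close0

/-- a level -/
def tau15L2 : SLev := ⟨9, [0x4dd92591495b75b, 0x5144d485b65b2cc], tau15L2tree, tau15L2word, 5, tau15L2close, [(2, 1)]⟩

/-- part of a tree -/
def tau15L3tree0 : Trie :=
  (.node (.leaf 0x0) (.leaf 0x0))

/-- a tree -/
def tau15L3tree : Trie :=
  tau15L3tree0

/-- part of transversal words -/
def tau15L3word0 : Trie :=
  (.node (.leaf 0x0) (.leaf 0x659659))

/-- transversal words -/
def tau15L3word : Trie :=
  tau15L3word0

/-- part of closing hints -/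
def tau15L3close0 : Trie :=
  (.node (.leaf 0x1) (.leaf 0x0))

/-- closing hints -/
def tau15L3close : Trie :=
  tau15L3close0

/-- a level -/
def tau15L3 : SLev := ⟨7, [0x659659], tau15L3tree, tau15L3word, 2, tau15L3close, []⟩

/-- a chain -/
def tau15 : List SLev := [tau15L0, tau15L1, tau15L2, tau15L3]

/-- a representative -/
def r15 : RepD := ⟨2, 9, 1, 5, 2, tau15, [8192, 4096], [0x1025000, 0x1002004009000]⟩

/-- part of a tree -/
def tau16L0tree0 : Trie :=
  (.node (.node (.node (.leaf 0x0) (.leaf 0x2)) (.node (.leaf 0x100000) (.leaf 0))) (.node (.node (.leaf 0x0) (.leaf 0x4)) (.node (.leaf 0x1) (.leaf 0))))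

/-- a tree -/
def tau16L0tree : Trie :=
  tau16L0tree0

/-- part of transversal words -/
def tau16L0word0 : Trie :=
  (.node (.node (.node (.leaf 0x0) (.leaf 0x4d330c2cb659)) (.node (.leaf 0x185b659) (.leaf 0))) (.node (.node (.leaf 0x165990b) (.leaf 0x89b30c85b659)) (.node (.leaf 0x42d9861) (.leaf 0))))

/-- transversal words -/
def tau16L0word : Trie :=
  tau16L0word0

/-- part of closing hints -/
def tau16L0close0 : Trie :=
  (.node (.node (.node (.node (.leaf 0x1) (.leaf 0x5)) (.node (.leaf 0x4) (.leaf 0))) (.node (.node (.leaf 0x3) (.leaf 0x2)) (.node (.leaf 0x0) (.leaf 0)))) (.node (.node (.node (.leaf 0x2) (.leaf 0x2005)) (.node (.leaf 0x0) (.leaf 0))) (.node (.node (.leaf 0x3001) (.leaf 0x1003004)) (.node (.leaf 0x1003) (.leaf 0)))))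

/-- closing hints -/
def tau16L0close : Trie :=
  tau16L0close0

/-- a level -/
def tau16L0 : SLev := ⟨8, [0x165990b, 0x185b659], tau16L0tree, tau16L0word, 6, tau16L0close, [(3, 1), (4, 1)]⟩

/-- part of a tree -/
def tau16L1tree0 : Trie :=
  (.node (.node (.node (.leaf 0x0) (.leaf 0x2)) (.node (.leaf 0x100000) (.leaf 0))) (.node (.node (.leaf 0x0) (.leaf 0)) (.node (.leaf 0x100001) (.leaf 0))))

/-- a tree -/
def tau16L1tree : Trie :=
  tau16L1tree0

/-- part of transversal words -/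
def tau16L1word0 : Trie :=
  (.node (.node (.node (.leaf 0x0) (.leaf 0x5132cc30b2cc)) (.node (.leaf 0x5134da6d990b30c) (.leaf 0))) (.node (.node (.leaf 0x4dd92591495b75b) (.leaf 0)) (.node (.leaf 0x34d45226d96cb30c) (.leaf 0))))

/-- transversal words -/
def tau16L1word : Trie :=
  tau16L1word0

/-- part of closing hints -/
def tau16L1close0 : Trie :=
  (.node (.node (.node (.node (.leaf 0x1) (.leaf 0x2)) (.node (.leaf 0x4) (.leaf 0))) (.node (.node (.leaf 0x0) (.leaf 0)) (.node (.leaf 0x1003) (.leaf 0)))) (.node (.node (.node (.leaf 0x2) (.leaf 0x1)) (.node (.leaf 0x1004) (.leaf 0))) (.node (.node (.leaf 0x3) (.leaf 0)) (.node (.leaf 0x1000) (.leaf 0)))))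

/-- closing hints -/
def tau16L1close : Trie :=
  tau16L1close0

/-- a level -/
def tau16L1 : SLev := ⟨9, [0x4dd92591495b75b, 0x5134da6d990b30c], tau16L1tree, tau16L1word, 5, tau16L1close, [(3, 0)]⟩

/-- part of a tree -/
def tau16L2tree0 : Trie :=
  (.node (.leaf 0x0) (.leaf 0x0))

/-- a tree -/
def tau16L2tree : Trie :=
  tau16L2tree0

/-- part of transversal words -/
def tau16L2word0 : Trie :=
  (.node (.leaf 0x0) (.leaf 0x659659))

/-- transversal words -/
def tau16L2word : Trie :=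
  tau16L2word0

/-- part of closing hints -/
def tau16L2close0 : Trie :=
  (.node (.leaf 0x1) (.leaf 0x0))

/-- closing hints -/
def tau16L2close : Trie :=
  tau16L2close0

/-- a level -/
def tau16L2 : SLev := ⟨7, [0x659659], tau16L2tree, tau16L2word, 2, tau16L2close, []⟩

/-- a chain -/
def tau16 : List SLev := [tau16L0, tau16L1, tau16L2]

/-- a representative -/
def r16 : RepD := ⟨2, 44, 2, 0xda92290c2e965b, 84, tau16, [0x3005000000, 0x1003001000000], [0x1003000010000, 0x1002000018000]⟩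

/-- part of a tree -/
def tau17L0tree0 : Trie :=
  (.node (.node (.node (.leaf 0x0) (.leaf 0x3)) (.node (.leaf 0x100000) (.leaf 0))) (.node (.node (.leaf 0x0) (.leaf 0)) (.node (.leaf 0x100002) (.leaf 0))))

/-- a tree -/
def tau17L0tree : Trie :=
  tau17L0tree0

/-- part of transversal words -/
def tau17L0word0 : Trie :=
  (.node (.node (.node (.leaf 0x0) (.leaf 0x2269a8a165b2cb)) (.node (.leaf 0x44da9136596cc) (.leaf 0))) (.node (.node (.leaf 0x26596d9861) (.leaf 0)) (.node (.leaf 0x35228a42d990b) (.leaf 0))))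

/-- transversal words -/
def tau17L0word : Trie :=
  tau17L0word0

/-- part of closing hints -/
def tau17L0close0 : Trie :=
  (.node (.node (.node (.node (.leaf 0x1) (.leaf 0x3)) (.node (.leaf 0x1004002) (.leaf 0))) (.node (.node (.leaf 0x0) (.leaf 0)) (.node (.leaf 0x4) (.leaf 0)))) (.node (.node (.node (.leaf 0x2) (.leaf 0x2004)) (.node (.leaf 0x3) (.leaf 0))) (.node (.node (.leaf 0x1001) (.leaf 0)) (.node (.leaf 0x0) (.leaf 0)))))

/-- closing hints -/
def tau17L0close : Trie :=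
  tau17L0close0

/-- a level -/
def tau17L0 : SLev := ⟨6, [0x26596d9861, 0x44da9136596cc], tau17L0tree, tau17L0word, 5, tau17L0close, [(1, 1), (4, 1)]⟩

/-- part of a tree -/
def tau17L1tree0 : Trie :=
  (.node (.node (.node (.leaf 0x0) (.leaf 0x100001)) (.node (.leaf 0x100000) (.leaf 0))) (.node (.node (.leaf 0x0) (.leaf 0x100002)) (.node (.leaf 0x1) (.leaf 0))))

/-- a tree -/
def tau17L1tree : Trie :=
  tau17L1tree0

/-- part of transversal words -/
def tau17L1word0 : Trie :=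
  (.node (.node (.node (.leaf 0x0) (.leaf 0x4d330c2cb30c)) (.node (.leaf 0x6d48596cc859) (.leaf 0))) (.node (.node (.leaf 0x32cc859) (.leaf 0x5136a430b664)) (.node (.leaf 0x185b30c) (.leaf 0))))

/-- transversal words -/
def tau17L1word : Trie :=
  tau17L1word0

/-- part of closing hints -/
def tau17L1close0 : Trie :=
  (.node (.node (.node (.node (.leaf 0x1) (.leaf 0x5)) (.node (.leaf 0x1004) (.leaf 0))) (.node (.node (.leaf 0x3) (.leaf 0x1002)) (.node (.leaf 0x0) (.leaf 0)))) (.node (.node (.node (.leaf 0x2) (.leaf 0x1003)) (.node (.leaf 0x5) (.leaf 0))) (.node (.node (.leaf 0x4) (.leaf 0x0)) (.node (.leaf 0x1001) (.leaf 0)))))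

/-- closing hints -/
def tau17L1close : Trie :=
  tau17L1close0

/-- a level -/
def tau17L1 : SLev := ⟨8, [0x32cc859, 0x6d48596cc859], tau17L1tree, tau17L1word, 6, tau17L1close, [(5, 0)]⟩

/-- part of a tree -/
def tau17L2tree0 : Trie :=
  (.node (.leaf 0x0) (.leaf 0x0))

/-- a tree -/
def tau17L2tree : Trie :=
  tau17L2tree0

/-- part of transversal words -/
def tau17L2word0 : Trie :=
  (.node (.leaf 0x0) (.leaf 0x5132cc30b2cc))

/-- transversal words -/
def tau17L2word : Trie :=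
  tau17L2word0

/-- part of closing hints -/
def tau17L2close0 : Trie :=
  (.node (.leaf 0x1) (.leaf 0x0))

/-- closing hints -/
def tau17L2close : Trie :=
  tau17L2close0

/-- a level -/
def tau17L2 : SLev := ⟨9, [0x5132cc30b2cc], tau17L2tree, tau17L2word, 2, tau17L2close, []⟩

/-- a chain -/
def tau17 : List SLev := [tau17L0, tau17L1, tau17L2]

/-- a representative -/
def r17 : RepD := ⟨2, 353, 4, 0x2ada89b30b6cc, 84, tau17, [0x1004005012000, 0x1004010000], [0x100401f000, 0x1020000]⟩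

/-- part of a tree -/
def tau18L0tree0 : Trie :=
  (.node (.node (.node (.node (.node (.node (.leaf 0x0) (.leaf 0x200016)) (.node (.leaf 0x100007) (.leaf 0))) (.node (.node (.leaf 0x200002) (.leaf 0)) (.node (.leaf 0xe) (.leaf 0)))) (.node (.node (.node (.leaf 0x1) (.leaf 0)) (.node (.leaf 0xb) (.leaf 0))) (.node (.node (.leaf 0x200005) (.leaf 0)) (.node (.leaf 0x12) (.leaf 0))))) (.node (.node (.node (.node (.leaf 0x100000) (.leaf 0x100019)) (.node (.leaf 0x9) (.leaf 0))) (.node (.node (.leaf 0x4) (.leaf 0)) (.node (.leaf 0x200010) (.leaf 0)))) (.node (.node (.node (.leaf 0x200001) (.leaf 0)) (.node (.leaf 0xc) (.leaf 0))) (.node (.node (.leaf 0x100006) (.leaf 0)) (.node (.leaf 0x200012) (.leaf 0)))))) (.node (.node (.node (.node (.node (.leaf 0x0) (.leaf 0x100018)) (.node (.leaf 0x200007) (.leaf 0))) (.node (.node (.leaf 0x100003) (.leaf 0)) (.node (.leaf 0xf) (.leaf 0)))) (.node (.node (.node (.leaf 0x100001) (.leaf 0)) (.node (.leaf 0x10000b) (.leaf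 0))) (.node (.node (.leaf 0x6) (.leaf 0)) (.node (.leaf 0x100012) (.leaf 0))))) (.node (.node (.node (.node (.leaf 0x200000) (.leaf 0x10001c)) (.node (.leaf 0x10000a) (.leaf 0))) (.node (.node (.leaf 0x5) (.leaf 0)) (.node (.leaf 0x11) (.leaf 0)))) (.node (.node (.node (.leaf 0x2) (.leaf 0)) (.node (.leaf 0x20000d) (.leaf 0))) (.node (.node (.leaf 0x7) (.leaf 0)) (.node (.leaf 0x100016) (.leaf 0)))))))

/-- a tree -/
def tau18L0tree : Trie :=
  tau18L0tree0

/-- part of transversal words -/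
def tau18L0word0 : Trie :=
  (.node (.node (.node (.node (.node (.node (.leaf 0x0) (.leaf 0x228a26a42cc861)) (.node (.leaf 0x132cc32190c) (.leaf 0))) (.node (.node (.leaf 0x1a6cb) (.leaf 0)) (.node (.leaf 0x36a4514914859861) (.leaf 0)))) (.node (.node (.node (.leaf 0x8a269a6616cb6cc) (.leaf 0)) (.node (.leaf 0x4da9148642d9) (.leaf 0))) (.node (.node (.leaf 0x69b4d450b2d96cb) (.leaf 0)) (.node (.leaf 0x4d351485b65b30b) (.leaf 0))))) (.node (.node (.node (.node (.leaf 0xa574bb2995d) (.leaf 0x8a489a6a16cb30c)) (.node (.leaf 0x30c2cb) (.leaf 0))) (.node (.node (.leaf 0x6a48a289990c2cb) (.leaf 0)) (.node (.leaf 0x145134cb6642d9) (.leaf 0)))) (.node (.node (.node (.leaf 0x45135226d98642d9) (.leaf 0)) (.node (.leaf 0xebb2cadd52b659) (.leaf 0))) (.node (.node (.leaf 0x6d485b2cb659) (.leaf 0)) (.node (.leaf 0x369a69b65965b) (.leaf 0)))))) (.node (.node (.node (.node (.node (.leaf 0x1430b2d96cb) (.leaf 0x8a430c85b321)) (.node (.leaf 0x91366430c861) (.leaf 0))) (.node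 (.node (.leaf 0x2290c) (.leaf 0)) (.node (.leaf 0x69b4d450c85b30b) (.leaf 0)))) (.node (.node (.node (.leaf 0x51489b659664) (.leaf 0)) (.node (.leaf 0x6d430b6cb659) (.leaf 0))) (.node (.node (.leaf 0x1b52269b65b30b) (.leaf 0)) (.node (.leaf 0x9aaecb2ba9d) (.leaf 0))))) (.node (.node (.node (.node (.leaf 0x276575d94cb0c) (.leaf 0x69a8a452190c861)) (.node (.leaf 0x8a45134cb6642cc) (.leaf 0))) (.node (.node (.leaf 0x1a6cb659861) (.leaf 0)) (.node (.leaf 0x52289a6d965b2cc) (.leaf 0)))) (.node (.node (.node (.leaf 0x4d369b66185b) (.leaf 0)) (.node (.leaf 0x1485b30b2cb) (.leaf 0))) (.node (.node (.leaf 0x6a26d48a18596cb) (.leaf 0)) (.node (.leaf 0x244d9859659) (.leaf 0)))))))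

/-- transversal words -/
def tau18L0word : Trie :=
  tau18L0word0

/-- part of closing hints -/
def tau18L0close0 : Trie :=
  (.node (.node (.node (.node (.node (.node (.node (.leaf 0x1) (.leaf 0xb)) (.node (.leaf 0x100200f) (.leaf 0x401e))) (.node (.node (.leaf 0x1) (.leaf 0x10)) (.node (.leaf 0x2009) (.leaf 0)))) (.node (.node (.node (.leaf 0x8) (.leaf 0x2006)) (.node (.leaf 0x100100d) (.leaf 0x100401b))) (.node (.node (.leaf 0x100300e) (.leaf 0x12)) (.node (.leaf 0x1e) (.leaf 0))))) (.node (.node (.node (.node (.leaf 0x5) (.leaf 0x20)) (.node (.leaf 0x16) (.leaf 0x18))) (.node (.node (.leaf 0x1) (.leaf 0x100201f)) (.node (.leaf 0x1000011) (.leaf 0)))) (.node (.node (.node (.leaf 0xa) (.leaf 0x22)) (.node (.leaf 0x100200b) (.leaf 0))) (.node (.node (.leaf 0x3) (.leaf 0x12)) (.node (.leaf 0x100301d) (.leaf 0)))))) (.node (.node (.node (.node (.node (.leaf 0x3) (.leaf 0x2017)) (.node (.leaf 0x15) (.leaf 0x16))) (.node (.node (.leaf 0xd) (.leaf 0x1001020))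 (.node (.leaf 0x1a) (.leaf 0)))) (.node (.node (.node (.leaf 0x9) (.leaf 0x100401f)) (.node (.leaf 0x18) (.leaf 0x1c))) (.node (.node (.leaf 0x2) (.leaf 0x1003023)) (.node (.leaf 0xa) (.leaf 0))))) (.node (.node (.node (.node (.leaf 0x7) (.leaf 0x100401e)) (.node (.leaf 0x5) (.leaf 0x4020))) (.node (.node (.leaf 0x10) (.leaf 0x1002019)) (.node (.leaf 0x1c) (.leaf 0)))) (.node (.node (.node (.leaf 0x1000004) (.leaf 0x1002022)) (.node (.leaf 0x100000c) (.leaf 0))) (.node (.node (.leaf 0x2003) (.leaf 0x16)) (.node (.leaf 0x4014) (.leaf 0))))))) (.node (.node (.node (.node (.node (.node (.leaf 0x2) (.leaf 0x4013)) (.node (.leaf 0x14) (.leaf 0x100101b))) (.node (.node (.leaf 0xc) (.leaf 0x100200c)) (.node (.leaf 0x7) (.leaf 0)))) (.node (.node (.node (.leaf 0x3000) (.leaf 0x21)) (.node (.leaf 0x17) (.leaf 0x100401a))) (.node (.node (.leaf 0x1002008) (.leaf 0x401d)) (.node (.leaf 0x1001005) (.leaf 0))))) (.node (.node (.node (.node (.leaf 0x6) (.leaf 0x4011))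 (.node (.leaf 0x100000f) (.leaf 0x1004023))) (.node (.node (.leaf 0xf) (.leaf 0x23)) (.node (.leaf 0x7) (.leaf 0)))) (.node (.node (.node (.leaf 0x1001004) (.leaf 0x100201c)) (.node (.leaf 0x19) (.leaf 0))) (.node (.node (.leaf 0x1002009) (.leaf 0x1000010)) (.node (.leaf 0x100201a) (.leaf 0)))))) (.node (.node (.node (.node (.node (.leaf 0x4) (.leaf 0x1f)) (.node (.leaf 0x100200e) (.leaf 0x3021))) (.node (.node (.leaf 0xe) (.leaf 0x1022)) (.node (.leaf 0x1b) (.leaf 0)))) (.node (.node (.node (.leaf 0x0) (.leaf 0x15)) (.node (.leaf 0x6) (.leaf 0x1021))) (.node (.node (.leaf 0x12) (.leaf 0x1017)) (.node (.leaf 0x4015) (.leaf 0))))) (.node (.node (.node (.node (.leaf 0x0) (.leaf 0xd)) (.node (.leaf 0x1000008) (.leaf 0x19))) (.node (.node (.leaf 0x11) (.leaf 0x3013)) (.node (.leaf 0x1d) (.leaf 0)))) (.node (.node (.node (.leaf 0xb) (.leaf 0x1002014)) (.node (.leaf 0x100200a) (.leaf 0))) (.node (.node (.leaf 0x13) (.leaf 0x1018)) (.node (.leaf 0x2) (.leaf 0))))))))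

/-- closing hints -/
def tau18L0close : Trie :=
  tau18L0close0

/-- a level -/
def tau18L0 : SLev := ⟨6, [0x1430b2d96cb, 0xa574bb2995d, 0x276575d94cb0c], tau18L0tree, tau18L0word, 36, tau18L0close, [(27, 2), (32, 1)]⟩

/-- part of a tree -/
def tau18L1tree0 : Trie :=
  (.node (.node (.node (.leaf 0x0) (.leaf 0x100002)) (.node (.leaf 0x1) (.leaf 0))) (.node (.node (.leaf 0x0) (.leaf 0)) (.node (.leaf 0x2) (.leaf 0))))

/-- a tree -/
def tau18L1tree : Trie :=
  tau18L1tree0

/-- part of transversal words -/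
def tau18L1word0 : Trie :=
  (.node (.node (.node (.leaf 0x0) (.leaf 0x1452289a66190c30c)) (.node (.leaf 0x5135226d96cb30c) (.leaf 0))) (.node (.node (.leaf 0x4d330c2cb659) (.leaf 0)) (.node (.leaf 0x4d36a48a42cc30c) (.leaf 0))))

/-- transversal words -/
def tau18L1word : Trie :=
  tau18L1word0

/-- part of closing hints -/
def tau18L1close0 : Trie :=
  (.node (.node (.node (.node (.leaf 0x1) (.leaf 0x1000)) (.node (.leaf 0x3) (.leaf 0))) (.node (.node (.leaf 0x2) (.leaf 0)) (.node (.leaf 0x1004) (.leaf 0)))) (.node (.node (.node (.leaf 0x1001) (.leaf 0x2)) (.node (.leaf 0x4) (.leaf 0))) (.node (.node (.leaf 0x1000) (.leaf 0)) (.node (.leaf 0x1003) (.leaf 0)))))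

/-- closing hints -/
def tau18L1close : Trie :=
  tau18L1close0

/-- a level -/
def tau18L1 : SLev := ⟨8, [0x4d330c2cb659, 0x4d330c2cb30c], tau18L1tree, tau18L1word, 5, tau18L1close, [(1, 1)]⟩

/-- part of a tree -/
def tau18L2tree0 : Trie :=
  (.node (.leaf 0x0) (.leaf 0x0))

/-- a tree -/
def tau18L2tree : Trie :=
  tau18L2tree0

/-- part of transversal words -/
def tau18L2word0 : Trie :=
  (.node (.leaf 0x0) (.leaf 0x659659))

/-- transversal words -/
def tau18L2word : Trie :=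
  tau18L2word0

/-- part of closing hints -/
def tau18L2close0 : Trie :=
  (.node (.leaf 0x1) (.leaf 0x0))

/-- closing hints -/
def tau18L2close : Trie :=
  tau18L2close0

/-- a level -/
def tau18L2 : SLev := ⟨7, [0x659659], tau18L2tree, tau18L2word, 2, tau18L2close, []⟩

/-- a chain -/
def tau18 : List SLev := [tau18L0, tau18L1, tau18L2]

/-- a representative -/
def r18 : RepD := ⟨2, 2763, 2, 0x69d69a85b2db2cb, 14, tau18, [0x11000, 0x1001001013000, 0x100000400d000], [0x4025000, 0x1002003002000, 0x1001002015000]⟩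

/-- part of a tree -/
def tau19L0tree0 : Trie :=
  (.node (.node (.node (.node (.node (.node (.leaf 0x0) (.leaf 0x200013)) (.node (.leaf 0x6) (.leaf 0))) (.node (.node (.leaf 0x200002) (.leaf 0)) (.node (.leaf 0x200009) (.leaf 0)))) (.node (.node (.node (.leaf 0x1) (.leaf 0)) (.node (.leaf 0x100008) (.leaf 0))) (.node (.node (.leaf 0x4) (.leaf 0)) (.node (.leaf 0xd) (.leaf 0))))) (.node (.node (.node (.node (.leaf 0x100000) (.leaf 0x17)) (.node (.leaf 0x7) (.leaf 0))) (.node (.node (.leaf 0x100003) (.leaf 0)) (.node (.leaf 0xb) (.leaf 0)))) (.node (.node (.node (.leaf 0x200001) (.leaf 0)) (.node (.leaf 0x9) (.leaf 0))) (.node (.node (.leaf 0x5) (.leaf 0)) (.node (.leaf 0x10) (.leaf 0)))))) (.node (.node (.node (.node (.node (.leaf 0x0) (.leaf 0x14)) (.node (.leaf 0x100006) (.leaf 0))) (.node (.node (.leaf 0x3) (.leaf 0)) (.node (.leaf 0xa) (.leaf 0)))) (.node (.node (.node (.leaf 0x100001) (.leaf 0)) (.node (.leaf 0x200008) (.leaf 0))) (.node (.node (.leaf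 0x100004) (.leaf 0)) (.node (.leaf 0xe) (.leaf 0))))) (.node (.node (.node (.node (.leaf 0x200000) (.leaf 0x20001a)) (.node (.leaf 0x100007) (.leaf 0))) (.node (.node (.leaf 0x200003) (.leaf 0)) (.node (.leaf 0x20000b) (.leaf 0)))) (.node (.node (.node (.leaf 0x2) (.leaf 0)) (.node (.leaf 0x100009) (.leaf 0))) (.node (.node (.leaf 0x200005) (.leaf 0)) (.node (.leaf 0x100012) (.leaf 0)))))))

/-- a tree -/
def tau19L0tree : Trie :=
  tau19L0tree0

/-- part of transversal words -/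
def tau19L0word0 : Trie :=
  (.node (.node (.node (.node (.node (.node (.leaf 0x0) (.leaf 0x4da8a26d985b30b)) (.node (.leaf 0x5148a452190c30c) (.leaf 0))) (.node (.node (.leaf 0x5144d365b6642cc) (.leaf 0)) (.node (.leaf 0x1430b2d96cb) (.leaf 0)))) (.node (.node (.node (.leaf 0x6a48a289990c2cb) (.leaf 0)) (.node (.leaf 0x8a28a452190c861) (.leaf 0))) (.node (.node (.leaf 0x8a269a6616cb6cc) (.leaf 0)) (.node (.leaf 0x5226d365b321) (.leaf 0))))) (.node (.node (.node (.node (.leaf 0xa574bb2995d) (.leaf 0x51489a90b6cb659)) (.node (.leaf 0x69b4d450c85b30b) (.leaf 0))) (.node (.node (.leaf 0x4d351485b65b30b) (.leaf 0)) (.node (.leaf 0x5148a489b30b2cb) (.leaf 0)))) (.node (.node (.node (.leaf 0x134da6a28596cb2cb) (.leaf 0)) (.node (.leaf 0x48a28a48a190c2d9) (.leaf 0))) (.node (.node (.leaf 0x132cc32190c) (.leaf 0)) (.node (.leaf 0x2291352190c85b) (.leaf 0)))))) (.node (.node (.node (.node (.node (.leaf 0x2290c861659) (.leaf 0xa2b2baecaa5)) (.node (.leaf 0x134d36a42d9659)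 (.leaf 0))) (.node (.node (.leaf 0x28abb2cadd52b) (.leaf 0)) (.node (.leaf 0x30c2cb) (.leaf 0)))) (.node (.node (.node (.leaf 0x9132cb6cc861) (.leaf 0)) (.node (.leaf 0x1489b321861659) (.leaf 0))) (.node (.node (.leaf 0x8a45134cb6642cc) (.leaf 0)) (.node (.leaf 0x913664) (.leaf 0))))) (.node (.node (.node (.node (.leaf 0x69a8a452190c861) (.leaf 0x6cc85990c)) (.node (.leaf 0x1a6cb659861) (.leaf 0))) (.node (.node (.leaf 0x69b4da6a18596cb) (.leaf 0)) (.node (.leaf 0x8a45134cc32190c) (.leaf 0)))) (.node (.node (.node (.leaf 0x6d430b6cb659) (.leaf 0)) (.node (.leaf 0x1985b30b) (.leaf 0))) (.node (.node (.leaf 0x289b5244cb66430c) (.leaf 0)) (.node (.leaf 0x8a489a6a16cb30c) (.leaf 0)))))))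

/-- transversal words -/
def tau19L0word : Trie :=
  tau19L0word0

/-- part of closing hints -/
def tau19L0close0 : Trie :=
  (.node (.node (.node (.node (.node (.node (.node (.leaf 0x1) (.leaf 0x200e)) (.node (.leaf 0x1004017) (.leaf 0x100300b))) (.node (.node (.leaf 0x1) (.leaf 0x23)) (.node (.leaf 0x1e) (.leaf 0)))) (.node (.node (.node (.leaf 0x8) (.leaf 0x0)) (.node (.leaf 0x4) (.leaf 0x301d))) (.node (.node (.leaf 0x3008) (.leaf 0x3022)) (.node (.leaf 0x1004012) (.leaf 0))))) (.node (.node (.node (.node (.leaf 0x5) (.leaf 0x1001001)) (.node (.leaf 0x18) (.leaf 0x100301a))) (.node (.node (.leaf 0x100200d) (.leaf 0x100401b)) (.node (.leaf 0x6) (.leaf 0)))) (.node (.node (.node (.leaf 0xc) (.leaf 0x201c)) (.node (.leaf 0x1004) (.leaf 0))) (.node (.node (.leaf 0x17) (.leaf 0x101c)) (.node (.leaf 0x21) (.leaf 0)))))) (.node (.node (.node (.node (.node (.leaf 0x3) (.leaf 0x100201f)) (.node (.leaf 0x100000b) (.leaf 0x300c))) (.node (.node (.leaf 0x10) (.leaf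 0x1004023)) (.node (.leaf 0x0) (.leaf 0)))) (.node (.node (.node (.leaf 0xa) (.leaf 0x1004021)) (.node (.leaf 0x1d) (.leaf 0x101b))) (.node (.node (.leaf 0x15) (.leaf 0x1017)) (.node (.leaf 0x7) (.leaf 0))))) (.node (.node (.node (.node (.leaf 0x7) (.leaf 0x9)) (.node (.leaf 0x1004005) (.leaf 0x1004006))) (.node (.node (.leaf 0x13) (.leaf 0x1003022)) (.node (.leaf 0x2011) (.leaf 0)))) (.node (.node (.node (.leaf 0x1001009) (.leaf 0x1000014)) (.node (.leaf 0x1002018) (.leaf 0))) (.node (.node (.leaf 0x19) (.leaf 0x12)) (.node (.leaf 0x101e) (.leaf 0))))))) (.node (.node (.node (.node (.node (.node (.leaf 0x2) (.leaf 0x1002011)) (.node (.leaf 0x1a) (.leaf 0x4020))) (.node (.node (.leaf 0xf) (.leaf 0x1003013)) (.node (.leaf 0x4016) (.leaf 0)))) (.node (.node (.node (.leaf 0x9) (.leaf 0x100200f)) (.node (.leaf 0x1019) (.leaf 0x3))) (.node (.node (.leaf 0x14) (.leaf 0x4014)) (.node (.leaf 0x100200f) (.leaf 0))))) (.node (.node (.node (.node (.leaf 0x6) (.leaf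 0x22)) (.node (.leaf 0x400c) (.leaf 0x400e))) (.node (.node (.leaf 0x12) (.leaf 0x3019)) (.node (.leaf 0x1004007) (.leaf 0)))) (.node (.node (.node (.leaf 0xd) (.leaf 0x3016)) (.node (.leaf 0x200d) (.leaf 0))) (.node (.node (.leaf 0x18) (.leaf 0x1002023)) (.node (.leaf 0x8) (.leaf 0)))))) (.node (.node (.node (.node (.node (.leaf 0x4) (.leaf 0x4010)) (.node (.leaf 0x1b) (.leaf 0x3020))) (.node (.node (.leaf 0x11) (.leaf 0x10)) (.node (.leaf 0x1015) (.leaf 0)))) (.node (.node (.node (.leaf 0xb) (.leaf 0x2005)) (.node (.leaf 0x3015) (.leaf 0x101f))) (.node (.node (.leaf 0x16) (.leaf 0x100301e)) (.node (.leaf 0x20) (.leaf 0))))) (.node (.node (.node (.node (.leaf 0x0) (.leaf 0x100201a)) (.node (.leaf 0x1c) (.leaf 0x201d))) (.node (.node (.leaf 0x1001002) (.leaf 0x300a)) (.node (.leaf 0x1f) (.leaf 0)))) (.node (.node (.node (.leaf 0xe) (.leaf 0x1003021)) (.node (.leaf 0x3013) (.leaf 0))) (.node (.node (.leaf 0x3) (.leaf 0x400a)) (.node (.leaf 0x2002) (.leaf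 0))))))))

/-- closing hints -/
def tau19L0close : Trie :=
  tau19L0close0

/-- a level -/
def tau19L0 : SLev := ⟨6, [0x2290c861659, 0xa574bb2995d, 0x69a8a452190c861], tau19L0tree, tau19L0word, 36, tau19L0close, [(30, 0), (4, 2)]⟩

/-- part of a tree -/
def tau19L1tree0 : Trie :=
  (.node (.node (.node (.leaf 0x0) (.leaf 0x100002)) (.node (.leaf 0x1) (.leaf 0))) (.node (.node (.leaf 0x0) (.leaf 0)) (.node (.leaf 0x2) (.leaf 0))))

/-- a tree -/
def tau19L1tree : Trie :=
  tau19L1tree0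

/-- part of transversal words -/
def tau19L1word0 : Trie :=
  (.node (.node (.node (.leaf 0x0) (.leaf 0x4d330c2cb30c)) (.node (.leaf 0x4d36a48a42cc30c) (.leaf 0))) (.node (.node (.leaf 0x514861659861) (.leaf 0)) (.node (.leaf 0x5135226d96cb30c) (.leaf 0))))

/-- transversal words -/
def tau19L1word : Trie :=
  tau19L1word0

/-- part of closing hints -/
def tau19L1close0 : Trie :=
  (.node (.node (.node (.node (.leaf 0x1) (.leaf 0x1000)) (.node (.leaf 0x3) (.leaf 0))) (.node (.node (.leaf 0x2) (.leaf 0)) (.node (.leaf 0x1004) (.leaf 0)))) (.node (.node (.node (.leaf 0x1001) (.leaf 0x2)) (.node (.leaf 0x4) (.leaf 0))) (.node (.node (.leaf 0x1000) (.leaf 0)) (.node (.leaf 0x1003) (.leaf 0)))))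

/-- closing hints -/
def tau19L1close : Trie :=
  tau19L1close0

/-- a level -/
def tau19L1 : SLev := ⟨8, [0x514861659861, 0x1452289a66190c30c], tau19L1tree, tau19L1word, 5, tau19L1close, [(3, 1)]⟩

/-- part of a tree -/
def tau19L2tree0 : Trie :=
  (.node (.leaf 0x0) (.leaf 0x0))

/-- a tree -/
def tau19L2tree : Trie :=
  tau19L2tree0

/-- part of transversal words -/
def tau19L2word0 : Trie :=
  (.node (.leaf 0x0) (.leaf 0x659659))

/-- transversal words -/
def tau19L2word : Trie :=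
  tau19L2word0

/-- part of closing hints -/
def tau19L2close0 : Trie :=
  (.node (.leaf 0x1) (.leaf 0x0))

/-- closing hints -/
def tau19L2close : Trie :=
  tau19L2close0

/-- a level -/
def tau19L2 : SLev := ⟨7, [0x659659], tau19L2tree, tau19L2word, 2, tau19L2close, []⟩

/-- a chain -/
def tau19 : List SLev := [tau19L0, tau19L1, tau19L2]

/-- a representative -/
def r19 : RepD := ⟨2, 0x52cb, 1, 0xa2914b22759859, 14, tau19, [0x100300500d000, 0x1001001013000, 0x14000], [0x4000017000, 0x100400e000, 0x100400200e000]⟩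

/-- part of a tree -/
def tau20L0tree0 : Trie :=
  (.node (.node (.node (.leaf 0x0) (.leaf 0x200002)) (.node (.leaf 0x200000) (.leaf 0))) (.node (.node (.leaf 0x0) (.leaf 0)) (.node (.leaf 0x1) (.leaf 0))))

/-- a tree -/
def tau20L0tree : Trie :=
  tau20L0tree0

/-- part of transversal words -/
def tau20L0word0 : Trie :=
  (.node (.node (.node (.leaf 0x0) (.leaf 0x8a44d34d9661864)) (.node (.leaf 0x8a485b2cc859) (.leaf 0))) (.node (.node (.leaf 0x9b4da8a430b659) (.leaf 0)) (.node (.leaf 0xa29134d9664321) (.leaf 0))))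

/-- transversal words -/
def tau20L0word : Trie :=
  tau20L0word0

/-- part of closing hints -/
def tau20L0close0 : Trie :=
  (.node (.node (.node (.node (.leaf 0x1) (.leaf 0x4)) (.node (.leaf 0x1005003) (.leaf 0x2004))) (.node (.node (.leaf 0x2) (.leaf 0x4002)) (.node (.leaf 0x1002) (.leaf 0x1004001)))) (.node (.node (.node (.leaf 0x1003000) (.leaf 0x0)) (.node (.leaf 0x1001003) (.leaf 0x1001004))) (.node (.node (.leaf 0x3) (.leaf 0x2000)) (.node (.leaf 0x2001) (.leaf 0)))))

/-- closing hints -/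
def tau20L0close : Trie :=
  tau20L0close0

/-- a level -/
def tau20L0 : SLev := ⟨6, [0x9b4da8a430b659, 0x32cc859, 0x8a485b2cc859], tau20L0tree, tau20L0word, 5, tau20L0close, [(2, 0), (4, 0)]⟩

/-- part of a tree -/
def tau20L1tree0 : Trie :=
  (.node (.node (.node (.leaf 0x0) (.leaf 0x100001)) (.node (.leaf 0x100000) (.leaf 0))) (.node (.node (.leaf 0x0) (.leaf 0x100002)) (.node (.leaf 0x1) (.leaf 0))))

/-- a tree -/
def tau20L1tree : Trie :=
  tau20L1tree0

/-- part of transversal words -/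
def tau20L1word0 : Trie :=
  (.node (.node (.node (.leaf 0x0) (.leaf 0x1136a291366430b664)) (.node (.leaf 0x89b32185b321) (.leaf 0))) (.node (.node (.leaf 0x42d9861) (.leaf 0x4da9132d990b)) (.node (.leaf 0x165990b) (.leaf 0))))

/-- transversal words -/
def tau20L1word : Trie :=
  tau20L1word0

/-- part of closing hints -/
def tau20L1close0 : Trie :=
  (.node (.node (.node (.node (.leaf 0x1) (.leaf 0x5)) (.node (.leaf 0x1004) (.leaf 0))) (.node (.node (.leaf 0x3) (.leaf 0x1002)) (.node (.leaf 0x0) (.leaf 0)))) (.node (.node (.node (.leaf 0x2) (.leaf 0x1003)) (.node (.leaf 0x5) (.leaf 0))) (.node (.node (.leaf 0x4) (.leaf 0x0)) (.node (.leaf 0x1001) (.leaf 0)))))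

/-- closing hints -/
def tau20L1close : Trie :=
  tau20L1close0

/-- a level -/
def tau20L1 : SLev := ⟨8, [0x42d9861, 0x89b32185b321], tau20L1tree, tau20L1word, 6, tau20L1close, [(5, 0)]⟩

/-- part of a tree -/
def tau20L2tree0 : Trie :=
  (.node (.leaf 0x0) (.leaf 0x0))

/-- a tree -/
def tau20L2tree : Trie :=
  tau20L2tree0

/-- part of transversal words -/
def tau20L2word0 : Trie :=
  (.node (.leaf 0x0) (.leaf 0x5132cc30b2cc))

/-- transversal words -/
def tau20L2word : Trie :=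
  tau20L2word0

/-- part of closing hints -/
def tau20L2close0 : Trie :=
  (.node (.leaf 0x1) (.leaf 0x0))

/-- closing hints -/
def tau20L2close : Trie :=
  tau20L2close0

/-- a level -/
def tau20L2 : SLev := ⟨9, [0x5132cc30b2cc], tau20L2tree, tau20L2word, 2, tau20L2close, []⟩

/-- a chain -/
def tau20 : List SLev := [tau20L0, tau20L1, tau20L2]

/-- a representative -/
def r20 : RepD := ⟨2, 2657, 6, 0x1226cc861861, 84, tau20, [0x5010000, 0x1002005000000, 0x1003005012000], [0x1014000, 0x1008000, 0x8000]⟩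

/-- part of a tree -/
def tau21L0tree0 : Trie :=
  (.node (.node (.node (.leaf 0x0) (.leaf 0x100002)) (.node (.leaf 0x1) (.leaf 0))) (.node (.node (.leaf 0x0) (.leaf 0x3)) (.node (.leaf 0x100001) (.leaf 0))))

/-- a tree -/
def tau21L0tree : Trie :=
  tau21L0tree0

/-- part of transversal words -/
def tau21L0word0 : Trie :=
  (.node (.node (.node (.leaf 0x0) (.leaf 0x136a28996cb661)) (.node (.leaf 0x42d9861) (.leaf 0))) (.node (.node (.leaf 0x165990b) (.leaf 0x1b4dd6a44ccb2592b)) (.node (.leaf 0x9b5144cc8642cc) (.leaf 0))))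

/-- transversal words -/
def tau21L0word : Trie :=
  tau21L0word0

/-- part of closing hints -/
def tau21L0close0 : Trie :=
  (.node (.node (.node (.node (.leaf 0x1) (.leaf 0x1000003)) (.node (.leaf 0x0) (.leaf 0))) (.node (.node (.leaf 0x2) (.leaf 0x1000004)) (.node (.leaf 0x5) (.leaf 0)))) (.node (.node (.node (.leaf 0x1003001) (.leaf 0x1000)) (.node (.leaf 0x4) (.leaf 0))) (.node (.node (.leaf 0x3) (.leaf 0x2005)) (.node (.leaf 0x1004002) (.leaf 0)))))

/-- closing hints -/
def tau21L0close : Trie :=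
  tau21L0close0

/-- a level -/
def tau21L0 : SLev := ⟨8, [0x165990b, 0x4d36a48a42cc30c], tau21L0tree, tau21L0word, 6, tau21L0close, [(4, 0), (4, 1)]⟩

/-- part of a tree -/
def tau21L1tree0 : Trie :=
  (.node (.node (.node (.leaf 0x0) (.leaf 0x3)) (.node (.leaf 0x1) (.leaf 0))) (.node (.node (.leaf 0x100000) (.leaf 0)) (.node (.leaf 0x100002) (.leaf 0))))

/-- a tree -/
def tau21L1tree : Trie :=
  tau21L1tree0

/-- part of transversal words -/
def tau21L1word0 : Trie :=
  (.node (.node (.node (.leaf 0x0) (.leaf 0x5144d485b65b2cc)) (.node (.leaf 0x1a8a269986430c) (.leaf 0))) (.node (.node (.leaf 0x4dd92591495b75b) (.leaf 0)) (.node (.leaf 0x291369b66190b) (.leaf 0))))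

/-- transversal words -/
def tau21L1word : Trie :=
  tau21L1word0

/-- part of closing hints -/
def tau21L1close0 : Trie :=
  (.node (.node (.node (.node (.leaf 0x1000) (.leaf 0x3)) (.node (.leaf 0x1) (.leaf 0))) (.node (.node (.leaf 0x2) (.leaf 0)) (.node (.leaf 0x4) (.leaf 0)))) (.node (.node (.node (.leaf 0x1) (.leaf 0x1004)) (.node (.leaf 0x3) (.leaf 0))) (.node (.node (.leaf 0x0) (.leaf 0)) (.node (.leaf 0x2) (.leaf 0)))))

/-- closing hints -/
def tau21L1close : Trie :=
  tau21L1close0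

/-- a level -/
def tau21L1 : SLev := ⟨9, [0x659659, 0x4dd92591495b75b], tau21L1tree, tau21L1word, 5, tau21L1close, [(4, 1)]⟩

/-- part of a tree -/
def tau21L2tree0 : Trie :=
  (.node (.leaf 0x0) (.leaf 0x0))

/-- a tree -/
def tau21L2tree : Trie :=
  tau21L2tree0

/-- part of transversal words -/
def tau21L2word0 : Trie :=
  (.node (.leaf 0x0) (.leaf 0x659659))

/-- transversal words -/
def tau21L2word : Trie :=
  tau21L2word0

/-- part of closing hints -/
def tau21L2close0 : Trie :=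
  (.node (.leaf 0x1) (.leaf 0x0))

/-- closing hints -/
def tau21L2close : Trie :=
  tau21L2close0

/-- a level -/
def tau21L2 : SLev := ⟨7, [0x659659], tau21L2tree, tau21L2word, 2, tau21L2close, []⟩

/-- a chain -/
def tau21 : List SLev := [tau21L0, tau21L1, tau21L2]

/-- a representative -/
def r21 : RepD := ⟨2, 340, 6, 1, 84, tau21, [0x3005000000, 0x5000000], [0xe000, 0x1007000]⟩

/-- part of a tree -/
def tau22L0tree0 : Trie :=
  (.node (.node (.node (.leaf 0x0) (.leaf 0x2)) (.node (.leaf 0x1) (.leaf 0))) (.node (.node (.leaf 0x0) (.leaf 0)) (.node (.leaf 0x100001) (.leaf 0))))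

/-- a tree -/
def tau22L0tree : Trie :=
  tau22L0tree0

/-- part of transversal words -/
def tau22L0word0 : Trie :=
  (.node (.node (.node (.leaf 0x0) (.leaf 0x1a69b2cc30b2cc)) (.node (.leaf 0x1a8a269986430c) (.leaf 0))) (.node (.node (.leaf 0x5134da6d990b30c) (.leaf 0)) (.node (.leaf 0x34d45226d96cb30c) (.leaf 0))))

/-- transversal words -/
def tau22L0word : Trie :=
  tau22L0word0

/-- part of closing hints -/
def tau22L0close0 : Trie :=
  (.node (.node (.node (.node (.leaf 0x1) (.leaf 0x1003)) (.node (.leaf 0x4) (.leaf 0))) (.node (.node (.leaf 0x2) (.leaf 0)) (.node (.leaf 0x1000) (.leaf 0)))) (.node (.node (.node (.leaf 0x1000) (.leaf 0x1002)) (.node (.leaf 0x1004) (.leaf 0))) (.node (.node (.leaf 0x3) (.leaf 0)) (.node (.leaf 0x1) (.leaf 0)))))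

/-- closing hints -/
def tau22L0close : Trie :=
  tau22L0close0

/-- a level -/
def tau22L0 : SLev := ⟨9, [0x5134da6d990b30c, 0x659659], tau22L0tree, tau22L0word, 5, tau22L0close, [(2, 1)]⟩

/-- part of a tree -/
def tau22L1tree0 : Trie :=
  (.node (.leaf 0x0) (.leaf 0x0))

/-- a tree -/
def tau22L1tree : Trie :=
  tau22L1tree0

/-- part of transversal words -/
def tau22L1word0 : Trie :=
  (.node (.leaf 0x0) (.leaf 0x659659))

/-- transversal words -/
def tau22L1word : Trie :=
  tau22L1word0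

/-- part of closing hints -/
def tau22L1close0 : Trie :=
  (.node (.leaf 0x1) (.leaf 0x0))

/-- closing hints -/
def tau22L1close : Trie :=
  tau22L1close0

/-- a level -/
def tau22L1 : SLev := ⟨7, [0x659659], tau22L1tree, tau22L1word, 2, tau22L1close, []⟩

/-- a chain -/
def tau22 : List SLev := [tau22L0, tau22L1]

/-- a representative -/
def r22 : RepD := ⟨2, 0x14b2ec, 6, 0x4ebada75a96192c, 504, tau22, [0x2000000000, 0x1000000000000], [0x12000, 0x1012000]⟩

/-- part of a tree -/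
def tau23L0tree0 : Trie :=
  (.node (.node (.node (.leaf 0x0) (.leaf 0x2)) (.node (.leaf 0x100000) (.leaf 0))) (.node (.node (.leaf 0x0) (.leaf 0)) (.node (.leaf 0x100001) (.leaf 0))))

/-- a tree -/
def tau23L0tree : Trie :=
  tau23L0tree0

/-- part of transversal words -/
def tau23L0word0 : Trie :=
  (.node (.node (.node (.leaf 0x0) (.leaf 0x1451452285966190c)) (.node (.leaf 0x6a44da6a42cc30c) (.leaf 0))) (.node (.node (.leaf 0x28616d9659) (.leaf 0)) (.node (.leaf 0x1226d45226cc8616cc) (.leaf 0))))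

/-- transversal words -/
def tau23L0word : Trie :=
  tau23L0word0

/-- part of closing hints -/
def tau23L0close0 : Trie :=
  (.node (.node (.node (.node (.leaf 0x1) (.leaf 0x2)) (.node (.leaf 0x4) (.leaf 0))) (.node (.node (.leaf 0x0) (.leaf 0)) (.node (.leaf 0x1003) (.leaf 0)))) (.node (.node (.node (.leaf 0x2) (.leaf 0x1)) (.node (.leaf 0x1004) (.leaf 0))) (.node (.node (.leaf 0x3) (.leaf 0)) (.node (.leaf 0x1000) (.leaf 0)))))

/-- closing hints -/
def tau23L0close : Trie :=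
  tau23L0close0

/-- a level -/
def tau23L0 : SLev := ⟨6, [0x28616d9659, 0x6a44da6a42cc30c], tau23L0tree, tau23L0word, 5, tau23L0close, [(3, 1)]⟩

/-- part of a tree -/
def tau23L1tree0 : Trie :=
  (.node (.leaf 0x0) (.leaf 0x0))

/-- a tree -/
def tau23L1tree : Trie :=
  tau23L1tree0

/-- part of transversal words -/
def tau23L1word0 : Trie :=
  (.node (.leaf 0x0) (.leaf 0x291369b66190b))

/-- transversal words -/
def tau23L1word : Trie :=
  tau23L1word0

/-- part of closing hints -/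
def tau23L1close0 : Trie :=
  (.node (.leaf 0x1) (.leaf 0x0))

/-- closing hints -/
def tau23L1close : Trie :=
  tau23L1close0

/-- a level -/
def tau23L1 : SLev := ⟨9, [0x291369b66190b], tau23L1tree, tau23L1word, 2, tau23L1close, []⟩

/-- a chain -/
def tau23 : List SLev := [tau23L0, tau23L1]

/-- a representative -/
def r23 : RepD := ⟨2, 0xa9b74c, 5, 0xadd6eb759865, 504, tau23, [0x1002003002000, 0x3002003000], [0x1000000, 0x1002000000]⟩

/-- part of a tree -/
def tau24L0tree0 : Trie :=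
  (.node (.node (.node (.node (.node (.node (.leaf 0x0) (.leaf 0x100016)) (.node (.leaf 0x100008) (.leaf 0))) (.node (.node (.leaf 0x4) (.leaf 0)) (.node (.leaf 0xe) (.leaf 0)))) (.node (.node (.node (.leaf 0x100001) (.leaf 0)) (.node (.leaf 0x10000b) (.leaf 0))) (.node (.node (.leaf 0x6) (.leaf 0)) (.node (.leaf 0x12) (.leaf 0))))) (.node (.node (.node (.node (.leaf 0x100000) (.leaf 0x1c)) (.node (.leaf 0x100009) (.leaf 0))) (.node (.node (.leaf 0x5) (.leaf 0)) (.node (.leaf 0x11) (.leaf 0)))) (.node (.node (.node (.leaf 0x100002) (.leaf 0)) (.node (.leaf 0xd) (.leaf 0))) (.node (.node (.leaf 0x100007) (.leaf 0)) (.node (.leaf 0x100015) (.leaf 0)))))) (.node (.node (.node (.node (.node (.leaf 0x0) (.leaf 0x17)) (.node (.leaf 0x9) (.leaf 0))) (.node (.node (.leaf 0x100004) (.leaf 0)) (.node (.leaf 0x10000e) (.leaf 0)))) (.node (.node (.node (.leaf 0x2) (.leaf 0)) (.node (.leaf 0x10000c) (.leaf 0))) (.node (.node (.leaf 0x100006) (.leaf 0)) (.node (.leaf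 0x100012) (.leaf 0))))) (.node (.node (.node (.node (.leaf 0x1) (.leaf 0x10001f)) (.node (.leaf 0xb) (.leaf 0))) (.node (.node (.leaf 0x100005) (.leaf 0)) (.node (.leaf 0x100011) (.leaf 0)))) (.node (.node (.node (.leaf 0x100003) (.leaf 0)) (.node (.leaf 0x10000d) (.leaf 0))) (.node (.node (.leaf 0x8) (.leaf 0)) (.node (.leaf 0x16) (.leaf 0)))))))

/-- a tree -/
def tau24L0tree : Trie :=
  tau24L0tree0

/-- part of transversal words -/
def tau24L0word0 : Trie :=
  (.node (.node (.node (.node (.node (.node (.leaf 0x0) (.leaf 0x1369b5216d9664)) (.node (.leaf 0x5229134d966190b) (.leaf 0))) (.node (.node (.leaf 0x452bada6d4864b2c) (.leaf 0)) (.node (.leaf 0x44da9144d98642cb) (.leaf 0)))) (.node (.node (.node (.leaf 0x489b32185b659) (.leaf 0)) (.node (.leaf 0x11489a9132d9659) (.leaf 0))) (.node (.node (.leaf 0x1226da6d965b) (.leaf 0)) (.node (.leaf 0x8a485965b661) (.leaf 0))))) (.node (.node (.node (.node (.leaf 0x89a6a285b65b661) (.leaf 0x1229134da6cb32190b))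 (.node (.leaf 0x5145134da6a430b6cc) (.leaf 0))) (.node (.node (.leaf 0x134d48a26598642cb) (.leaf 0)) (.node (.leaf 0x11369b51486430b65b) (.leaf 0)))) (.node (.node (.node (.leaf 0x144d48a265986190b) (.leaf 0)) (.node (.leaf 0x5134d42d96d965b) (.leaf 0))) (.node (.node (.leaf 0x914524321661859) (.leaf 0)) (.node (.leaf 0xa269a90c8642d9) (.leaf 0)))))) (.node (.node (.node (.node (.node (.leaf 0x245226d48616cb) (.leaf 0x35229144d985b661)) (.node (.leaf 0xa44da6d3661859) (.leaf 0))) (.node (.node (.leaf 0x26a29142d965b2db) (.leaf 0)) (.node (.leaf 0x12289b65b65b) (.leaf 0)))) (.node (.node (.node (.leaf 0x69a8a452190c861) (.leaf 0)) (.node (.leaf 0x285990c861) (.leaf 0))) (.node (.node (.leaf 0x226d34d450b2d9859) (.leaf 0)) (.node (.leaf 0x1452c91452196532b) (.leaf 0))))) (.node (.node (.node (.node (.leaf 0x229134d990b65b) (.leaf 0x134d35148616cb2cc)) (.node (.leaf 0x69b4da6a18596cb) (.leaf 0))) (.node (.node (.leaf 0xa26a44d490b2cc30b) (.leaf 0)) (.node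 (.leaf 0xa28a450b6616cb) (.leaf 0)))) (.node (.node (.node (.leaf 0x26a489a90b2d96cc) (.leaf 0)) (.node (.leaf 0x4d49149132cc30b) (.leaf 0))) (.node (.node (.leaf 0x113522914861659) (.leaf 0)) (.node (.leaf 0x289b5244cb66430c) (.leaf 0)))))))

/-- transversal words -/
def tau24L0word : Trie :=
  tau24L0word0

/-- part of closing hints -/
def tau24L0close0 : Trie :=
  (.node (.node (.node (.node (.node (.node (.node (.leaf 0x1) (.leaf 0x100101e)) (.node (.leaf 0x1000014) (.leaf 0))) (.node (.node (.leaf 0xf) (.leaf 0)) (.node (.leaf 0x1000015) (.leaf 0)))) (.node (.node (.node (.leaf 0x8) (.leaf 0)) (.node (.leaf 0x201b) (.leaf 0))) (.node (.node (.leaf 0x1007) (.leaf 0)) (.node (.leaf 0x22) (.leaf 0))))) (.node (.node (.node (.node (.leaf 0x5) (.leaf 0x12)) (.node (.leaf 0x1c) (.leaf 0))) (.node (.node (.leaf 0x2) (.leaf 0)) (.node (.leaf 0x9) (.leaf 0)))) (.node (.node (.node (.leaf 0xc) (.leaf 0)) (.node (.leaf 0x1f) (.leaf 0))) (.node (.node (.leaf 0x18)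 (.leaf 0)) (.node (.leaf 0x19) (.leaf 0)))))) (.node (.node (.node (.node (.node (.leaf 0x3) (.leaf 0x2023)) (.node (.leaf 0x1a) (.leaf 0))) (.node (.node (.leaf 0x11) (.leaf 0)) (.node (.leaf 0x1001020) (.leaf 0)))) (.node (.node (.node (.leaf 0xa) (.leaf 0)) (.node (.leaf 0x100000e) (.leaf 0))) (.node (.node (.leaf 0x16) (.leaf 0)) (.node (.leaf 0x100b) (.leaf 0))))) (.node (.node (.node (.node (.leaf 0x0) (.leaf 0x2017)) (.node (.leaf 0x100401d) (.leaf 0))) (.node (.node (.leaf 0x13) (.leaf 0)) (.node (.leaf 0x1003010) (.leaf 0)))) (.node (.node (.node (.leaf 0x1004006) (.leaf 0)) (.node (.leaf 0x21) (.leaf 0))) (.node (.node (.leaf 0x4) (.leaf 0)) (.node (.leaf 0xd) (.leaf 0))))))) (.node (.node (.node (.node (.node (.node (.leaf 0x2) (.leaf 0x1003005)) (.node (.leaf 0x1003018) (.leaf 0))) (.node (.node (.leaf 0x10) (.leaf 0)) (.node (.leaf 0x1001021) (.leaf 0)))) (.node (.node (.node (.leaf 0x9) (.leaf 0)) (.node (.leaf 0x1002016) (.leaf 0))) (.node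 (.node (.leaf 0x15) (.leaf 0)) (.node (.leaf 0x100c) (.leaf 0))))) (.node (.node (.node (.node (.leaf 0x6) (.leaf 0x1002008)) (.node (.leaf 0x1d) (.leaf 0))) (.node (.node (.leaf 0x100a) (.leaf 0)) (.node (.leaf 0x1003011) (.leaf 0)))) (.node (.node (.node (.leaf 0xd) (.leaf 0)) (.node (.leaf 0x20) (.leaf 0))) (.node (.node (.leaf 0x19) (.leaf 0)) (.node (.leaf 0x3013) (.leaf 0)))))) (.node (.node (.node (.node (.node (.leaf 0x4) (.leaf 0x1001022)) (.node (.leaf 0x1b) (.leaf 0))) (.node (.node (.leaf 0x12) (.leaf 0)) (.node (.leaf 0x400f) (.leaf 0)))) (.node (.node (.node (.leaf 0xb) (.leaf 0)) (.node (.leaf 0x1e) (.leaf 0))) (.node (.node (.leaf 0x17) (.leaf 0)) (.node (.leaf 0x1) (.leaf 0))))) (.node (.node (.node (.node (.leaf 0x7) (.leaf 0x100201a)) (.node (.leaf 0x201c) (.leaf 0))) (.node (.node (.leaf 0x14) (.leaf 0)) (.node (.leaf 0x1f) (.leaf 0)))) (.node (.node (.node (.leaf 0xe) (.leaf 0)) (.node (.leaf 0x0) (.leaf 0))) (.node (.node (.leaf 0x4003)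 (.leaf 0)) (.node (.leaf 0x23) (.leaf 0))))))))

/-- closing hints -/
def tau24L0close : Trie :=
  tau24L0close0

/-- a level -/
def tau24L0 : SLev := ⟨6, [0x245226d48616cb, 0x89a6a285b65b661], tau24L0tree, tau24L0word, 36, tau24L0close, [(29, 0), (19, 1)]⟩

/-- part of a tree -/
def tau24L1tree0 : Trie :=
  (.node (.node (.node (.leaf 0x0) (.leaf 0x3)) (.node (.leaf 0x100000) (.leaf 0))) (.node (.node (.leaf 0x0) (.leaf 0)) (.node (.leaf 0x2) (.leaf 0))))

/-- a tree -/
def tau24L1tree : Trie :=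
  tau24L1tree0

/-- part of transversal words -/
def tau24L1word0 : Trie :=
  (.node (.node (.node (.leaf 0x0) (.leaf 0xcb2db30c)) (.node (.leaf 0x1136a291366430b664) (.leaf 0))) (.node (.node (.leaf 0x4d34da90c2db2cb) (.leaf 0)) (.node (.leaf 0x4da69b4cc321664) (.leaf 0))))

/-- transversal words -/
def tau24L1word : Trie :=
  tau24L1word0

/-- part of closing hints -/
def tau24L1close0 : Trie :=
  (.node (.node (.node (.node (.leaf 0x1) (.leaf 0x1000)) (.node (.leaf 0x3) (.leaf 0))) (.node (.node (.leaf 0x1002) (.leaf 0)) (.node (.leaf 0x4) (.leaf 0)))) (.node (.node (.node (.leaf 0x2) (.leaf 0x1003)) (.node (.leaf 0x0) (.leaf 0))) (.node (.node (.leaf 0x1001) (.leaf 0)) (.node (.leaf 0x1004) (.leaf 0)))))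

/-- closing hints -/
def tau24L1close : Trie :=
  tau24L1close0

/-- a level -/
def tau24L1 : SLev := ⟨8, [0x4d34da90c2db2cb, 0x1136a291366430b664], tau24L1tree, tau24L1word, 5, tau24L1close, [(1, 1)]⟩

/-- part of a tree -/
def tau24L2tree0 : Trie :=
  (.node (.leaf 0x0) (.leaf 0x0))

/-- a tree -/
def tau24L2tree : Trie :=
  tau24L2tree0

/-- part of transversal words -/
def tau24L2word0 : Trie :=
  (.node (.leaf 0x0) (.leaf 0x291369b66190b))

/-- transversal words -/
def tau24L2word : Trie :=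
  tau24L2word0

/-- part of closing hints -/
def tau24L2close0 : Trie :=
  (.node (.leaf 0x1) (.leaf 0x0))

/-- closing hints -/
def tau24L2close : Trie :=
  tau24L2close0

/-- a level -/
def tau24L2 : SLev := ⟨9, [0x291369b66190b], tau24L2tree, tau24L2word, 2, tau24L2close, []⟩

/-- a chain -/
def tau24 : List SLev := [tau24L0, tau24L1, tau24L2]

/-- a representative -/
def r24 : RepD := ⟨2, 0xadb4cb, 4, 0x9b52574c86532b, 14, tau24, [0x101f000, 0xa000], [0x1000023000, 0x100401a000]⟩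

/-- part of a tree -/
def tau25L0tree0 : Trie :=
  (.node (.node (.node (.node (.node (.node (.leaf 0x0) (.leaf 0x18)) (.node (.leaf 0x9) (.leaf 0))) (.node (.node (.leaf 0x200003) (.leaf 0)) (.node (.leaf 0x100010) (.leaf 0)))) (.node (.node (.node (.leaf 0x200001) (.leaf 0)) (.node (.leaf 0x10000b) (.leaf 0))) (.node (.node (.leaf 0x200006) (.leaf 0)) (.node (.leaf 0x200012) (.leaf 0))))) (.node (.node (.node (.node (.leaf 0x200000) (.leaf 0x19)) (.node (.leaf 0x10000a) (.leaf 0))) (.node (.node (.leaf 0x5) (.leaf 0)) (.node (.leaf 0x12) (.leaf 0)))) (.node (.node (.node (.leaf 0x3) (.leaf 0)) (.node (.leaf 0x20000d) (.leaf 0))) (.node (.node (.leaf 0x200007) (.leaf 0)) (.node (.leaf 0x200013) (.leaf 0)))))) (.node (.node (.node (.node (.node (.leaf 0x100000) (.leaf 0x100018)) (.node (.leaf 0x100009) (.leaf 0))) (.node (.node (.leaf 0x100004) (.leaf 0)) (.node (.leaf 0x100011) (.leaf 0)))) (.node (.node (.node (.leaf 0x100002) (.leaf 0)) (.node (.leaf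 0x20000b) (.leaf 0))) (.node (.node (.leaf 0x7) (.leaf 0)) (.node (.leaf 0x100013) (.leaf 0))))) (.node (.node (.node (.node (.leaf 0x100001) (.leaf 0x10001d)) (.node (.leaf 0xb) (.leaf 0))) (.node (.node (.leaf 0x100005) (.leaf 0)) (.node (.leaf 0x100012) (.leaf 0)))) (.node (.node (.node (.leaf 0x100003) (.leaf 0)) (.node (.leaf 0x10000e) (.leaf 0))) (.node (.node (.leaf 0x100008) (.leaf 0)) (.node (.leaf 0x100015) (.leaf 0)))))))

/-- a tree -/
def tau25L0tree : Trie :=
  tau25L0tree0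

/-- part of transversal words -/
def tau25L0word0 : Trie :=
  (.node (.node (.node (.node (.node (.node (.leaf 0x0) (.leaf 0x28a5954aebb2b)) (.node (.leaf 0x35228a26642db30c) (.leaf 0))) (.node (.node (.leaf 0x69a9226d42cb30c) (.leaf 0)) (.node (.leaf 0x451489b4cb2d96cb) (.leaf 0)))) (.node (.node (.node (.leaf 0x6a289a65b65b659) (.leaf 0)) (.node (.leaf 0x69a8a26642db30c) (.leaf 0))) (.node (.node (.leaf 0x3b2592c4cb2eb664) (.leaf 0)) (.node (.leaf 0x495badd6ec50b) (.leaf 0))))) (.node (.node (.node (.node (.leaf 0x9132cb659664) (.leaf 0x9a6a190b6cb)) (.node (.leaf 0x134d489986190b) (.leaf 0))) (.node (.node (.leaf 0x26d451485b2cb65b) (.leaf 0)) (.node (.leaf 0x26cc30b2cc) (.leaf 0)))) (.node (.node (.node (.leaf 0x352291366430c) (.leaf 0)) (.node (.leaf 0x48a451369b2cb30c) (.leaf 0))) (.node (.node (.leaf 0x5228a48a42cc30b) (.leaf 0)) (.node (.leaf 0x5145226cb2db30c) (.leaf 0)))))) (.node (.node (.node (.node (.node (.leaf 0xd44da6d3659861) (.leaf 0x26abaa4aebb2c))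 (.node (.leaf 0x26d36a290b65b321) (.leaf 0))) (.node (.node (.leaf 0x1d69d75a75d6cc325) (.leaf 0)) (.node (.leaf 0x34d44da6d965b321) (.leaf 0)))) (.node (.node (.node (.leaf 0x45242cb6642d9) (.leaf 0)) (.node (.leaf 0x11366190c861) (.leaf 0))) (.node (.node (.leaf 0x11486430b661) (.leaf 0)) (.node (.leaf 0x144da8a430c859) (.leaf 0))))) (.node (.node (.node (.node (.leaf 0x12c95b55d69badd85b) (.leaf 0x26d369a6cc86185b)) (.node (.leaf 0x10b32190c) (.leaf 0))) (.node (.node (.leaf 0x89a6a26cb6cb2d9) (.leaf 0)) (.node (.leaf 0x89a69b30b65b) (.leaf 0)))) (.node (.node (.node (.leaf 0x122764b229655256eb) (.leaf 0)) (.node (.leaf 0x28a269b2cc859) (.leaf 0))) (.node (.node (.leaf 0x4ad592589d6e9761) (.leaf 0)) (.node (.leaf 0x34d36a44d965b30b) (.leaf 0)))))))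

/-- transversal words -/
def tau25L0word : Trie :=
  tau25L0word0

/-- part of closing hints -/
def tau25L0close0 : Trie :=
  (.node (.node (.node (.node (.node (.node (.node (.leaf 0x1000000) (.leaf 0x1f)) (.node (.leaf 0x100300a) (.leaf 0x18))) (.node (.node (.leaf 0xb) (.leaf 0x2014)) (.node (.leaf 0x9) (.leaf 0)))) (.node (.node (.node (.leaf 0x0) (.leaf 0x20)) (.node (.leaf 0x100200d) (.leaf 0x201f))) (.node (.node (.leaf 0xc) (.leaf 0x23)) (.node (.leaf 0x1c) (.leaf 0))))) (.node (.node (.node (.node (.leaf 0x3) (.leaf 0xd)) (.node (.leaf 0x8) (.leaf 0x1016))) (.node (.node (.leaf 0xc) (.leaf 0x2014)) (.node (.leaf 0x19) (.leaf 0)))) (.node (.node (.node (.leaf 0x1001004) (.leaf 0x1001020)) (.node (.leaf 0x7) (.leaf 0))) (.node (.node (.leaf 0x11) (.leaf 0x13)) (.node (.leaf 0x201c) (.leaf 0)))))) (.node (.node (.node (.node (.node (.leaf 0x2) (.leaf 0xe)) (.node (.leaf 0x14) (.leaf 0x2018))) (.node (.node (.leaf 0x3) (.leaf 0x100200e)) (.node (.leaf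 0x1002011) (.leaf 0)))) (.node (.node (.node (.leaf 0x7) (.leaf 0x2020)) (.node (.leaf 0x16) (.leaf 0x4022))) (.node (.node (.leaf 0x3) (.leaf 0x15)) (.node (.leaf 0x1d) (.leaf 0))))) (.node (.node (.node (.node (.leaf 0x1000002) (.leaf 0x100a)) (.node (.leaf 0x6) (.leaf 0x19))) (.node (.node (.leaf 0x1006) (.leaf 0x12)) (.node (.leaf 0x1a) (.leaf 0)))) (.node (.node (.node (.leaf 0x1) (.leaf 0x12)) (.node (.leaf 0x1015) (.leaf 0))) (.node (.node (.leaf 0x5) (.leaf 0x101c)) (.node (.leaf 0x201a) (.leaf 0))))))) (.node (.node (.node (.node (.node (.node (.leaf 0x1) (.leaf 0xb)) (.node (.leaf 0x13) (.leaf 0x1001004))) (.node (.node (.leaf 0x1003005) (.leaf 0x100401f)) (.node (.leaf 0x18) (.leaf 0)))) (.node (.node (.node (.leaf 0x6) (.leaf 0x21)) (.node (.leaf 0x16) (.leaf 0x1004021))) (.node (.node (.leaf 0xf) (.leaf 0x100101d)) (.node (.leaf 0xb) (.leaf 0))))) (.node (.node (.node (.node (.leaf 0x4) (.leaf 0x101d)) (.node (.leaf 0x1003013) (.leaf 0x1003023)))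 (.node (.node (.leaf 0xd) (.leaf 0x1004008)) (.node (.leaf 0x1010) (.leaf 0)))) (.node (.node (.node (.leaf 0x9) (.leaf 0x100101b)) (.node (.leaf 0x1011) (.leaf 0))) (.node (.node (.leaf 0x100400f) (.leaf 0x301b)) (.node (.leaf 0x100001a) (.leaf 0)))))) (.node (.node (.node (.node (.node (.leaf 0x1001001) (.leaf 0x100201e)) (.node (.leaf 0x15) (.leaf 0x3023))) (.node (.node (.leaf 0x1002000) (.leaf 0x1001019)) (.node (.leaf 0x100200f) (.leaf 0)))) (.node (.node (.node (.leaf 0x8) (.leaf 0x22)) (.node (.leaf 0x17) (.leaf 0x1003021))) (.node (.node (.leaf 0x10) (.leaf 0x10)) (.node (.leaf 0x1e) (.leaf 0))))) (.node (.node (.node (.node (.leaf 0x5) (.leaf 0x2017)) (.node (.leaf 0x7) (.leaf 0x100200c))) (.node (.node (.leaf 0xe) (.leaf 0x1002017)) (.node (.leaf 0x1b) (.leaf 0)))) (.node (.node (.node (.leaf 0xa) (.leaf 0x1000002)) (.node (.leaf 0x3009) (.leaf 0))) (.node (.node (.leaf 0x12) (.leaf 0x2022)) (.node (.leaf 0x1e) (.leaf 0))))))))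

/-- closing hints -/
def tau25L0close : Trie :=
  tau25L0close0

/-- a level -/
def tau25L0 : SLev := ⟨6, [0x4dd92591495b75b, 0xd44da6d3659861, 0x9132cb659664], tau25L0tree, tau25L0word, 36, tau25L0close, [(17, 2), (34, 2)]⟩

/-- part of a tree -/
def tau25L1tree0 : Trie :=
  (.node (.node (.node (.leaf 0x0) (.leaf 0x100001)) (.node (.leaf 0x100000) (.leaf 0))) (.node (.node (.leaf 0x0) (.leaf 0)) (.node (.leaf 0x1) (.leaf 0))))

/-- a tree -/
def tau25L1tree : Trie :=
  tau25L1tree0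

/-- part of transversal words -/
def tau25L1word0 : Trie :=
  (.node (.node (.node (.leaf 0x0) (.leaf 0x9a9136cb661)) (.node (.leaf 0x89a9144cb6596cc) (.leaf 0))) (.node (.node (.leaf 0x256ec9142eb32c864) (.leaf 0)) (.node (.leaf 0xa451452190c321) (.leaf 0))))

/-- transversal words -/
def tau25L1word : Trie :=
  tau25L1word0

/-- part of closing hints -/
def tau25L1close0 : Trie :=
  (.node (.node (.node (.node (.leaf 0x1) (.leaf 0x2)) (.node (.leaf 0x1000) (.leaf 0))) (.node (.node (.leaf 0x3) (.leaf 0)) (.node (.leaf 0x1004) (.leaf 0)))) (.node (.node (.node (.leaf 0x2) (.leaf 0x1)) (.node (.leaf 0x0) (.leaf 0))) (.node (.node (.leaf 0x4) (.leaf 0)) (.node (.leaf 0x1003) (.leaf 0)))))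

/-- closing hints -/
def tau25L1close : Trie :=
  tau25L1close0

/-- a level -/
def tau25L1 : SLev := ⟨8, [0x256ec9142eb32c864, 0x89a9144cb6596cc], tau25L1tree, tau25L1word, 5, tau25L1close, [(2, 0)]⟩

/-- part of a tree -/
def tau25L2tree0 : Trie :=
  (.node (.leaf 0x0) (.leaf 0x0))

/-- a tree -/
def tau25L2tree : Trie :=
  tau25L2tree0

/-- part of transversal words -/
def tau25L2word0 : Trie :=
  (.node (.leaf 0x0) (.leaf 0x4dd92591495b75b))

/-- transversal words -/
def tau25L2word : Trie :=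
  tau25L2word0

/-- part of closing hints -/
def tau25L2close0 : Trie :=
  (.node (.leaf 0x1) (.leaf 0x0))

/-- closing hints -/
def tau25L2close : Trie :=
  tau25L2close0

/-- a level -/
def tau25L2 : SLev := ⟨9, [0x4dd92591495b75b], tau25L2tree, tau25L2word, 2, tau25L2close, []⟩

/-- a chain -/
def tau25 : List SLev := [tau25L0, tau25L1, tau25L2]

/-- a representative -/
def r25 : RepD := ⟨2, 0x52db30c, 4, 9, 14, tau25, [0x1001000000000, 0x4001018000, 0x1001001011000], [0x100b000, 0x1003018000, 0x3006000]⟩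

/-- part of a tree -/
def tau26L0tree0 : Trie :=
  (.node (.node (.node (.node (.node (.node (.leaf 0x0) (.leaf 0x100014)) (.node (.leaf 0x9) (.leaf 0))) (.node (.node (.leaf 0x4) (.leaf 0x1e)) (.node (.leaf 0xe) (.leaf 0)))) (.node (.node (.node (.leaf 0x100001) (.leaf 0x18)) (.node (.leaf 0x10000b) (.leaf 0))) (.node (.node (.leaf 0x6) (.leaf 0)) (.node (.leaf 0x100011) (.leaf 0))))) (.node (.node (.node (.node (.leaf 0x100000) (.leaf 0x100015)) (.node (.leaf 0xa) (.leaf 0))) (.node (.node (.leaf 0x5) (.leaf 0)) (.node (.leaf 0x10000f) (.leaf 0)))) (.node (.node (.node (.leaf 0x100002) (.leaf 0x1c)) (.node (.leaf 0x10000c) (.leaf 0))) (.node (.node (.leaf 0x100007) (.leaf 0)) (.node (.leaf 0x100012) (.leaf 0)))))) (.node (.node (.node (.node (.node (.leaf 0x0) (.leaf 0x15)) (.node (.leaf 0x100009) (.leaf 0))) (.node (.node (.leaf 0x100004) (.leaf 0x100021)) (.node (.leaf 0x10000e) (.leaf 0)))) (.node (.node (.node (.leaf 0x2) (.leaf 0x100019)) (.node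 (.leaf 0xc) (.leaf 0))) (.node (.node (.leaf 0x7) (.leaf 0)) (.node (.leaf 0x12) (.leaf 0))))) (.node (.node (.node (.node (.leaf 0x1) (.leaf 0x100017)) (.node (.leaf 0x10000a) (.leaf 0))) (.node (.node (.leaf 0x100005) (.leaf 0)) (.node (.leaf 0x11) (.leaf 0)))) (.node (.node (.node (.leaf 0x3) (.leaf 0x10001d)) (.node (.leaf 0x10000d) (.leaf 0))) (.node (.node (.leaf 0x100008) (.leaf 0)) (.node (.leaf 0x13) (.leaf 0)))))))

/-- a tree -/
def tau26L0tree : Trie :=
  tau26L0tree0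

/-- part of transversal words -/
def tau26L0word0 : Trie :=
  (.node (.node (.node (.node (.node (.node (.leaf 0x0) (.leaf 0x229228a44d990c30b)) (.node (.leaf 0x5228a48a430b2cc) (.leaf 0))) (.node (.node (.leaf 0x6a26d48a18596cb) (.leaf 0xa432185b2d9)) (.node (.leaf 0x1456269d6eb75485b) (.leaf 0)))) (.node (.node (.node (.leaf 0x6a43216cb30c) (.leaf 0x4da9134d98642cc)) (.node (.leaf 0xa4b2592c321865) (.leaf 0))) (.node (.node (.leaf 0x1430c32190c) (.leaf 0)) (.node (.leaf 0x4d330c861659) (.leaf 0))))) (.node (.node (.node (.node (.leaf 0xa26d36642cc) (.leaf 0x365b30b65b)) (.node (.leaf 0x4add6eb50c32c85b) (.leaf 0))) (.node (.node (.leaf 0x142cc8616cc) (.leaf 0)) (.node (.leaf 0x28616d9861) (.leaf 0)))) (.node (.node (.node (.leaf 0x4b144ec92c85d75d) (.leaf 0x1134d450b6cb30c)) (.node (.leaf 0x352289a90c8642d9) (.leaf 0))) (.node (.node (.leaf 0x145144cc85990c) (.leaf 0)) (.node (.leaf 0x145144d365990c30b) (.leaf 0)))))) (.node (.node (.node (.node (.node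 (.leaf 0x28a45144cc861659) (.leaf 0x6a430c8616cc)) (.node (.leaf 0x2289aadd6eb74b2d9) (.leaf 0))) (.node (.node (.leaf 0x34ecb2291365baeb) (.leaf 0x456452ca6192cb29)) (.node (.leaf 0x26a42cb659861) (.leaf 0)))) (.node (.node (.node (.leaf 0x1b4da9136cb321) (.leaf 0x34d36a190b664)) (.node (.leaf 0x265b2d9859) (.leaf 0))) (.node (.node (.leaf 0x34ebaeb5256dd32c) (.leaf 0)) (.node (.leaf 0x1d6a4513add6ec2db) (.leaf 0))))) (.node (.node (.node (.node (.leaf 0x9b4da69b2cc30c) (.leaf 0x44d34d990c864)) (.node (.leaf 0xd576595d2e9) (.leaf 0))) (.node (.node (.leaf 0x6ec8a4add659929) (.leaf 0)) (.node (.leaf 0x69a6d352165b30c) (.leaf 0)))) (.node (.node (.node (.leaf 0x34ebada6d4864b2c) (.leaf 0xa4b1485d6eb74c)) (.node (.leaf 0x135226a485b30b65b) (.leaf 0))) (.node (.node (.leaf 0x1136cb) (.leaf 0)) (.node (.leaf 0x10c8642cc) (.leaf 0)))))))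

/-- transversal words -/
def tau26L0word : Trie :=
  tau26L0word0

/-- part of closing hints -/
def tau26L0close0 : Trie :=
  (.node (.node (.node (.node (.node (.node (.node (.leaf 0x1) (.leaf 0x200501e)) (.node (.leaf 0x1003005000) (.leaf 0))) (.node (.node (.leaf 0x1003000006) (.leaf 0x1002001029)) (.node (.leaf 0x24) (.leaf 0)))) (.node (.node (.node (.leaf 0x8) (.leaf 0x1001003017)) (.node (.leaf 0x1004001019) (.leaf 0))) (.node (.node (.leaf 0x15) (.leaf 0)) (.node (.leaf 0x26) (.leaf 0))))) (.node (.node (.node (.node (.leaf 0x5) (.leaf 0x300001a)) (.node (.leaf 0x1d) (.leaf 0))) (.node (.node (.leaf 0x12) (.leaf 0)) (.node (.leaf 0x1000020) (.leaf 0)))) (.node (.node (.node (.leaf 0xc) (.leaf 0x1002005002)) (.node (.leaf 0x1003011) (.leaf 0))) (.node (.node (.leaf 0x18) (.leaf 0)) (.node (.leaf 0x28) (.leaf 0)))))) (.node (.node (.node (.node (.node (.leaf 0x3) (.leaf 0x100400500b)) (.node (.leaf 0x1b) (.leaf 0))) (.node (.node (.leaf 0x10) (.leaf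 0x3005027)) (.node (.leaf 0x2016) (.leaf 0)))) (.node (.node (.node (.leaf 0xa) (.leaf 0x1002014)) (.node (.leaf 0x21) (.leaf 0))) (.node (.node (.leaf 0x1004003009) (.leaf 0)) (.node (.leaf 0x100201c) (.leaf 0))))) (.node (.node (.node (.node (.leaf 0x7) (.leaf 0x3004025)) (.node (.leaf 0x1f) (.leaf 0))) (.node (.node (.leaf 0x1004) (.leaf 0)) (.node (.leaf 0x1000001023) (.leaf 0)))) (.node (.node (.node (.leaf 0xd) (.leaf 0x4002022)) (.node (.leaf 0x3004013) (.leaf 0))) (.node (.node (.leaf 0x300200e) (.leaf 0)) (.node (.leaf 0x100000f) (.leaf 0))))))) (.node (.node (.node (.node (.node (.node (.leaf 0x2) (.leaf 0x100100001f)) (.node (.leaf 0x3000010) (.leaf 0))) (.node (.node (.leaf 0xf) (.leaf 0x100000000a)) (.node (.leaf 0x2001024) (.leaf 0)))) (.node (.node (.node (.leaf 0x9) (.leaf 0x4004008)) (.node (.leaf 0x20) (.leaf 0))) (.node (.node (.leaf 0x16) (.leaf 0)) (.node (.leaf 0x1) (.leaf 0))))) (.node (.node (.node (.node (.leaf 0x6) (.leaf 0x100200200d))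 (.node (.leaf 0x1e) (.leaf 0))) (.node (.node (.leaf 0x13) (.leaf 0)) (.node (.leaf 0x1002001018) (.leaf 0)))) (.node (.node (.node (.leaf 0x400500c) (.leaf 0x1002005026)) (.node (.leaf 0x4004000) (.leaf 0))) (.node (.node (.leaf 0x19) (.leaf 0)) (.node (.leaf 0x1002003021) (.leaf 0)))))) (.node (.node (.node (.node (.node (.leaf 0x4) (.leaf 0x29)) (.node (.leaf 0x1c) (.leaf 0))) (.node (.node (.leaf 0x11) (.leaf 0x100400001b)) (.node (.leaf 0x25) (.leaf 0)))) (.node (.node (.node (.leaf 0xb) (.leaf 0x2003003)) (.node (.leaf 0x22) (.leaf 0))) (.node (.node (.leaf 0x17) (.leaf 0)) (.node (.leaf 0x27) (.leaf 0))))) (.node (.node (.node (.node (.leaf 0x1004004007) (.leaf 0x1004015)) (.node (.leaf 0x100400501d) (.leaf 0))) (.node (.node (.leaf 0x14) (.leaf 0)) (.node (.leaf 0x1001012) (.leaf 0)))) (.node (.node (.node (.leaf 0xe) (.leaf 0x4004028)) (.node (.leaf 0x23) (.leaf 0))) (.node (.node (.leaf 0x1a) (.leaf 0)) (.node (.leaf 0x1001000005) (.leaf 0))))))))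

/-- closing hints -/
def tau26L0close : Trie :=
  tau26L0close0

/-- a level -/
def tau26L0 : SLev := ⟨6, [0x28a45144cc861659, 0xa26d36642cc], tau26L0tree, tau26L0word, 42, tau26L0close, [(11, 0), (26, 1)]⟩

/-- part of a tree -/
def tau26L1tree0 : Trie :=
  (.node (.node (.node (.leaf 0x0) (.leaf 0x100002)) (.node (.leaf 0x1) (.leaf 0))) (.node (.node (.leaf 0x0) (.leaf 0x3)) (.node (.leaf 0x100001) (.leaf 0))))

/-- a tree -/
def tau26L1tree : Trie :=
  tau26L1tree0

/-- part of transversal words -/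
def tau26L1word0 : Trie :=
  (.node (.node (.node (.leaf 0x0) (.leaf 0x4d330c2cb659)) (.node (.leaf 0x89b30c85b659) (.leaf 0))) (.node (.node (.leaf 0x89a9148a16596cc) (.leaf 0x136a28996cb661)) (.node (.leaf 0x9a9145216cc859) (.leaf 0))))

/-- transversal words -/
def tau26L1word : Trie :=
  tau26L1word0

/-- part of closing hints -/
def tau26L1close0 : Trie :=
  (.node (.node (.node (.node (.leaf 0x1) (.leaf 0x3004)) (.node (.leaf 0x1000003) (.leaf 0))) (.node (.node (.leaf 0x2) (.leaf 0x1000000)) (.node (.leaf 0x5) (.leaf 0)))) (.node (.node (.node (.leaf 0x1002001) (.leaf 0x1001005)) (.node (.leaf 0x4) (.leaf 0))) (.node (.node (.leaf 0x3) (.leaf 0x1001002)) (.node (.leaf 0x1000) (.leaf 0)))))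

/-- closing hints -/
def tau26L1close : Trie :=
  tau26L1close0

/-- a level -/
def tau26L1 : SLev := ⟨8, [0x89a9148a16596cc, 0x42d9861], tau26L1tree, tau26L1word, 6, tau26L1close, [(5, 0), (3, 1)]⟩

/-- part of a tree -/
def tau26L2tree0 : Trie :=
  (.node (.node (.node (.leaf 0x0) (.leaf 0x3)) (.node (.leaf 0x1) (.leaf 0))) (.node (.node (.leaf 0x100000) (.leaf 0)) (.node (.leaf 0x100001) (.leaf 0))))

/-- a tree -/
def tau26L2tree : Trie :=
  tau26L2tree0

/-- part of transversal words -/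
def tau26L2word0 : Trie :=
  (.node (.node (.node (.leaf 0x0) (.leaf 0x5132cc30b2cc)) (.node (.leaf 0x291369b66190b) (.leaf 0))) (.node (.node (.leaf 0x5144d485b65b2cc) (.leaf 0)) (.node (.leaf 0x1a69b2cc30b2cc) (.leaf 0))))

/-- transversal words -/
def tau26L2word : Trie :=
  tau26L2word0

/-- part of closing hints -/
def tau26L2close0 : Trie :=
  (.node (.node (.node (.node (.leaf 0x1000) (.leaf 0x3)) (.node (.leaf 0x1) (.leaf 0))) (.node (.node (.leaf 0x2) (.leaf 0)) (.node (.leaf 0x4) (.leaf 0)))) (.node (.node (.node (.leaf 0x1) (.leaf 0x2)) (.node (.leaf 0x1000) (.leaf 0))) (.node (.node (.leaf 0x3) (.leaf 0)) (.node (.leaf 0x1004) (.leaf 0)))))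

/-- closing hints -/
def tau26L2close : Trie :=
  tau26L2close0

/-- a level -/
def tau26L2 : SLev := ⟨9, [0x659659, 0x5144d485b65b2cc], tau26L2tree, tau26L2word, 5, tau26L2close, [(0, 0)]⟩

/-- part of a tree -/
def tau26L3tree0 : Trie :=
  (.node (.leaf 0x0) (.leaf 0x0))

/-- a tree -/
def tau26L3tree : Trie :=
  tau26L3tree0

/-- part of transversal words -/
def tau26L3word0 : Trie :=
  (.node (.leaf 0x0) (.leaf 0x659659))

/-- transversal words -/
def tau26L3word : Trie :=
  tau26L3word0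

/-- part of closing hints -/
def tau26L3close0 : Trie :=
  (.node (.leaf 0x1) (.leaf 0x0))

/-- closing hints -/
def tau26L3close : Trie :=
  tau26L3close0

/-- a level -/
def tau26L3 : SLev := ⟨7, [0x659659], tau26L3tree, tau26L3word, 2, tau26L3close, []⟩

/-- a chain -/
def tau26 : List SLev := [tau26L0, tau26L1, tau26L2, tau26L3]

/-- a representative -/
def r26 : RepD := ⟨3, 0, 2, 9, 32, tau26, [0x1000013000, 0x1004001017000], [0x28000, 0x400500b000]⟩

/-- part of a tree -/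
def tau27L0tree0 : Trie :=
  (.node (.node (.node (.node (.node (.node (.leaf 0x0) (.leaf 0x100010)) (.node (.leaf 0x6) (.leaf 0))) (.node (.node (.leaf 0x200002) (.leaf 0x200018)) (.node (.leaf 0xa) (.leaf 0)))) (.node (.node (.node (.leaf 0x100001) (.leaf 0x100013)) (.node (.leaf 0x200007) (.leaf 0))) (.node (.node (.leaf 0x100004) (.leaf 0)) (.node (.leaf 0x20000e) (.leaf 0))))) (.node (.node (.node (.node (.leaf 0x200000) (.leaf 0x12)) (.node (.leaf 0x7) (.leaf 0))) (.node (.node (.leaf 0x200003) (.leaf 0)) (.node (.leaf 0x20000c) (.leaf 0)))) (.node (.node (.node (.leaf 0x2) (.leaf 0x16)) (.node (.leaf 0x200008) (.leaf 0))) (.node (.node (.leaf 0x5) (.leaf 0)) (.node (.leaf 0x20000f) (.leaf 0)))))) (.node (.node (.node (.node (.node (.leaf 0x100000) (.leaf 0x200010)) (.node (.leaf 0x200006) (.leaf 0))) (.node (.node (.leaf 0x100003) (.leaf 0x200019)) (.node (.leaf 0x10000a) (.leaf 0)))) (.node (.node (.node (.leaf 0x200001) (.leaf 0x100015)) (.node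 (.leaf 0x100008) (.leaf 0))) (.node (.node (.leaf 0x200004) (.leaf 0)) (.node (.leaf 0x10000f) (.leaf 0))))) (.node (.node (.node (.node (.leaf 0x1) (.leaf 0x13)) (.node (.leaf 0x100007) (.leaf 0))) (.node (.node (.leaf 0x4) (.leaf 0)) (.node (.leaf 0xd) (.leaf 0)))) (.node (.node (.node (.leaf 0x100002) (.leaf 0x100016)) (.node (.leaf 0x200009) (.leaf 0))) (.node (.node (.leaf 0x200005) (.leaf 0)) (.node (.leaf 0x10) (.leaf 0)))))))

/-- a tree -/
def tau27L0tree : Trie :=
  tau27L0tree0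

/-- part of transversal words -/
def tau27L0word0 : Trie :=
  (.node (.node (.node (.node (.node (.node (.leaf 0x0) (.leaf 0xa4b2592c2cc85d)) (.node (.leaf 0x6a289a6cb6cb2d9) (.leaf 0))) (.node (.node (.leaf 0x9b4da69b2cc30c) (.leaf 0x1452430b2cc30b)) (.node (.leaf 0x28a26a48a1859661) (.leaf 0)))) (.node (.node (.node (.leaf 0x134d34da6618596cb) (.leaf 0x2452291365990c)) (.node (.leaf 0x135226d3521661861) (.leaf 0))) (.node (.node (.leaf 0x44da6d352165b659) (.leaf 0)) (.node (.leaf 0x522add90c95bad9) (.leaf 0))))) (.node (.node (.node (.node (.leaf 0x28a45144cc861659) (.leaf 0x8a451352286430b661)) (.node (.leaf 0x9148596cb2cc) (.leaf 0))) (.node (.node (.leaf 0xa28996cb6cc) (.leaf 0)) (.node (.leaf 0xa28a291486185b30c) (.leaf 0)))) (.node (.node (.node (.leaf 0x12592c96285d) (.leaf 0x5145244d990c30c)) (.node (.leaf 0x34ebada6d4864b2c) (.leaf 0))) (.node (.node (.leaf 0x51352290c8616cc) (.leaf 0)) (.node (.leaf 0x26a451332190c85b) (.leaf 0)))))) (.node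 (.node (.node (.node (.node (.leaf 0x28a48a26cc32190b) (.leaf 0x1a6cb659659)) (.node (.leaf 0x45156dd6dd865) (.leaf 0))) (.node (.node (.leaf 0x5148a489b30b659) (.leaf 0xd576595d2e9)) (.node (.leaf 0x2451489b65965b) (.leaf 0)))) (.node (.node (.node (.leaf 0x226a48a42cb65b) (.leaf 0x451369a90c8642d9)) (.node (.leaf 0x8a44d34d9661864) (.leaf 0))) (.node (.node (.leaf 0xd490c861659) (.leaf 0)) (.node (.leaf 0x4d3522899661859) (.leaf 0))))) (.node (.node (.node (.node (.leaf 0x376489a6d3ae975b) (.leaf 0x144d48a165b30b)) (.node (.leaf 0x6a28a430b65b) (.leaf 0))) (.node (.node (.leaf 0x229149136616cb) (.leaf 0)) (.node (.leaf 0x4d49134d9664321) (.leaf 0)))) (.node (.node (.node (.leaf 0xa29648ab6a432532b) (.leaf 0x95d764add69d659)) (.node (.leaf 0x44d48a432190c) (.leaf 0))) (.node (.node (.leaf 0x8a4522914861659) (.leaf 0)) (.node (.leaf 0x134d34d990c859) (.leaf 0)))))))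

/-- transversal words -/
def tau27L0word : Trie :=
  tau27L0word0

/-- part of closing hints -/
def tau27L0close0 : Trie :=
  (.node (.node (.node (.node (.node (.node (.node (.leaf 0x1001005000) (.leaf 0x25)) (.node (.leaf 0x3005018) (.leaf 0x2000019))) (.node (.node (.leaf 0x500e) (.leaf 0x1002001027)) (.node (.leaf 0x1f) (.leaf 0x1004000011)))) (.node (.node (.node (.leaf 0x8) (.leaf 0x1000007)) (.node (.leaf 0x1003002017) (.leaf 0x2005006))) (.node (.node (.leaf 0x1000004014) (.leaf 0x100100001c)) (.node (.leaf 0x4) (.leaf 0x3004016))))) (.node (.node (.node (.node (.leaf 0x4) (.leaf 0x1000005026)) (.node (.leaf 0x1001001001) (.leaf 0x1022))) (.node (.node (.leaf 0x11) (.leaf 0x4000020)) (.node (.leaf 0x1004000008) (.leaf 0x1003004010)))) (.node (.node (.node (.leaf 0xb) (.leaf 0x2005021)) (.node (.leaf 0x1c) (.leaf 0x400101d))) (.node (.node (.leaf 0x1000003003) (.leaf 0x100301d)) (.node (.leaf 0x100400500c) (.leaf 0x100000201a)))))) (.node (.node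 (.node (.node (.node (.leaf 0x2) (.leaf 0x26)) (.node (.leaf 0x1003000014) (.leaf 0x400000e))) (.node (.node (.leaf 0x10) (.leaf 0x1002001028)) (.node (.leaf 0x21) (.leaf 0x5024)))) (.node (.node (.node (.leaf 0x9) (.leaf 0x28)) (.node (.leaf 0x1002002013) (.leaf 0x1000001029))) (.node (.node (.leaf 0x16) (.leaf 0x400501a)) (.node (.leaf 0x24) (.leaf 0x1001005012))))) (.node (.node (.node (.node (.leaf 0x6) (.leaf 0x100200000d)) (.node (.leaf 0x1a) (.leaf 0x100000a))) (.node (.node (.leaf 0x13) (.leaf 0x1004005023)) (.node (.leaf 0x22) (.leaf 0x100100101b)))) (.node (.node (.node (.leaf 0xd) (.leaf 0x1001003027)) (.node (.leaf 0x1d) (.leaf 0x1003004001))) (.node (.node (.leaf 0x18) (.leaf 0x100100000f)) (.node (.leaf 0x2001020) (.leaf 0))))))) (.node (.node (.node (.node (.node (.node (.leaf 0x1) (.leaf 0x1004000024)) (.node (.leaf 0x5015) (.leaf 0x2000018))) (.node (.node (.leaf 0xf) (.leaf 0x100400501c)) (.node (.leaf 0x20) (.leaf 0x100000301f)))) (.node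 (.node (.node (.leaf 0x1000005008) (.leaf 0x1000006)) (.node (.leaf 0x1004003) (.leaf 0x1004000029))) (.node (.node (.leaf 0x15) (.leaf 0x3003015)) (.node (.leaf 0x23) (.leaf 0x4004016))))) (.node (.node (.node (.node (.leaf 0x5) (.leaf 0x1000002021)) (.node (.leaf 0x0) (.leaf 0x2002000))) (.node (.node (.leaf 0x12) (.leaf 0x400001f)) (.node (.leaf 0x1001001013) (.leaf 0x2001017)))) (.node (.node (.node (.leaf 0xc) (.leaf 0x29)) (.node (.leaf 0x1003002) (.leaf 0x2))) (.node (.node (.leaf 0x17) (.leaf 0x400100f)) (.node (.leaf 0x100400500b) (.leaf 0x400101b)))))) (.node (.node (.node (.node (.node (.leaf 0x3) (.leaf 0x27)) (.node (.leaf 0x1003004007) (.leaf 0x100300401e))) (.node (.node (.leaf 0x3000010) (.leaf 0x1001003009)) (.node (.leaf 0x2001009) (.leaf 0x5023)))) (.node (.node (.node (.leaf 0xa) (.leaf 0x100300400d)) (.node (.leaf 0x1002002012) (.leaf 0x100000400b))) (.node (.node (.leaf 0x1000003004) (.leaf 0x1001000005)) (.node (.leaf 0x100100100c)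 (.leaf 0x1005))))) (.node (.node (.node (.node (.leaf 0x7) (.leaf 0x1002004025)) (.node (.leaf 0x1b) (.leaf 0x100100400a))) (.node (.node (.leaf 0x14) (.leaf 0x28)) (.node (.leaf 0x300301e) (.leaf 0x1004001022)))) (.node (.node (.node (.leaf 0xe) (.leaf 0x1001003026)) (.node (.leaf 0x1e) (.leaf 0x1002001025))) (.node (.node (.leaf 0x19) (.leaf 0x1003005019)) (.node (.leaf 0x1001005011) (.leaf 0))))))))

/-- closing hints -/
def tau27L0close : Trie :=
  tau27L0close0

/-- a level -/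
def tau27L0 : SLev := ⟨6, [0x514861659861, 0x28a48a26cc32190b, 0x28a45144cc861659], tau27L0tree, tau27L0word, 42, tau27L0close, [(33, 1), (24, 0), (35, 0)]⟩

/-- part of a tree -/
def tau27L1tree0 : Trie :=
  (.node (.node (.node (.leaf 0x0) (.leaf 0x3)) (.node (.leaf 0x1) (.leaf 0))) (.node (.node (.leaf 0x0) (.leaf 0x4)) (.node (.leaf 0x200001) (.leaf 0))))

/-- a tree -/
def tau27L1tree : Trie :=
  tau27L1tree0

/-- part of transversal words -/
def tau27L1word0 : Trie :=
  (.node (.node (.node (.leaf 0x0) (.leaf 0x144da9144d9859659)) (.node (.leaf 0xda90b2d9659) (.leaf 0))) (.node (.node (.leaf 0xa28a430b664) (.leaf 0x133218642cc)) (.node (.leaf 0x5135226d96cb30c) (.leaf 0))))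

/-- transversal words -/
def tau27L1word : Trie :=
  tau27L1word0

/-- part of closing hints -/
def tau27L1close0 : Trie :=
  (.node (.node (.node (.node (.node (.leaf 0x1) (.leaf 0x1005)) (.node (.leaf 0x1002002) (.leaf 0))) (.node (.node (.leaf 0x1002) (.leaf 0)) (.node (.leaf 0x5) (.leaf 0)))) (.node (.node (.node (.leaf 0x1004000) (.leaf 0)) (.node (.leaf 0x1004) (.leaf 0))) (.node (.node (.leaf 0x0) (.leaf 0)) (.node (.leaf 0x1001005) (.leaf 0))))) (.node (.node (.node (.node (.leaf 0x1000) (.leaf 0x2004)) (.node (.leaf 0x4) (.leaf 0))) (.node (.node (.leaf 0x3) (.leaf 0)) (.node (.leaf 0x1003) (.leaf 0)))) (.node (.node (.node (.leaf 0x2) (.leaf 0)) (.node (.leaf 0x1) (.leaf 0))) (.node (.node (.leaf 0x1001) (.leaf 0)) (.node (.leaf 0x3) (.leaf 0))))))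

/-- closing hints -/
def tau27L1close : Trie :=
  tau27L1close0

/-- a level -/
def tau27L1 : SLev := ⟨8, [0xa28a430b664, 0x4dd92591495b75b, 0x34d45226d96cb30c], tau27L1tree, tau27L1word, 6, tau27L1close, [(0, 1), (5, 2)]⟩

/-- part of a tree -/
def tau27L2tree0 : Trie :=
  (.node (.node (.node (.leaf 0x0) (.leaf 0x100002)) (.node (.leaf 0x100000) (.leaf 0))) (.node (.node (.leaf 0x0) (.leaf 0)) (.node (.leaf 0x2) (.leaf 0))))

/-- a tree -/
def tau27L2tree : Trie :=
  tau27L2tree0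

/-- part of transversal words -/
def tau27L2word0 : Trie :=
  (.node (.node (.node (.leaf 0x0) (.leaf 0x5144d485b65b2cc)) (.node (.leaf 0x1a8a269986430c) (.leaf 0))) (.node (.node (.leaf 0x4dd92591495b75b) (.leaf 0)) (.node (.leaf 0x291369b66190b) (.leaf 0))))

/-- transversal words -/
def tau27L2word : Trie :=
  tau27L2word0

/-- part of closing hints -/
def tau27L2close0 : Trie :=
  (.node (.node (.node (.node (.leaf 0x1) (.leaf 0x1004)) (.node (.leaf 0x3) (.leaf 0))) (.node (.node (.leaf 0x0) (.leaf 0)) (.node (.leaf 0x2) (.leaf 0)))) (.node (.node (.node (.leaf 0x2) (.leaf 0x1003)) (.node (.leaf 0x4) (.leaf 0))) (.node (.node (.leaf 0x1000) (.leaf 0)) (.node (.leaf 0x1) (.leaf 0)))))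

/-- closing hints -/
def tau27L2close : Trie :=
  tau27L2close0

/-- a level -/
def tau27L2 : SLev := ⟨9, [0x4dd92591495b75b, 0x1a8a269986430c], tau27L2tree, tau27L2word, 5, tau27L2close, [(4, 1)]⟩

/-- part of a tree -/
def tau27L3tree0 : Trie :=
  (.node (.leaf 0x0) (.leaf 0x0))

/-- a tree -/
def tau27L3tree : Trie :=
  tau27L3tree0

/-- part of transversal words -/
def tau27L3word0 : Trie :=
  (.node (.leaf 0x0) (.leaf 0x659659))

/-- transversal words -/
def tau27L3word : Trie :=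
  tau27L3word0

/-- part of closing hints -/
def tau27L3close0 : Trie :=
  (.node (.leaf 0x1) (.leaf 0x0))

/-- closing hints -/
def tau27L3close : Trie :=
  tau27L3close0

/-- a level -/
def tau27L3 : SLev := ⟨7, [0x659659], tau27L3tree, tau27L3word, 2, tau27L3close, []⟩

/-- a chain -/
def tau27 : List SLev := [tau27L0, tau27L1, tau27L2, tau27L3]

/-- a representative -/
def r27 : RepD := ⟨3, 1, 1, 42, 32, tau27, [0x1004003000000, 0x4002016000, 0x1000013000], [0x1001001000000, 0x1003001004000, 0x100401d000]⟩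

/-- part of a tree -/
def tau28L0tree0 : Trie :=
  (.node (.leaf 0x0) (.leaf 0x100000))

/-- a tree -/
def tau28L0tree : Trie :=
  tau28L0tree0

/-- part of transversal words -/
def tau28L0word0 : Trie :=
  (.node (.leaf 0x0) (.leaf 0x13ad451495bacb32c))

/-- transversal words -/
def tau28L0word : Trie :=
  tau28L0word0

/-- part of closing hints -/
def tau28L0close0 : Trie :=
  (.node (.node (.leaf 0x2000) (.leaf 0x3000001)) (.node (.leaf 0x1) (.leaf 0x1000)))

/-- closing hints -/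
def tau28L0close : Trie :=
  tau28L0close0

/-- a level -/
def tau28L0 : SLev := ⟨0, [0x1b52269b2db30c, 0x13ad451495bacb32c], tau28L0tree, tau28L0word, 2, tau28L0close, [(1, 1), (0, 0)]⟩

/-- part of a tree -/
def tau28L1tree0 : Trie :=
  (.node (.node (.node (.leaf 0x0) (.leaf 0x2)) (.node (.leaf 0x100000) (.leaf 0))) (.node (.node (.leaf 0x0) (.leaf 0x100002)) (.node (.leaf 0x1) (.leaf 0))))

/-- a tree -/
def tau28L1tree : Trie :=
  tau28L1tree0

/-- part of transversal words -/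
def tau28L1word0 : Trie :=
  (.node (.node (.node (.leaf 0x0) (.leaf 0x9b4d369b2cb2d9)) (.node (.leaf 0x1b52269b2db30c) (.leaf 0))) (.node (.node (.leaf 0x9b5144cc8642cc) (.leaf 0x136a28996cb661)) (.node (.leaf 0x9a91450c85b321) (.leaf 0))))

/-- transversal words -/
def tau28L1word : Trie :=
  tau28L1word0

/-- part of closing hints -/
def tau28L1close0 : Trie :=
  (.node (.node (.node (.node (.leaf 0x1) (.leaf 0x1005)) (.node (.leaf 0x4) (.leaf 0))) (.node (.node (.leaf 0x3) (.leaf 0x1002002)) (.node (.leaf 0x0) (.leaf 0)))) (.node (.node (.node (.leaf 0x2) (.leaf 0x1004)) (.node (.leaf 0x5) (.leaf 0))) (.node (.node (.leaf 0x2003) (.leaf 0x1002001)) (.node (.leaf 0x1000000) (.leaf 0)))))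

/-- closing hints -/
def tau28L1close : Trie :=
  tau28L1close0

/-- a level -/
def tau28L1 : SLev := ⟨8, [0x9b5144cc8642cc, 0x1b52269b2db30c], tau28L1tree, tau28L1word, 6, tau28L1close, [(3, 1), (4, 1)]⟩

/-- part of a tree -/
def tau28L2tree0 : Trie :=
  (.node (.node (.node (.leaf 0x0) (.leaf 0x3)) (.node (.leaf 0x1) (.leaf 0))) (.node (.node (.leaf 0x100000) (.leaf 0)) (.node (.leaf 0x100001) (.leaf 0))))

/-- a tree -/
def tau28L2tree : Trie :=
  tau28L2tree0

/-- part of transversal words -/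
def tau28L2word0 : Trie :=
  (.node (.node (.node (.leaf 0x0) (.leaf 0x34d45226d96cb30c)) (.node (.leaf 0x5132cc30b2cc) (.leaf 0))) (.node (.node (.leaf 0x1a69b2cc30b2cc) (.leaf 0)) (.node (.leaf 0x5134da6d990b30c) (.leaf 0))))

/-- transversal words -/
def tau28L2word : Trie :=
  tau28L2word0

/-- part of closing hints -/
def tau28L2close0 : Trie :=
  (.node (.node (.node (.node (.leaf 0x1000) (.leaf 0x3)) (.node (.leaf 0x1) (.leaf 0))) (.node (.node (.leaf 0x2) (.leaf 0)) (.node (.leaf 0x4) (.leaf 0)))) (.node (.node (.node (.leaf 0x1) (.leaf 0x2)) (.node (.leaf 0x1000) (.leaf 0))) (.node (.node (.leaf 0x3) (.leaf 0)) (.node (.leaf 0x1004) (.leaf 0)))))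

/-- closing hints -/
def tau28L2close : Trie :=
  tau28L2close0

/-- a level -/
def tau28L2 : SLev := ⟨9, [0x659659, 0x1a69b2cc30b2cc], tau28L2tree, tau28L2word, 5, tau28L2close, [(3, 1)]⟩

/-- part of a tree -/
def tau28L3tree0 : Trie :=
  (.node (.leaf 0x0) (.leaf 0x0))

/-- a tree -/
def tau28L3tree : Trie :=
  tau28L3tree0

/-- part of transversal words -/
def tau28L3word0 : Trie :=
  (.node (.leaf 0x0) (.leaf 0x659659))

/-- transversal words -/
def tau28L3word : Trie :=
  tau28L3word0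

/-- part of closing hints -/
def tau28L3close0 : Trie :=
  (.node (.leaf 0x1) (.leaf 0x0))

/-- closing hints -/
def tau28L3close : Trie :=
  tau28L3close0

/-- a level -/
def tau28L3 : SLev := ⟨7, [0x659659], tau28L3tree, tau28L3word, 2, tau28L3close, []⟩

/-- a chain -/
def tau28 : List SLev := [tau28L0, tau28L1, tau28L2, tau28L3]

/-- a representative -/
def r28 : RepD := ⟨3, 44, 6, 0x9148ac96452192c, 672, tau28, [0x1000003000000, 0x1003001007005], [0x1013000, 0x12001]⟩

/-- part of a tree -/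
def tau29L0tree0 : Trie :=
  (.node (.leaf 0x0) (.leaf 0x0))

/-- a tree -/
def tau29L0tree : Trie :=
  tau29L0tree0

/-- part of transversal words -/
def tau29L0word0 : Trie :=
  (.node (.leaf 0x0) (.leaf 0xb2ba9d2cb))

/-- transversal words -/
def tau29L0word : Trie :=
  tau29L0word0

/-- part of closing hints -/
def tau29L0close0 : Trie :=
  (.node (.node (.leaf 0x1) (.leaf 0x0)) (.node (.leaf 0x2000) (.leaf 0x1001)))

/-- closing hints -/
def tau29L0close : Trie :=
  tau29L0close0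

/-- a level -/
def tau29L0 : SLev := ⟨0, [0xb2ba9d2cb, 0x1134d34d9661864], tau29L0tree, tau29L0word, 2, tau29L0close, [(1, 1), (0, 1)]⟩

/-- part of a tree -/
def tau29L1tree0 : Trie :=
  (.node (.node (.node (.leaf 0x0) (.leaf 0x100002)) (.node (.leaf 0x100000) (.leaf 0))) (.node (.node (.leaf 0x0) (.leaf 0)) (.node (.leaf 0x1) (.leaf 0))))

/-- a tree -/
def tau29L1tree : Trie :=
  tau29L1tree0

/-- part of transversal words -/
def tau29L1word0 : Trie :=
  (.node (.node (.node (.leaf 0x0) (.leaf 0x8a289a90b2d990b)) (.node (.leaf 0x1134d34d9661864) (.leaf 0))) (.node (.node (.leaf 0x8a44d34d9661864) (.leaf 0)) (.node (.leaf 0x5136a190b6cb) (.leaf 0))))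

/-- transversal words -/
def tau29L1word : Trie :=
  tau29L1word0

/-- part of closing hints -/
def tau29L1close0 : Trie :=
  (.node (.node (.node (.node (.leaf 0x1) (.leaf 0x2002)) (.node (.leaf 0x1004000) (.leaf 0))) (.node (.node (.leaf 0x3) (.leaf 0)) (.node (.leaf 0x1001004) (.leaf 0)))) (.node (.node (.node (.leaf 0x2) (.leaf 0x2001)) (.node (.leaf 0x4) (.leaf 0))) (.node (.node (.leaf 0x1003) (.leaf 0)) (.node (.leaf 0x5000) (.leaf 0)))))

/-- closing hints -/
def tau29L1close : Trie :=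
  tau29L1close0

/-- a level -/
def tau29L1 : SLev := ⟨6, [0x8a44d34d9661864, 0x1134d34d9661864], tau29L1tree, tau29L1word, 5, tau29L1close, [(1, 1), (3, 0), (4, 1)]⟩

/-- part of a tree -/
def tau29L2tree0 : Trie :=
  (.node (.node (.node (.leaf 0x0) (.leaf 0x200002)) (.node (.leaf 0x200000) (.leaf 0))) (.node (.node (.leaf 0x0) (.leaf 0x200003)) (.node (.leaf 0x200001) (.leaf 0))))

/-- a tree -/
def tau29L2tree : Trie :=
  tau29L2tree0

/-- part of transversal words -/
def tau29L2word0 : Trie :=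
  (.node (.node (.node (.leaf 0x0) (.leaf 0x89b32185b321)) (.node (.leaf 0x4da9132d990b) (.leaf 0))) (.node (.node (.leaf 0x1136a291366430b664) (.leaf 0x32cc859)) (.node (.leaf 0x42d9861) (.leaf 0))))

/-- transversal words -/
def tau29L2word : Trie :=
  tau29L2word0

/-- part of closing hints -/
def tau29L2close0 : Trie :=
  (.node (.node (.node (.node (.node (.leaf 0x1) (.leaf 0x1005)) (.node (.leaf 0x4) (.leaf 0))) (.node (.node (.leaf 0x1000) (.leaf 0)) (.node (.leaf 0x1005) (.leaf 0)))) (.node (.node (.node (.leaf 0x2) (.leaf 0)) (.node (.leaf 0x2) (.leaf 0))) (.node (.node (.leaf 0x1002) (.leaf 0)) (.node (.leaf 0x0) (.leaf 0))))) (.node (.node (.node (.node (.leaf 0x1001) (.leaf 0x1)) (.node (.leaf 0x1003) (.leaf 0))) (.node (.node (.leaf 0x3) (.leaf 0)) (.node (.leaf 0x1004) (.leaf 0)))) (.node (.node (.node (.leaf 0x0) (.leaf 0)) (.node (.leaf 0x5) (.leaf 0))) (.node (.node (.leaf 0x3) (.leaf 0)) (.node (.leaf 0x1004) (.leaf 0))))))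

/-- closing hints -/
def tau29L2close : Trie :=
  tau29L2close0

/-- a level -/
def tau29L2 : SLev := ⟨8, [0x1136a291366430b664, 0x4d330c2cb30c, 0x4da9132d990b], tau29L2tree, tau29L2word, 6, tau29L2close, [(5, 1)]⟩

/-- part of a tree -/
def tau29L3tree0 : Trie :=
  (.node (.leaf 0x0) (.leaf 0x0))

/-- a tree -/
def tau29L3tree : Trie :=
  tau29L3tree0

/-- part of transversal words -/
def tau29L3word0 : Trie :=
  (.node (.leaf 0x0) (.leaf 0x5132cc30b2cc))

/-- transversal words -/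
def tau29L3word : Trie :=
  tau29L3word0

/-- part of closing hints -/
def tau29L3close0 : Trie :=
  (.node (.leaf 0x1) (.leaf 0x0))

/-- closing hints -/
def tau29L3close : Trie :=
  tau29L3close0

/-- a level -/
def tau29L3 : SLev := ⟨9, [0x5132cc30b2cc], tau29L3tree, tau29L3word, 2, tau29L3close, []⟩

/-- a chain -/
def tau29 : List SLev := [tau29L0, tau29L1, tau29L2, tau29L3]

/-- a representative -/
def r29 : RepD := ⟨3, 353, 4, 0x45645132e96dd6d9, 672, tau29, [0x300001a005, 0x100100400f000], [0x21003, 0x1001020000]⟩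

/-- part of a tree -/
def tau30L0tree0 : Trie :=
  (.node (.node (.node (.node (.node (.node (.leaf 0x0) (.leaf 0x100019)) (.node (.leaf 0x8) (.leaf 0))) (.node (.node (.leaf 0x4) (.leaf 0)) (.node (.leaf 0xf) (.leaf 0)))) (.node (.node (.node (.leaf 0x100001) (.leaf 0)) (.node (.leaf 0xa) (.leaf 0))) (.node (.node (.leaf 0x6) (.leaf 0)) (.node (.leaf 0x100014) (.leaf 0))))) (.node (.node (.node (.node (.leaf 0x100000) (.leaf 0x10001d)) (.node (.leaf 0x9) (.leaf 0))) (.node (.node (.leaf 0x5) (.leaf 0)) (.node (.leaf 0x100010) (.leaf 0)))) (.node (.node (.node (.leaf 0x100002) (.leaf 0)) (.node (.leaf 0x10000d) (.leaf 0))) (.node (.node (.leaf 0x7) (.leaf 0)) (.node (.leaf 0x100017) (.leaf 0)))))) (.node (.node (.node (.node (.node (.leaf 0x0) (.leaf 0x10001b)) (.node (.leaf 0x100008) (.leaf 0))) (.node (.node (.leaf 0x100004) (.leaf 0)) (.node (.leaf 0x10000f) (.leaf 0)))) (.node (.node (.node (.leaf 0x2) (.leaf 0)) (.node (.leaf 0x10000b) (.leaf 0)))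 (.node (.node (.leaf 0x100006) (.leaf 0)) (.node (.leaf 0x100015) (.leaf 0))))) (.node (.node (.node (.node (.leaf 0x1) (.leaf 0x100021)) (.node (.leaf 0x100009) (.leaf 0))) (.node (.node (.leaf 0x100005) (.leaf 0)) (.node (.leaf 0x100012) (.leaf 0)))) (.node (.node (.node (.leaf 0x3) (.leaf 0)) (.node (.leaf 0x10000e) (.leaf 0))) (.node (.node (.leaf 0x100007) (.leaf 0)) (.node (.leaf 0x19) (.leaf 0)))))))

/-- a tree -/
def tau30L0tree : Trie :=
  tau30L0tree0

/-- part of transversal words -/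
def tau30L0word0 : Trie :=
  (.node (.node (.node (.node (.node (.node (.leaf 0x0) (.leaf 0x5226d3659664)) (.node (.leaf 0x132cb2d96cb) (.leaf 0))) (.node (.node (.leaf 0x145144cc85990c) (.leaf 0)) (.node (.leaf 0x8a42db2cb321) (.leaf 0)))) (.node (.node (.node (.leaf 0x4da91486185b) (.leaf 0)) (.node (.leaf 0x11595bb252ebacb) (.leaf 0))) (.node (.node (.leaf 0x4d44da6d96642d9) (.leaf 0)) (.node (.leaf 0x4d34da90c8642cc) (.leaf 0))))) (.node (.node (.node (.node (.leaf 0x51491366430c) (.leaf 0x2290c861659)) (.node (.leaf 0x1b5226a432190c) (.leaf 0))) (.node (.node (.leaf 0x145134d36642cc30c) (.leaf 0)) (.node (.leaf 0x4d36a48a42cc861) (.leaf 0)))) (.node (.node (.node (.leaf 0x228596cb2cb) (.leaf 0)) (.node (.leaf 0x69a6d485b659) (.leaf 0))) (.node (.node (.leaf 0x4d34d990b6cb) (.leaf 0)) (.node (.leaf 0x142cc85b2cb) (.leaf 0)))))) (.node (.node (.node (.node (.node (.leaf 0x8a485b321861) (.leaf 0x42d96d990b)) (.node (.leaf 0x9132cb65b321) (.leaf 0))) (.node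 (.node (.leaf 0x136a289a90c2cb30c) (.leaf 0)) (.node (.leaf 0x2290c2cb659) (.leaf 0)))) (.node (.node (.node (.leaf 0x6d486430c2d9) (.leaf 0)) (.node (.leaf 0x1a6596cb659) (.leaf 0))) (.node (.node (.leaf 0x2286190c2cb) (.leaf 0)) (.node (.leaf 0x69a89b65b321) (.leaf 0))))) (.node (.node (.node (.node (.leaf 0x5142cb659659) (.leaf 0x6d485b)) (.node (.leaf 0x28acadd92975d659) (.leaf 0))) (.node (.node (.leaf 0x228a26a42cc861) (.leaf 0)) (.node (.leaf 0x229149136616cb) (.leaf 0)))) (.node (.node (.node (.leaf 0x51430c861659) (.leaf 0)) (.node (.leaf 0x48a289b661864) (.leaf 0))) (.node (.node (.leaf 0x1430c85b30b) (.leaf 0)) (.node (.leaf 0x136a42d9659861) (.leaf 0)))))))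

/-- transversal words -/
def tau30L0word : Trie :=
  tau30L0word0

/-- part of closing hints -/
def tau30L0close0 : Trie :=
  (.node (.node (.node (.node (.node (.node (.node (.leaf 0x1) (.leaf 0x4022)) (.node (.leaf 0x1004006) (.leaf 0))) (.node (.node (.leaf 0x10) (.leaf 0)) (.node (.leaf 0x100401e) (.leaf 0)))) (.node (.node (.node (.leaf 0x8) (.leaf 0)) (.node (.leaf 0x1000017) (.leaf 0))) (.node (.node (.leaf 0x1004004) (.leaf 0)) (.node (.leaf 0x3021) (.leaf 0))))) (.node (.node (.node (.node (.leaf 0x5) (.leaf 0x100401a)) (.node (.leaf 0x1019) (.leaf 0))) (.node (.node (.leaf 0x14) (.leaf 0)) (.node (.leaf 0x4013) (.leaf 0)))) (.node (.node (.node (.leaf 0xc) (.leaf 0)) (.node (.leaf 0x100001c) (.leaf 0))) (.node (.node (.leaf 0x0) (.leaf 0)) (.node (.leaf 0x101d) (.leaf 0)))))) (.node (.node (.node (.node (.node (.leaf 0x3) (.leaf 0x100400b)) (.node (.leaf 0x16) (.leaf 0))) (.node (.node (.leaf 0x12) (.leaf 0)) (.node (.leaf 0x1f) (.leaf 0))))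 (.node (.node (.node (.leaf 0xa) (.leaf 0)) (.node (.leaf 0x4009) (.leaf 0))) (.node (.node (.leaf 0x100200f) (.leaf 0)) (.node (.leaf 0x100400d) (.leaf 0))))) (.node (.node (.node (.node (.leaf 0x7) (.leaf 0x1003023)) (.node (.leaf 0x301b) (.leaf 0))) (.node (.node (.leaf 0x1002011) (.leaf 0)) (.node (.leaf 0x2020) (.leaf 0)))) (.node (.node (.node (.leaf 0xe) (.leaf 0)) (.node (.leaf 0x1000002) (.leaf 0))) (.node (.node (.leaf 0x18) (.leaf 0)) (.node (.leaf 0x3015) (.leaf 0))))))) (.node (.node (.node (.node (.node (.node (.leaf 0x2) (.leaf 0x100000c)) (.node (.leaf 0x1a) (.leaf 0))) (.node (.node (.leaf 0x11) (.leaf 0)) (.node (.leaf 0x2001) (.leaf 0)))) (.node (.node (.node (.leaf 0x9) (.leaf 0)) (.node (.leaf 0x1c) (.leaf 0))) (.node (.node (.leaf 0x1000007) (.leaf 0)) (.node (.leaf 0x100401f) (.leaf 0))))) (.node (.node (.node (.node (.leaf 0x6) (.leaf 0x5)) (.node (.leaf 0x1b) (.leaf 0))) (.node (.node (.leaf 0x1002012) (.leaf 0)) (.node (.leaf 0x1014)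 (.leaf 0)))) (.node (.node (.node (.leaf 0xd) (.leaf 0)) (.node (.leaf 0x0) (.leaf 0))) (.node (.node (.leaf 0x17) (.leaf 0)) (.node (.leaf 0x1002008) (.leaf 0)))))) (.node (.node (.node (.node (.node (.leaf 0x4) (.leaf 0x23)) (.node (.leaf 0x100200e) (.leaf 0))) (.node (.node (.leaf 0x13) (.leaf 0)) (.node (.leaf 0x20) (.leaf 0)))) (.node (.node (.node (.leaf 0xb) (.leaf 0)) (.node (.leaf 0x1d) (.leaf 0))) (.node (.node (.leaf 0x16) (.leaf 0)) (.node (.leaf 0x22) (.leaf 0))))) (.node (.node (.node (.node (.leaf 0x4003) (.leaf 0x100200a)) (.node (.leaf 0x4018) (.leaf 0))) (.node (.node (.leaf 0x15) (.leaf 0)) (.node (.leaf 0x21) (.leaf 0)))) (.node (.node (.node (.leaf 0xf) (.leaf 0)) (.node (.leaf 0x1e) (.leaf 0))) (.node (.node (.leaf 0x19) (.leaf 0)) (.node (.leaf 0x1003010) (.leaf 0))))))))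

/-- closing hints -/
def tau30L0close : Trie :=
  tau30L0close0

/-- a level -/
def tau30L0 : SLev := ⟨6, [0x8a485b321861, 0x51491366430c], tau30L0tree, tau30L0word, 36, tau30L0close, [(30, 0), (27, 0)]⟩

/-- part of a tree -/
def tau30L1tree0 : Trie :=
  (.node (.node (.node (.leaf 0x0) (.leaf 0x3)) (.node (.leaf 0x100000) (.leaf 0))) (.node (.node (.leaf 0x0) (.leaf 0)) (.node (.leaf 0x100001) (.leaf 0))))

/-- a tree -/
def tau30L1tree : Trie :=
  tau30L1tree0

/-- part of transversal words -/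
def tau30L1word0 : Trie :=
  (.node (.node (.node (.leaf 0x0) (.leaf 0x514861659861)) (.node (.leaf 0x4d330c2cb659) (.leaf 0))) (.node (.node (.leaf 0xa269b4db321859) (.leaf 0)) (.node (.leaf 0x9a9136cb661) (.leaf 0))))

/-- transversal words -/
def tau30L1word : Trie :=
  tau30L1word0

/-- part of closing hints -/
def tau30L1close0 : Trie :=
  (.node (.node (.node (.node (.leaf 0x1) (.leaf 0x3)) (.node (.leaf 0x1002) (.leaf 0))) (.node (.node (.leaf 0x0) (.leaf 0)) (.node (.leaf 0x4) (.leaf 0)))) (.node (.node (.node (.leaf 0x2) (.leaf 0x0)) (.node (.leaf 0x1001) (.leaf 0))) (.node (.node (.leaf 0x3) (.leaf 0)) (.node (.leaf 0x1004) (.leaf 0)))))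

/-- closing hints -/
def tau30L1close : Trie :=
  tau30L1close0

/-- a level -/
def tau30L1 : SLev := ⟨8, [0xa269b4db321859, 0x4d330c2cb659], tau30L1tree, tau30L1word, 5, tau30L1close, [(2, 0)]⟩

/-- part of a tree -/
def tau30L2tree0 : Trie :=
  (.node (.leaf 0x0) (.leaf 0x0))

/-- a tree -/
def tau30L2tree : Trie :=
  tau30L2tree0

/-- part of transversal words -/
def tau30L2word0 : Trie :=
  (.node (.leaf 0x0) (.leaf 0x659659))

/-- transversal words -/
def tau30L2word : Trie :=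
  tau30L2word0

/-- part of closing hints -/
def tau30L2close0 : Trie :=
  (.node (.leaf 0x1) (.leaf 0x0))

/-- closing hints -/
def tau30L2close : Trie :=
  tau30L2close0

/-- a level -/
def tau30L2 : SLev := ⟨7, [0x659659], tau30L2tree, tau30L2word, 2, tau30L2close, []⟩

/-- a chain -/
def tau30 : List SLev := [tau30L0, tau30L1, tau30L2]

/-- a representative -/
def r30 : RepD := ⟨4, 0, 2, 0x4d58a296432c95d, 4, tau30, [0x1003012000, 0x1021000], [0x1004000003000, 0x1003002024000]⟩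

/-- part of a tree -/
def tau31L0tree0 : Trie :=
  (.node (.node (.node (.node (.node (.node (.leaf 0x0) (.leaf 0x18)) (.node (.leaf 0x9) (.leaf 0))) (.node (.node (.leaf 0x100003) (.leaf 0)) (.node (.leaf 0xf) (.leaf 0)))) (.node (.node (.node (.leaf 0x100001) (.leaf 0)) (.node (.leaf 0xb) (.leaf 0))) (.node (.node (.leaf 0x100005) (.leaf 0)) (.node (.leaf 0x100013) (.leaf 0))))) (.node (.node (.node (.node (.leaf 0x100000) (.leaf 0x1a)) (.node (.leaf 0xa) (.leaf 0))) (.node (.node (.leaf 0x100004) (.leaf 0)) (.node (.leaf 0x10) (.leaf 0)))) (.node (.node (.node (.leaf 0x100002) (.leaf 0)) (.node (.leaf 0x10000d) (.leaf 0))) (.node (.node (.leaf 0x7) (.leaf 0)) (.node (.leaf 0x17) (.leaf 0)))))) (.node (.node (.node (.node (.node (.leaf 0x0) (.leaf 0x100019)) (.node (.leaf 0x100009) (.leaf 0))) (.node (.node (.leaf 0x4) (.leaf 0)) (.node (.leaf 0x10000f) (.leaf 0)))) (.node (.node (.node (.leaf 0x2) (.leaf 0)) (.node (.leaf 0x10000c) (.leaf 0))) (.node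 (.node (.leaf 0x100006) (.leaf 0)) (.node (.leaf 0x15) (.leaf 0))))) (.node (.node (.node (.node (.leaf 0x1) (.leaf 0x1f)) (.node (.leaf 0x10000a) (.leaf 0))) (.node (.node (.leaf 0x5) (.leaf 0)) (.node (.leaf 0x12) (.leaf 0)))) (.node (.node (.node (.leaf 0x3) (.leaf 0)) (.node (.leaf 0x10000e) (.leaf 0))) (.node (.node (.leaf 0x100007) (.leaf 0)) (.node (.leaf 0x100017) (.leaf 0)))))))

/-- a tree -/
def tau31L0tree : Trie :=
  tau31L0tree0

/-- part of transversal words -/
def tau31L0word0 : Trie :=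
  (.node (.node (.node (.node (.node (.node (.leaf 0x0) (.leaf 0x2289a6d42d9859)) (.node (.leaf 0x1a6596cb659) (.leaf 0))) (.node (.node (.leaf 0x4d44da6d96642d9) (.leaf 0)) (.node (.leaf 0x51489b659664) (.leaf 0)))) (.node (.node (.node (.leaf 0x6d486430c2d9) (.leaf 0)) (.node (.leaf 0x28acadd92975d659) (.leaf 0))) (.node (.node (.leaf 0x145144cc85990c) (.leaf 0)) (.node (.leaf 0x6a26d365b30b) (.leaf 0))))) (.node (.node (.node (.node (.leaf 0x8a485b321861) (.leaf 0x2290c861659)) (.node (.leaf 0x4da91352190c861) (.leaf 0))) (.node (.node (.leaf 0x145134d36642cc30c) (.leaf 0)) (.node (.leaf 0x69a89b65b321) (.leaf 0)))) (.node (.node (.node (.leaf 0x5142cb659659) (.leaf 0)) (.node (.leaf 0x4d34d990b6cb) (.leaf 0))) (.node (.node (.leaf 0x69a6d485b659) (.leaf 0)) (.node (.leaf 0x85b65b30b) (.leaf 0)))))) (.node (.node (.node (.node (.node (.leaf 0x51491366430c) (.leaf 0x91365b2cb321)) (.node (.leaf 0x5226996cb664) (.leaf 0))) (.node (.node (.leaf 0x228a26a42cc861)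 (.leaf 0)) (.node (.leaf 0x143218596cb) (.leaf 0)))) (.node (.node (.node (.leaf 0x4da91486185b) (.leaf 0)) (.node (.leaf 0x132cb2d96cb) (.leaf 0))) (.node (.node (.leaf 0x51430c861659) (.leaf 0)) (.node (.leaf 0x4d36a48a42cc861) (.leaf 0))))) (.node (.node (.node (.node (.leaf 0x228596cb2cb) (.leaf 0x229226d365b30b)) (.node (.leaf 0x11595bb252ebacb) (.leaf 0))) (.node (.node (.leaf 0x136a289a90c2cb30c) (.leaf 0)) (.node (.leaf 0x5144cb6cc85b) (.leaf 0)))) (.node (.node (.node (.leaf 0x2286190c2cb) (.leaf 0)) (.node (.leaf 0x369a69b65965b) (.leaf 0))) (.node (.node (.leaf 0x228642d9859) (.leaf 0)) (.node (.leaf 0x226642d9659) (.leaf 0)))))))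

/-- transversal words -/
def tau31L0word : Trie :=
  tau31L0word0

/-- part of closing hints -/
def tau31L0close0 : Trie :=
  (.node (.node (.node (.node (.node (.node (.node (.leaf 0x1) (.leaf 0x1008)) (.node (.leaf 0x1a) (.leaf 0))) (.node (.node (.leaf 0x100000d) (.leaf 0)) (.node (.leaf 0x20) (.leaf 0)))) (.node (.node (.node (.leaf 0x9) (.leaf 0)) (.node (.leaf 0x4019) (.leaf 0))) (.node (.node (.leaf 0x2011) (.leaf 0)) (.node (.leaf 0x4021) (.leaf 0))))) (.node (.node (.node (.node (.leaf 0x5) (.leaf 0x4)) (.node (.leaf 0x1b) (.leaf 0))) (.node (.node (.leaf 0x12) (.leaf 0)) (.node (.leaf 0x22) (.leaf 0)))) (.node (.node (.node (.leaf 0x1006) (.leaf 0)) (.node (.leaf 0x100001c) (.leaf 0))) (.node (.node (.leaf 0x0) (.leaf 0)) (.node (.leaf 0x1004015) (.leaf 0)))))) (.node (.node (.node (.node (.node (.leaf 0x3) (.leaf 0x100300c)) (.node (.leaf 0x16) (.leaf 0))) (.node (.node (.leaf 0x10) (.leaf 0)) (.node (.leaf 0x4002) (.leaf 0)))) (.node (.node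 (.node (.leaf 0xb) (.leaf 0)) (.node (.leaf 0x1d) (.leaf 0))) (.node (.node (.leaf 0x200f) (.leaf 0)) (.node (.leaf 0x4013) (.leaf 0))))) (.node (.node (.node (.node (.leaf 0x7) (.leaf 0x100300a)) (.node (.leaf 0x1000017) (.leaf 0))) (.node (.node (.leaf 0x14) (.leaf 0)) (.node (.leaf 0x100301f) (.leaf 0)))) (.node (.node (.node (.leaf 0xe) (.leaf 0)) (.node (.leaf 0x1e) (.leaf 0))) (.node (.node (.leaf 0x18) (.leaf 0)) (.node (.leaf 0x23) (.leaf 0))))))) (.node (.node (.node (.node (.node (.node (.leaf 0x2) (.leaf 0x1000022)) (.node (.leaf 0x100b) (.leaf 0))) (.node (.node (.leaf 0x1001005) (.leaf 0)) (.node (.leaf 0x401e) (.leaf 0)))) (.node (.node (.node (.leaf 0xa) (.leaf 0)) (.node (.leaf 0x301b) (.leaf 0))) (.node (.node (.leaf 0x15) (.leaf 0)) (.node (.leaf 0x1) (.leaf 0))))) (.node (.node (.node (.node (.leaf 0x6) (.leaf 0x100101d)) (.node (.leaf 0x1000018) (.leaf 0))) (.node (.node (.leaf 0x13) (.leaf 0)) (.node (.leaf 0x1001007) (.leaf 0)))) (.node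 (.node (.node (.leaf 0xd) (.leaf 0)) (.node (.leaf 0x0) (.leaf 0))) (.node (.node (.leaf 0x17) (.leaf 0)) (.node (.leaf 0x1001010) (.leaf 0)))))) (.node (.node (.node (.node (.node (.leaf 0x4) (.leaf 0x100101a)) (.node (.leaf 0x200e) (.leaf 0))) (.node (.node (.leaf 0x11) (.leaf 0)) (.node (.leaf 0x21) (.leaf 0)))) (.node (.node (.node (.leaf 0xc) (.leaf 0)) (.node (.leaf 0x1001003) (.leaf 0))) (.node (.node (.leaf 0x16) (.leaf 0)) (.node (.leaf 0x1014) (.leaf 0))))) (.node (.node (.node (.node (.leaf 0x8) (.leaf 0x3023)) (.node (.leaf 0x1c) (.leaf 0))) (.node (.node (.leaf 0x2012) (.leaf 0)) (.node (.leaf 0x1020) (.leaf 0)))) (.node (.node (.node (.leaf 0xf) (.leaf 0)) (.node (.leaf 0x1f) (.leaf 0))) (.node (.node (.leaf 0x19) (.leaf 0)) (.node (.leaf 0x2009) (.leaf 0))))))))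

/-- closing hints -/
def tau31L0close : Trie :=
  tau31L0close0

/-- a level -/
def tau31L0 : SLev := ⟨6, [0x51491366430c, 0x8a485b321861], tau31L0tree, tau31L0word, 36, tau31L0close, [(29, 1), (17, 1)]⟩

/-- part of a tree -/
def tau31L1tree0 : Trie :=
  (.node (.node (.node (.leaf 0x0) (.leaf 0x100001)) (.node (.leaf 0x100000) (.leaf 0))) (.node (.node (.leaf 0x0) (.leaf 0)) (.node (.leaf 0x1) (.leaf 0))))

/-- a tree -/
def tau31L1tree : Trie :=
  tau31L1tree0

/-- part of transversal words -/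
def tau31L1word0 : Trie :=
  (.node (.node (.node (.leaf 0x0) (.leaf 0xa269b4db321859)) (.node (.leaf 0x4d330c2cb30c) (.leaf 0))) (.node (.node (.leaf 0x514861659861) (.leaf 0)) (.node (.leaf 0x4d36a48a42cc30c) (.leaf 0))))

/-- transversal words -/
def tau31L1word : Trie :=
  tau31L1word0

/-- part of closing hints -/
def tau31L1close0 : Trie :=
  (.node (.node (.node (.node (.leaf 0x1) (.leaf 0x2)) (.node (.leaf 0x1000) (.leaf 0))) (.node (.node (.leaf 0x3) (.leaf 0)) (.node (.leaf 0x1004) (.leaf 0)))) (.node (.node (.node (.leaf 0x2) (.leaf 0x1)) (.node (.leaf 0x0) (.leaf 0))) (.node (.node (.leaf 0x4) (.leaf 0)) (.node (.leaf 0x1003) (.leaf 0)))))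

/-- closing hints -/
def tau31L1close : Trie :=
  tau31L1close0

/-- a level -/
def tau31L1 : SLev := ⟨8, [0x514861659861, 0x4d330c2cb30c], tau31L1tree, tau31L1word, 5, tau31L1close, [(3, 0)]⟩

/-- part of a tree -/
def tau31L2tree0 : Trie :=
  (.node (.leaf 0x0) (.leaf 0x0))

/-- a tree -/
def tau31L2tree : Trie :=
  tau31L2tree0

/-- part of transversal words -/
def tau31L2word0 : Trie :=
  (.node (.leaf 0x0) (.leaf 0x659659))

/-- transversal words -/
def tau31L2word : Trie :=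
  tau31L2word0

/-- part of closing hints -/
def tau31L2close0 : Trie :=
  (.node (.leaf 0x1) (.leaf 0x0))

/-- closing hints -/
def tau31L2close : Trie :=
  tau31L2close0

/-- a level -/
def tau31L2 : SLev := ⟨7, [0x659659], tau31L2tree, tau31L2word, 2, tau31L2close, []⟩

/-- a chain -/
def tau31 : List SLev := [tau31L0, tau31L1, tau31L2]

/-- a representative -/
def r31 : RepD := ⟨4, 1, 2, 0x1974b661, 4, tau31, [0x1021000, 0x1003012000], [0x1004004002000, 0x201c000]⟩

/-- part of a tree -/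
def tau32L0tree0 : Trie :=
  (.node (.node (.node (.node (.node (.node (.leaf 0x0) (.leaf 0x18)) (.node (.leaf 0x9) (.leaf 0))) (.node (.node (.leaf 0x100003) (.leaf 0)) (.node (.leaf 0xf) (.leaf 0)))) (.node (.node (.node (.leaf 0x100001) (.leaf 0)) (.node (.leaf 0xb) (.leaf 0))) (.node (.node (.leaf 0x100005) (.leaf 0)) (.node (.leaf 0x100013) (.leaf 0))))) (.node (.node (.node (.node (.leaf 0x100000) (.leaf 0x1a)) (.node (.leaf 0xa) (.leaf 0))) (.node (.node (.leaf 0x100004) (.leaf 0)) (.node (.leaf 0x10) (.leaf 0)))) (.node (.node (.node (.leaf 0x100002) (.leaf 0)) (.node (.leaf 0x10000d) (.leaf 0))) (.node (.node (.leaf 0x7) (.leaf 0)) (.node (.leaf 0x17) (.leaf 0)))))) (.node (.node (.node (.node (.node (.leaf 0x0) (.leaf 0x100019)) (.node (.leaf 0x100009) (.leaf 0))) (.node (.node (.leaf 0x4) (.leaf 0)) (.node (.leaf 0x10000f) (.leaf 0)))) (.node (.node (.node (.leaf 0x2) (.leaf 0)) (.node (.leaf 0x10000c) (.leaf 0))) (.node (.node (.leaf 0x100006)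 (.leaf 0)) (.node (.leaf 0x15) (.leaf 0))))) (.node (.node (.node (.node (.leaf 0x1) (.leaf 0x1f)) (.node (.leaf 0x10000a) (.leaf 0))) (.node (.node (.leaf 0x5) (.leaf 0)) (.node (.leaf 0x12) (.leaf 0)))) (.node (.node (.node (.leaf 0x3) (.leaf 0)) (.node (.leaf 0x10000e) (.leaf 0))) (.node (.node (.leaf 0x100007) (.leaf 0)) (.node (.leaf 0x100017) (.leaf 0)))))))

/-- a tree -/
def tau32L0tree : Trie :=
  tau32L0tree0

/-- part of transversal words -/
def tau32L0word0 : Trie :=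
  (.node (.node (.node (.node (.node (.node (.leaf 0x0) (.leaf 0x2289a6d42d9859)) (.node (.leaf 0x1a6596cb659) (.leaf 0))) (.node (.node (.leaf 0x4d44da6d96642d9) (.leaf 0)) (.node (.leaf 0x51489b659664) (.leaf 0)))) (.node (.node (.node (.leaf 0x6d486430c2d9) (.leaf 0)) (.node (.leaf 0x28acadd92975d659) (.leaf 0))) (.node (.node (.leaf 0x145144cc85990c) (.leaf 0)) (.node (.leaf 0x6a26d365b30b) (.leaf 0))))) (.node (.node (.node (.node (.leaf 0x8a485b321861) (.leaf 0x2290c861659)) (.node (.leaf 0x4da91352190c861) (.leaf 0))) (.node (.node (.leaf 0x145134d36642cc30c) (.leaf 0)) (.node (.leaf 0x69a89b65b321) (.leaf 0)))) (.node (.node (.node (.leaf 0x5142cb659659) (.leaf 0)) (.node (.leaf 0x4d34d990b6cb) (.leaf 0))) (.node (.node (.leaf 0x69a6d485b659) (.leaf 0)) (.node (.leaf 0x85b65b30b) (.leaf 0)))))) (.node (.node (.node (.node (.node (.leaf 0x51491366430c) (.leaf 0x91365b2cb321)) (.node (.leaf 0x5226996cb664) (.leaf 0))) (.node (.node (.leaf 0x228a26a42cc861)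 (.leaf 0)) (.node (.leaf 0x143218596cb) (.leaf 0)))) (.node (.node (.node (.leaf 0x4da91486185b) (.leaf 0)) (.node (.leaf 0x132cb2d96cb) (.leaf 0))) (.node (.node (.leaf 0x51430c861659) (.leaf 0)) (.node (.leaf 0x4d36a48a42cc861) (.leaf 0))))) (.node (.node (.node (.node (.leaf 0x228596cb2cb) (.leaf 0x229226d365b30b)) (.node (.leaf 0x11595bb252ebacb) (.leaf 0))) (.node (.node (.leaf 0x136a289a90c2cb30c) (.leaf 0)) (.node (.leaf 0x5144cb6cc85b) (.leaf 0)))) (.node (.node (.node (.leaf 0x2286190c2cb) (.leaf 0)) (.node (.leaf 0x369a69b65965b) (.leaf 0))) (.node (.node (.leaf 0x228642d9859) (.leaf 0)) (.node (.leaf 0x226642d9659) (.leaf 0)))))))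

/-- transversal words -/
def tau32L0word : Trie :=
  tau32L0word0

/-- part of closing hints -/
def tau32L0close0 : Trie :=
  (.node (.node (.node (.node (.node (.node (.node (.leaf 0x1) (.leaf 0x3008)) (.node (.leaf 0x1a) (.leaf 0))) (.node (.node (.leaf 0x100000d) (.leaf 0)) (.node (.leaf 0x20) (.leaf 0)))) (.node (.node (.node (.leaf 0x9) (.leaf 0)) (.node (.leaf 0x1019) (.leaf 0))) (.node (.node (.leaf 0x2011) (.leaf 0)) (.node (.leaf 0x1021) (.leaf 0))))) (.node (.node (.node (.node (.leaf 0x5) (.leaf 0x4)) (.node (.leaf 0x1b) (.leaf 0))) (.node (.node (.leaf 0x12) (.leaf 0)) (.node (.leaf 0x22) (.leaf 0)))) (.node (.node (.node (.leaf 0x3006) (.leaf 0)) (.node (.leaf 0x100001c) (.leaf 0))) (.node (.node (.leaf 0x0) (.leaf 0)) (.node (.leaf 0x1001015) (.leaf 0)))))) (.node (.node (.node (.node (.node (.leaf 0x3) (.leaf 0x400c)) (.node (.leaf 0x16) (.leaf 0))) (.node (.node (.leaf 0x10) (.leaf 0)) (.node (.leaf 0x1002) (.leaf 0)))) (.node (.node (.node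 (.leaf 0xb) (.leaf 0)) (.node (.leaf 0x1d) (.leaf 0))) (.node (.node (.leaf 0x200f) (.leaf 0)) (.node (.leaf 0x1013) (.leaf 0))))) (.node (.node (.node (.node (.leaf 0x7) (.leaf 0x400a)) (.node (.leaf 0x1000017) (.leaf 0))) (.node (.node (.leaf 0x14) (.leaf 0)) (.node (.leaf 0x401f) (.leaf 0)))) (.node (.node (.node (.leaf 0xe) (.leaf 0)) (.node (.leaf 0x1e) (.leaf 0))) (.node (.node (.leaf 0x18) (.leaf 0)) (.node (.leaf 0x23) (.leaf 0))))))) (.node (.node (.node (.node (.node (.node (.leaf 0x2) (.leaf 0x1000022)) (.node (.leaf 0x300b) (.leaf 0))) (.node (.node (.leaf 0x1003005) (.leaf 0)) (.node (.leaf 0x101e) (.leaf 0)))) (.node (.node (.node (.leaf 0xa) (.leaf 0)) (.node (.leaf 0x100401b) (.leaf 0))) (.node (.node (.leaf 0x15) (.leaf 0)) (.node (.leaf 0x1) (.leaf 0))))) (.node (.node (.node (.node (.leaf 0x6) (.leaf 0x100301d)) (.node (.leaf 0x1000018) (.leaf 0))) (.node (.node (.leaf 0x13) (.leaf 0)) (.node (.leaf 0x1003007) (.leaf 0)))) (.node (.node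 (.node (.leaf 0xd) (.leaf 0)) (.node (.leaf 0x0) (.leaf 0))) (.node (.node (.leaf 0x17) (.leaf 0)) (.node (.leaf 0x1003010) (.leaf 0)))))) (.node (.node (.node (.node (.node (.leaf 0x4) (.leaf 0x100301a)) (.node (.leaf 0x200e) (.leaf 0))) (.node (.node (.leaf 0x11) (.leaf 0)) (.node (.leaf 0x21) (.leaf 0)))) (.node (.node (.node (.leaf 0xc) (.leaf 0)) (.node (.leaf 0x1003003) (.leaf 0))) (.node (.node (.leaf 0x16) (.leaf 0)) (.node (.leaf 0x3014) (.leaf 0))))) (.node (.node (.node (.node (.leaf 0x8) (.leaf 0x1004023)) (.node (.leaf 0x1c) (.leaf 0))) (.node (.node (.leaf 0x2012) (.leaf 0)) (.node (.leaf 0x3020) (.leaf 0)))) (.node (.node (.node (.leaf 0xf) (.leaf 0)) (.node (.leaf 0x1f) (.leaf 0))) (.node (.node (.leaf 0x19) (.leaf 0)) (.node (.leaf 0x2009) (.leaf 0))))))))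

/-- closing hints -/
def tau32L0close : Trie :=
  tau32L0close0

/-- a level -/
def tau32L0 : SLev := ⟨6, [0x51491366430c, 0x8a485b321861], tau32L0tree, tau32L0word, 36, tau32L0close, [(25, 0), (11, 1)]⟩

/-- part of a tree -/
def tau32L1tree0 : Trie :=
  (.node (.node (.node (.leaf 0x0) (.leaf 0x3)) (.node (.leaf 0x100000) (.leaf 0))) (.node (.node (.leaf 0x0) (.leaf 0)) (.node (.leaf 0x100001) (.leaf 0))))

/-- a tree -/
def tau32L1tree : Trie :=
  tau32L1tree0

/-- part of transversal words -/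
def tau32L1word0 : Trie :=
  (.node (.node (.node (.leaf 0x0) (.leaf 0x9a9136cb661)) (.node (.leaf 0x4d330c2cb30c) (.leaf 0))) (.node (.node (.leaf 0xa269b4db321859) (.leaf 0)) (.node (.leaf 0x514861659861) (.leaf 0))))

/-- transversal words -/
def tau32L1word : Trie :=
  tau32L1word0

/-- part of closing hints -/
def tau32L1close0 : Trie :=
  (.node (.node (.node (.node (.leaf 0x1) (.leaf 0x3)) (.node (.leaf 0x1002) (.leaf 0))) (.node (.node (.leaf 0x0) (.leaf 0)) (.node (.leaf 0x4) (.leaf 0)))) (.node (.node (.node (.leaf 0x2) (.leaf 0x1004)) (.node (.leaf 0x0) (.leaf 0))) (.node (.node (.leaf 0x3) (.leaf 0)) (.node (.leaf 0x1) (.leaf 0)))))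

/-- closing hints -/
def tau32L1close : Trie :=
  tau32L1close0

/-- a level -/
def tau32L1 : SLev := ⟨8, [0xa269b4db321859, 0x4d330c2cb30c], tau32L1tree, tau32L1word, 5, tau32L1close, [(4, 1)]⟩

/-- part of a tree -/
def tau32L2tree0 : Trie :=
  (.node (.leaf 0x0) (.leaf 0x0))

/-- a tree -/
def tau32L2tree : Trie :=
  tau32L2tree0

/-- part of transversal words -/
def tau32L2word0 : Trie :=
  (.node (.leaf 0x0) (.leaf 0x659659))

/-- transversal words -/
def tau32L2word : Trie :=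
  tau32L2word0

/-- part of closing hints -/
def tau32L2close0 : Trie :=
  (.node (.leaf 0x1) (.leaf 0x0))

/-- closing hints -/
def tau32L2close : Trie :=
  tau32L2close0

/-- a level -/
def tau32L2 : SLev := ⟨7, [0x659659], tau32L2tree, tau32L2word, 2, tau32L2close, []⟩

/-- a chain -/
def tau32 : List SLev := [tau32L0, tau32L1, tau32L2]

/-- a representative -/
def r32 : RepD := ⟨4, 2, 4, 9817, 4, tau32, [0x1021000, 0x1003012000], [0x1004004000, 0x1011000]⟩

/-- part of a tree -/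
def tau33L0tree0 : Trie :=
  (.node (.node (.node (.node (.node (.node (.leaf 0x0) (.leaf 0x18)) (.node (.leaf 0x100009) (.leaf 0))) (.node (.node (.leaf 0x100004) (.leaf 0)) (.node (.leaf 0xf) (.leaf 0)))) (.node (.node (.node (.leaf 0x100001) (.leaf 0)) (.node (.leaf 0xc) (.leaf 0))) (.node (.node (.leaf 0x7) (.leaf 0)) (.node (.leaf 0x13) (.leaf 0))))) (.node (.node (.node (.node (.leaf 0x100000) (.leaf 0x10001c)) (.node (.leaf 0xb) (.leaf 0))) (.node (.node (.leaf 0x6) (.leaf 0)) (.node (.leaf 0x11) (.leaf 0)))) (.node (.node (.node (.leaf 0x3) (.leaf 0)) (.node (.leaf 0xd) (.leaf 0))) (.node (.node (.leaf 0x8) (.leaf 0)) (.node (.leaf 0x100016) (.leaf 0)))))) (.node (.node (.node (.node (.node (.leaf 0x0) (.leaf 0x1a)) (.node (.leaf 0x10000a) (.leaf 0))) (.node (.node (.leaf 0x5) (.leaf 0)) (.node (.leaf 0x100010) (.leaf 0)))) (.node (.node (.node (.leaf 0x100002) (.leaf 0)) (.node (.leaf 0x10000c) (.leaf 0))) (.node (.node (.leaf 0x100007) (.leaf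 0)) (.node (.leaf 0x15) (.leaf 0))))) (.node (.node (.node (.node (.leaf 0x1) (.leaf 0x10001d)) (.node (.leaf 0x10000b) (.leaf 0))) (.node (.node (.leaf 0x100006) (.leaf 0)) (.node (.leaf 0x100011) (.leaf 0)))) (.node (.node (.node (.leaf 0x100003) (.leaf 0)) (.node (.leaf 0x10000e) (.leaf 0))) (.node (.node (.leaf 0x9) (.leaf 0)) (.node (.leaf 0x17) (.leaf 0)))))))

/-- a tree -/
def tau33L0tree : Trie :=
  tau33L0tree0

/-- part of transversal words -/
def tau33L0word0 : Trie :=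
  (.node (.node (.node (.node (.node (.node (.leaf 0x0) (.leaf 0x8a485b321861)) (.node (.leaf 0x1432190c2cb) (.leaf 0))) (.node (.node (.leaf 0x228a26a42cc861) (.leaf 0)) (.node (.leaf 0x89a9148642cc) (.leaf 0)))) (.node (.node (.node (.leaf 0x4d34d990b6cb) (.leaf 0)) (.node (.leaf 0x69b2cb6642d9) (.leaf 0))) (.node (.node (.leaf 0x4da8a26d985b30b) (.leaf 0)) (.node (.leaf 0x2289a6d42d9859) (.leaf 0))))) (.node (.node (.node (.node (.leaf 0x9132cb65b321) (.leaf 0x5148a452190c2cb)) (.node (.leaf 0x91366430c2cb) (.leaf 0))) (.node (.node (.leaf 0x69a6d485b659) (.leaf 0)) (.node (.leaf 0x4d36a26cb65b321) (.leaf 0)))) (.node (.node (.node (.leaf 0x2286190c2cb) (.leaf 0)) (.node (.leaf 0x5149132cb6cc) (.leaf 0))) (.node (.node (.leaf 0x1a6596cb659) (.leaf 0)) (.node (.leaf 0x30c2cb) (.leaf 0)))))) (.node (.node (.node (.node (.node (.leaf 0x51491366430c) (.leaf 0x144d489990c2cb)) (.node (.leaf 0x145134da6618596cb) (.leaf 0))) (.node (.node (.leaf 0x136a289a90c2cb30c)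 (.leaf 0)) (.node (.leaf 0x229149136616cb) (.leaf 0)))) (.node (.node (.node (.leaf 0x4da91486185b) (.leaf 0)) (.node (.leaf 0x11595bb252ebacb) (.leaf 0))) (.node (.node (.leaf 0x1430c32190c) (.leaf 0)) (.node (.leaf 0x4d34da90c8642cc) (.leaf 0))))) (.node (.node (.node (.node (.leaf 0x228596cb2cb) (.leaf 0x145134d36642cc30c)) (.node (.leaf 0x51489b659664) (.leaf 0))) (.node (.node (.leaf 0x28a456575d92a759) (.leaf 0)) (.node (.leaf 0x85b65b30b) (.leaf 0)))) (.node (.node (.node (.leaf 0x6a26d365b30b) (.leaf 0)) (.node (.leaf 0x132d96cb2cb) (.leaf 0))) (.node (.node (.leaf 0x28acadd92975d659) (.leaf 0)) (.node (.leaf 0x134d451485b30b2cb) (.leaf 0)))))))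

/-- transversal words -/
def tau33L0word : Trie :=
  tau33L0word0

/-- part of closing hints -/
def tau33L0close0 : Trie :=
  (.node (.node (.node (.node (.node (.node (.node (.leaf 0x1) (.leaf 0x5)) (.node (.leaf 0x100d) (.leaf 0))) (.node (.node (.leaf 0xe) (.leaf 0)) (.node (.leaf 0x20) (.leaf 0)))) (.node (.node (.node (.leaf 0x1000007) (.leaf 0)) (.node (.leaf 0x1004002) (.leaf 0))) (.node (.node (.leaf 0x14) (.leaf 0)) (.node (.leaf 0x1000010) (.leaf 0))))) (.node (.node (.node (.node (.leaf 0x4004) (.leaf 0x1004019)) (.node (.leaf 0x3015) (.leaf 0))) (.node (.node (.leaf 0x0) (.leaf 0)) (.node (.leaf 0x21) (.leaf 0)))) (.node (.node (.node (.leaf 0xa) (.leaf 0)) (.node (.leaf 0x1004013) (.leaf 0))) (.node (.node (.leaf 0x1011) (.leaf 0)) (.node (.leaf 0x100401e) (.leaf 0)))))) (.node (.node (.node (.node (.node (.leaf 0x3) (.leaf 0x1008)) (.node (.leaf 0x1a) (.leaf 0))) (.node (.node (.leaf 0xf) (.leaf 0)) (.node (.leaf 0x1017) (.leaf 0)))) (.node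 (.node (.node (.leaf 0x9) (.leaf 0)) (.node (.leaf 0x1d) (.leaf 0))) (.node (.node (.leaf 0x16) (.leaf 0)) (.node (.leaf 0x100001b) (.leaf 0))))) (.node (.node (.node (.node (.leaf 0x6) (.leaf 0x1000022)) (.node (.leaf 0x1c) (.leaf 0))) (.node (.node (.leaf 0x12) (.leaf 0)) (.node (.leaf 0x200b) (.leaf 0)))) (.node (.node (.node (.leaf 0xc) (.leaf 0)) (.node (.leaf 0x1f) (.leaf 0))) (.node (.node (.leaf 0x18) (.leaf 0)) (.node (.leaf 0x1002023) (.leaf 0))))))) (.node (.node (.node (.node (.node (.node (.leaf 0x2) (.leaf 0x4016)) (.node (.leaf 0x19) (.leaf 0))) (.node (.node (.leaf 0x1) (.leaf 0)) (.node (.leaf 0x1003012) (.leaf 0)))) (.node (.node (.node (.leaf 0x8) (.leaf 0)) (.node (.leaf 0x18) (.leaf 0))) (.node (.node (.leaf 0x15) (.leaf 0)) (.node (.leaf 0x22) (.leaf 0))))) (.node (.node (.node (.node (.leaf 0x5) (.leaf 0x1001021)) (.node (.leaf 0x1003014) (.leaf 0))) (.node (.node (.leaf 0x11) (.leaf 0)) (.node (.leaf 0x200c) (.leaf 0)))) (.node (.node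 (.node (.leaf 0xb) (.leaf 0)) (.node (.leaf 0x1e) (.leaf 0))) (.node (.node (.leaf 0x17) (.leaf 0)) (.node (.leaf 0x4020) (.leaf 0)))))) (.node (.node (.node (.node (.node (.leaf 0x4) (.leaf 0x100401c)) (.node (.leaf 0x1b) (.leaf 0))) (.node (.node (.leaf 0x10) (.leaf 0)) (.node (.leaf 0x9) (.leaf 0)))) (.node (.node (.node (.leaf 0x0) (.leaf 0)) (.node (.leaf 0x201a) (.leaf 0))) (.node (.node (.leaf 0x3) (.leaf 0)) (.node (.leaf 0x23) (.leaf 0))))) (.node (.node (.node (.node (.leaf 0x7) (.leaf 0x100401f)) (.node (.leaf 0x6) (.leaf 0))) (.node (.node (.leaf 0x13) (.leaf 0)) (.node (.leaf 0xa) (.leaf 0)))) (.node (.node (.node (.leaf 0xd) (.leaf 0)) (.node (.leaf 0x100100f) (.leaf 0))) (.node (.node (.leaf 0x100400e) (.leaf 0)) (.node (.leaf 0x100101d) (.leaf 0))))))))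

/-- closing hints -/
def tau33L0close : Trie :=
  tau33L0close0

/-- a level -/
def tau33L0 : SLev := ⟨6, [0x51491366430c, 0x9132cb65b321], tau33L0tree, tau33L0word, 36, tau33L0close, [(25, 0), (27, 0)]⟩

/-- part of a tree -/
def tau33L1tree0 : Trie :=
  (.node (.node (.node (.leaf 0x0) (.leaf 0x3)) (.node (.leaf 0x100000) (.leaf 0))) (.node (.node (.leaf 0x0) (.leaf 0)) (.node (.leaf 0x100001) (.leaf 0))))

/-- a tree -/
def tau33L1tree : Trie :=
  tau33L1tree0

/-- part of transversal words -/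
def tau33L1word0 : Trie :=
  (.node (.node (.node (.leaf 0x0) (.leaf 0x4d330c2cb30c)) (.node (.leaf 0xa269b4db321859) (.leaf 0))) (.node (.node (.leaf 0x1452289a66190c30c) (.leaf 0)) (.node (.leaf 0x4d36a48a42cc30c) (.leaf 0))))

/-- transversal words -/
def tau33L1word : Trie :=
  tau33L1word0

/-- part of closing hints -/
def tau33L1close0 : Trie :=
  (.node (.node (.node (.node (.leaf 0x1) (.leaf 0x3)) (.node (.leaf 0x1002) (.leaf 0))) (.node (.node (.leaf 0x0) (.leaf 0)) (.node (.leaf 0x4) (.leaf 0)))) (.node (.node (.node (.leaf 0x2) (.leaf 0x1004)) (.node (.leaf 0x0) (.leaf 0))) (.node (.node (.leaf 0x3) (.leaf 0)) (.node (.leaf 0x1) (.leaf 0)))))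

/-- closing hints -/
def tau33L1close : Trie :=
  tau33L1close0

/-- a level -/
def tau33L1 : SLev := ⟨8, [0x1452289a66190c30c, 0xa269b4db321859], tau33L1tree, tau33L1word, 5, tau33L1close, [(2, 0)]⟩

/-- part of a tree -/
def tau33L2tree0 : Trie :=
  (.node (.leaf 0x0) (.leaf 0x0))

/-- a tree -/
def tau33L2tree : Trie :=
  tau33L2tree0

/-- part of transversal words -/
def tau33L2word0 : Trie :=
  (.node (.leaf 0x0) (.leaf 0x659659))

/-- transversal words -/
def tau33L2word : Trie :=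
  tau33L2word0

/-- part of closing hints -/
def tau33L2close0 : Trie :=
  (.node (.leaf 0x1) (.leaf 0x0))

/-- closing hints -/
def tau33L2close : Trie :=
  tau33L2close0

/-- a level -/
def tau33L2 : SLev := ⟨7, [0x659659], tau33L2tree, tau33L2word, 2, tau33L2close, []⟩

/-- a chain -/
def tau33 : List SLev := [tau33L0, tau33L1, tau33L2]

/-- a representative -/
def r33 : RepD := ⟨4, 9, 1, 0x2a865, 4, tau33, [0x1021000, 8192], [0x100400201b000, 0x200500b000]⟩

/-- part of a tree -/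
def tau34L0tree0 : Trie :=
  (.node (.node (.node (.leaf 0x0) (.leaf 0x3)) (.node (.leaf 0x1) (.leaf 0))) (.node (.node (.leaf 0x100000) (.leaf 0)) (.node (.leaf 0x100002) (.leaf 0))))

/-- a tree -/
def tau34L0tree : Trie :=
  tau34L0tree0

/-- part of transversal words -/
def tau34L0word0 : Trie :=
  (.node (.node (.node (.leaf 0x0) (.leaf 0x5135226d96cb30c)) (.node (.leaf 0x4d330c2cb659) (.leaf 0))) (.node (.node (.leaf 0x1452289a66190c30c) (.leaf 0)) (.node (.leaf 0x9a9136cb661) (.leaf 0))))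

/-- transversal words -/
def tau34L0word : Trie :=
  tau34L0word0

/-- part of closing hints -/
def tau34L0close0 : Trie :=
  (.node (.node (.node (.node (.leaf 0x1000) (.leaf 0x3)) (.node (.leaf 0x1) (.leaf 0))) (.node (.node (.leaf 0x2) (.leaf 0)) (.node (.leaf 0x4) (.leaf 0)))) (.node (.node (.node (.leaf 0x1) (.leaf 0x1004)) (.node (.leaf 0x3) (.leaf 0))) (.node (.node (.leaf 0x0) (.leaf 0)) (.node (.leaf 0x2) (.leaf 0)))))

/-- closing hints -/
def tau34L0close : Trie :=
  tau34L0close0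

/-- a level -/
def tau34L0 : SLev := ⟨8, [0x659659, 0x1452289a66190c30c], tau34L0tree, tau34L0word, 5, tau34L0close, [(4, 1)]⟩

/-- part of a tree -/
def tau34L1tree0 : Trie :=
  (.node (.leaf 0x0) (.leaf 0x0))

/-- a tree -/
def tau34L1tree : Trie :=
  tau34L1tree0

/-- part of transversal words -/
def tau34L1word0 : Trie :=
  (.node (.leaf 0x0) (.leaf 0x659659))

/-- transversal words -/
def tau34L1word : Trie :=
  tau34L1word0

/-- part of closing hints -/
def tau34L1close0 : Trie :=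
  (.node (.leaf 0x1) (.leaf 0x0))

/-- closing hints -/
def tau34L1close : Trie :=
  tau34L1close0

/-- a level -/
def tau34L1 : SLev := ⟨7, [0x659659], tau34L1tree, tau34L1word, 2, tau34L1close, []⟩

/-- a chain -/
def tau34 : List SLev := [tau34L0, tau34L1]

/-- a representative -/
def r34 : RepD := ⟨4, 44, 5, 0x55a8a44cb66430b, 144, tau34, [0x1000000000, 0x4000000], [0x1002005000, 0x2010000]⟩

/-- part of a tree -/
def tau35L0tree0 : Trie :=
  (.node (.node (.node (.leaf 0x0) (.leaf 0x3)) (.node (.leaf 0x1) (.leaf 0))) (.node (.node (.leaf 0x100000) (.leaf 0)) (.node (.leaf 0x100001) (.leaf 0))))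

/-- a tree -/
def tau35L0tree : Trie :=
  tau35L0tree0

/-- part of transversal words -/
def tau35L0word0 : Trie :=
  (.node (.node (.node (.leaf 0x0) (.leaf 0x33216d96cc)) (.node (.leaf 0x44d369b66430b) (.leaf 0))) (.node (.node (.leaf 0x2290c2cb30c) (.leaf 0)) (.node (.leaf 0x4d351485b65b30b) (.leaf 0))))

/-- transversal words -/
def tau35L0word : Trie :=
  tau35L0word0

/-- part of closing hints -/
def tau35L0close0 : Trie :=
  (.node (.node (.node (.node (.leaf 0x1000) (.leaf 0x3)) (.node (.leaf 0x1) (.leaf 0))) (.node (.node (.leaf 0x2) (.leaf 0)) (.node (.leaf 0x4) (.leaf 0)))) (.node (.node (.node (.leaf 0x1) (.leaf 0x2)) (.node (.leaf 0x1000) (.leaf 0))) (.node (.node (.leaf 0x3) (.leaf 0)) (.node (.leaf 0x1004) (.leaf 0)))))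

/-- closing hints -/
def tau35L0close : Trie :=
  tau35L0close0

/-- a level -/
def tau35L0 : SLev := ⟨6, [0x4d330c2cb30c, 0x2290c2cb30c], tau35L0tree, tau35L0word, 5, tau35L0close, [(0, 0)]⟩

/-- part of a tree -/
def tau35L1tree0 : Trie :=
  (.node (.leaf 0x0) (.leaf 0x0))

/-- a tree -/
def tau35L1tree : Trie :=
  tau35L1tree0

/-- part of transversal words -/
def tau35L1word0 : Trie :=
  (.node (.leaf 0x0) (.leaf 0x4d330c2cb30c))

/-- transversal words -/
def tau35L1word : Trie :=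
  tau35L1word0

/-- part of closing hints -/
def tau35L1close0 : Trie :=
  (.node (.leaf 0x1) (.leaf 0x0))

/-- closing hints -/
def tau35L1close : Trie :=
  tau35L1close0

/-- a level -/
def tau35L1 : SLev := ⟨8, [0x4d330c2cb30c], tau35L1tree, tau35L1word, 2, tau35L1close, []⟩

/-- a chain -/
def tau35 : List SLev := [tau35L0, tau35L1]

/-- a representative -/
def r35 : RepD := ⟨4, 353, 4, 0x4b259256a592b6cc, 144, tau35, [0x1000000, 0x1001009000], [0x1000000000, 0x1001000000]⟩

/-- part of a tree -/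
def tau36L0tree0 : Trie :=
  (.node (.node (.node (.leaf 0x0) (.leaf 0x2)) (.node (.leaf 0x100000) (.leaf 0))) (.node (.node (.leaf 0x0) (.leaf 0)) (.node (.leaf 0x1) (.leaf 0))))

/-- a tree -/
def tau36L0tree : Trie :=
  tau36L0tree0

/-- part of transversal words -/
def tau36L0word0 : Trie :=
  (.node (.node (.node (.leaf 0x0) (.leaf 0x861861)) (.node (.leaf 0x134d34da6618596cb) (.leaf 0))) (.node (.node (.leaf 0x1a6618596cb) (.leaf 0)) (.node (.leaf 0x4d34d42d96d990c) (.leaf 0))))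

/-- transversal words -/
def tau36L0word : Trie :=
  tau36L0word0

/-- part of closing hints -/
def tau36L0close0 : Trie :=
  (.node (.node (.node (.node (.leaf 0x1) (.leaf 0x1000)) (.node (.leaf 0x4) (.leaf 0))) (.node (.node (.leaf 0x3) (.leaf 0)) (.node (.leaf 0x1002) (.leaf 0)))) (.node (.node (.node (.leaf 0x2) (.leaf 0x1004)) (.node (.leaf 0x0) (.leaf 0))) (.node (.node (.leaf 0x1003) (.leaf 0)) (.node (.leaf 0x1001) (.leaf 0)))))

/-- closing hints -/
def tau36L0close : Trie :=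
  tau36L0close0

/-- a level -/
def tau36L0 : SLev := ⟨6, [0x1a6618596cb, 0x134d34da6618596cb], tau36L0tree, tau36L0word, 5, tau36L0close, [(3, 0)]⟩

/-- part of a tree -/
def tau36L1tree0 : Trie :=
  (.node (.leaf 0x0) (.leaf 0x0))

/-- a tree -/
def tau36L1tree : Trie :=
  tau36L1tree0

/-- part of transversal words -/
def tau36L1word0 : Trie :=
  (.node (.leaf 0x0) (.leaf 0x4d330c2cb30c))

/-- transversal words -/
def tau36L1word : Trie :=
  tau36L1word0

/-- part of closing hints -/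
def tau36L1close0 : Trie :=
  (.node (.leaf 0x1) (.leaf 0x0))

/-- closing hints -/
def tau36L1close : Trie :=
  tau36L1close0

/-- a level -/
def tau36L1 : SLev := ⟨8, [0x4d330c2cb30c], tau36L1tree, tau36L1word, 2, tau36L1close, []⟩

/-- a chain -/
def tau36 : List SLev := [tau36L0, tau36L1]

/-- a representative -/
def r36 : RepD := ⟨4, 2657, 6, 0x89b325861, 144, tau36, [0x1003008000, 0x1004017000], [0xd000, 0x1002000]⟩

/-- part of a tree -/
def tau37L0tree0 : Trie :=
  (.node (.node (.node (.leaf 0x0) (.leaf 0x2)) (.node (.leaf 0x100000) (.leaf 0))) (.node (.node (.leaf 0x0) (.leaf 0)) (.node (.leaf 0x100001) (.leaf 0))))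

/-- a tree -/
def tau37L0tree : Trie :=
  tau37L0tree0

/-- part of transversal words -/
def tau37L0word0 : Trie :=
  (.node (.node (.node (.leaf 0x0) (.leaf 0x1452289a66190c30c)) (.node (.leaf 0x5135226d96cb30c) (.leaf 0))) (.node (.node (.leaf 0x4d330c2cb30c) (.leaf 0)) (.node (.leaf 0x9a9136cb661) (.leaf 0))))

/-- transversal words -/
def tau37L0word : Trie :=
  tau37L0word0

/-- part of closing hints -/
def tau37L0close0 : Trie :=
  (.node (.node (.node (.node (.leaf 0x1) (.leaf 0x2)) (.node (.leaf 0x4) (.leaf 0))) (.node (.node (.leaf 0x0) (.leaf 0)) (.node (.leaf 0x1003) (.leaf 0)))) (.node (.node (.node (.leaf 0x2) (.leaf 0x1)) (.node (.leaf 0x1004) (.leaf 0))) (.node (.node (.leaf 0x3) (.leaf 0)) (.node (.leaf 0x1000) (.leaf 0)))))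

/-- closing hints -/
def tau37L0close : Trie :=
  tau37L0close0

/-- a level -/
def tau37L0 : SLev := ⟨8, [0x4d330c2cb30c, 0x5135226d96cb30c], tau37L0tree, tau37L0word, 5, tau37L0close, [(2, 1)]⟩

/-- part of a tree -/
def tau37L1tree0 : Trie :=
  (.node (.leaf 0x0) (.leaf 0x0))

/-- a tree -/
def tau37L1tree : Trie :=
  tau37L1tree0

/-- part of transversal words -/
def tau37L1word0 : Trie :=
  (.node (.leaf 0x0) (.leaf 0x659659))

/-- transversal words -/
def tau37L1word : Trie :=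
  tau37L1word0

/-- part of closing hints -/
def tau37L1close0 : Trie :=
  (.node (.leaf 0x1) (.leaf 0x0))

/-- closing hints -/
def tau37L1close : Trie :=
  tau37L1close0

/-- a level -/
def tau37L1 : SLev := ⟨7, [0x659659], tau37L1tree, tau37L1word, 2, tau37L1close, []⟩

/-- a chain -/
def tau37 : List SLev := [tau37L0, tau37L1]

/-- a representative -/
def r37 : RepD := ⟨4, 340, 5, 0x4dd75a6eb2d96dd, 144, tau37, [0x1000000, 0x3000000], [0x1000000, 0x1001000000]⟩

/-- part of a tree -/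
def tau38L0tree0 : Trie :=
  (.node (.leaf 0x0) (.leaf 0x0))

/-- a tree -/
def tau38L0tree : Trie :=
  tau38L0tree0

/-- part of transversal words -/
def tau38L0word0 : Trie :=
  (.node (.leaf 0x0) (.leaf 0x1a6ecaa1961764))

/-- transversal words -/
def tau38L0word : Trie :=
  tau38L0word0

/-- part of closing hints -/
def tau38L0close0 : Trie :=
  (.node (.node (.leaf 0x1) (.leaf 0x0)) (.node (.leaf 0x1001) (.leaf 0x1000)))

/-- closing hints -/
def tau38L0close : Trie :=
  tau38L0close0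

/-- a level -/
def tau38L0 : SLev := ⟨0, [0x1a6ecaa1961764, 0x1495a962961764], tau38L0tree, tau38L0word, 2, tau38L0close, [(1, 1)]⟩

/-- part of a tree -/
def tau38L1tree0 : Trie :=
  (.node (.leaf 0x0) (.leaf 0x0))

/-- a tree -/
def tau38L1tree : Trie :=
  tau38L1tree0

/-- part of transversal words -/
def tau38L1word0 : Trie :=
  (.node (.leaf 0x0) (.leaf 0x659659))

/-- transversal words -/
def tau38L1word : Trie :=
  tau38L1word0

/-- part of closing hints -/
def tau38L1close0 : Trie :=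
  (.node (.leaf 0x1) (.leaf 0x0))

/-- closing hints -/
def tau38L1close : Trie :=
  tau38L1close0

/-- a level -/
def tau38L1 : SLev := ⟨7, [0x659659], tau38L1tree, tau38L1word, 2, tau38L1close, []⟩

/-- a chain -/
def tau38 : List SLev := [tau38L0, tau38L1]

/-- a representative -/
def r38 : RepD := ⟨4, 0x14b2ec, 7, 0x2cb659, 360, tau38, [0x1000010003, 0x10003], [0x1001000, 4096]⟩

/-- part of a tree -/
def tau39L0tree0 : Trie :=
  (.node (.node (.node (.node (.node (.leaf 0x0) (.leaf 0x100008)) (.node (.leaf 0x100003) (.leaf 0x10000d))) (.node (.node (.leaf 0x100001) (.leaf 0x10000a)) (.node (.leaf 0x100006) (.leaf 0x15)))) (.node (.node (.node (.leaf 0x100000) (.leaf 0x100009)) (.node (.leaf 0x100005) (.leaf 0x10))) (.node (.node (.leaf 0x100002) (.leaf 0x10000b)) (.node (.leaf 0x100007) (.leaf 0))))) (.node (.node (.node (.node (.leaf 0x0) (.leaf 0x9)) (.node (.leaf 0x5) (.leaf 0xe))) (.node (.node (.leaf 0x2) (.leaf 0xb)) (.node (.leaf 0x7) (.leaf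 0x100015)))) (.node (.node (.node (.leaf 0x1) (.leaf 0xa)) (.node (.leaf 0x6) (.leaf 0x100010))) (.node (.node (.leaf 0x3) (.leaf 0xc)) (.node (.leaf 0x8) (.leaf 0))))))

/-- a tree -/
def tau39L0tree : Trie :=
  tau39L0tree0

/-- part of transversal words -/
def tau39L0word0 : Trie :=
  (.node (.node (.node (.node (.node (.leaf 0x0) (.leaf 0x9a8a44db2d9661)) (.node (.leaf 0x90b6616cb) (.leaf 0x42d96d990b))) (.node (.node (.leaf 0x244da6d36616cb) (.leaf 0x65b2d96cb)) (.node (.leaf 0x2286190c2cb) (.leaf 0x228596cb30c)))) (.node (.node (.node (.leaf 0x51491366430c) (.leaf 0x276575d94cb0c)) (.node (.leaf 0x136642cc861) (.leaf 0x1b52291485990c))) (.node (.node (.leaf 0x228596cb2cb) (.leaf 0x1a6596cb30c)) (.node (.leaf 0x1a6cb) (.leaf 0))))) (.node (.node (.node (.node (.leaf 0x229135216d96cb) (.leaf 0x8a291365b661)) (.node (.leaf 0x244da89b2d96cb) (.leaf 0x4d48a265b30c864))) (.node (.node (.leaf 0x1a6d369b30b664) (.leaf 0x51369a8642cb65b)) (.node (.leaf 0x229149136616cb)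 (.leaf 0x229148a42cc85b)))) (.node (.node (.node (.leaf 0x69a89b659664) (.leaf 0x1b5226a432190c)) (.node (.leaf 0x65b30b664) (.leaf 0x1a66190c2cb))) (.node (.node (.leaf 0x6d430b6cb30c) (.leaf 0x913664)) (.node (.leaf 0x9132cb6cc2cb) (.leaf 0))))))

/-- transversal words -/
def tau39L0word : Trie :=
  tau39L0word0

/-- part of closing hints -/
def tau39L0close0 : Trie :=
  (.node (.node (.node (.node (.node (.node (.leaf 0x1) (.leaf 0x1a)) (.node (.leaf 0xf) (.leaf 0x1010))) (.node (.node (.leaf 0x1006) (.leaf 0x1002)) (.node (.leaf 0x17) (.leaf 0x1004)))) (.node (.node (.node (.leaf 0x5) (.leaf 0x101b)) (.node (.leaf 0x13) (.leaf 0xc))) (.node (.node (.leaf 0xb) (.leaf 0x100a)) (.node (.leaf 0x19) (.leaf 0))))) (.node (.node (.node (.node (.leaf 0x3) (.leaf 0x1014)) (.node (.leaf 0x11) (.leaf 0x1016))) (.node (.node (.leaf 0x9) (.leaf 0x1c)) (.node (.leaf 0x0) (.leaf 0x8)))) (.node (.node (.node (.leaf 0x7) (.leaf 0xe)) (.node (.leaf 0x15) (.leaf 0x101d)))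 (.node (.node (.leaf 0xd) (.leaf 0x1018)) (.node (.leaf 0x12) (.leaf 0)))))) (.node (.node (.node (.node (.node (.leaf 0x2) (.leaf 0x1b)) (.node (.leaf 0x10) (.leaf 0x100f))) (.node (.node (.leaf 0x1005) (.leaf 0x1001)) (.node (.leaf 0x1017) (.leaf 0x1003)))) (.node (.node (.node (.leaf 0x6) (.leaf 0x101a)) (.node (.leaf 0x14) (.leaf 0xb))) (.node (.node (.leaf 0xc) (.leaf 0x1009)) (.node (.leaf 0x1019) (.leaf 0))))) (.node (.node (.node (.node (.leaf 0x4) (.leaf 0x1013)) (.node (.leaf 0x12) (.leaf 0x1015))) (.node (.node (.leaf 0xa) (.leaf 0x1d)) (.node (.leaf 0x18) (.leaf 0x7)))) (.node (.node (.node (.leaf 0x8) (.leaf 0xd)) (.node (.leaf 0x16) (.leaf 0x101c))) (.node (.node (.leaf 0xe) (.leaf 0x1000)) (.node (.leaf 0x11) (.leaf 0)))))))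

/-- closing hints -/
def tau39L0close : Trie :=
  tau39L0close0

/-- a level -/
def tau39L0 : SLev := ⟨6, [0x229135216d96cb, 0x51491366430c], tau39L0tree, tau39L0word, 30, tau39L0close, [(17, 1)]⟩

/-- part of a tree -/
def tau39L1tree0 : Trie :=
  (.node (.leaf 0x0) (.leaf 0x0))

/-- a tree -/
def tau39L1tree : Trie :=
  tau39L1tree0

/-- part of transversal words -/
def tau39L1word0 : Trie :=
  (.node (.leaf 0x0) (.leaf 0xa269b4db321859))

/-- transversal words -/
def tau39L1word : Trie :=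
  tau39L1word0

/-- part of closing hints -/
def tau39L1close0 : Trie :=
  (.node (.leaf 0x1) (.leaf 0x0))

/-- closing hints -/
def tau39L1close : Trie :=
  tau39L1close0

/-- a level -/
def tau39L1 : SLev := ⟨8, [0xa269b4db321859], tau39L1tree, tau39L1word, 2, tau39L1close, []⟩

/-- a chain -/
def tau39 : List SLev := [tau39L0, tau39L1]

/-- a representative -/
def r39 : RepD := ⟨4, 0x296dd, 6, 0x1149142cb321, 24, tau39, [0x17000, 0x1021000], [0x100f000, 0x6000]⟩

/-- part of a tree -/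
def tau40L0tree0 : Trie :=
  (.node (.node (.node (.node (.node (.leaf 0x0) (.leaf 0x9)) (.node (.leaf 0x100003) (.leaf 0x100010))) (.node (.node (.leaf 0x100001) (.leaf 0xc)) (.node (.leaf 0x6) (.leaf 0x18)))) (.node (.node (.node (.leaf 0x100000) (.leaf 0xb)) (.node (.leaf 0x5) (.leaf 0x100011))) (.node (.node (.leaf 0x100002) (.leaf 0xd)) (.node (.leaf 0x8) (.leaf 0))))) (.node (.node (.node (.node (.leaf 0x0) (.leaf 0xa)) (.node (.leaf 0x100004) (.leaf 0x11))) (.node (.node (.leaf 0x2) (.leaf 0x10000c)) (.node (.leaf 0x100007) (.leaf 0x1a)))) (.node (.node (.node (.leaf 0x1) (.leaf 0x10000b)) (.node (.leaf 0x100005) (.leaf 0x17))) (.node (.node (.leaf 0x3) (.leaf 0x10000e)) (.node (.leaf 0x100008) (.leaf 0))))))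

/-- a tree -/
def tau40L0tree : Trie :=
  tau40L0tree0

/-- part of transversal words -/
def tau40L0word0 : Trie :=
  (.node (.node (.node (.node (.node (.leaf 0x0) (.leaf 0x5226d365b321)) (.node (.leaf 0xda9144db2cb664) (.leaf 0x51489a90b6cb659))) (.node (.node (.leaf 0x2cb659) (.leaf 0x134d44db2cb321)) (.node (.leaf 0x90b6616cb) (.leaf 0x4d330c861659)))) (.node (.node (.node (.leaf 0x5148a45216642d9) (.leaf 0x4d330c861861)) (.node (.leaf 0xa574bb2995d) (.leaf 0x269d753b2caec))) (.node (.node (.leaf 0x5226d44d96cb659) (.leaf 0x136642cc861)) (.node (.leaf 0x30c861) (.leaf 0))))) (.node (.node (.node (.node (.leaf 0x4d36a48a42cc861) (.leaf 0x4d34d990b6cb)) (.node (.leaf 0x4d44da6d990c30c) (.leaf 0x4da91352190c861))) (.node (.node (.leaf 0x6a48642d9659) (.leaf 0x5142cb659659)) (.node (.leaf 0x136a289b659861) (.leaf 0x8a29132cb6cc)))) (.node (.node (.node (.leaf 0x1489a69b661659) (.leaf 0x5148a489b30b659)) (.node (.leaf 0x143216642d9) (.leaf 0x65b30b664)))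 (.node (.node (.leaf 0x145134db30c2d9) (.leaf 0x51430c861659)) (.node (.leaf 0x8a485b321861) (.leaf 0))))))

/-- transversal words -/
def tau40L0word : Trie :=
  tau40L0word0

/-- part of closing hints -/
def tau40L0close0 : Trie :=
  (.node (.node (.node (.node (.node (.node (.leaf 0x1) (.leaf 0x100f)) (.node (.leaf 0xe) (.leaf 0x1c))) (.node (.node (.leaf 0x1000) (.leaf 0x8)) (.node (.leaf 0x14) (.leaf 0x1015)))) (.node (.node (.node (.leaf 0x5) (.leaf 0x18)) (.node (.leaf 0x11) (.leaf 0x1d))) (.node (.node (.leaf 0xc) (.leaf 0x9)) (.node (.leaf 0x6) (.leaf 0))))) (.node (.node (.node (.node (.leaf 0x3) (.leaf 0x19)) (.node (.leaf 0x10) (.leaf 0x2))) (.node (.node (.leaf 0xa) (.leaf 0x100b)) (.node (.leaf 0x16) (.leaf 0x13)))) (.node (.node (.node (.leaf 0x7) (.leaf 0x17)) (.node (.leaf 0x12) (.leaf 0x1a))) (.node (.node (.leaf 0x1004) (.leaf 0x1b)) (.node (.leaf 0x100d) (.leaf 0)))))) (.node (.node (.node (.node (.node (.leaf 0x2) (.leaf 0x18)) (.node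 (.leaf 0xf) (.leaf 0x19))) (.node (.node (.leaf 0x9) (.leaf 0x11)) (.node (.leaf 0x15) (.leaf 0x101d)))) (.node (.node (.node (.leaf 0x6) (.leaf 0x100e)) (.node (.leaf 0x7) (.leaf 0x14))) (.node (.node (.leaf 0x0) (.leaf 0x100c)) (.node (.leaf 0x17) (.leaf 0))))) (.node (.node (.node (.node (.leaf 0x4) (.leaf 0x1a)) (.node (.leaf 0x1) (.leaf 0x10))) (.node (.node (.leaf 0xb) (.leaf 0x1016)) (.node (.leaf 0xa) (.leaf 0x101b)))) (.node (.node (.node (.leaf 0x8) (.leaf 0x5)) (.node (.leaf 0x13) (.leaf 0x1c))) (.node (.node (.leaf 0xd) (.leaf 0x1012)) (.node (.leaf 0x3) (.leaf 0)))))))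

/-- closing hints -/
def tau40L0close : Trie :=
  tau40L0close0

/-- a level -/
def tau40L0 : SLev := ⟨6, [0x4d36a48a42cc861, 0x5148a45216642d9], tau40L0tree, tau40L0word, 30, tau40L0close, [(28, 1)]⟩

/-- part of a tree -/
def tau40L1tree0 : Trie :=
  (.node (.leaf 0x0) (.leaf 0x0))

/-- a tree -/
def tau40L1tree : Trie :=
  tau40L1tree0

/-- part of transversal words -/
def tau40L1word0 : Trie :=
  (.node (.leaf 0x0) (.leaf 0x9a9136cb661))

/-- transversal words -/
def tau40L1word : Trie :=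
  tau40L1word0

/-- part of closing hints -/
def tau40L1close0 : Trie :=
  (.node (.leaf 0x1) (.leaf 0x0))

/-- closing hints -/
def tau40L1close : Trie :=
  tau40L1close0

/-- a level -/
def tau40L1 : SLev := ⟨8, [0x9a9136cb661], tau40L1tree, tau40L1word, 2, tau40L1close, []⟩

/-- a chain -/
def tau40 : List SLev := [tau40L0, tau40L1]

/-- a representative -/
def r40 : RepD := ⟨4, 0x1536e9, 2, 0x36a4a64b2585b, 24, tau40, [0x5000, 0x100301c000], [0x3005015000, 0x1000003000000]⟩

/-- part of a tree -/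
def tau41L0tree0 : Trie :=
  (.node (.leaf 0x0) (.leaf 0x0))

/-- a tree -/
def tau41L0tree : Trie :=
  tau41L0tree0

/-- part of transversal words -/
def tau41L0word0 : Trie :=
  (.node (.leaf 0x0) (.leaf 0x9226dd2dbadb))

/-- transversal words -/
def tau41L0word : Trie :=
  tau41L0word0

/-- part of closing hints -/
def tau41L0close0 : Trie :=
  (.node (.node (.leaf 0x1) (.leaf 0x0)) (.node (.leaf 0x1001) (.leaf 0x1000)))

/-- closing hints -/
def tau41L0close : Trie :=
  tau41L0close0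

/-- a level -/
def tau41L0 : SLev := ⟨0, [0x9226dd2dbadb, 0x9a92b6eb661], tau41L0tree, tau41L0word, 2, tau41L0close, [(0, 1)]⟩

/-- part of a tree -/
def tau41L1tree0 : Trie :=
  (.node (.leaf 0x0) (.leaf 0x0))

/-- a tree -/
def tau41L1tree : Trie :=
  tau41L1tree0

/-- part of transversal words -/
def tau41L1word0 : Trie :=
  (.node (.leaf 0x0) (.leaf 0x1451452285966190c))

/-- transversal words -/
def tau41L1word : Trie :=
  tau41L1word0

/-- part of closing hints -/
def tau41L1close0 : Trie :=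
  (.node (.leaf 0x1) (.leaf 0x0))

/-- closing hints -/
def tau41L1close : Trie :=
  tau41L1close0

/-- a level -/
def tau41L1 : SLev := ⟨6, [0x1451452285966190c], tau41L1tree, tau41L1word, 2, tau41L1close, []⟩

/-- a chain -/
def tau41 : List SLev := [tau41L0, tau41L1]

/-- a representative -/
def r41 : RepD := ⟨4, 0xa9b74c, 6, 0x35136a4acc85b764, 360, tau41, [0x1000023003, 0x300d003], [0x1004001, 0x17001]⟩

/-- part of a tree -/
def tau42L0tree0 : Trie :=
  (.node (.leaf 0x0) (.leaf 0x0))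

/-- a tree -/
def tau42L0tree : Trie :=
  tau42L0tree0

/-- part of transversal words -/
def tau42L0word0 : Trie :=
  (.node (.leaf 0x0) (.leaf 0x114b0cb0c2cb))

/-- transversal words -/
def tau42L0word : Trie :=
  tau42L0word0

/-- part of closing hints -/
def tau42L0close0 : Trie :=
  (.node (.node (.node (.leaf 0x1) (.leaf 0x1000)) (.node (.leaf 0x3000) (.leaf 0))) (.node (.node (.leaf 0x1001) (.leaf 0x12001)) (.node (.leaf 0x2000) (.leaf 0))))

/-- closing hints -/
def tau42L0close : Trie :=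
  tau42L0close0

/-- a level -/
def tau42L0 : SLev := ⟨0, [0x114b0cb0c2cb, 0xa26eb6ec859, 0x8a485b321861], tau42L0tree, tau42L0word, 2, tau42L0close, [(0, 1), (1, 0), (0, 2)]⟩

/-- part of a tree -/
def tau42L1tree0 : Trie :=
  (.node (.node (.node (.node (.node (.leaf 0x0) (.leaf 0x100008)) (.node (.leaf 0x200004) (.leaf 0x10000e))) (.node (.node (.leaf 0x100001) (.leaf 0x10000b)) (.node (.leaf 0x6) (.leaf 0x200017)))) (.node (.node (.node (.leaf 0x100000) (.leaf 0x100009)) (.node (.leaf 0x100005) (.leaf 0x200013))) (.node (.node (.leaf 0x200002) (.leaf 0x10000c)) (.node (.leaf 0x200006) (.leaf 0))))) (.node (.node (.node (.node (.leaf 0x0) (.leaf 0x200008)) (.node (.leaf 0x5) (.leaf 0x200010))) (.node (.node (.leaf 0x200001) (.leaf 0x20000b)) (.node (.leaf 0x100006) (.leaf 0x19)))) (.node (.node (.node (.leaf 0x200000) (.leaf 0x20000a)) (.node (.leaf 0x200005) (.leaf 0x17))) (.node (.node (.leaf 0x3) (.leaf 0x20000d)) (.node (.leaf 0x8) (.leaf 0))))))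

/-- a tree -/
def tau42L1tree : Trie :=
  tau42L1tree0

/-- part of transversal words -/
def tau42L1word0 : Trie :=
  (.node (.node (.node (.node (.node (.leaf 0x0) (.leaf 0x5144cb6cc85b)) (.node (.leaf 0x9bad432c964acc) (.leaf 0xda6ab75badd30b))) (.node (.node (.leaf 0x1226d34db30c85b) (.leaf 0x42d96d990b)) (.node (.leaf 0x134d34da6618596cb) (.leaf 0x5149132cb6cc)))) (.node (.node (.node (.leaf 0x51369a8642cb65b) (.leaf 0x48a28a48a190c2d9)) (.node (.leaf 0x28aca9bb2caeb) (.leaf 0x51489b659664))) (.node (.node (.leaf 0x1a6cc2cb321) (.leaf 0x28a29136596d96cc)) (.node (.leaf 0x4d34da90c8642cc) (.leaf 0))))) (.node (.node (.node (.node (.leaf 0x2290c30c2cb) (.leaf 0x9132cb659664)) (.node (.leaf 0x4d351486432190c) (.leaf 0x26abaa4aebb2c))) (.node (.node (.leaf 0x91365b661659) (.leaf 0x69b4d450b2d96cb)) (.node (.leaf 0x8a4522914861861) (.leaf 0x26d48a26d990b30c)))) (.node (.node (.node (.leaf 0x8a485b321861) (.leaf 0x5148a452190c2cb)) (.node (.leaf 0x1a66190c30c)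 (.leaf 0x276575d94cb0c))) (.node (.node (.leaf 0x29226d34d986430b) (.leaf 0x34d44da6d965b321)) (.node (.leaf 0x136642cc30c) (.leaf 0))))))

/-- transversal words -/
def tau42L1word : Trie :=
  tau42L1word0

/-- part of closing hints -/
def tau42L1close0 : Trie :=
  (.node (.node (.node (.node (.node (.node (.node (.leaf 0x1) (.leaf 0x1013)) (.node (.leaf 0x13) (.leaf 0))) (.node (.node (.leaf 0xa) (.leaf 0x101d)) (.node (.leaf 0x1011) (.leaf 0)))) (.node (.node (.node (.leaf 0x6) (.leaf 0x15)) (.node (.leaf 0x6) (.leaf 0))) (.node (.node (.leaf 0xf) (.leaf 0x101d)) (.node (.leaf 0x2) (.leaf 0))))) (.node (.node (.node (.node (.leaf 0x4) (.leaf 0x1)) (.node (.leaf 0x6) (.leaf 0))) (.node (.node (.leaf 0xe) (.leaf 0x1a)) (.node (.leaf 0x100f) (.leaf 0)))) (.node (.node (.node (.leaf 0x2) (.leaf 0x1019)) (.node (.leaf 0x1014) (.leaf 0))) (.node (.node (.leaf 0x12) (.leaf 0)) (.node (.leaf 0x1014) (.leaf 0)))))) (.node (.node (.node (.node (.node (.leaf 0x3)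 (.leaf 0xd)) (.node (.leaf 0x14) (.leaf 0))) (.node (.node (.leaf 0xc) (.leaf 0x101c)) (.node (.leaf 0x19) (.leaf 0)))) (.node (.node (.node (.leaf 0x1007) (.leaf 0x1009)) (.node (.leaf 0x1013) (.leaf 0))) (.node (.node (.leaf 0x11) (.leaf 0)) (.node (.leaf 0x1015) (.leaf 0))))) (.node (.node (.node (.node (.leaf 0x4) (.leaf 0x101a)) (.node (.leaf 0x1007) (.leaf 0))) (.node (.node (.leaf 0x1003) (.leaf 0x100c)) (.node (.leaf 0xa) (.leaf 0)))) (.node (.node (.node (.leaf 0x8) (.leaf 0x1c)) (.node (.leaf 0x1011) (.leaf 0))) (.node (.node (.leaf 0x12) (.leaf 0)) (.node (.leaf 0x1012) (.leaf 0))))))) (.node (.node (.node (.node (.node (.node (.leaf 0x2) (.leaf 0x16)) (.node (.leaf 0x100b) (.leaf 0))) (.node (.node (.leaf 0xb) (.leaf 0x17)) (.node (.leaf 0x8) (.leaf 0)))) (.node (.node (.node (.leaf 0x7) (.leaf 0xe)) (.node (.leaf 0x17) (.leaf 0))) (.node (.node (.leaf 0x10) (.leaf 0x100f)) (.node (.leaf 0x100e) (.leaf 0))))) (.node (.node (.node (.node (.leaf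 0x5) (.leaf 0x1b)) (.node (.leaf 0x16) (.leaf 0))) (.node (.node (.leaf 0x3) (.leaf 0x101b)) (.node (.leaf 0x1000) (.leaf 0)))) (.node (.node (.node (.leaf 0x1) (.leaf 0x101b)) (.node (.leaf 0x8) (.leaf 0))) (.node (.node (.leaf 0x10) (.leaf 0)) (.node (.leaf 0xb) (.leaf 0)))))) (.node (.node (.node (.node (.node (.leaf 0x0) (.leaf 0xc)) (.node (.leaf 0x15) (.leaf 0))) (.node (.node (.leaf 0xd) (.leaf 0x18)) (.node (.leaf 0x1010) (.leaf 0)))) (.node (.node (.node (.leaf 0x1004) (.leaf 0x1d)) (.node (.leaf 0x18) (.leaf 0))) (.node (.node (.leaf 0x5) (.leaf 0)) (.node (.leaf 0x1a) (.leaf 0))))) (.node (.node (.node (.node (.leaf 0x0) (.leaf 0x1c)) (.node (.leaf 0x16) (.leaf 0))) (.node (.node (.leaf 0xd) (.leaf 0x19)) (.node (.leaf 0x9) (.leaf 0)))) (.node (.node (.node (.leaf 0x9) (.leaf 0x1017)) (.node (.leaf 0xa) (.leaf 0))) (.node (.node (.leaf 0x5) (.leaf 0)) (.node (.leaf 0x18) (.leaf 0))))))))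

/-- closing hints -/
def tau42L1close : Trie :=
  tau42L1close0

/-- a level -/
def tau42L1 : SLev := ⟨6, [0x2290c30c2cb, 0x51369a8642cb65b, 0x8a485b321861], tau42L1tree, tau42L1word, 30, tau42L1close, [(19, 1)]⟩

/-- part of a tree -/
def tau42L2tree0 : Trie :=
  (.node (.leaf 0x0) (.leaf 0x0))

/-- a tree -/
def tau42L2tree : Trie :=
  tau42L2tree0

/-- part of transversal words -/
def tau42L2word0 : Trie :=
  (.node (.leaf 0x0) (.leaf 0x9a9136cb661))

/-- transversal words -/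
def tau42L2word : Trie :=
  tau42L2word0

/-- part of closing hints -/
def tau42L2close0 : Trie :=
  (.node (.leaf 0x1) (.leaf 0x0))

/-- closing hints -/
def tau42L2close : Trie :=
  tau42L2close0

/-- a level -/
def tau42L2 : SLev := ⟨8, [0x9a9136cb661], tau42L2tree, tau42L2word, 2, tau42L2close, []⟩

/-- a chain -/
def tau42 : List SLev := [tau42L0, tau42L1, tau42L2]

/-- a representative -/
def r42 : RepD := ⟨4, 0x54e96cb, 3, 0x58ac89baec85b74c, 12, tau42, [0x14003, 0x12003, 0x1003012000], [0x2005000005, 0x100100400f005, 0x1004001003000]⟩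

/-- part of a tree -/
def tau43L0tree0 : Trie :=
  (.node (.leaf 0x0) (.leaf 0x100000))

/-- a tree -/
def tau43L0tree : Trie :=
  tau43L0tree0

/-- part of transversal words -/
def tau43L0word0 : Trie :=
  (.node (.leaf 0x0) (.leaf 0x114b21759859))

/-- transversal words -/
def tau43L0word : Trie :=
  tau43L0word0

/-- part of closing hints -/
def tau43L0close0 : Trie :=
  (.node (.node (.leaf 0x14000) (.leaf 0x2001)) (.node (.leaf 0x1) (.leaf 0x1000)))

/-- closing hints -/
def tau43L0close : Trie :=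
  tau43L0close0

/-- a level -/
def tau43L0 : SLev := ⟨0, [0x69a6d485b659, 0x114b21759859], tau43L0tree, tau43L0word, 2, tau43L0close, [(1, 1), (1, 0)]⟩

/-- part of a tree -/
def tau43L1tree0 : Trie :=
  (.node (.node (.node (.node (.node (.leaf 0x0) (.leaf 0xa)) (.node (.leaf 0x100004) (.leaf 0x100010))) (.node (.node (.leaf 0x2) (.leaf 0x10000c)) (.node (.leaf 0x100007) (.leaf 0x17)))) (.node (.node (.node (.leaf 0x100000) (.leaf 0x10000b)) (.node (.leaf 0x100005) (.leaf 0x100013))) (.node (.node (.leaf 0x3) (.leaf 0xe)) (.node (.leaf 0x100008) (.leaf 0))))) (.node (.node (.node (.node (.leaf 0x0) (.leaf 0x10000a)) (.node (.leaf 0x5) (.leaf 0x12))) (.node (.node (.leaf 0x100002) (.leaf 0x10000d)) (.node (.leaf 0x8) (.leaf 0x18)))) (.node (.node (.node (.leaf 0x100001) (.leaf 0xc)) (.node (.leaf 0x7) (.leaf 0x14))) (.node (.node (.leaf 0x100003) (.leaf 0x10000e)) (.node (.leaf 0x100009) (.leaf 0))))))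

/-- a tree -/
def tau43L1tree : Trie :=
  tau43L1tree0

/-- part of transversal words -/
def tau43L1word0 : Trie :=
  (.node (.node (.node (.node (.node (.leaf 0x0) (.leaf 0x28a29136596d96cc)) (.node (.leaf 0x5145226cb65b30b) (.leaf 0x36a4514914859861))) (.node (.node (.leaf 0x51491366430c) (.leaf 0x69a6d485b659)) (.node (.leaf 0x4da8a16d96cb) (.leaf 0xa4b132eb75bb0b)))) (.node (.node (.node (.leaf 0x8a4522914861659) (.leaf 0x4d491430b6cb)) (.node (.leaf 0xd455badd6e965b) (.leaf 0x9a95badd659964))) (.node (.node (.leaf 0x8a45134cc32190c) (.leaf 0x216642cc)) (.node (.leaf 0x8a485965b661) (.leaf 0))))) (.node (.node (.node (.node (.leaf 0x269d753b2caec) (.leaf 0x51451486432190c)) (.node (.leaf 0x8a42db2cb321) (.leaf 0x8a269b6642d9))) (.node (.node (.leaf 0x1228ac964b252cc) (.leaf 0x269a8acaebb252eb)) (.node (.leaf 0x228596cb2cb) (.leaf 0x1a6cb2cb30c)))) (.node (.node (.node (.leaf 0x2290b30c2d9) (.leaf 0x5148a452190c30c)) (.node (.leaf 0x69a8a452190c861)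 (.leaf 0x69b4da6a18596cb))) (.node (.node (.leaf 0x29226d34d986430b) (.leaf 0x4d32cb659861)) (.node (.leaf 0x1985b30b) (.leaf 0))))))

/-- transversal words -/
def tau43L1word : Trie :=
  tau43L1word0

/-- part of closing hints -/
def tau43L1close0 : Trie :=
  (.node (.node (.node (.node (.node (.node (.leaf 0x1) (.leaf 0xa)) (.node (.leaf 0xd) (.leaf 0x1d))) (.node (.node (.leaf 0x2) (.leaf 0x1b)) (.node (.leaf 0x13) (.leaf 0x17)))) (.node (.node (.node (.leaf 0x4) (.leaf 0x19)) (.node (.leaf 0x10) (.leaf 0x101a))) (.node (.node (.leaf 0x3) (.leaf 0xe)) (.node (.leaf 0x16) (.leaf 0))))) (.node (.node (.node (.node (.leaf 0x0) (.leaf 0x100f)) (.node (.leaf 0x5) (.leaf 0x12))) (.node (.node (.leaf 0x9) (.leaf 0x1015)) (.node (.leaf 0x8) (.leaf 0x18)))) (.node (.node (.node (.leaf 0x6) (.leaf 0xc)) (.node (.leaf 0x7) (.leaf 0x14))) (.node (.node (.leaf 0xb) (.leaf 0x1c)) (.node (.leaf 0x1011) (.leaf 0)))))) (.node (.node (.node (.node (.node (.leaf 0x2) (.leaf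 0x18)) (.node (.leaf 0xe) (.leaf 0x1c))) (.node (.node (.leaf 0x8) (.leaf 0x1)) (.node (.leaf 0x14) (.leaf 0xb)))) (.node (.node (.node (.leaf 0x5) (.leaf 0x10)) (.node (.leaf 0x11) (.leaf 0x1016))) (.node (.node (.leaf 0x1004) (.leaf 0x1009)) (.node (.leaf 0x17) (.leaf 0))))) (.node (.node (.node (.node (.leaf 0x3) (.leaf 0x0)) (.node (.leaf 0xf) (.leaf 0x101d))) (.node (.node (.leaf 0xa) (.leaf 0x101b)) (.node (.leaf 0x15) (.leaf 0x100d)))) (.node (.node (.node (.leaf 0x7) (.leaf 0x1a)) (.node (.leaf 0x12) (.leaf 0x1019))) (.node (.node (.leaf 0xc) (.leaf 0x1006)) (.node (.leaf 0x13) (.leaf 0)))))))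

/-- closing hints -/
def tau43L1close : Trie :=
  tau43L1close0

/-- a level -/
def tau43L1 : SLev := ⟨6, [0x269d753b2caec, 0x8a4522914861659], tau43L1tree, tau43L1word, 30, tau43L1close, [(26, 0)]⟩

/-- part of a tree -/
def tau43L2tree0 : Trie :=
  (.node (.leaf 0x0) (.leaf 0x0))

/-- a tree -/
def tau43L2tree : Trie :=
  tau43L2tree0

/-- part of transversal words -/
def tau43L2word0 : Trie :=
  (.node (.leaf 0x0) (.leaf 0x1452289a66190c30c))

/-- transversal words -/
def tau43L2word : Trie :=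
  tau43L2word0

/-- part of closing hints -/
def tau43L2close0 : Trie :=
  (.node (.leaf 0x1) (.leaf 0x0))

/-- closing hints -/
def tau43L2close : Trie :=
  tau43L2close0

/-- a level -/
def tau43L2 : SLev := ⟨8, [0x1452289a66190c30c], tau43L2tree, tau43L2word, 2, tau43L2close, []⟩

/-- a chain -/
def tau43 : List SLev := [tau43L0, tau43L1, tau43L2]

/-- a representative -/
def r43 : RepD := ⟨4, 0xb2990c, 6, 0x1592c9148a585d6eb, 12, tau43, [0x4000, 0x1b003], [0x1011000, 0x100f001]⟩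

/-- part of a tree -/
def tau44L0tree0 : Trie :=
  (.node (.leaf 0x0) (.leaf 0x0))

/-- a tree -/
def tau44L0tree : Trie :=
  tau44L0tree0

/-- part of transversal words -/
def tau44L0word0 : Trie :=
  (.node (.leaf 0x0) (.leaf 0x114b0cb0c2cb))

/-- transversal words -/
def tau44L0word : Trie :=
  tau44L0word0

/-- part of closing hints -/
def tau44L0close0 : Trie :=
  (.node (.node (.leaf 0x1) (.leaf 0x1000)) (.node (.leaf 0x16000) (.leaf 0x2001)))

/-- closing hints -/
def tau44L0close : Trie :=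
  tau44L0close0

/-- a level -/
def tau44L0 : SLev := ⟨0, [0x114b0cb0c2cb, 0x8a485b321861], tau44L0tree, tau44L0word, 2, tau44L0close, [(1, 0), (1, 1)]⟩

/-- part of a tree -/
def tau44L1tree0 : Trie :=
  (.node (.node (.node (.node (.node (.leaf 0x0) (.leaf 0xa)) (.node (.leaf 0x100004) (.leaf 0x100013))) (.node (.node (.leaf 0x2) (.leaf 0xe)) (.node (.leaf 0x100007) (.leaf 0x100017)))) (.node (.node (.node (.leaf 0x100000) (.leaf 0xb)) (.node (.leaf 0x100005) (.leaf 0x100015))) (.node (.node (.leaf 0x3) (.leaf 0x11)) (.node (.leaf 0x100008) (.leaf 0))))) (.node (.node (.node (.node (.leaf 0x0) (.leaf 0x10000a)) (.node (.leaf 0x5) (.leaf 0x100014))) (.node (.node (.leaf 0x100002) (.leaf 0xf)) (.node (.leaf 0x8) (.leaf 0x18)))) (.node (.node (.node (.leaf 0x100001) (.leaf 0xc)) (.node (.leaf 0x100006) (.leaf 0x100016))) (.node (.node (.leaf 0x100003) (.leaf 0x100012)) (.node (.leaf 0x100009) (.leaf 0))))))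

/-- a tree -/
def tau44L1tree : Trie :=
  tau44L1tree0

/-- part of transversal words -/
def tau44L1word0 : Trie :=
  (.node (.node (.node (.node (.node (.leaf 0x0) (.leaf 0x69a89b65b321)) (.node (.leaf 0x216642cc) (.leaf 0x1432186190c))) (.node (.node (.leaf 0x4d351486432190c) (.leaf 0x69b2db30c2d9)) (.node (.leaf 0x289b5244cb66430c) (.leaf 0x8a291365b661)))) (.node (.node (.node (.leaf 0x48a28a48a190c2d9) (.leaf 0x51352290c85b2cb)) (.node (.leaf 0x244d9859659) (.leaf 0x26abaa4aebb2c))) (.node (.node (.leaf 0x136642cc30c) (.leaf 0x8a485b321861)) (.node (.leaf 0x6d430b6cb659) (.leaf 0))))) (.node (.node (.node (.node (.leaf 0x51369a8642cb65b) (.leaf 0x28a26a42db30c85b)) (.node (.leaf 0x26a29142d965b2db) (.leaf 0x1985b30b))) (.node (.node (.leaf 0x1432166185b) (.leaf 0x5149132cb6cc)) (.node (.leaf 0x113564b25929864) (.leaf 0x69b4d450b2d96cb)))) (.node (.node (.node (.leaf 0x4d34d990b6cb) (.leaf 0x34d44da6d965b321)) (.node (.leaf 0x51430c861659) (.leaf 0x134d34da6618596cb)))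 (.node (.node (.leaf 0x4da9136cb30c) (.leaf 0x5142cb659659)) (.node (.leaf 0x5226996d990c) (.leaf 0))))))

/-- transversal words -/
def tau44L1word : Trie :=
  tau44L1word0

/-- part of closing hints -/
def tau44L1close0 : Trie :=
  (.node (.node (.node (.node (.node (.node (.leaf 0x1) (.leaf 0xa)) (.node (.leaf 0xd) (.leaf 0x1d))) (.node (.node (.leaf 0x2) (.leaf 0xe)) (.node (.leaf 0x13) (.leaf 0x101b)))) (.node (.node (.node (.leaf 0x4) (.leaf 0xb)) (.node (.leaf 0x10) (.leaf 0x101a))) (.node (.node (.leaf 0x3) (.leaf 0x11)) (.node (.leaf 0x14) (.leaf 0))))) (.node (.node (.node (.node (.leaf 0x0) (.leaf 0x16)) (.node (.leaf 0x5) (.leaf 0x17))) (.node (.node (.leaf 0x9) (.leaf 0xf)) (.node (.leaf 0x8) (.leaf 0x18)))) (.node (.node (.node (.leaf 0x6) (.leaf 0xc)) (.node (.leaf 0x12) (.leaf 0x101c))) (.node (.node (.leaf 0x1007) (.leaf 0x19)) (.node (.leaf 0x15) (.leaf 0)))))) (.node (.node (.node (.node (.node (.leaf 0x2) (.leaf 0x1001)) (.node (.leaf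 0xe) (.leaf 0x100d))) (.node (.node (.leaf 0x8) (.leaf 0x19)) (.node (.leaf 0x1010) (.leaf 0x15)))) (.node (.node (.node (.leaf 0x5) (.leaf 0x17)) (.node (.leaf 0x11) (.leaf 0x12))) (.node (.node (.leaf 0xb) (.leaf 0x1b)) (.node (.leaf 0x1006) (.leaf 0))))) (.node (.node (.node (.node (.leaf 0x3) (.leaf 0x0)) (.node (.leaf 0xf) (.leaf 0x16))) (.node (.node (.leaf 0xa) (.leaf 0x1a)) (.node (.leaf 0x1009) (.leaf 0x14)))) (.node (.node (.node (.leaf 0x7) (.leaf 0x18)) (.node (.leaf 0x1004) (.leaf 0x1d))) (.node (.node (.leaf 0xc) (.leaf 0x1c)) (.node (.leaf 0x13) (.leaf 0)))))))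

/-- closing hints -/
def tau44L1close : Trie :=
  tau44L1close0

/-- a level -/
def tau44L1 : SLev := ⟨6, [0x51369a8642cb65b, 0x48a28a48a190c2d9], tau44L1tree, tau44L1word, 30, tau44L1close, [(14, 1)]⟩

/-- part of a tree -/
def tau44L2tree0 : Trie :=
  (.node (.leaf 0x0) (.leaf 0x0))

/-- a tree -/
def tau44L2tree : Trie :=
  tau44L2tree0

/-- part of transversal words -/
def tau44L2word0 : Trie :=
  (.node (.leaf 0x0) (.leaf 0x9a9136cb661))

/-- transversal words -/
def tau44L2word : Trie :=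
  tau44L2word0

/-- part of closing hints -/
def tau44L2close0 : Trie :=
  (.node (.leaf 0x1) (.leaf 0x0))

/-- closing hints -/
def tau44L2close : Trie :=
  tau44L2close0

/-- a level -/
def tau44L2 : SLev := ⟨8, [0x9a9136cb661], tau44L2tree, tau44L2word, 2, tau44L2close, []⟩

/-- a chain -/
def tau44 : List SLev := [tau44L0, tau44L1, tau44L2]

/-- a representative -/
def r44 : RepD := ⟨4, 0x52db30c, 4, 0x54db30c, 12, tau44, [0x14003, 0x1003012000], [0x14003, 0x1003012000]⟩

/-- part of a tree -/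
def tau45L0tree0 : Trie :=
  (.node (.leaf 0x0) (.leaf 0x0))

/-- a tree -/
def tau45L0tree : Trie :=
  tau45L0tree0

/-- part of transversal words -/
def tau45L0word0 : Trie :=
  (.node (.leaf 0x0) (.leaf 0xa26eb6ec859))

/-- transversal words -/
def tau45L0word : Trie :=
  tau45L0word0

/-- part of closing hints -/
def tau45L0close0 : Trie :=
  (.node (.node (.node (.leaf 0x1) (.leaf 0x0)) (.node (.leaf 0x3001) (.leaf 0x3000))) (.node (.node (.leaf 0x4001) (.leaf 0x1000)) (.node (.leaf 0x2001) (.leaf 0x8000))))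

/-- closing hints -/
def tau45L0close : Trie :=
  tau45L0close0

/-- a level -/
def tau45L0 : SLev := ⟨0, [0xa26eb6ec859, 0x1376275a75995b, 0x4eb32c2eb32c, 0x35256dd6cc], tau45L0tree, tau45L0word, 2, tau45L0close, [(1, 1), (0, 3), (0, 2)]⟩

/-- part of a tree -/
def tau45L1tree0 : Trie :=
  (.node (.node (.node (.node (.node (.leaf 0x0) (.leaf 0x200007)) (.node (.leaf 0x100002) (.leaf 0x10000e))) (.node (.node (.leaf 0x1) (.leaf 0xb)) (.node (.leaf 0x5) (.leaf 0x100016)))) (.node (.node (.node (.leaf 0x100000) (.leaf 0x100009)) (.node (.leaf 0x3) (.leaf 0x20000f))) (.node (.node (.leaf 0x200001) (.leaf 0x20000c)) (.node (.leaf 0x200005) (.leaf 0))))) (.node (.node (.node (.node (.leaf 0x0) (.leaf 0x9)) (.node (.leaf 0x200002) (.leaf 0xf))) (.node (.node (.leaf 0x100001) (.leaf 0x10000b)) (.node (.leaf 0x100005) (.leaf 0x100018)))) (.node (.node (.node (.leaf 0x200000) (.leaf 0x10000a)) (.node (.leaf 0x100004) (.leaf 0x100011))) (.node (.node (.leaf 0x2)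 (.leaf 0xe)) (.node (.leaf 0x100006) (.leaf 0))))))

/-- a tree -/
def tau45L1tree : Trie :=
  tau45L1tree0

/-- part of transversal words -/
def tau45L1word0 : Trie :=
  (.node (.node (.node (.node (.node (.leaf 0x0) (.leaf 0xda6ab75badd30b)) (.node (.leaf 0x6a486185b659) (.leaf 0x26a29142d965b2db))) (.node (.node (.leaf 0x6d430b6cb659) (.leaf 0x269a8acaebb252eb)) (.node (.leaf 0x51369a8642cb65b) (.leaf 0x51430c861659)))) (.node (.node (.node (.leaf 0x5149132cb6cc) (.leaf 0x5144cb6cc85b)) (.node (.leaf 0x42d96d990b) (.leaf 0xa2764b2586175b))) (.node (.node (.leaf 0x26abaa4aebb2c) (.leaf 0x28a29136596d96cc)) (.node (.leaf 0x1a6596cb30c) (.leaf 0))))) (.node (.node (.node (.node (.leaf 0x51489b659664) (.leaf 0x4d34d990b6cb)) (.node (.leaf 0x69a89b65b321) (.leaf 0x1a66190c30c))) (.node (.node (.leaf 0x28a26abb2cadd32c) (.leaf 0x5226996d990c)) (.node (.leaf 0x1226d34db30c85b) (.leaf 0x1a6cc2cb321)))) (.node (.node (.node (.leaf 0x28a5954aebb2b) (.leaf 0x26d48a26d990b30c))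 (.node (.leaf 0x2290c30c2cb) (.leaf 0x69b4d450b2d96cb))) (.node (.node (.leaf 0x69b2db30c2d9) (.leaf 0x5148a452190c2cb)) (.node (.leaf 0x28a26a42db30c85b) (.leaf 0))))))

/-- transversal words -/
def tau45L1word : Trie :=
  tau45L1word0

/-- part of closing hints -/
def tau45L1close0 : Trie :=
  (.node (.node (.node (.node (.node (.node (.node (.leaf 0x1) (.leaf 0x4)) (.node (.leaf 0x4) (.leaf 0))) (.node (.node (.leaf 0xd) (.leaf 0xf)) (.node (.leaf 0x9) (.leaf 0)))) (.node (.node (.node (.leaf 0x9) (.leaf 0x101a)) (.node (.leaf 0x1) (.leaf 0))) (.node (.node (.leaf 0xb) (.leaf 0xe)) (.node (.leaf 0x1013) (.leaf 0))))) (.node (.node (.node (.node (.leaf 0x5) (.leaf 0xc)) (.node (.leaf 0x15) (.leaf 0))) (.node (.node (.leaf 0x1) (.leaf 0x101b)) (.node (.leaf 0x1b) (.leaf 0)))) (.node (.node (.node (.leaf 0x0) (.leaf 0x1006)) (.node (.leaf 0x5) (.leaf 0))) (.node (.node (.leaf 0x12) (.leaf 0)) (.node (.leaf 0x8) (.leaf 0)))))) (.node (.node (.node (.node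 (.node (.leaf 0x3) (.leaf 0xe)) (.node (.leaf 0x15) (.leaf 0))) (.node (.node (.leaf 0x3) (.leaf 0x1a)) (.node (.leaf 0x7) (.leaf 0)))) (.node (.node (.node (.leaf 0x100a) (.leaf 0x1019)) (.node (.leaf 0x17) (.leaf 0))) (.node (.node (.leaf 0x100b) (.leaf 0)) (.node (.leaf 0x1003) (.leaf 0))))) (.node (.node (.node (.node (.leaf 0x7) (.leaf 0x1009)) (.node (.leaf 0x16) (.leaf 0))) (.node (.node (.leaf 0xc) (.leaf 0x101c)) (.node (.leaf 0x1018) (.leaf 0)))) (.node (.node (.node (.leaf 0xa) (.leaf 0x12)) (.node (.leaf 0x1019) (.leaf 0))) (.node (.node (.leaf 0x6) (.leaf 0)) (.node (.leaf 0x1014) (.leaf 0))))))) (.node (.node (.node (.node (.node (.node (.leaf 0x2) (.leaf 0x17)) (.node (.leaf 0x14) (.leaf 0))) (.node (.node (.leaf 0xe) (.leaf 0x101d)) (.node (.leaf 0x1016) (.leaf 0)))) (.node (.node (.node (.leaf 0xa) (.leaf 0x1d)) (.node (.leaf 0x11) (.leaf 0))) (.node (.node (.leaf 0x0) (.leaf 0x1b)) (.node (.leaf 0x100f) (.leaf 0))))) (.node (.node (.node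 (.node (.leaf 0x6) (.leaf 0x16)) (.node (.leaf 0x14) (.leaf 0))) (.node (.node (.leaf 0xd) (.leaf 0x1010)) (.node (.leaf 0xd) (.leaf 0)))) (.node (.node (.node (.leaf 0xb) (.leaf 0x1018)) (.node (.leaf 0x19) (.leaf 0))) (.node (.node (.leaf 0x2) (.leaf 0)) (.node (.leaf 0x7) (.leaf 0)))))) (.node (.node (.node (.node (.node (.leaf 0x4) (.leaf 0x1c)) (.node (.leaf 0x1008) (.leaf 0))) (.node (.node (.leaf 0xf) (.leaf 0x1d)) (.node (.leaf 0x10) (.leaf 0)))) (.node (.node (.node (.leaf 0x0) (.leaf 0x1013)) (.node (.leaf 0x18) (.leaf 0))) (.node (.node (.leaf 0x11) (.leaf 0)) (.node (.leaf 0x1012) (.leaf 0))))) (.node (.node (.node (.node (.leaf 0x8) (.leaf 0x15)) (.node (.leaf 0x2) (.leaf 0))) (.node (.node (.leaf 0x10) (.leaf 0x1c)) (.node (.leaf 0x1017) (.leaf 0)))) (.node (.node (.node (.leaf 0xc) (.leaf 0x11)) (.node (.leaf 0x1a) (.leaf 0))) (.node (.node (.leaf 0x13) (.leaf 0)) (.node (.leaf 0x5) (.leaf 0))))))))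

/-- closing hints -/
def tau45L1close : Trie :=
  tau45L1close0

/-- a level -/
def tau45L1 : SLev := ⟨6, [0x51489b659664, 0x5149132cb6cc, 0x28a5954aebb2b], tau45L1tree, tau45L1word, 30, tau45L1close, [(28, 1)]⟩

/-- part of a tree -/
def tau45L2tree0 : Trie :=
  (.node (.leaf 0x0) (.leaf 0x0))

/-- a tree -/
def tau45L2tree : Trie :=
  tau45L2tree0

/-- part of transversal words -/
def tau45L2word0 : Trie :=
  (.node (.leaf 0x0) (.leaf 0x9a9136cb661))

/-- transversal words -/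
def tau45L2word : Trie :=
  tau45L2word0

/-- part of closing hints -/
def tau45L2close0 : Trie :=
  (.node (.leaf 0x1) (.leaf 0x0))

/-- closing hints -/
def tau45L2close : Trie :=
  tau45L2close0

/-- a level -/
def tau45L2 : SLev := ⟨8, [0x9a9136cb661], tau45L2tree, tau45L2word, 2, tau45L2close, []⟩

/-- a chain -/
def tau45 : List SLev := [tau45L0, tau45L1, tau45L2]

/-- a representative -/
def r45 : RepD := ⟨4, 0xadb30c, 6, 0x29659134dd6cc965, 12, tau45, [0x12003, 4099, 0x301a003, 0x4002003], [0x16001, 0xb001, 0x1a001, 0x1c001]⟩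

/-- part of a tree -/
def tau46L0tree0 : Trie :=
  (.node (.node (.node (.node (.node (.leaf 0x0) (.leaf 0x200006)) (.node (.leaf 0x3) (.leaf 0x200011))) (.node (.node (.leaf 0x100001) (.leaf 0x20000c)) (.node (.leaf 0x200004) (.leaf 0)))) (.node (.node (.node (.leaf 0x100000) (.leaf 0x20000a)) (.node (.leaf 0x200003) (.leaf 0))) (.node (.node (.leaf 0x2) (.leaf 0x10)) (.node (.leaf 0x100005) (.leaf 0))))) (.node (.node (.node (.node (.leaf 0x0) (.leaf 0x200007)) (.node (.leaf 0x100003) (.leaf 0))) (.node (.node (.leaf 0x200001) (.leaf 0x20000f)) (.node (.leaf 0x5) (.leaf 0)))) (.node (.node (.node (.leaf 0x200000) (.leaf 0x10000c)) (.node (.leaf 0x4) (.leaf 0))) (.node (.node (.leaf 0x200002) (.leaf 0x200010)) (.node (.leaf 0x200005) (.leaf 0))))))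

/-- a tree -/
def tau46L0tree : Trie :=
  tau46L0tree0

/-- part of transversal words -/
def tau46L0word0 : Trie :=
  (.node (.node (.node (.node (.node (.leaf 0x0) (.leaf 0x89b5136a190c859)) (.node (.leaf 0x229226da85b2d9) (.leaf 0x4d45226cb65b30b))) (.node (.node (.leaf 0x56ebb24b2275b74c) (.leaf 0xd34d4913659661)) (.node (.leaf 0x144d48996cb2cc) (.leaf 0)))) (.node (.node (.node (.leaf 0x489b65b) (.leaf 0x4d34d44d9661859)) (.node (.leaf 0x5134d4521661861) (.leaf 0))) (.node (.node (.leaf 0x35649616eb6ecb25) (.leaf 0x5229144d96596cc)) (.node (.leaf 0x4d49148642cb) (.leaf 0))))) (.node (.node (.node (.node (.leaf 0x1352c8a56cbaebaec) (.leaf 0x1134d45142cc86190c)) (.node (.leaf 0x34d49144d96cc2cb) (.leaf 0))) (.node (.node (.leaf 0x36a48596cb2cb) (.leaf 0x9144d34cc85990b)) (.node (.leaf 0x9a6a450b65b2d9) (.leaf 0)))) (.node (.node (.node (.leaf 0x34d48a48a186430b) (.leaf 0x575a75badd2cb6e9)) (.node (.leaf 0xab76275baccb29) (.leaf 0))) (.node (.node (.leaf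 0x15b513add914959) (.leaf 0x26d452290c86430b)) (.node (.leaf 0x4da8a265b664321) (.leaf 0))))))

/-- transversal words -/
def tau46L0word : Trie :=
  tau46L0word0

/-- part of closing hints -/
def tau46L0close0 : Trie :=
  (.node (.node (.node (.node (.node (.node (.node (.leaf 0x1) (.leaf 0x4015)) (.node (.leaf 0x12) (.leaf 0))) (.node (.node (.leaf 0xe) (.leaf 0)) (.node (.leaf 0x16) (.leaf 0)))) (.node (.node (.node (.leaf 0x7) (.leaf 0x1018)) (.node (.leaf 0x1006) (.leaf 0))) (.node (.node (.leaf 0x3) (.leaf 0)) (.node (.leaf 0x100100e) (.leaf 0))))) (.node (.node (.node (.node (.leaf 0x4) (.leaf 0x1001001)) (.node (.leaf 0x4012) (.leaf 0))) (.node (.node (.leaf 0x10) (.leaf 0)) (.node (.leaf 0x1003016) (.leaf 0)))) (.node (.node (.node (.leaf 0xb) (.leaf 0)) (.node (.leaf 0x1004000) (.leaf 0))) (.node (.node (.leaf 0x3) (.leaf 0)) (.node (.leaf 0x1000014) (.leaf 0)))))) (.node (.node (.node (.node (.node (.leaf 0x3) (.leaf 0x10)) (.node (.leaf 0x4007)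 (.leaf 0))) (.node (.node (.leaf 0x2) (.leaf 0)) (.node (.leaf 0x17) (.leaf 0)))) (.node (.node (.node (.leaf 0x9) (.leaf 0x1001013)) (.node (.leaf 0x1002007) (.leaf 0))) (.node (.node (.leaf 0x100100b) (.leaf 0)) (.node (.leaf 0xc) (.leaf 0))))) (.node (.node (.node (.node (.leaf 0x6) (.leaf 0x1000017)) (.node (.leaf 0x14) (.leaf 0))) (.node (.node (.leaf 0x400b) (.leaf 0)) (.node (.leaf 0x400c) (.leaf 0)))) (.node (.node (.node (.leaf 0xc) (.leaf 0)) (.node (.leaf 0x4008) (.leaf 0))) (.node (.node (.leaf 0x200a) (.leaf 0)) (.node (.leaf 0x2009) (.leaf 0))))))) (.node (.node (.node (.node (.node (.node (.leaf 0x2) (.leaf 0x1004016)) (.node (.leaf 0x4) (.leaf 0))) (.node (.node (.leaf 0xf) (.leaf 0)) (.node (.leaf 0x1012) (.leaf 0)))) (.node (.node (.node (.leaf 0x8) (.leaf 0x1003018)) (.node (.leaf 0x1001004) (.leaf 0))) (.node (.node (.leaf 0x400f) (.leaf 0)) (.node (.leaf 0x200f) (.leaf 0))))) (.node (.node (.node (.node (.leaf 0x5) (.leaf 0x1017)) (.node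 (.leaf 0x13) (.leaf 0))) (.node (.node (.leaf 0x300e) (.leaf 0)) (.node (.leaf 0x18) (.leaf 0)))) (.node (.node (.node (.leaf 0x1) (.leaf 0)) (.node (.leaf 0x2013) (.leaf 0))) (.node (.node (.leaf 0x100300d) (.leaf 0)) (.node (.leaf 0x4014) (.leaf 0)))))) (.node (.node (.node (.node (.node (.leaf 0x0) (.leaf 0x1003011)) (.node (.leaf 0x2006) (.leaf 0))) (.node (.node (.leaf 0x100d) (.leaf 0)) (.node (.leaf 0x1009) (.leaf 0)))) (.node (.node (.node (.leaf 0xa) (.leaf 0)) (.node (.leaf 0x5) (.leaf 0))) (.node (.node (.leaf 0x1011) (.leaf 0)) (.node (.leaf 0x1004002) (.leaf 0))))) (.node (.node (.node (.node (.leaf 0x0) (.leaf 0x1003008)) (.node (.leaf 0x5) (.leaf 0))) (.node (.node (.leaf 0x11) (.leaf 0)) (.node (.leaf 0x1010) (.leaf 0)))) (.node (.node (.node (.leaf 0xd) (.leaf 0)) (.node (.leaf 0x15) (.leaf 0))) (.node (.node (.leaf 0x100300a) (.leaf 0)) (.node (.leaf 0x2015) (.leaf 0))))))))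

/-- closing hints -/
def tau46L0close : Trie :=
  tau46L0close0

/-- a level -/
def tau46L0 : SLev := ⟨4, [0x1352c8a56cbaebaec, 0x489b65b, 0x34d48a48a186430b], tau46L0tree, tau46L0word, 25, tau46L0close, [(17, 0), (10, 0)]⟩

/-- part of a tree -/
def tau46L1tree0 : Trie :=
  (.node (.node (.node (.leaf 0x0) (.leaf 0x3)) (.node (.leaf 0x100000) (.leaf 0))) (.node (.node (.leaf 0x0) (.leaf 0)) (.node (.leaf 0x100001) (.leaf 0))))

/-- a tree -/
def tau46L1tree : Trie :=
  tau46L1tree0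

/-- part of transversal words -/
def tau46L1word0 : Trie :=
  (.node (.node (.node (.leaf 0x0) (.leaf 0x26596d9861)) (.node (.leaf 0x1330b6596cc) (.leaf 0))) (.node (.node (.leaf 0x8a44d34cc321864) (.leaf 0)) (.node (.leaf 0x89a6a285b6596cc) (.leaf 0))))

/-- transversal words -/
def tau46L1word : Trie :=
  tau46L1word0

/-- part of closing hints -/
def tau46L1close0 : Trie :=
  (.node (.node (.node (.node (.leaf 0x1) (.leaf 0x3)) (.node (.leaf 0x1002) (.leaf 0))) (.node (.node (.leaf 0x0) (.leaf 0)) (.node (.leaf 0x4) (.leaf 0)))) (.node (.node (.node (.leaf 0x2) (.leaf 0x1004)) (.node (.leaf 0x0) (.leaf 0))) (.node (.node (.leaf 0x3) (.leaf 0)) (.node (.leaf 0x1) (.leaf 0)))))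

/-- closing hints -/
def tau46L1close : Trie :=
  tau46L1close0

/-- a level -/
def tau46L1 : SLev := ⟨6, [0x8a44d34cc321864, 0x1330b6596cc], tau46L1tree, tau46L1word, 5, tau46L1close, [(2, 0)]⟩

/-- part of a tree -/
def tau46L2tree0 : Trie :=
  (.node (.leaf 0x0) (.leaf 0x0))

/-- a tree -/
def tau46L2tree : Trie :=
  tau46L2tree0

/-- part of transversal words -/
def tau46L2word0 : Trie :=
  (.node (.leaf 0x0) (.leaf 0x5132cc30b2cc))

/-- transversal words -/
def tau46L2word : Trie :=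
  tau46L2word0

/-- part of closing hints -/
def tau46L2close0 : Trie :=
  (.node (.leaf 0x1) (.leaf 0x0))

/-- closing hints -/
def tau46L2close : Trie :=
  tau46L2close0

/-- a level -/
def tau46L2 : SLev := ⟨9, [0x5132cc30b2cc], tau46L2tree, tau46L2word, 2, tau46L2close, []⟩

/-- a chain -/
def tau46 : List SLev := [tau46L0, tau46L1, tau46L2]

/-- a representative -/
def r46 : RepD := ⟨5, 0, 5, 0x14ada6ec94c964, 2, tau46, [0x3000, 0x100b000, 4096], [0x3000, 0x2008000, 0x100400f000]⟩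

/-- part of a tree -/
def tau47L0tree0 : Trie :=
  (.node (.node (.node (.node (.node (.leaf 0x0) (.leaf 0x200006)) (.node (.leaf 0x3) (.leaf 0x200011))) (.node (.node (.leaf 0x100001) (.leaf 0x20000c)) (.node (.leaf 0x200004) (.leaf 0)))) (.node (.node (.node (.leaf 0x100000) (.leaf 0x20000a)) (.node (.leaf 0x200003) (.leaf 0))) (.node (.node (.leaf 0x2) (.leaf 0x10)) (.node (.leaf 0x100005) (.leaf 0))))) (.node (.node (.node (.node (.leaf 0x0) (.leaf 0x200007)) (.node (.leaf 0x100003) (.leaf 0))) (.node (.node (.leaf 0x200001) (.leaf 0x20000f)) (.node (.leaf 0x5) (.leaf 0)))) (.node (.node (.node (.leaf 0x200000) (.leaf 0x10000c)) (.node (.leaf 0x4) (.leaf 0))) (.node (.node (.leaf 0x200002) (.leaf 0x200010)) (.node (.leaf 0x200005) (.leaf 0))))))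

/-- a tree -/
def tau47L0tree : Trie :=
  tau47L0tree0

/-- part of transversal words -/
def tau47L0word0 : Trie :=
  (.node (.node (.node (.node (.node (.leaf 0x0) (.leaf 0x144d48996cb2cc)) (.node (.leaf 0x34d49144d96cc2cb) (.leaf 0x9144d34cc85990b))) (.node (.node (.leaf 0x35649616eb6ecb25) (.leaf 0x26d452290c86430b)) (.node (.leaf 0x89b5136a190c859) (.leaf 0)))) (.node (.node (.node (.leaf 0x1352c8a56cbaebaec) (.leaf 0x4d34d44d9661859)) (.node (.leaf 0x5134d4521661861) (.leaf 0))) (.node (.node (.leaf 0x56ebb24b2275b74c) (.leaf 0x575a75badd2cb6e9)) (.node (.leaf 0x2452291366190c) (.leaf 0))))) (.node (.node (.node (.node (.leaf 0x489b65b) (.leaf 0x4da8a265b664321)) (.node (.leaf 0x229226da85b2d9) (.leaf 0))) (.node (.node (.leaf 0x15b513add914959) (.leaf 0x4d45226cb65b30b)) (.node (.leaf 0x69a6d352186165b) (.leaf 0)))) (.node (.node (.node (.leaf 0x34d48a48a186430b) (.leaf 0x5229144d96596cc)) (.node (.leaf 0x1648a289d6ebadd8a5) (.leaf 0))) (.node (.node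 (.leaf 0x36a48596cb2cb) (.leaf 0xd34d4913659661)) (.node (.leaf 0x1134d45142cc86190c) (.leaf 0))))))

/-- transversal words -/
def tau47L0word : Trie :=
  tau47L0word0

/-- part of closing hints -/
def tau47L0close0 : Trie :=
  (.node (.node (.node (.node (.node (.node (.node (.leaf 0x1) (.leaf 0x4015)) (.node (.leaf 0x12) (.leaf 0))) (.node (.node (.leaf 0xe) (.leaf 0)) (.node (.leaf 0x16) (.leaf 0)))) (.node (.node (.node (.leaf 0x7) (.leaf 0x1001018)) (.node (.leaf 0x1001006) (.leaf 0))) (.node (.node (.leaf 0x3) (.leaf 0)) (.node (.leaf 0x100e) (.leaf 0))))) (.node (.node (.node (.node (.leaf 0x4) (.leaf 0x1001)) (.node (.leaf 0x4012) (.leaf 0))) (.node (.node (.leaf 0x10) (.leaf 0)) (.node (.leaf 0x2016) (.leaf 0)))) (.node (.node (.node (.leaf 0xb) (.leaf 0)) (.node (.leaf 0x1004000) (.leaf 0))) (.node (.node (.leaf 0x3) (.leaf 0)) (.node (.leaf 0x1000014) (.leaf 0)))))) (.node (.node (.node (.node (.node (.leaf 0x3) (.leaf 0x10)) (.node (.leaf 0x4007)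 (.leaf 0))) (.node (.node (.leaf 0x2) (.leaf 0)) (.node (.leaf 0x17) (.leaf 0)))) (.node (.node (.node (.leaf 0x9) (.leaf 0x1013)) (.node (.leaf 0x1003007) (.leaf 0))) (.node (.node (.leaf 0x100b) (.leaf 0)) (.node (.leaf 0xc) (.leaf 0))))) (.node (.node (.node (.node (.leaf 0x6) (.leaf 0x1000017)) (.node (.leaf 0x14) (.leaf 0))) (.node (.node (.leaf 0x400b) (.leaf 0)) (.node (.leaf 0x400c) (.leaf 0)))) (.node (.node (.node (.leaf 0xc) (.leaf 0)) (.node (.leaf 0x4008) (.leaf 0))) (.node (.node (.leaf 0x300a) (.leaf 0)) (.node (.leaf 0x3009) (.leaf 0))))))) (.node (.node (.node (.node (.node (.node (.leaf 0x2) (.leaf 0x1004016)) (.node (.leaf 0x4) (.leaf 0))) (.node (.node (.leaf 0xf) (.leaf 0)) (.node (.leaf 0x1001012) (.leaf 0)))) (.node (.node (.node (.leaf 0x8) (.leaf 0x2018)) (.node (.leaf 0x1004) (.leaf 0))) (.node (.node (.leaf 0x400f) (.leaf 0)) (.node (.leaf 0x300f) (.leaf 0))))) (.node (.node (.node (.node (.leaf 0x5) (.leaf 0x1001017)) (.node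 (.leaf 0x13) (.leaf 0))) (.node (.node (.leaf 0x100200e) (.leaf 0)) (.node (.leaf 0x18) (.leaf 0)))) (.node (.node (.node (.leaf 0x1) (.leaf 0)) (.node (.leaf 0x3013) (.leaf 0))) (.node (.node (.leaf 0x200d) (.leaf 0)) (.node (.leaf 0x4014) (.leaf 0)))))) (.node (.node (.node (.node (.node (.leaf 0x0) (.leaf 0x2011)) (.node (.leaf 0x3006) (.leaf 0))) (.node (.node (.leaf 0x100100d) (.leaf 0)) (.node (.leaf 0x1001009) (.leaf 0)))) (.node (.node (.node (.leaf 0xa) (.leaf 0)) (.node (.leaf 0x5) (.leaf 0))) (.node (.node (.leaf 0x1001011) (.leaf 0)) (.node (.leaf 0x1004002) (.leaf 0))))) (.node (.node (.node (.node (.leaf 0x0) (.leaf 0x2008)) (.node (.leaf 0x5) (.leaf 0))) (.node (.node (.leaf 0x11) (.leaf 0)) (.node (.leaf 0x1001010) (.leaf 0)))) (.node (.node (.node (.leaf 0xd) (.leaf 0)) (.node (.leaf 0x15) (.leaf 0))) (.node (.node (.leaf 0x200a) (.leaf 0)) (.node (.leaf 0x3015) (.leaf 0))))))))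

/-- closing hints -/
def tau47L0close : Trie :=
  tau47L0close0

/-- a level -/
def tau47L0 : SLev := ⟨4, [0x489b65b, 0x1352c8a56cbaebaec, 0x34d48a48a186430b], tau47L0tree, tau47L0word, 25, tau47L0close, [(22, 2), (23, 2)]⟩

/-- part of a tree -/
def tau47L1tree0 : Trie :=
  (.node (.node (.node (.leaf 0x0) (.leaf 0x3)) (.node (.leaf 0x100000) (.leaf 0))) (.node (.node (.leaf 0x0) (.leaf 0)) (.node (.leaf 0x2) (.leaf 0))))

/-- a tree -/
def tau47L1tree : Trie :=
  tau47L1tree0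

/-- part of transversal words -/
def tau47L1word0 : Trie :=
  (.node (.node (.node (.leaf 0x0) (.leaf 0x8a44d34cc321864)) (.node (.leaf 0x1330b6596cc) (.leaf 0))) (.node (.node (.leaf 0x8a485b2cc859) (.leaf 0)) (.node (.leaf 0x44d369b66430b) (.leaf 0))))

/-- transversal words -/
def tau47L1word : Trie :=
  tau47L1word0

/-- part of closing hints -/
def tau47L1close0 : Trie :=
  (.node (.node (.node (.node (.leaf 0x1) (.leaf 0x1000)) (.node (.leaf 0x3) (.leaf 0))) (.node (.node (.leaf 0x1002) (.leaf 0)) (.node (.leaf 0x4) (.leaf 0)))) (.node (.node (.node (.leaf 0x2) (.leaf 0x1003)) (.node (.leaf 0x0) (.leaf 0))) (.node (.node (.leaf 0x1001) (.leaf 0)) (.node (.leaf 0x1004) (.leaf 0)))))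

/-- closing hints -/
def tau47L1close : Trie :=
  tau47L1close0

/-- a level -/
def tau47L1 : SLev := ⟨6, [0x8a485b2cc859, 0x1330b6596cc], tau47L1tree, tau47L1word, 5, tau47L1close, [(3, 1)]⟩

/-- part of a tree -/
def tau47L2tree0 : Trie :=
  (.node (.leaf 0x0) (.leaf 0x0))

/-- a tree -/
def tau47L2tree : Trie :=
  tau47L2tree0

/-- part of transversal words -/
def tau47L2word0 : Trie :=
  (.node (.leaf 0x0) (.leaf 0x5132cc30b2cc))

/-- transversal words -/
def tau47L2word : Trie :=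
  tau47L2word0

/-- part of closing hints -/
def tau47L2close0 : Trie :=
  (.node (.leaf 0x1) (.leaf 0x0))

/-- closing hints -/
def tau47L2close : Trie :=
  tau47L2close0

/-- a level -/
def tau47L2 : SLev := ⟨9, [0x5132cc30b2cc], tau47L2tree, tau47L2word, 2, tau47L2close, []⟩

/-- a chain -/
def tau47 : List SLev := [tau47L0, tau47L1, tau47L2]

/-- a representative -/
def r47 : RepD := ⟨5, 1, 5, 0xa455bb2292b761, 2, tau47, [0x100b000, 0x3000, 4096], [0x11000, 0x3000, 0x1004001000]⟩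

/-- part of a tree -/
def tau48L0tree0 : Trie :=
  (.node (.node (.node (.node (.node (.leaf 0x0) (.leaf 0x100007)) (.node (.leaf 0x200002) (.leaf 0x100012))) (.node (.node (.leaf 0x100001) (.leaf 0x10000c)) (.node (.leaf 0x100004) (.leaf 0)))) (.node (.node (.node (.leaf 0x100000) (.leaf 0x100009)) (.node (.leaf 0x100003) (.leaf 0))) (.node (.node (.leaf 0x2) (.leaf 0x100011)) (.node (.leaf 0x5) (.leaf 0))))) (.node (.node (.node (.node (.leaf 0x0) (.leaf 0x8)) (.node (.leaf 0x3) (.leaf 0))) (.node (.node (.leaf 0x200001) (.leaf 0x10000f)) (.node (.leaf 0x200004) (.leaf 0)))) (.node (.node (.node (.leaf 0x200000) (.leaf 0xc)) (.node (.leaf 0x4) (.leaf 0))) (.node (.node (.leaf 0x100002) (.leaf 0x200011)) (.node (.leaf 0x100005) (.leaf 0))))))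

/-- a tree -/
def tau48L0tree : Trie :=
  tau48L0tree0

/-- part of transversal words -/
def tau48L0word0 : Trie :=
  (.node (.node (.node (.node (.node (.leaf 0x0) (.leaf 0x4d34d44d9661859)) (.node (.leaf 0x34d49144d96cc2cb) (.leaf 0x26d452290c86430b))) (.node (.node (.leaf 0x36a48596cb2cb) (.leaf 0x9144d34cc85990b)) (.node (.leaf 0x4da8a265b664321) (.leaf 0)))) (.node (.node (.node (.leaf 0x34d48a48a186430b) (.leaf 0x89b5136a190c859)) (.node (.leaf 0x15b513add914959) (.leaf 0))) (.node (.node (.leaf 0x229226da85b2d9) (.leaf 0x1644d492c95494b)) (.node (.leaf 0xab76275baccb29) (.leaf 0))))) (.node (.node (.node (.node (.leaf 0x1352c8a56cbaebaec) (.leaf 0x4ecb256cbad9765)) (.node (.leaf 0x35649616eb6ecb25) (.leaf 0))) (.node (.node (.leaf 0x56ebb24b2275b74c) (.leaf 0xd34d4913659661)) (.node (.leaf 0x4d49148642cb) (.leaf 0)))) (.node (.node (.node (.leaf 0x489b65b) (.leaf 0x4eb764861759964)) (.node (.leaf 0x9a6a450b65b2d9) (.leaf 0))) (.node (.node (.leaf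 0x5134d4521661861) (.leaf 0x4d452290c8596cb)) (.node (.leaf 0x144d48996cb2cc) (.leaf 0))))))

/-- transversal words -/
def tau48L0word : Trie :=
  tau48L0word0

/-- part of closing hints -/
def tau48L0close0 : Trie :=
  (.node (.node (.node (.node (.node (.node (.node (.leaf 0x1) (.leaf 0x3008)) (.node (.leaf 0x100e) (.leaf 0))) (.node (.node (.leaf 0xf) (.leaf 0)) (.node (.leaf 0x100f) (.leaf 0)))) (.node (.node (.node (.leaf 0x8) (.leaf 0x1002018)) (.node (.leaf 0x1001000) (.leaf 0))) (.node (.node (.leaf 0x11) (.leaf 0)) (.node (.leaf 0x1002010) (.leaf 0))))) (.node (.node (.node (.node (.leaf 0x4) (.leaf 0x1000016)) (.node (.leaf 0x13) (.leaf 0))) (.node (.node (.leaf 0x100c) (.leaf 0)) (.node (.leaf 0x16) (.leaf 0)))) (.node (.node (.node (.leaf 0xb) (.leaf 0)) (.node (.leaf 0x100a) (.leaf 0))) (.node (.node (.leaf 0x12) (.leaf 0)) (.node (.leaf 0x3014) (.leaf 0)))))) (.node (.node (.node (.node (.node (.leaf 0x3) (.leaf 0x1002016)) (.node (.leaf 0x2005)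 (.leaf 0))) (.node (.node (.leaf 0x2) (.leaf 0)) (.node (.leaf 0x1002012) (.leaf 0)))) (.node (.node (.node (.leaf 0xa) (.leaf 0x1000018)) (.node (.leaf 0x5) (.leaf 0))) (.node (.node (.leaf 0x2) (.leaf 0)) (.node (.leaf 0x1004003) (.leaf 0))))) (.node (.node (.node (.node (.leaf 0x6) (.leaf 0x4001)) (.node (.leaf 0x1006) (.leaf 0))) (.node (.node (.leaf 0x10) (.leaf 0)) (.node (.leaf 0x1001017) (.leaf 0)))) (.node (.node (.node (.leaf 0xd) (.leaf 0)) (.node (.leaf 0x15) (.leaf 0))) (.node (.node (.leaf 0x400d) (.leaf 0)) (.node (.leaf 0x1014) (.leaf 0))))))) (.node (.node (.node (.node (.node (.node (.leaf 0x2) (.leaf 0x1015)) (.node (.leaf 0x4) (.leaf 0))) (.node (.node (.leaf 0x1) (.leaf 0)) (.node (.leaf 0x200d) (.leaf 0)))) (.node (.node (.node (.leaf 0x9) (.leaf 0x1004006)) (.node (.leaf 0x4) (.leaf 0))) (.node (.node (.leaf 0x100400b) (.leaf 0)) (.node (.leaf 0xc) (.leaf 0))))) (.node (.node (.node (.node (.leaf 0x5) (.leaf 0x2012)) (.node (.leaf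 0x14) (.leaf 0))) (.node (.node (.leaf 0x3007) (.leaf 0)) (.node (.leaf 0x17) (.leaf 0)))) (.node (.node (.node (.leaf 0xc) (.leaf 0)) (.node (.leaf 0x1010) (.leaf 0))) (.node (.node (.leaf 0x100200b) (.leaf 0)) (.node (.leaf 0x1003017) (.leaf 0)))))) (.node (.node (.node (.node (.node (.leaf 0x0) (.leaf 0x2013)) (.node (.leaf 0x1002009) (.leaf 0))) (.node (.node (.leaf 0x200e) (.leaf 0)) (.node (.leaf 0x8) (.leaf 0)))) (.node (.node (.node (.leaf 0x0) (.leaf 0)) (.node (.leaf 0x3009) (.leaf 0))) (.node (.node (.leaf 0x3) (.leaf 0)) (.node (.leaf 0x300f) (.leaf 0))))) (.node (.node (.node (.node (.leaf 0x7) (.leaf 0x11)) (.node (.leaf 0x100300a) (.leaf 0))) (.node (.node (.leaf 0x1004007) (.leaf 0)) (.node (.leaf 0x18) (.leaf 0)))) (.node (.node (.node (.leaf 0xe) (.leaf 0)) (.node (.leaf 0x3013) (.leaf 0))) (.node (.node (.leaf 0x1002011) (.leaf 0)) (.node (.leaf 0x1000015) (.leaf 0))))))))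

/-- closing hints -/
def tau48L0close : Trie :=
  tau48L0close0

/-- a level -/
def tau48L0 : SLev := ⟨4, [0x1352c8a56cbaebaec, 0x34d48a48a186430b, 0x489b65b], tau48L0tree, tau48L0word, 25, tau48L0close, [(16, 0), (23, 0)]⟩

/-- part of a tree -/
def tau48L1tree0 : Trie :=
  (.node (.node (.node (.leaf 0x0) (.leaf 0x100002)) (.node (.leaf 0x100000) (.leaf 0))) (.node (.node (.leaf 0x0) (.leaf 0)) (.node (.leaf 0x2) (.leaf 0))))

/-- a tree -/
def tau48L1tree : Trie :=
  tau48L1tree0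

/-- part of transversal words -/
def tau48L1word0 : Trie :=
  (.node (.node (.node (.leaf 0x0) (.leaf 0x89a6a285b6596cc)) (.node (.leaf 0x5136a190b6cb) (.leaf 0))) (.node (.node (.leaf 0x26596d9861) (.leaf 0)) (.node (.leaf 0x1330b6596cc) (.leaf 0))))

/-- transversal words -/
def tau48L1word : Trie :=
  tau48L1word0

/-- part of closing hints -/
def tau48L1close0 : Trie :=
  (.node (.node (.node (.node (.leaf 0x1) (.leaf 0x1004)) (.node (.leaf 0x3) (.leaf 0))) (.node (.node (.leaf 0x0) (.leaf 0)) (.node (.leaf 0x2) (.leaf 0)))) (.node (.node (.node (.leaf 0x2) (.leaf 0x1003)) (.node (.leaf 0x4) (.leaf 0))) (.node (.node (.leaf 0x1000) (.leaf 0)) (.node (.leaf 0x1) (.leaf 0)))))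

/-- closing hints -/
def tau48L1close : Trie :=
  tau48L1close0

/-- a level -/
def tau48L1 : SLev := ⟨6, [0x26596d9861, 0x5136a190b6cb], tau48L1tree, tau48L1word, 5, tau48L1close, [(1, 1)]⟩

/-- part of a tree -/
def tau48L2tree0 : Trie :=
  (.node (.leaf 0x0) (.leaf 0x0))

/-- a tree -/
def tau48L2tree : Trie :=
  tau48L2tree0

/-- part of transversal words -/
def tau48L2word0 : Trie :=
  (.node (.leaf 0x0) (.leaf 0x5132cc30b2cc))

/-- transversal words -/
def tau48L2word : Trie :=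
  tau48L2word0

/-- part of closing hints -/
def tau48L2close0 : Trie :=
  (.node (.leaf 0x1) (.leaf 0x0))

/-- closing hints -/
def tau48L2close : Trie :=
  tau48L2close0

/-- a level -/
def tau48L2 : SLev := ⟨9, [0x5132cc30b2cc], tau48L2tree, tau48L2word, 2, tau48L2close, []⟩

/-- a chain -/
def tau48 : List SLev := [tau48L0, tau48L1, tau48L2]

/-- a representative -/
def r48 : RepD := ⟨5, 2, 5, 0x45226d4add6eb764, 2, tau48, [0x3000, 4096, 0x100b000], [0x3000, 0x1003002000, 0x100200c000]⟩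

/-- part of a tree -/
def tau49L0tree0 : Trie :=
  (.node (.node (.node (.node (.node (.leaf 0x0) (.leaf 0x100007)) (.node (.leaf 0x200002) (.leaf 0x100012))) (.node (.node (.leaf 0x100001) (.leaf 0x10000c)) (.node (.leaf 0x100004) (.leaf 0)))) (.node (.node (.node (.leaf 0x100000) (.leaf 0x100009)) (.node (.leaf 0x100003) (.leaf 0))) (.node (.node (.leaf 0x2) (.leaf 0x100011)) (.node (.leaf 0x5) (.leaf 0))))) (.node (.node (.node (.node (.leaf 0x0) (.leaf 0x8)) (.node (.leaf 0x3) (.leaf 0))) (.node (.node (.leaf 0x200001) (.leaf 0x10000f)) (.node (.leaf 0x200004) (.leaf 0)))) (.node (.node (.node (.leaf 0x200000) (.leaf 0xc)) (.node (.leaf 0x4) (.leaf 0))) (.node (.node (.leaf 0x100002) (.leaf 0x200011)) (.node (.leaf 0x100005) (.leaf 0))))))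

/-- a tree -/
def tau49L0tree : Trie :=
  tau49L0tree0

/-- part of transversal words -/
def tau49L0word0 : Trie :=
  (.node (.node (.node (.node (.node (.leaf 0x0) (.leaf 0x4d34d44d9661859)) (.node (.leaf 0x34d49144d96cc2cb) (.leaf 0x26d452290c86430b))) (.node (.node (.leaf 0x36a48596cb2cb) (.leaf 0x9144d34cc85990b)) (.node (.leaf 0x4da8a265b664321) (.leaf 0)))) (.node (.node (.node (.leaf 0x34d48a48a186430b) (.leaf 0x89b5136a190c859)) (.node (.leaf 0x15b513add914959) (.leaf 0))) (.node (.node (.leaf 0x229226da85b2d9) (.leaf 0x1644d492c95494b)) (.node (.leaf 0xab76275baccb29) (.leaf 0))))) (.node (.node (.node (.node (.leaf 0x1352c8a56cbaebaec) (.leaf 0x4ecb256cbad9765)) (.node (.leaf 0x35649616eb6ecb25) (.leaf 0))) (.node (.node (.leaf 0x56ebb24b2275b74c) (.leaf 0xd34d4913659661)) (.node (.leaf 0x4d49148642cb) (.leaf 0)))) (.node (.node (.node (.leaf 0x489b65b) (.leaf 0x4eb764861759964)) (.node (.leaf 0x9a6a450b65b2d9) (.leaf 0))) (.node (.node (.leaf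 0x5134d4521661861) (.leaf 0x4d452290c8596cb)) (.node (.leaf 0x144d48996cb2cc) (.leaf 0))))))

/-- transversal words -/
def tau49L0word : Trie :=
  tau49L0word0

/-- part of closing hints -/
def tau49L0close0 : Trie :=
  (.node (.node (.node (.node (.node (.node (.node (.leaf 0x1) (.leaf 0x1008)) (.node (.leaf 0x400e) (.leaf 0))) (.node (.node (.leaf 0xf) (.leaf 0)) (.node (.leaf 0x400f) (.leaf 0)))) (.node (.node (.node (.leaf 0x8) (.leaf 0x2018)) (.node (.leaf 0x1004000) (.leaf 0))) (.node (.node (.leaf 0x11) (.leaf 0)) (.node (.leaf 0x2010) (.leaf 0))))) (.node (.node (.node (.node (.leaf 0x4) (.leaf 0x1000016)) (.node (.leaf 0x13) (.leaf 0))) (.node (.node (.leaf 0x400c) (.leaf 0)) (.node (.leaf 0x16) (.leaf 0)))) (.node (.node (.node (.leaf 0xb) (.leaf 0)) (.node (.leaf 0x400a) (.leaf 0))) (.node (.node (.leaf 0x12) (.leaf 0)) (.node (.leaf 0x1014) (.leaf 0)))))) (.node (.node (.node (.node (.node (.leaf 0x3) (.leaf 0x2016)) (.node (.leaf 0x1002005)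 (.leaf 0))) (.node (.node (.leaf 0x2) (.leaf 0)) (.node (.leaf 0x2012) (.leaf 0)))) (.node (.node (.node (.leaf 0xa) (.leaf 0x1000018)) (.node (.leaf 0x5) (.leaf 0))) (.node (.node (.leaf 0x2) (.leaf 0)) (.node (.leaf 0x1003003) (.leaf 0))))) (.node (.node (.node (.node (.leaf 0x6) (.leaf 0x3001)) (.node (.leaf 0x4006) (.leaf 0))) (.node (.node (.leaf 0x10) (.leaf 0)) (.node (.leaf 0x1004017) (.leaf 0)))) (.node (.node (.node (.leaf 0xd) (.leaf 0)) (.node (.leaf 0x15) (.leaf 0))) (.node (.node (.leaf 0x300d) (.leaf 0)) (.node (.leaf 0x4014) (.leaf 0))))))) (.node (.node (.node (.node (.node (.node (.leaf 0x2) (.leaf 0x4015)) (.node (.leaf 0x4) (.leaf 0))) (.node (.node (.leaf 0x1) (.leaf 0)) (.node (.leaf 0x100200d) (.leaf 0)))) (.node (.node (.node (.leaf 0x9) (.leaf 0x1003006)) (.node (.leaf 0x4) (.leaf 0))) (.node (.node (.leaf 0x100300b) (.leaf 0)) (.node (.leaf 0xc) (.leaf 0))))) (.node (.node (.node (.node (.leaf 0x5) (.leaf 0x1002012)) (.node (.leaf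 0x14) (.leaf 0))) (.node (.node (.leaf 0x1007) (.leaf 0)) (.node (.leaf 0x17) (.leaf 0)))) (.node (.node (.node (.leaf 0xc) (.leaf 0)) (.node (.leaf 0x4010) (.leaf 0))) (.node (.node (.leaf 0x200b) (.leaf 0)) (.node (.leaf 0x1001017) (.leaf 0)))))) (.node (.node (.node (.node (.node (.leaf 0x0) (.leaf 0x1002013)) (.node (.leaf 0x2009) (.leaf 0))) (.node (.node (.leaf 0x100200e) (.leaf 0)) (.node (.leaf 0x8) (.leaf 0)))) (.node (.node (.node (.leaf 0x0) (.leaf 0)) (.node (.leaf 0x1009) (.leaf 0))) (.node (.node (.leaf 0x3) (.leaf 0)) (.node (.leaf 0x100f) (.leaf 0))))) (.node (.node (.node (.node (.leaf 0x7) (.leaf 0x11)) (.node (.leaf 0x100100a) (.leaf 0))) (.node (.node (.leaf 0x1003007) (.leaf 0)) (.node (.leaf 0x18) (.leaf 0)))) (.node (.node (.node (.leaf 0xe) (.leaf 0)) (.node (.leaf 0x1013) (.leaf 0))) (.node (.node (.leaf 0x2011) (.leaf 0)) (.node (.leaf 0x1000015) (.leaf 0))))))))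

/-- closing hints -/
def tau49L0close : Trie :=
  tau49L0close0

/-- a level -/
def tau49L0 : SLev := ⟨4, [0x1352c8a56cbaebaec, 0x34d48a48a186430b, 0x489b65b], tau49L0tree, tau49L0word, 25, tau49L0close, [(7, 0), (10, 1)]⟩

/-- part of a tree -/
def tau49L1tree0 : Trie :=
  (.node (.node (.node (.leaf 0x0) (.leaf 0x100003)) (.node (.leaf 0x100000) (.leaf 0))) (.node (.node (.leaf 0x0) (.leaf 0)) (.node (.leaf 0x2) (.leaf 0))))

/-- a tree -/
def tau49L1tree : Trie :=
  tau49L1tree0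

/-- part of transversal words -/
def tau49L1word0 : Trie :=
  (.node (.node (.node (.leaf 0x0) (.leaf 0x26596d9861)) (.node (.leaf 0x8a44d34cc321864) (.leaf 0))) (.node (.node (.leaf 0x1330b6596cc) (.leaf 0)) (.node (.leaf 0x89a6a285b6596cc) (.leaf 0))))

/-- transversal words -/
def tau49L1word : Trie :=
  tau49L1word0

/-- part of closing hints -/
def tau49L1close0 : Trie :=
  (.node (.node (.node (.node (.leaf 0x1) (.leaf 0x1004)) (.node (.leaf 0x3) (.leaf 0))) (.node (.node (.leaf 0x0) (.leaf 0)) (.node (.leaf 0x2) (.leaf 0)))) (.node (.node (.node (.leaf 0x2) (.leaf 0x3)) (.node (.leaf 0x0) (.leaf 0))) (.node (.node (.leaf 0x1001) (.leaf 0)) (.node (.leaf 0x4) (.leaf 0)))))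

/-- closing hints -/
def tau49L1close : Trie :=
  tau49L1close0

/-- a level -/
def tau49L1 : SLev := ⟨6, [0x1330b6596cc, 0x8a44d34cc321864], tau49L1tree, tau49L1word, 5, tau49L1close, [(1, 1)]⟩

/-- part of a tree -/
def tau49L2tree0 : Trie :=
  (.node (.leaf 0x0) (.leaf 0x0))

/-- a tree -/
def tau49L2tree : Trie :=
  tau49L2tree0

/-- part of transversal words -/
def tau49L2word0 : Trie :=
  (.node (.leaf 0x0) (.leaf 0x5132cc30b2cc))

/-- transversal words -/
def tau49L2word : Trie :=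
  tau49L2word0

/-- part of closing hints -/
def tau49L2close0 : Trie :=
  (.node (.leaf 0x1) (.leaf 0x0))

/-- closing hints -/
def tau49L2close : Trie :=
  tau49L2close0

/-- a level -/
def tau49L2 : SLev := ⟨9, [0x5132cc30b2cc], tau49L2tree, tau49L2word, 2, tau49L2close, []⟩

/-- a chain -/
def tau49 : List SLev := [tau49L0, tau49L1, tau49L2]

/-- a representative -/
def r49 : RepD := ⟨5, 9, 1, 0xaa56e9, 2, tau49, [0x3000, 4096, 0x100b000], [0x1003003008017, 0x100100200a02f, 0x4003025000]⟩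

/-- part of a tree -/
def tau50L0tree0 : Trie :=
  (.node (.node (.node (.leaf 0x0) (.leaf 0x100002)) (.node (.leaf 0x100000) (.leaf 0))) (.node (.node (.leaf 0x0) (.leaf 0)) (.node (.leaf 0x2) (.leaf 0))))

/-- a tree -/
def tau50L0tree : Trie :=
  tau50L0tree0

/-- part of transversal words -/
def tau50L0word0 : Trie :=
  (.node (.node (.node (.leaf 0x0) (.leaf 0x89a6a285b6596cc)) (.node (.leaf 0x5136a190b6cb) (.leaf 0))) (.node (.node (.leaf 0x26596d9861) (.leaf 0)) (.node (.leaf 0x1330b6596cc) (.leaf 0))))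

/-- transversal words -/
def tau50L0word : Trie :=
  tau50L0word0

/-- part of closing hints -/
def tau50L0close0 : Trie :=
  (.node (.node (.node (.node (.leaf 0x1) (.leaf 0x1004)) (.node (.leaf 0x3) (.leaf 0))) (.node (.node (.leaf 0x0) (.leaf 0)) (.node (.leaf 0x2) (.leaf 0)))) (.node (.node (.node (.leaf 0x2) (.leaf 0x1003)) (.node (.leaf 0x4) (.leaf 0))) (.node (.node (.leaf 0x1000) (.leaf 0)) (.node (.leaf 0x1) (.leaf 0)))))

/-- closing hints -/
def tau50L0close : Trie :=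
  tau50L0close0

/-- a level -/
def tau50L0 : SLev := ⟨6, [0x26596d9861, 0x5136a190b6cb], tau50L0tree, tau50L0word, 5, tau50L0close, [(1, 1)]⟩

/-- part of a tree -/
def tau50L1tree0 : Trie :=
  (.node (.leaf 0x0) (.leaf 0x0))

/-- a tree -/
def tau50L1tree : Trie :=
  tau50L1tree0

/-- part of transversal words -/
def tau50L1word0 : Trie :=
  (.node (.leaf 0x0) (.leaf 0x5132cc30b2cc))

/-- transversal words -/
def tau50L1word : Trie :=
  tau50L1word0

/-- part of closing hints -/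
def tau50L1close0 : Trie :=
  (.node (.leaf 0x1) (.leaf 0x0))

/-- closing hints -/
def tau50L1close : Trie :=
  tau50L1close0

/-- a level -/
def tau50L1 : SLev := ⟨9, [0x5132cc30b2cc], tau50L1tree, tau50L1word, 2, tau50L1close, []⟩

/-- a chain -/
def tau50 : List SLev := [tau50L0, tau50L1]

/-- a representative -/
def r50 : RepD := ⟨5, 5, 2, 0x13564b1485b2cb, 50, tau50, [0x4000000, 0x1002000000], [0x2001013000, 0x4002004000]⟩

/-- part of a tree -/
def tau51L0tree0 : Trie :=
  (.node (.node (.node (.leaf 0x0) (.leaf 0x100002)) (.node (.leaf 0x100001) (.leaf 0))) (.node (.node (.leaf 0x0) (.leaf 0)) (.node (.leaf 0x2) (.leaf 0))))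

/-- a tree -/
def tau51L0tree : Trie :=
  tau51L0tree0

/-- part of transversal words -/
def tau51L0word0 : Trie :=
  (.node (.node (.node (.leaf 0x0) (.leaf 0x44d369b66430b)) (.node (.leaf 0x1330b6596cc) (.leaf 0))) (.node (.node (.leaf 0x26596d9861) (.leaf 0)) (.node (.leaf 0x5136a190b6cb) (.leaf 0))))

/-- transversal words -/
def tau51L0word : Trie :=
  tau51L0word0

/-- part of closing hints -/
def tau51L0close0 : Trie :=
  (.node (.node (.node (.node (.leaf 0x1) (.leaf 0x1004)) (.node (.leaf 0x3) (.leaf 0))) (.node (.node (.leaf 0x0) (.leaf 0)) (.node (.leaf 0x2) (.leaf 0)))) (.node (.node (.node (.leaf 0x1001) (.leaf 0x1003)) (.node (.leaf 0x4) (.leaf 0))) (.node (.node (.leaf 0x2) (.leaf 0)) (.node (.leaf 0x0) (.leaf 0)))))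

/-- closing hints -/
def tau51L0close : Trie :=
  tau51L0close0

/-- a level -/
def tau51L0 : SLev := ⟨6, [0x26596d9861, 0x8a485b2cc859], tau51L0tree, tau51L0word, 5, tau51L0close, [(4, 0)]⟩

/-- part of a tree -/
def tau51L1tree0 : Trie :=
  (.node (.leaf 0x0) (.leaf 0x0))

/-- a tree -/
def tau51L1tree : Trie :=
  tau51L1tree0

/-- part of transversal words -/
def tau51L1word0 : Trie :=
  (.node (.leaf 0x0) (.leaf 0x5132cc30b2cc))

/-- transversal words -/
def tau51L1word : Trie :=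
  tau51L1word0

/-- part of closing hints -/
def tau51L1close0 : Trie :=
  (.node (.leaf 0x1) (.leaf 0x0))

/-- closing hints -/
def tau51L1close : Trie :=
  tau51L1close0

/-- a level -/
def tau51L1 : SLev := ⟨9, [0x5132cc30b2cc], tau51L1tree, tau51L1word, 2, tau51L1close, []⟩

/-- a chain -/
def tau51 : List SLev := [tau51L0, tau51L1]

/-- a representative -/
def r51 : RepD := ⟨5, 42, 5, 0x1b52289a92992c964, 50, tau51, [0x4000000, 0x1004000000], [0x1000000, 0x1001000000]⟩

/-- part of a tree -/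
def tau52L0tree0 : Trie :=
  (.node (.node (.node (.leaf 0x0) (.leaf 0x100003)) (.node (.leaf 0x100001) (.leaf 0))) (.node (.node (.leaf 0x0) (.leaf 0)) (.node (.leaf 0x2) (.leaf 0))))

/-- a tree -/
def tau52L0tree : Trie :=
  tau52L0tree0

/-- part of transversal words -/
def tau52L0word0 : Trie :=
  (.node (.node (.node (.leaf 0x0) (.leaf 0x1a86165b2d9)) (.node (.leaf 0x4d489b4cb6cc30b) (.leaf 0))) (.node (.node (.leaf 0x489b65b) (.leaf 0)) (.node (.leaf 0x521861859) (.leaf 0))))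

/-- transversal words -/
def tau52L0word : Trie :=
  tau52L0word0

/-- part of closing hints -/
def tau52L0close0 : Trie :=
  (.node (.node (.node (.node (.leaf 0x1) (.leaf 0x1004)) (.node (.leaf 0x3) (.leaf 0))) (.node (.node (.leaf 0x0) (.leaf 0)) (.node (.leaf 0x2) (.leaf 0)))) (.node (.node (.node (.leaf 0x1000) (.leaf 0x3)) (.node (.leaf 0x1) (.leaf 0))) (.node (.node (.leaf 0x2) (.leaf 0)) (.node (.leaf 0x4) (.leaf 0)))))

/-- closing hints -/
def tau52L0close : Trie :=
  tau52L0close0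

/-- a level -/
def tau52L0 : SLev := ⟨4, [0x489b65b, 0x5132cc30b2cc], tau52L0tree, tau52L0word, 5, tau52L0close, [(0, 1)]⟩

/-- part of a tree -/
def tau52L1tree0 : Trie :=
  (.node (.leaf 0x0) (.leaf 0x0))

/-- a tree -/
def tau52L1tree : Trie :=
  tau52L1tree0

/-- part of transversal words -/
def tau52L1word0 : Trie :=
  (.node (.leaf 0x0) (.leaf 0x5132cc30b2cc))

/-- transversal words -/
def tau52L1word : Trie :=
  tau52L1word0

/-- part of closing hints -/
def tau52L1close0 : Trie :=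
  (.node (.leaf 0x1) (.leaf 0x0))

/-- closing hints -/
def tau52L1close : Trie :=
  tau52L1close0

/-- a level -/
def tau52L1 : SLev := ⟨9, [0x5132cc30b2cc], tau52L1tree, tau52L1word, 2, tau52L1close, []⟩

/-- a chain -/
def tau52 : List SLev := [tau52L0, tau52L1]

/-- a representative -/
def r52 : RepD := ⟨5, 44, 4, 0x3522913ad42cb2d9, 50, tau52, [0x100b000, 0x1000000000], [0x1000000000, 0x4000000]⟩

/-- part of a tree -/
def tau53L0tree0 : Trie :=
  (.node (.node (.node (.leaf 0x0) (.leaf 0x2)) (.node (.leaf 0x100000) (.leaf 0))) (.node (.node (.leaf 0x0) (.leaf 0)) (.node (.leaf 0x100001) (.leaf 0))))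

/-- a tree -/
def tau53L0tree : Trie :=
  tau53L0tree0

/-- part of transversal words -/
def tau53L0word0 : Trie :=
  (.node (.node (.node (.leaf 0x0) (.leaf 0x8a485b2cc859)) (.node (.leaf 0x1330b6596cc) (.leaf 0))) (.node (.node (.leaf 0x44d369b66430b) (.leaf 0)) (.node (.leaf 0x5136a190b6cb) (.leaf 0))))

/-- transversal words -/
def tau53L0word : Trie :=
  tau53L0word0

/-- part of closing hints -/
def tau53L0close0 : Trie :=
  (.node (.node (.node (.node (.leaf 0x1) (.leaf 0x2)) (.node (.leaf 0x4) (.leaf 0))) (.node (.node (.leaf 0x0) (.leaf 0)) (.node (.leaf 0x1003) (.leaf 0)))) (.node (.node (.node (.leaf 0x2) (.leaf 0x1004)) (.node (.leaf 0x0) (.leaf 0))) (.node (.node (.leaf 0x3) (.leaf 0)) (.node (.leaf 0x1) (.leaf 0)))))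

/-- closing hints -/
def tau53L0close : Trie :=
  tau53L0close0

/-- a level -/
def tau53L0 : SLev := ⟨6, [0x44d369b66430b, 0x1330b6596cc], tau53L0tree, tau53L0word, 5, tau53L0close, [(4, 1)]⟩

/-- part of a tree -/
def tau53L1tree0 : Trie :=
  (.node (.leaf 0x0) (.leaf 0x0))

/-- a tree -/
def tau53L1tree : Trie :=
  tau53L1tree0

/-- part of transversal words -/
def tau53L1word0 : Trie :=
  (.node (.leaf 0x0) (.leaf 0x5132cc30b2cc))

/-- transversal words -/
def tau53L1word : Trie :=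
  tau53L1word0

/-- part of closing hints -/
def tau53L1close0 : Trie :=
  (.node (.leaf 0x1) (.leaf 0x0))

/-- closing hints -/
def tau53L1close : Trie :=
  tau53L1close0

/-- a level -/
def tau53L1 : SLev := ⟨9, [0x5132cc30b2cc], tau53L1tree, tau53L1word, 2, tau53L1close, []⟩

/-- a chain -/
def tau53 : List SLev := [tau53L0, tau53L1]

/-- a representative -/
def r53 : RepD := ⟨5, 353, 6, 0x13764959964add765, 50, tau53, [0x1003000000, 0x1000000], [0x7000, 0x1000000]⟩

/-- part of a tree -/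
def tau54L0tree0 : Trie :=
  (.node (.node (.node (.leaf 0x0) (.leaf 0x3)) (.node (.leaf 0x100000) (.leaf 0))) (.node (.node (.leaf 0x0) (.leaf 0)) (.node (.leaf 0x100001) (.leaf 0))))

/-- a tree -/
def tau54L0tree : Trie :=
  tau54L0tree0

/-- part of transversal words -/
def tau54L0word0 : Trie :=
  (.node (.node (.node (.leaf 0x0) (.leaf 0x489b65b)) (.node (.leaf 0x521861859) (.leaf 0))) (.node (.node (.leaf 0xd3ad4b2baecb0c) (.leaf 0)) (.node (.leaf 0x1a86165b2d9) (.leaf 0))))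

/-- transversal words -/
def tau54L0word : Trie :=
  tau54L0word0

/-- part of closing hints -/
def tau54L0close0 : Trie :=
  (.node (.node (.node (.node (.leaf 0x1) (.leaf 0x3)) (.node (.leaf 0x1002) (.leaf 0))) (.node (.node (.leaf 0x0) (.leaf 0)) (.node (.leaf 0x4) (.leaf 0)))) (.node (.node (.node (.leaf 0x2) (.leaf 0x1004)) (.node (.leaf 0x0) (.leaf 0))) (.node (.node (.leaf 0x3) (.leaf 0)) (.node (.leaf 0x1) (.leaf 0)))))

/-- closing hints -/
def tau54L0close : Trie :=
  tau54L0close0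

/-- a level -/
def tau54L0 : SLev := ⟨4, [0xd3ad4b2baecb0c, 0x521861859], tau54L0tree, tau54L0word, 5, tau54L0close, [(4, 1)]⟩

/-- part of a tree -/
def tau54L1tree0 : Trie :=
  (.node (.leaf 0x0) (.leaf 0x0))

/-- a tree -/
def tau54L1tree : Trie :=
  tau54L1tree0

/-- part of transversal words -/
def tau54L1word0 : Trie :=
  (.node (.leaf 0x0) (.leaf 0x5132cc30b2cc))

/-- transversal words -/
def tau54L1word : Trie :=
  tau54L1word0

/-- part of closing hints -/
def tau54L1close0 : Trie :=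
  (.node (.leaf 0x1) (.leaf 0x0))

/-- closing hints -/
def tau54L1close : Trie :=
  tau54L1close0

/-- a level -/
def tau54L1 : SLev := ⟨9, [0x5132cc30b2cc], tau54L1tree, tau54L1word, 2, tau54L1close, []⟩

/-- a chain -/
def tau54 : List SLev := [tau54L0, tau54L1]

/-- a representative -/
def r54 : RepD := ⟨5, 345, 4, 0x4da92269d2dd6eb, 50, tau54, [0x100300d000, 0x4015000], [0x1000000000, 0x1000000]⟩

/-- part of a tree -/
def tau55L0tree0 : Trie :=
  (.node (.node (.node (.leaf 0x0) (.leaf 0x100003)) (.node (.leaf 0x100000) (.leaf 0))) (.node (.node (.leaf 0x0) (.leaf 0)) (.node (.leaf 0x2) (.leaf 0))))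

/-- a tree -/
def tau55L0tree : Trie :=
  tau55L0tree0

/-- part of transversal words -/
def tau55L0word0 : Trie :=
  (.node (.node (.node (.leaf 0x0) (.leaf 0xab76275baccb29)) (.node (.leaf 0x9a8a450b65b30c) (.leaf 0))) (.node (.node (.leaf 0xac8abaeb764b0b) (.leaf 0)) (.node (.leaf 0x26d452290c86430b) (.leaf 0))))

/-- transversal words -/
def tau55L0word : Trie :=
  tau55L0word0

/-- part of closing hints -/
def tau55L0close0 : Trie :=
  (.node (.node (.node (.node (.leaf 0x1) (.leaf 0x1004)) (.node (.leaf 0x3) (.leaf 0))) (.node (.node (.leaf 0x0) (.leaf 0)) (.node (.leaf 0x2) (.leaf 0)))) (.node (.node (.node (.leaf 0x2) (.leaf 0x3)) (.node (.leaf 0x0) (.leaf 0))) (.node (.node (.leaf 0x1001) (.leaf 0)) (.node (.leaf 0x4) (.leaf 0)))))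

/-- closing hints -/
def tau55L0close : Trie :=
  tau55L0close0

/-- a level -/
def tau55L0 : SLev := ⟨4, [0xac8abaeb764b0b, 0x9a8a450b65b30c], tau55L0tree, tau55L0word, 5, tau55L0close, [(4, 0)]⟩

/-- part of a tree -/
def tau55L1tree0 : Trie :=
  (.node (.leaf 0x0) (.leaf 0x0))

/-- a tree -/
def tau55L1tree : Trie :=
  tau55L1tree0

/-- part of transversal words -/
def tau55L1word0 : Trie :=
  (.node (.leaf 0x0) (.leaf 0x44d369b66430b))

/-- transversal words -/
def tau55L1word : Trie :=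
  tau55L1word0

/-- part of closing hints -/
def tau55L1close0 : Trie :=
  (.node (.leaf 0x1) (.leaf 0x0))

/-- closing hints -/
def tau55L1close : Trie :=
  tau55L1close0

/-- a level -/
def tau55L1 : SLev := ⟨6, [0x44d369b66430b], tau55L1tree, tau55L1word, 2, tau55L1close, []⟩

/-- a chain -/
def tau55 : List SLev := [tau55L0, tau55L1]

/-- a representative -/
def r55 : RepD := ⟨5, 0x52cb, 5, 0x1451489baea92b761, 50, tau55, [0x2018000, 0x1000001000], [0x1000000, 0x1000000000]⟩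

/-- part of a tree -/
def tau56L0tree0 : Trie :=
  (.node (.node (.node (.leaf 0x0) (.leaf 0x100003)) (.node (.leaf 0x100001) (.leaf 0))) (.node (.node (.leaf 0x0) (.leaf 0)) (.node (.leaf 0x2) (.leaf 0))))

/-- a tree -/
def tau56L0tree : Trie :=
  tau56L0tree0

/-- part of transversal words -/
def tau56L0word0 : Trie :=
  (.node (.node (.node (.leaf 0x0) (.leaf 0x89a6a285b6596cc)) (.node (.leaf 0x5136a190b6cb) (.leaf 0))) (.node (.node (.leaf 0x26596d9861) (.leaf 0)) (.node (.leaf 0x1330b6596cc) (.leaf 0))))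

/-- transversal words -/
def tau56L0word : Trie :=
  tau56L0word0

/-- part of closing hints -/
def tau56L0close0 : Trie :=
  (.node (.node (.node (.node (.leaf 0x1) (.leaf 0x1004)) (.node (.leaf 0x3) (.leaf 0))) (.node (.node (.leaf 0x0) (.leaf 0)) (.node (.leaf 0x2) (.leaf 0)))) (.node (.node (.node (.leaf 0x1000) (.leaf 0x3)) (.node (.leaf 0x1) (.leaf 0))) (.node (.node (.leaf 0x2) (.leaf 0)) (.node (.leaf 0x4) (.leaf 0)))))

/-- closing hints -/
def tau56L0close : Trie :=
  tau56L0close0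

/-- a level -/
def tau56L0 : SLev := ⟨6, [0x26596d9861, 0x5132cc30b2cc], tau56L0tree, tau56L0word, 5, tau56L0close, [(4, 0)]⟩

/-- part of a tree -/
def tau56L1tree0 : Trie :=
  (.node (.leaf 0x0) (.leaf 0x0))

/-- a tree -/
def tau56L1tree : Trie :=
  tau56L1tree0

/-- part of transversal words -/
def tau56L1word0 : Trie :=
  (.node (.leaf 0x0) (.leaf 0x5132cc30b2cc))

/-- transversal words -/
def tau56L1word : Trie :=
  tau56L1word0

/-- part of closing hints -/
def tau56L1close0 : Trie :=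
  (.node (.leaf 0x1) (.leaf 0x0))

/-- closing hints -/
def tau56L1close : Trie :=
  tau56L1close0

/-- a level -/
def tau56L1 : SLev := ⟨9, [0x5132cc30b2cc], tau56L1tree, tau56L1word, 2, tau56L1close, []⟩

/-- a chain -/
def tau56 : List SLev := [tau56L0, tau56L1]

/-- a representative -/
def r56 : RepD := ⟨5, 2657, 6, 0x4d36ab521965864, 50, tau56, [0x4000000, 0x1000000000], [0x13000, 0x1012000]⟩

/-- part of a tree -/
def tau57L0tree0 : Trie :=
  (.node (.node (.node (.leaf 0x0) (.leaf 0x100003)) (.node (.leaf 0x100001) (.leaf 0))) (.node (.node (.leaf 0x0) (.leaf 0)) (.node (.leaf 0x2) (.leaf 0))))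

/-- a tree -/
def tau57L0tree : Trie :=
  tau57L0tree0

/-- part of transversal words -/
def tau57L0word0 : Trie :=
  (.node (.node (.node (.leaf 0x0) (.leaf 0x1486430b2cc)) (.node (.leaf 0x5134d330b65b664) (.leaf 0))) (.node (.node (.leaf 0xd3ad4b2baecb0c) (.leaf 0)) (.node (.leaf 0x29134da6d990c2d9) (.leaf 0))))

/-- transversal words -/
def tau57L0word : Trie :=
  tau57L0word0

/-- part of closing hints -/
def tau57L0close0 : Trie :=
  (.node (.node (.node (.node (.leaf 0x1) (.leaf 0x1004)) (.node (.leaf 0x3) (.leaf 0))) (.node (.node (.leaf 0x0) (.leaf 0)) (.node (.leaf 0x2) (.leaf 0)))) (.node (.node (.node (.leaf 0x1000) (.leaf 0x3)) (.node (.leaf 0x1) (.leaf 0))) (.node (.node (.leaf 0x2) (.leaf 0)) (.node (.leaf 0x4) (.leaf 0)))))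

/-- closing hints -/
def tau57L0close : Trie :=
  tau57L0close0

/-- a level -/
def tau57L0 : SLev := ⟨4, [0xd3ad4b2baecb0c, 0x5132cc30b2cc], tau57L0tree, tau57L0word, 5, tau57L0close, [(0, 1)]⟩

/-- part of a tree -/
def tau57L1tree0 : Trie :=
  (.node (.leaf 0x0) (.leaf 0x0))

/-- a tree -/
def tau57L1tree : Trie :=
  tau57L1tree0

/-- part of transversal words -/
def tau57L1word0 : Trie :=
  (.node (.leaf 0x0) (.leaf 0x5132cc30b2cc))

/-- transversal words -/
def tau57L1word : Trie :=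
  tau57L1word0

/-- part of closing hints -/
def tau57L1close0 : Trie :=
  (.node (.leaf 0x1) (.leaf 0x0))

/-- closing hints -/
def tau57L1close : Trie :=
  tau57L1close0

/-- a level -/
def tau57L1 : SLev := ⟨9, [0x5132cc30b2cc], tau57L1tree, tau57L1word, 2, tau57L1close, []⟩

/-- a chain -/
def tau57 : List SLev := [tau57L0, tau57L1]

/-- a representative -/
def r57 : RepD := ⟨5, 340, 6, 0xac92ca9bb2c321, 50, tau57, [0x100300d000, 0x1000000000], [0x7000, 0x16000]⟩

/-- part of a tree -/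
def tau58L0tree0 : Trie :=
  (.node (.leaf 0x0) (.leaf 0x0))

/-- a tree -/
def tau58L0tree : Trie :=
  tau58L0tree0

/-- part of transversal words -/
def tau58L0word0 : Trie :=
  (.node (.leaf 0x0) (.leaf 0x44d369b66430b))

/-- transversal words -/
def tau58L0word : Trie :=
  tau58L0word0

/-- part of closing hints -/
def tau58L0close0 : Trie :=
  (.node (.leaf 0x1) (.leaf 0x0))

/-- closing hints -/
def tau58L0close : Trie :=
  tau58L0close0

/-- a level -/
def tau58L0 : SLev := ⟨6, [0x44d369b66430b], tau58L0tree, tau58L0word, 2, tau58L0close, []⟩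

/-- a chain -/
def tau58 : List SLev := [tau58L0]

/-- a representative -/
def r58 : RepD := ⟨5, 0x2965d, 6, 0x28a4964b0badd765, 250, tau58, [0x1003000000], [0x1012000]⟩

/-- part of a tree -/
def tau59L0tree0 : Trie :=
  (.node (.leaf 0x0) (.leaf 0x0))

/-- a tree -/
def tau59L0tree : Trie :=
  tau59L0tree0

/-- part of transversal words -/
def tau59L0word0 : Trie :=
  (.node (.leaf 0x0) (.leaf 0x1330b6596cc))

/-- transversal words -/
def tau59L0word : Trie :=
  tau59L0word0

/-- part of closing hints -/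
def tau59L0close0 : Trie :=
  (.node (.leaf 0x1) (.leaf 0x0))

/-- closing hints -/
def tau59L0close : Trie :=
  tau59L0close0

/-- a level -/
def tau59L0 : SLev := ⟨6, [0x1330b6596cc], tau59L0tree, tau59L0word, 2, tau59L0close, []⟩

/-- a chain -/
def tau59 : List SLev := [tau59L0]

/-- a representative -/
def r59 : RepD := ⟨5, 0x14b6eb, 7, 0x29134eb32c2ebb2c, 250, tau59, [0x1000000], [0x1000000]⟩

/-- part of a tree -/
def tau60L0tree0 : Trie :=
  (.node (.leaf 0x0) (.leaf 0x0))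

/-- a tree -/
def tau60L0tree : Trie :=
  tau60L0tree0

/-- part of transversal words -/
def tau60L0word0 : Trie :=
  (.node (.leaf 0x0) (.leaf 0xd3ad4b2baecb0c))

/-- transversal words -/
def tau60L0word : Trie :=
  tau60L0word0

/-- part of closing hints -/
def tau60L0close0 : Trie :=
  (.node (.leaf 0x1) (.leaf 0x0))

/-- closing hints -/
def tau60L0close : Trie :=
  tau60L0close0

/-- a level -/
def tau60L0 : SLev := ⟨4, [0xd3ad4b2baecb0c], tau60L0tree, tau60L0word, 2, tau60L0close, []⟩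

/-- a chain -/
def tau60 : List SLev := [tau60L0]

/-- a representative -/
def r60 : RepD := ⟨5, 0xa9b74c, 5, 0x12b6a4adbad3ad9, 250, tau60, [0x100300d000], [0x1002012000]⟩

/-- part of a tree -/
def tau61L0tree0 : Trie :=
  (.node (.leaf 0x0) (.leaf 0x0))

/-- a tree -/
def tau61L0tree : Trie :=
  tau61L0tree0

/-- part of transversal words -/
def tau61L0word0 : Trie :=
  (.node (.leaf 0x0) (.leaf 0x489b65b))

/-- transversal words -/
def tau61L0word : Trie :=
  tau61L0word0

/-- part of closing hints -/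
def tau61L0close0 : Trie :=
  (.node (.leaf 0x1) (.leaf 0x0))

/-- closing hints -/
def tau61L0close : Trie :=
  tau61L0close0

/-- a level -/
def tau61L0 : SLev := ⟨4, [0x489b65b], tau61L0tree, tau61L0word, 2, tau61L0close, []⟩

/-- a chain -/
def tau61 : List SLev := [tau61L0]

/-- a representative -/
def r61 : RepD := ⟨5, 0x165321, 6, 0x1596592286432565d, 250, tau61, [0x100b000], [0x1000000]⟩

/-- part of a tree -/
def tau62L0tree0 : Trie :=
  (.node (.node (.node (.node (.node (.leaf 0x0) (.leaf 0x8)) (.node (.leaf 0x100003) (.leaf 0x10000e))) (.node (.node (.leaf 0x100001) (.leaf 0xc)) (.node (.leaf 0x100005) (.leaf 0x100012)))) (.node (.node (.node (.leaf 0x100000) (.leaf 0xa)) (.node (.leaf 0x100004) (.leaf 0x100010))) (.node (.node (.leaf 0x100002) (.leaf 0xd)) (.node (.leaf 0x7) (.leaf 0))))) (.node (.node (.node (.node (.leaf 0x0) (.leaf 0x9)) (.node (.leaf 0x4) (.leaf 0xf))) (.node (.node (.leaf 0x2) (.leaf 0x10000c)) (.node (.leaf 0x6) (.leaf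 0x13)))) (.node (.node (.node (.leaf 0x1) (.leaf 0xb)) (.node (.leaf 0x5) (.leaf 0x11))) (.node (.node (.leaf 0x3) (.leaf 0x10000d)) (.node (.leaf 0x100007) (.leaf 0))))))

/-- a tree -/
def tau62L0tree : Trie :=
  tau62L0tree0

/-- part of transversal words -/
def tau62L0word0 : Trie :=
  (.node (.node (.node (.node (.node (.leaf 0x0) (.leaf 0x144da6d330c2d9)) (.node (.leaf 0x861861) (.leaf 0x6a42d96642d9))) (.node (.node (.leaf 0x1489a6a190c859) (.leaf 0x2269a8a165b2cb)) (.node (.leaf 0x18616cc) (.leaf 0x134d351366190b661)))) (.node (.node (.node (.leaf 0xa26d34d990b661) (.leaf 0x4d3659861659)) (.node (.leaf 0xd48596cb2cb) (.leaf 0x89b5144cb65b30b))) (.node (.node (.leaf 0x9a9136a430c859) (.leaf 0x69a9228a42d9659)) (.node (.leaf 0xa45148a430c321) (.leaf 0))))) (.node (.node (.node (.node (.leaf 0x9b4d34d96cb2d9) (.leaf 0x4d351365b66430b)) (.node (.leaf 0x10c2db2cb) (.leaf 0x91366190b661))) (.node (.node (.leaf 0x4d45226d96cc2cb) (.leaf 0x135226d3521661861))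 (.node (.leaf 0x5226d43216cc) (.leaf 0x11430c8616cc)))) (.node (.node (.node (.leaf 0x2452589b50badd6ec) (.leaf 0x6a42cb65b661)) (.node (.leaf 0x5142cb30c2cb) (.leaf 0x48a42cb65990c))) (.node (.node (.leaf 0x1d92c91332c2eb65b) (.leaf 0x89a9148a165990b)) (.node (.leaf 0x5145226cb2db30c) (.leaf 0))))))

/-- transversal words -/
def tau62L0word : Trie :=
  tau62L0word0

/-- part of closing hints -/
def tau62L0close0 : Trie :=
  (.node (.node (.node (.node (.node (.node (.leaf 0x1) (.leaf 0x6)) (.node (.leaf 0x10) (.leaf 0x1004))) (.node (.node (.leaf 0x9) (.leaf 0x1c)) (.node (.leaf 0x14) (.leaf 0x1015)))) (.node (.node (.node (.leaf 0x5) (.leaf 0x1017)) (.node (.leaf 0x12) (.leaf 0x100c))) (.node (.node (.leaf 0xd) (.leaf 0x8)) (.node (.leaf 0x0) (.leaf 0))))) (.node (.node (.node (.node (.leaf 0x3) (.leaf 0x1b)) (.node (.leaf 0x11) (.leaf 0xa))) (.node (.node (.leaf 0xb) (.leaf 0x1a)) (.node (.leaf 0x16) (.leaf 0x2)))) (.node (.node (.node (.leaf 0x7) (.leaf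 0x1d)) (.node (.leaf 0x13) (.leaf 0x1018))) (.node (.node (.leaf 0xe) (.leaf 0x100f)) (.node (.leaf 0x19) (.leaf 0)))))) (.node (.node (.node (.node (.node (.leaf 0x2) (.leaf 0x1a)) (.node (.leaf 0x1009) (.leaf 0x11))) (.node (.node (.leaf 0xa) (.leaf 0x1016)) (.node (.leaf 0x15) (.leaf 0x1d)))) (.node (.node (.node (.leaf 0x6) (.leaf 0x1c)) (.node (.leaf 0x1) (.leaf 0x1019))) (.node (.node (.leaf 0x0) (.leaf 0x13)) (.node (.leaf 0x18) (.leaf 0))))) (.node (.node (.node (.node (.leaf 0x4) (.leaf 0xe)) (.node (.leaf 0x1003) (.leaf 0x1010))) (.node (.node (.leaf 0xc) (.leaf 0x5)) (.node (.leaf 0x17) (.leaf 0x12)))) (.node (.node (.node (.leaf 0x8) (.leaf 0x1014)) (.node (.leaf 0x7) (.leaf 0x100d))) (.node (.node (.leaf 0xf) (.leaf 0x101b)) (.node (.leaf 0xb) (.leaf 0)))))))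

/-- closing hints -/
def tau62L0close : Trie :=
  tau62L0close0

/-- a level -/
def tau62L0 : SLev := ⟨6, [0x9b4d34d96cb2d9, 0xa26d34d990b661], tau62L0tree, tau62L0word, 30, tau62L0close, [(23, 0)]⟩

/-- part of a tree -/
def tau62L1tree0 : Trie :=
  (.node (.leaf 0x0) (.leaf 0x0))

/-- a tree -/
def tau62L1tree : Trie :=
  tau62L1tree0

/-- part of transversal words -/
def tau62L1word0 : Trie :=
  (.node (.leaf 0x0) (.leaf 0x5132cc30b2cc))

/-- transversal words -/
def tau62L1word : Trie :=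
  tau62L1word0

/-- part of closing hints -/
def tau62L1close0 : Trie :=
  (.node (.leaf 0x1) (.leaf 0x0))

/-- closing hints -/
def tau62L1close : Trie :=
  tau62L1close0

/-- a level -/
def tau62L1 : SLev := ⟨9, [0x5132cc30b2cc], tau62L1tree, tau62L1word, 2, tau62L1close, []⟩

/-- a chain -/
def tau62 : List SLev := [tau62L0, tau62L1]

/-- a representative -/
def r62 : RepD := ⟨6, 0, 4, 0xab6a26d42db329, 4, tau62, [0x8000, 8192], [0x1011000, 0x2012000]⟩

/-- part of a tree -/
def tau63L0tree0 : Trie :=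
  (.node (.node (.node (.node (.node (.leaf 0x0) (.leaf 0x9)) (.node (.leaf 0x4) (.leaf 0x11))) (.node (.node (.leaf 0x100001) (.leaf 0xd)) (.node (.leaf 0x100006) (.leaf 0x100016)))) (.node (.node (.node (.leaf 0x100000) (.leaf 0x10000b)) (.node (.leaf 0x5) (.leaf 0x100014))) (.node (.node (.leaf 0x100002) (.leaf 0xe)) (.node (.leaf 0x100007) (.leaf 0))))) (.node (.node (.node (.node (.leaf 0x0) (.leaf 0xb)) (.node (.leaf 0x100004) (.leaf 0x12))) (.node (.node (.leaf 0x2) (.leaf 0x10000d)) (.node (.leaf 0x7) (.leaf 0x100019)))) (.node (.node (.node (.leaf 0x1) (.leaf 0x10000c)) (.node (.leaf 0x100005) (.leaf 0x100015))) (.node (.node (.leaf 0x100003) (.leaf 0x10000e)) (.node (.leaf 0x100008) (.leaf 0))))))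

/-- a tree -/
def tau63L0tree : Trie :=
  tau63L0tree0

/-- part of transversal words -/
def tau63L0word0 : Trie :=
  (.node (.node (.node (.node (.node (.leaf 0x0) (.leaf 0x134da6a28596cb2cb)) (.node (.leaf 0x4d351365b66430b) (.leaf 0x89b5144cb65b30b))) (.node (.node (.leaf 0x34da8a430b65b) (.leaf 0x9a69b2cc85b)) (.node (.leaf 0x1d92c91332c2eb65b) (.leaf 0x11430c8616cc)))) (.node (.node (.node (.leaf 0x9b4d34d96cb2d9) (.leaf 0x5142cb30c2cb)) (.node (.leaf 0x4d3659861659) (.leaf 0x135226d3521661861))) (.node (.node (.leaf 0x2452589b50badd6ec) (.leaf 0x6a42cb65b661)) (.node (.leaf 0x861861) (.leaf 0))))) (.node (.node (.node (.node (.leaf 0x6a42d96642d9) (.leaf 0x9a9136a430c859)) (.node (.leaf 0x4d49148616cc) (.leaf 0x18616cc))) (.node (.node (.leaf 0xa26d34d990b661) (.leaf 0x244da8a42db2cb)) (.node (.leaf 0x89a9148a165990b) (.leaf 0x2269a8a165b2cb)))) (.node (.node (.node (.leaf 0x5226d43216cc) (.leaf 0xa45148a430c321)) (.node (.leaf 0x4d45226d96cc2cb)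 (.leaf 0x3321659))) (.node (.node (.leaf 0x69a9228a42d9659) (.leaf 0x144da6d330c2d9)) (.node (.leaf 0x48a42cb65990c) (.leaf 0))))))

/-- transversal words -/
def tau63L0word : Trie :=
  tau63L0word0

/-- part of closing hints -/
def tau63L0close0 : Trie :=
  (.node (.node (.node (.node (.node (.node (.leaf 0x1) (.leaf 0x17)) (.node (.leaf 0x1006) (.leaf 0xb))) (.node (.node (.leaf 0x8) (.leaf 0x7)) (.node (.leaf 0xe) (.leaf 0x101d)))) (.node (.node (.node (.leaf 0x5) (.leaf 0x19)) (.node (.leaf 0x2) (.leaf 0x101c))) (.node (.node (.leaf 0x1004) (.leaf 0xc)) (.node (.leaf 0x16) (.leaf 0))))) (.node (.node (.node (.node (.leaf 0x3) (.leaf 0x18)) (.node (.leaf 0x10) (.leaf 0x101b))) (.node (.node (.leaf 0xa) (.leaf 0x100f)) (.node (.leaf 0x14) (.leaf 0x1a)))) (.node (.node (.node (.leaf 0x0) (.leaf 0x1015)) (.node (.leaf 0x11) (.leaf 0x1012))) (.node (.node (.leaf 0xd) (.leaf 0x9)) (.node (.leaf 0x13) (.leaf 0)))))) (.node (.node (.node (.node (.node (.leaf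 0x2) (.leaf 0x100a)) (.node (.leaf 0xf) (.leaf 0x1019))) (.node (.node (.leaf 0x9) (.leaf 0x1a)) (.node (.leaf 0x13) (.leaf 0x5)))) (.node (.node (.node (.leaf 0x6) (.leaf 0x16)) (.node (.leaf 0x100d) (.leaf 0x18))) (.node (.node (.leaf 0xc) (.leaf 0x1c)) (.node (.leaf 0x17) (.leaf 0))))) (.node (.node (.node (.node (.leaf 0x4) (.leaf 0x3)) (.node (.leaf 0x1008) (.leaf 0x1d))) (.node (.node (.leaf 0xb) (.leaf 0x1b)) (.node (.leaf 0x15) (.leaf 0x1014)))) (.node (.node (.node (.leaf 0x7) (.leaf 0x0)) (.node (.leaf 0x12) (.leaf 0x10))) (.node (.node (.leaf 0xe) (.leaf 0x11)) (.node (.leaf 0x1001) (.leaf 0)))))))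

/-- closing hints -/
def tau63L0close : Trie :=
  tau63L0close0

/-- a level -/
def tau63L0 : SLev := ⟨6, [0x6a42d96642d9, 0x9b4d34d96cb2d9], tau63L0tree, tau63L0word, 30, tau63L0close, [(29, 1)]⟩

/-- part of a tree -/
def tau63L1tree0 : Trie :=
  (.node (.leaf 0x0) (.leaf 0x0))

/-- a tree -/
def tau63L1tree : Trie :=
  tau63L1tree0

/-- part of transversal words -/
def tau63L1word0 : Trie :=
  (.node (.leaf 0x0) (.leaf 0x5132cc30b2cc))

/-- transversal words -/
def tau63L1word : Trie :=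
  tau63L1word0

/-- part of closing hints -/
def tau63L1close0 : Trie :=
  (.node (.leaf 0x1) (.leaf 0x0))

/-- closing hints -/
def tau63L1close : Trie :=
  tau63L1close0

/-- a level -/
def tau63L1 : SLev := ⟨9, [0x5132cc30b2cc], tau63L1tree, tau63L1word, 2, tau63L1close, []⟩

/-- a chain -/
def tau63 : List SLev := [tau63L0, tau63L1]

/-- a representative -/
def r63 : RepD := ⟨6, 1, 6, 0x9145226da6596cb, 4, tau63, [0x10000, 0x8000], [0xf000, 0x1007000]⟩

/-- part of a tree -/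
def tau64L0tree0 : Trie :=
  (.node (.node (.node (.node (.node (.leaf 0x0) (.leaf 0x100009)) (.node (.leaf 0x4) (.leaf 0x100014))) (.node (.node (.leaf 0x100001) (.leaf 0xd)) (.node (.leaf 0x7) (.leaf 0x100019)))) (.node (.node (.node (.leaf 0x100000) (.leaf 0xc)) (.node (.leaf 0x100005) (.leaf 0x18))) (.node (.node (.leaf 0x3) (.leaf 0x10000f)) (.node (.leaf 0x100008) (.leaf 0))))) (.node (.node (.node (.node (.leaf 0x0) (.leaf 0xa)) (.node (.leaf 0x5) (.leaf 0x16))) (.node (.node (.leaf 0x2) (.leaf 0x10000d)) (.node (.leaf 0x8) (.leaf 0x10001a)))) (.node (.node (.node (.leaf 0x1) (.leaf 0x10000c)) (.node (.leaf 0x6) (.leaf 0x19))) (.node (.node (.leaf 0x100003) (.leaf 0x10)) (.node (.leaf 0x9) (.leaf 0))))))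

/-- a tree -/
def tau64L0tree : Trie :=
  tau64L0tree0

/-- part of transversal words -/
def tau64L0word0 : Trie :=
  (.node (.node (.node (.node (.node (.leaf 0x0) (.leaf 0x4d49148616cc)) (.node (.leaf 0x89a9148a165990b) (.leaf 0x48a42cb65990c))) (.node (.node (.leaf 0x144da69b321861) (.leaf 0x3321659)) (.node (.leaf 0x134d351366190b661) (.leaf 0x34da8a430b65b)))) (.node (.node (.node (.leaf 0x5228a450b2d985b) (.leaf 0xa26d34cb6642d9)) (.node (.leaf 0x89b5144cb65b30b) (.leaf 0x4d489b2cc85b))) (.node (.node (.leaf 0x1d92c91332c2eb65b) (.leaf 0x6a42cb65b661)) (.node (.leaf 0x134d36a430c859) (.leaf 0))))) (.node (.node (.node (.node (.leaf 0x9b4d34d96cb2d9) (.leaf 0x430b661)) (.node (.leaf 0x5148a489b30b2cb) (.leaf 0x11430c8616cc))) (.node (.node (.leaf 0x16642cb) (.leaf 0x5142cb30c2cb)) (.node (.leaf 0x244da8a42db2cb) (.leaf 0x4d45226d96cc2cb)))) (.node (.node (.node (.leaf 0x2452589b50badd6ec) (.leaf 0x134da6a28596cb2cb)) (.node (.leaf 0xa45148a430c321)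 (.leaf 0xa26d34d990b661))) (.node (.node (.leaf 0x2269a8a165b2cb) (.leaf 0x289b4cb6cc85b)) (.node (.leaf 0x228a430b2cc30b) (.leaf 0))))))

/-- transversal words -/
def tau64L0word : Trie :=
  tau64L0word0

/-- part of closing hints -/
def tau64L0close0 : Trie :=
  (.node (.node (.node (.node (.node (.node (.leaf 0x1) (.leaf 0x17)) (.node (.leaf 0xd) (.leaf 0x1a))) (.node (.node (.leaf 0x8) (.leaf 0x13)) (.node (.leaf 0x12) (.leaf 0x10)))) (.node (.node (.node (.leaf 0x5) (.leaf 0x100a)) (.node (.leaf 0x11) (.leaf 0x101c))) (.node (.node (.leaf 0xb) (.leaf 0x19)) (.node (.leaf 0x2) (.leaf 0))))) (.node (.node (.node (.node (.leaf 0x3) (.leaf 0x1007)) (.node (.leaf 0xf) (.leaf 0x1b))) (.node (.node (.leaf 0x9) (.leaf 0x16)) (.node (.leaf 0x14) (.leaf 0x15)))) (.node (.node (.node (.leaf 0x6) (.leaf 0x4)) (.node (.leaf 0x0) (.leaf 0x1d))) (.node (.node (.leaf 0xc) (.leaf 0x1018)) (.node (.leaf 0xe) (.leaf 0)))))) (.node (.node (.node (.node (.node (.leaf 0x2)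 (.leaf 0x9)) (.node (.leaf 0xe) (.leaf 0x14))) (.node (.node (.leaf 0x1) (.leaf 0x18)) (.node (.leaf 0x13) (.leaf 0x19)))) (.node (.node (.node (.leaf 0x0) (.leaf 0x1017)) (.node (.leaf 0x5) (.leaf 0x1d))) (.node (.node (.leaf 0x1006) (.leaf 0xf)) (.node (.leaf 0x8) (.leaf 0))))) (.node (.node (.node (.node (.leaf 0x4) (.leaf 0xb)) (.node (.leaf 0x10) (.leaf 0x1c))) (.node (.node (.leaf 0xa) (.leaf 0xd)) (.node (.leaf 0x15) (.leaf 0x1a)))) (.node (.node (.node (.leaf 0x7) (.leaf 0xc)) (.node (.leaf 0x11) (.leaf 0x101b))) (.node (.node (.leaf 0x3) (.leaf 0x1012)) (.node (.leaf 0x16) (.leaf 0)))))))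

/-- closing hints -/
def tau64L0close : Trie :=
  tau64L0close0

/-- a level -/
def tau64L0 : SLev := ⟨6, [0x9b4d34d96cb2d9, 0x5228a450b2d985b], tau64L0tree, tau64L0word, 30, tau64L0close, [(23, 0)]⟩

/-- part of a tree -/
def tau64L1tree0 : Trie :=
  (.node (.leaf 0x0) (.leaf 0x0))

/-- a tree -/
def tau64L1tree : Trie :=
  tau64L1tree0

/-- part of transversal words -/
def tau64L1word0 : Trie :=
  (.node (.leaf 0x0) (.leaf 0x5132cc30b2cc))

/-- transversal words -/
def tau64L1word : Trie :=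
  tau64L1word0

/-- part of closing hints -/
def tau64L1close0 : Trie :=
  (.node (.leaf 0x1) (.leaf 0x0))

/-- closing hints -/
def tau64L1close : Trie :=
  tau64L1close0

/-- a level -/
def tau64L1 : SLev := ⟨9, [0x5132cc30b2cc], tau64L1tree, tau64L1word, 2, tau64L1close, []⟩

/-- a chain -/
def tau64 : List SLev := [tau64L0, tau64L1]

/-- a representative -/
def r64 : RepD := ⟨6, 2, 2, 332, 4, tau64, [0x8000, 0x3000], [0x4003000000, 0x3002000000]⟩

/-- part of a tree -/
def tau65L0tree0 : Trie :=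
  (.node (.node (.node (.node (.node (.leaf 0x0) (.leaf 0x8)) (.node (.leaf 0x100003) (.leaf 0x10000e))) (.node (.node (.leaf 0x100001) (.leaf 0xc)) (.node (.leaf 0x100005) (.leaf 0x100012)))) (.node (.node (.node (.leaf 0x100000) (.leaf 0xa)) (.node (.leaf 0x100004) (.leaf 0x100010))) (.node (.node (.leaf 0x100002) (.leaf 0xd)) (.node (.leaf 0x7) (.leaf 0))))) (.node (.node (.node (.node (.leaf 0x0) (.leaf 0x9)) (.node (.leaf 0x4) (.leaf 0xf))) (.node (.node (.leaf 0x2) (.leaf 0x10000c)) (.node (.leaf 0x6) (.leaf 0x13)))) (.node (.node (.node (.leaf 0x1) (.leaf 0xb)) (.node (.leaf 0x5) (.leaf 0x11))) (.node (.node (.leaf 0x3) (.leaf 0x10000d)) (.node (.leaf 0x100007) (.leaf 0))))))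

/-- a tree -/
def tau65L0tree : Trie :=
  tau65L0tree0

/-- part of transversal words -/
def tau65L0word0 : Trie :=
  (.node (.node (.node (.node (.node (.leaf 0x0) (.leaf 0x144da6d330c2d9)) (.node (.leaf 0x861861) (.leaf 0x6a42d96642d9))) (.node (.node (.leaf 0x1489a6a190c859) (.leaf 0x2269a8a165b2cb)) (.node (.leaf 0x18616cc) (.leaf 0x134d351366190b661)))) (.node (.node (.node (.leaf 0xa26d34d990b661) (.leaf 0x4d3659861659)) (.node (.leaf 0xd48596cb2cb) (.leaf 0x89b5144cb65b30b))) (.node (.node (.leaf 0x9a9136a430c859) (.leaf 0x69a9228a42d9659)) (.node (.leaf 0xa45148a430c321) (.leaf 0))))) (.node (.node (.node (.node (.leaf 0x9b4d34d96cb2d9) (.leaf 0x4d351365b66430b)) (.node (.leaf 0x10c2db2cb) (.leaf 0x91366190b661))) (.node (.node (.leaf 0x4d45226d96cc2cb) (.leaf 0x135226d3521661861)) (.node (.leaf 0x5226d43216cc) (.leaf 0x11430c8616cc)))) (.node (.node (.node (.leaf 0x2452589b50badd6ec) (.leaf 0x6a42cb65b661)) (.node (.leaf 0x5142cb30c2cb) (.leaf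 0x48a42cb65990c))) (.node (.node (.leaf 0x1d92c91332c2eb65b) (.leaf 0x89a9148a165990b)) (.node (.leaf 0x5145226cb2db30c) (.leaf 0))))))

/-- transversal words -/
def tau65L0word : Trie :=
  tau65L0word0

/-- part of closing hints -/
def tau65L0close0 : Trie :=
  (.node (.node (.node (.node (.node (.node (.leaf 0x1) (.leaf 0x6)) (.node (.leaf 0x10) (.leaf 0x1004))) (.node (.node (.leaf 0x9) (.leaf 0x1c)) (.node (.leaf 0x14) (.leaf 0x1015)))) (.node (.node (.node (.leaf 0x5) (.leaf 0x1017)) (.node (.leaf 0x12) (.leaf 0x100c))) (.node (.node (.leaf 0xd) (.leaf 0x8)) (.node (.leaf 0x0) (.leaf 0))))) (.node (.node (.node (.node (.leaf 0x3) (.leaf 0x1b)) (.node (.leaf 0x11) (.leaf 0xa))) (.node (.node (.leaf 0xb) (.leaf 0x1a)) (.node (.leaf 0x16) (.leaf 0x2)))) (.node (.node (.node (.leaf 0x7) (.leaf 0x1d)) (.node (.leaf 0x13) (.leaf 0x1018))) (.node (.node (.leaf 0xe) (.leaf 0x100f)) (.node (.leaf 0x19) (.leaf 0)))))) (.node (.node (.node (.node (.node (.leaf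 0x2) (.leaf 0x1a)) (.node (.leaf 0x1009) (.leaf 0x11))) (.node (.node (.leaf 0xa) (.leaf 0x1016)) (.node (.leaf 0x15) (.leaf 0x1d)))) (.node (.node (.node (.leaf 0x6) (.leaf 0x1c)) (.node (.leaf 0x1) (.leaf 0x1019))) (.node (.node (.leaf 0x0) (.leaf 0x13)) (.node (.leaf 0x18) (.leaf 0))))) (.node (.node (.node (.node (.leaf 0x4) (.leaf 0xe)) (.node (.leaf 0x1003) (.leaf 0x1010))) (.node (.node (.leaf 0xc) (.leaf 0x5)) (.node (.leaf 0x17) (.leaf 0x12)))) (.node (.node (.node (.leaf 0x8) (.leaf 0x1014)) (.node (.leaf 0x7) (.leaf 0x100d))) (.node (.node (.leaf 0xf) (.leaf 0x101b)) (.node (.leaf 0xb) (.leaf 0)))))))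

/-- closing hints -/
def tau65L0close : Trie :=
  tau65L0close0

/-- a level -/
def tau65L0 : SLev := ⟨6, [0x9b4d34d96cb2d9, 0xa26d34d990b661], tau65L0tree, tau65L0word, 30, tau65L0close, [(26, 0)]⟩

/-- part of a tree -/
def tau65L1tree0 : Trie :=
  (.node (.leaf 0x0) (.leaf 0x0))

/-- a tree -/
def tau65L1tree : Trie :=
  tau65L1tree0

/-- part of transversal words -/
def tau65L1word0 : Trie :=
  (.node (.leaf 0x0) (.leaf 0x5132cc30b2cc))

/-- transversal words -/
def tau65L1word : Trie :=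
  tau65L1word0

/-- part of closing hints -/
def tau65L1close0 : Trie :=
  (.node (.leaf 0x1) (.leaf 0x0))

/-- closing hints -/
def tau65L1close : Trie :=
  tau65L1close0

/-- a level -/
def tau65L1 : SLev := ⟨9, [0x5132cc30b2cc], tau65L1tree, tau65L1word, 2, tau65L1close, []⟩

/-- a chain -/
def tau65 : List SLev := [tau65L0, tau65L1]

/-- a representative -/
def r65 : RepD := ⟨6, 9, 2, 0x28a2913664325661, 4, tau65, [0x8000, 8192], [0x1000000000, 0x1002005000000]⟩

/-- part of a tree -/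
def tau66L0tree0 : Trie :=
  (.node (.leaf 0x0) (.leaf 0x0))

/-- a tree -/
def tau66L0tree : Trie :=
  tau66L0tree0

/-- part of transversal words -/
def tau66L0word0 : Trie :=
  (.node (.leaf 0x0) (.leaf 0x5132cc30b2cc))

/-- transversal words -/
def tau66L0word : Trie :=
  tau66L0word0

/-- part of closing hints -/
def tau66L0close0 : Trie :=
  (.node (.leaf 0x1) (.leaf 0x0))

/-- closing hints -/
def tau66L0close : Trie :=
  tau66L0close0

/-- a level -/
def tau66L0 : SLev := ⟨9, [0x5132cc30b2cc], tau66L0tree, tau66L0word, 2, tau66L0close, []⟩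

/-- a chain -/
def tau66 : List SLev := [tau66L0]

/-- a representative -/
def r66 : RepD := ⟨6, 44, 5, 0x228ac964adb2dd, 120, tau66, [0x1000000], [0x1003000000]⟩

/-- part of a tree -/
def tau67L0tree0 : Trie :=
  (.node (.node (.node (.leaf 0x0) (.leaf 0x2)) (.node (.leaf 0x100000) (.leaf 0))) (.node (.node (.leaf 0x0) (.leaf 0)) (.node (.leaf 0x100001) (.leaf 0))))

/-- a tree -/
def tau67L0tree : Trie :=
  tau67L0tree0

/-- part of transversal words -/
def tau67L0word0 : Trie :=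
  (.node (.node (.node (.leaf 0x0) (.leaf 0x2269a8a165b2cb)) (.node (.leaf 0x289b4cb6cc85b) (.leaf 0))) (.node (.node (.leaf 0x5259256d375b764) (.leaf 0)) (.node (.leaf 0x228a430b2cc30b) (.leaf 0))))

/-- transversal words -/
def tau67L0word : Trie :=
  tau67L0word0

/-- part of closing hints -/
def tau67L0close0 : Trie :=
  (.node (.node (.node (.node (.leaf 0x1) (.leaf 0x2)) (.node (.leaf 0x4) (.leaf 0))) (.node (.node (.leaf 0x0) (.leaf 0)) (.node (.leaf 0x1003) (.leaf 0)))) (.node (.node (.node (.leaf 0x2) (.leaf 0x1004)) (.node (.leaf 0x0) (.leaf 0))) (.node (.node (.leaf 0x3) (.leaf 0)) (.node (.leaf 0x1) (.leaf 0)))))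

/-- closing hints -/
def tau67L0close : Trie :=
  tau67L0close0

/-- a level -/
def tau67L0 : SLev := ⟨6, [0x5259256d375b764, 0x289b4cb6cc85b], tau67L0tree, tau67L0word, 5, tau67L0close, [(4, 1)]⟩

/-- part of a tree -/
def tau67L1tree0 : Trie :=
  (.node (.leaf 0x0) (.leaf 0x0))

/-- a tree -/
def tau67L1tree : Trie :=
  tau67L1tree0

/-- part of transversal words -/
def tau67L1word0 : Trie :=
  (.node (.leaf 0x0) (.leaf 0x5132cc30b2cc))

/-- transversal words -/
def tau67L1word : Trie :=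
  tau67L1word0

/-- part of closing hints -/
def tau67L1close0 : Trie :=
  (.node (.leaf 0x1) (.leaf 0x0))

/-- closing hints -/
def tau67L1close : Trie :=
  tau67L1close0

/-- a level -/
def tau67L1 : SLev := ⟨9, [0x5132cc30b2cc], tau67L1tree, tau67L1word, 2, tau67L1close, []⟩

/-- a chain -/
def tau67 : List SLev := [tau67L0, tau67L1]

/-- a representative -/
def r67 : RepD := ⟨6, 353, 2, 0x12b5648a430b664, 24, tau67, [0x7000, 0x1012000], [0x4000000000, 0x1002000000000]⟩

/-- part of a tree -/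
def tau68L0tree0 : Trie :=
  (.node (.leaf 0x0) (.leaf 0x200000))

/-- a tree -/
def tau68L0tree : Trie :=
  tau68L0tree0

/-- part of transversal words -/
def tau68L0word0 : Trie :=
  (.node (.leaf 0x0) (.leaf 0x1489b524aeb32c2dd))

/-- transversal words -/
def tau68L0word : Trie :=
  tau68L0word0

/-- part of closing hints -/
def tau68L0close0 : Trie :=
  (.node (.node (.node (.leaf 0x1000000) (.leaf 0x1001)) (.node (.leaf 0x1) (.leaf 0))) (.node (.node (.leaf 0x1003000) (.leaf 0x1000000)) (.node (.leaf 0x1000001) (.leaf 0))))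

/-- closing hints -/
def tau68L0close : Trie :=
  tau68L0close0

/-- a level -/
def tau68L0 : SLev := ⟨0, [0x5132cc30b2cc, 0x91366190b661, 0x1489b524aeb32c2dd], tau68L0tree, tau68L0word, 2, tau68L0close, [(1, 2), (1, 1)]⟩

/-- part of a tree -/
def tau68L1tree0 : Trie :=
  (.node (.node (.node (.leaf 0x0) (.leaf 0x100002)) (.node (.leaf 0x1) (.leaf 0))) (.node (.node (.leaf 0x100000) (.leaf 0x100004)) (.node (.leaf 0x100001) (.leaf 0))))

/-- a tree -/
def tau68L1tree : Trie :=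
  tau68L1tree0

/-- part of transversal words -/
def tau68L1word0 : Trie :=
  (.node (.node (.node (.leaf 0x0) (.leaf 0x5226d43216cc)) (.node (.leaf 0x4d489b2cc85b) (.leaf 0))) (.node (.node (.leaf 0x18616cc) (.leaf 0x1226d45226cc8616cc)) (.node (.leaf 0x3321659) (.leaf 0))))

/-- transversal words -/
def tau68L1word : Trie :=
  tau68L1word0

/-- part of closing hints -/
def tau68L1close0 : Trie :=
  (.node (.node (.node (.node (.leaf 0x1000) (.leaf 0x1003)) (.node (.leaf 0x1) (.leaf 0))) (.node (.node (.leaf 0x2) (.leaf 0x1005)) (.node (.leaf 0x1004) (.leaf 0)))) (.node (.node (.node (.leaf 0x1) (.leaf 0x5)) (.node (.leaf 0x4) (.leaf 0))) (.node (.node (.leaf 0x3) (.leaf 0x2)) (.node (.leaf 0x0) (.leaf 0)))))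

/-- closing hints -/
def tau68L1close : Trie :=
  tau68L1close0

/-- a level -/
def tau68L1 : SLev := ⟨6, [0x5132cc30b2cc, 0x18616cc], tau68L1tree, tau68L1word, 6, tau68L1close, [(0, 0)]⟩

/-- part of a tree -/
def tau68L2tree0 : Trie :=
  (.node (.leaf 0x0) (.leaf 0x0))

/-- a tree -/
def tau68L2tree : Trie :=
  tau68L2tree0

/-- part of transversal words -/
def tau68L2word0 : Trie :=
  (.node (.leaf 0x0) (.leaf 0x5132cc30b2cc))

/-- transversal words -/
def tau68L2word : Trie :=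
  tau68L2word0

/-- part of closing hints -/
def tau68L2close0 : Trie :=
  (.node (.leaf 0x1) (.leaf 0x0))

/-- closing hints -/
def tau68L2close : Trie :=
  tau68L2close0

/-- a level -/
def tau68L2 : SLev := ⟨9, [0x5132cc30b2cc], tau68L2tree, tau68L2word, 2, tau68L2close, []⟩

/-- a chain -/
def tau68 : List SLev := [tau68L0, tau68L1, tau68L2]

/-- a representative -/
def r68 : RepD := ⟨6, 345, 6, 0x15b4ebad4b2c329, 10, tau68, [0x1000000, 0x100e000, 0x11001], [0x13000, 0x1014000, 0x1015001]⟩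

/-- part of a tree -/
def tau69L0tree0 : Trie :=
  (.node (.node (.node (.node (.leaf 0x0) (.leaf 0x5)) (.node (.leaf 0x2) (.leaf 0))) (.node (.node (.leaf 0x100000) (.leaf 0)) (.node (.leaf 0x3) (.leaf 0)))) (.node (.node (.node (.leaf 0x0) (.leaf 0x100005)) (.node (.leaf 0x100002) (.leaf 0))) (.node (.node (.leaf 0x100001) (.leaf 0)) (.node (.leaf 0x100003) (.leaf 0)))))

/-- a tree -/
def tau69L0tree : Trie :=
  tau69L0tree0

/-- part of transversal words -/
def tau69L0word0 : Trie :=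
  (.node (.node (.node (.node (.leaf 0x0) (.leaf 0x861861)) (.node (.leaf 0x134da6a28596cb2cb) (.leaf 0))) (.node (.node (.leaf 0x4d3659861659) (.leaf 0)) (.node (.leaf 0x5142cb30c861) (.leaf 0)))) (.node (.node (.node (.leaf 0xa26d36cc859) (.leaf 0x4d44da6d990c2cb)) (.node (.leaf 0x5148a489b30b2cb) (.leaf 0))) (.node (.node (.leaf 0x9a8a44db2d9661) (.leaf 0)) (.node (.leaf 0x5142cb30c2cb) (.leaf 0)))))

/-- transversal words -/
def tau69L0word : Trie :=
  tau69L0word0

/-- part of closing hints -/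
def tau69L0close0 : Trie :=
  (.node (.node (.node (.node (.node (.leaf 0x1) (.leaf 0x5)) (.node (.leaf 0x2) (.leaf 0))) (.node (.node (.leaf 0x4) (.leaf 0)) (.node (.leaf 0x3) (.leaf 0)))) (.node (.node (.node (.leaf 0x0) (.leaf 0x7)) (.node (.leaf 0x8) (.leaf 0))) (.node (.node (.leaf 0x6) (.leaf 0)) (.node (.leaf 0x9) (.leaf 0))))) (.node (.node (.node (.node (.leaf 0x2) (.leaf 0x4)) (.node (.leaf 0x1) (.leaf 0))) (.node (.node (.leaf 0x5) (.leaf 0)) (.node (.leaf 0x0) (.leaf 0)))) (.node (.node (.node (.leaf 0x3) (.leaf 0x6)) (.node (.leaf 0x9) (.leaf 0))) (.node (.node (.leaf 0x7) (.leaf 0)) (.node (.leaf 0x8) (.leaf 0))))))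

/-- closing hints -/
def tau69L0close : Trie :=
  tau69L0close0

/-- a level -/
def tau69L0 : SLev := ⟨6, [0xa26d36cc859, 0x4d3659861659], tau69L0tree, tau69L0word, 10, tau69L0close, []⟩

/-- a chain -/
def tau69 : List SLev := [tau69L0]

/-- a representative -/
def r69 : RepD := ⟨6, 2763, 5, 0xec8a44dba5b2dd, 24, tau69, [0x1002000, 0x1011000], [0x1000000, 0x4005000]⟩

/-- part of a tree -/
def tau70L0tree0 : Trie :=
  (.node (.node (.node (.node (.leaf 0x0) (.leaf 0x5)) (.node (.leaf 0x2) (.leaf 0))) (.node (.node (.leaf 0x100000) (.leaf 0)) (.node (.leaf 0x3) (.leaf 0)))) (.node (.node (.node (.leaf 0x0) (.leaf 0x100005)) (.node (.leaf 0x100002) (.leaf 0))) (.node (.node (.leaf 0x100001) (.leaf 0)) (.node (.leaf 0x100003) (.leaf 0)))))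

/-- a tree -/
def tau70L0tree : Trie :=
  tau70L0tree0

/-- part of transversal words -/
def tau70L0word0 : Trie :=
  (.node (.node (.node (.node (.leaf 0x0) (.leaf 0x861861)) (.node (.leaf 0x9a8a44db2d9661) (.leaf 0))) (.node (.node (.leaf 0x4d44da6d990c2cb) (.leaf 0)) (.node (.leaf 0x5148a489b30b2cb) (.leaf 0)))) (.node (.node (.node (.leaf 0x134da6a28596cb2cb) (.leaf 0x5142cb30c861)) (.node (.leaf 0x4d3659861659) (.leaf 0))) (.node (.node (.leaf 0x5142cb30c2cb) (.leaf 0)) (.node (.leaf 0xa26d36cc859) (.leaf 0)))))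

/-- transversal words -/
def tau70L0word : Trie :=
  tau70L0word0

/-- part of closing hints -/
def tau70L0close0 : Trie :=
  (.node (.node (.node (.node (.node (.leaf 0x1) (.leaf 0x5)) (.node (.leaf 0x2) (.leaf 0))) (.node (.node (.leaf 0x4) (.leaf 0)) (.node (.leaf 0x3) (.leaf 0)))) (.node (.node (.node (.leaf 0x0) (.leaf 0x7)) (.node (.leaf 0x8) (.leaf 0))) (.node (.node (.leaf 0x6) (.leaf 0)) (.node (.leaf 0x9) (.leaf 0))))) (.node (.node (.node (.node (.leaf 0x2) (.leaf 0x4)) (.node (.leaf 0x1) (.leaf 0))) (.node (.node (.leaf 0x5) (.leaf 0)) (.node (.leaf 0x0) (.leaf 0)))) (.node (.node (.node (.leaf 0x3) (.leaf 0x6)) (.node (.leaf 0x9) (.leaf 0))) (.node (.node (.leaf 0x7) (.leaf 0)) (.node (.leaf 0x8) (.leaf 0))))))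

/-- closing hints -/
def tau70L0close : Trie :=
  tau70L0close0

/-- a level -/
def tau70L0 : SLev := ⟨6, [0x134da6a28596cb2cb, 0x4d44da6d990c2cb], tau70L0tree, tau70L0word, 10, tau70L0close, []⟩

/-- a chain -/
def tau70 : List SLev := [tau70L0]

/-- a representative -/
def r70 : RepD := ⟨6, 0x52cb, 4, 0x456495d7655256d9, 24, tau70, [0x14000, 0x1c000], [0x3009000, 0x1000009000]⟩

/-- part of a tree -/
def tau71L0tree0 : Trie :=
  (.node (.node (.node (.leaf 0x0) (.leaf 0x100003)) (.node (.leaf 0x100001) (.leaf 0))) (.node (.node (.leaf 0x0) (.leaf 0)) (.node (.leaf 0x2) (.leaf 0))))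

/-- a tree -/
def tau71L0tree : Trie :=
  tau71L0tree0

/-- part of transversal words -/
def tau71L0word0 : Trie :=
  (.node (.node (.node (.leaf 0x0) (.leaf 0x2269a8a165b2cb)) (.node (.leaf 0x4d45226d96cc2cb) (.leaf 0))) (.node (.node (.leaf 0x289b4cb6cc85b) (.leaf 0)) (.node (.leaf 0x861861) (.leaf 0))))

/-- transversal words -/
def tau71L0word : Trie :=
  tau71L0word0

/-- part of closing hints -/
def tau71L0close0 : Trie :=
  (.node (.node (.node (.node (.leaf 0x1) (.leaf 0x1004)) (.node (.leaf 0x3) (.leaf 0))) (.node (.node (.leaf 0x0) (.leaf 0)) (.node (.leaf 0x2) (.leaf 0)))) (.node (.node (.node (.leaf 0x1000) (.leaf 0x3)) (.node (.leaf 0x1) (.leaf 0))) (.node (.node (.leaf 0x2) (.leaf 0)) (.node (.leaf 0x4) (.leaf 0)))))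

/-- closing hints -/
def tau71L0close : Trie :=
  tau71L0close0

/-- a level -/
def tau71L0 : SLev := ⟨6, [0x289b4cb6cc85b, 0x5132cc30b2cc], tau71L0tree, tau71L0word, 5, tau71L0close, [(0, 1)]⟩

/-- part of a tree -/
def tau71L1tree0 : Trie :=
  (.node (.leaf 0x0) (.leaf 0x0))

/-- a tree -/
def tau71L1tree : Trie :=
  tau71L1tree0

/-- part of transversal words -/
def tau71L1word0 : Trie :=
  (.node (.leaf 0x0) (.leaf 0x5132cc30b2cc))

/-- transversal words -/
def tau71L1word : Trie :=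
  tau71L1word0

/-- part of closing hints -/
def tau71L1close0 : Trie :=
  (.node (.leaf 0x1) (.leaf 0x0))

/-- closing hints -/
def tau71L1close : Trie :=
  tau71L1close0

/-- a level -/
def tau71L1 : SLev := ⟨9, [0x5132cc30b2cc], tau71L1tree, tau71L1word, 2, tau71L1close, []⟩

/-- a chain -/
def tau71 : List SLev := [tau71L0, tau71L1]

/-- a representative -/
def r71 : RepD := ⟨6, 2657, 5, 0x92596589badba59, 24, tau71, [0x1012000, 0x1000000], [0x2000000, 0x1000000]⟩

/-- part of a tree -/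
def tau72L0tree0 : Trie :=
  (.node (.leaf 0x0) (.leaf 0x0))

/-- a tree -/
def tau72L0tree : Trie :=
  tau72L0tree0

/-- part of transversal words -/
def tau72L0word0 : Trie :=
  (.node (.leaf 0x0) (.leaf 0x5132cc30b2cc))

/-- transversal words -/
def tau72L0word : Trie :=
  tau72L0word0

/-- part of closing hints -/
def tau72L0close0 : Trie :=
  (.node (.leaf 0x1) (.leaf 0x0))

/-- closing hints -/
def tau72L0close : Trie :=
  tau72L0close0

/-- a level -/
def tau72L0 : SLev := ⟨9, [0x5132cc30b2cc], tau72L0tree, tau72L0word, 2, tau72L0close, []⟩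

/-- a chain -/
def tau72 : List SLev := [tau72L0]

/-- a representative -/
def r72 : RepD := ⟨6, 340, 5, 0x15badd6d42dd, 120, tau72, [0x1000000], [0x1003000000]⟩

/-- part of a tree -/
def tau73L0tree0 : Trie :=
  (.node (.leaf 0x0) (.leaf 0x0))

/-- a tree -/
def tau73L0tree : Trie :=
  tau73L0tree0

/-- part of transversal words -/
def tau73L0word0 : Trie :=
  (.node (.leaf 0x0) (.leaf 0x1489b524aeb32c2dd))

/-- transversal words -/
def tau73L0word : Trie :=
  tau73L0word0

/-- part of closing hints -/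
def tau73L0close0 : Trie :=
  (.node (.node (.leaf 0x1) (.leaf 0x1000000)) (.node (.leaf 0xe001) (.leaf 0x1000)))

/-- closing hints -/
def tau73L0close : Trie :=
  tau73L0close0

/-- a level -/
def tau73L0 : SLev := ⟨0, [0x1489b524aeb32c2dd, 0x11491495b75baec], tau73L0tree, tau73L0word, 2, tau73L0close, [(1, 0), (1, 1)]⟩

/-- part of a tree -/
def tau73L1tree0 : Trie :=
  (.node (.node (.node (.node (.node (.leaf 0x0) (.leaf 0xc)) (.node (.leaf 0x100004) (.leaf 0x100014))) (.node (.node (.leaf 0x100002) (.leaf 0x10000f)) (.node (.leaf 0x100008) (.leaf 0x100019)))) (.node (.node (.node (.leaf 0x1) (.leaf 0x10000e)) (.node (.leaf 0x6) (.leaf 0x100016))) (.node (.node (.leaf 0x100003) (.leaf 0x12)) (.node (.leaf 0x100009) (.leaf 0))))) (.node (.node (.node (.node (.leaf 0x100000) (.leaf 0xe)) (.node (.leaf 0x100005) (.leaf 0x100015))) (.node (.node (.leaf 0x3) (.leaf 0x100010)) (.node (.leaf 0x9) (.leaf 0x10001a)))) (.node (.node (.node (.leaf 0x100001) (.leaf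 0xf)) (.node (.leaf 0x8) (.leaf 0x19))) (.node (.node (.leaf 0x4) (.leaf 0x14)) (.node (.leaf 0x10000a) (.leaf 0))))))

/-- a tree -/
def tau73L1tree : Trie :=
  tau73L1tree0

/-- part of transversal words -/
def tau73L1word0 : Trie :=
  (.node (.node (.node (.node (.node (.leaf 0x0) (.leaf 0x6a42d96642d9)) (.node (.leaf 0x89b5144cb65b30b) (.leaf 0x144da69b321861))) (.node (.node (.leaf 0x135226d3521661861) (.leaf 0x134da6a28596cb2cb)) (.node (.leaf 0x430b661) (.leaf 0x289b4cb6cc85b)))) (.node (.node (.node (.leaf 0x9a69b2cc85b) (.leaf 0x5228a450b2d985b)) (.node (.leaf 0x244da8a42db2cb) (.leaf 0x4d45226d96cc2cb))) (.node (.node (.leaf 0x1d92c91332c2eb65b) (.leaf 0xa26d34d990b661)) (.node (.leaf 0x134d36a430c859) (.leaf 0))))) (.node (.node (.node (.node (.leaf 0x9b4d34d96cb2d9) (.leaf 0x5142cb30c861)) (.node (.leaf 0x228a430b2cc30b) (.leaf 0x4d49148616cc))) (.node (.node (.leaf 0x5148a489b30b2cb) (.leaf 0x34da8a430b65b)) (.node (.leaf 0x45134da6d990c2cb)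 (.leaf 0x5142cb30c2cb)))) (.node (.node (.node (.leaf 0x2452589b50badd6ec) (.leaf 0x16642cb)) (.node (.leaf 0x142d965b30b) (.leaf 0x89b4d36998642cc))) (.node (.node (.leaf 0x1226cc321861) (.leaf 0x11430c8616cc)) (.node (.leaf 0x3321659) (.leaf 0))))))

/-- transversal words -/
def tau73L1word : Trie :=
  tau73L1word0

/-- part of closing hints -/
def tau73L1close0 : Trie :=
  (.node (.node (.node (.node (.node (.node (.leaf 0x1000) (.leaf 0xc)) (.node (.leaf 0xb) (.leaf 0x1015))) (.node (.node (.leaf 0x7) (.leaf 0x17)) (.node (.leaf 0x10) (.leaf 0x1a)))) (.node (.node (.node (.leaf 0x1) (.leaf 0x16)) (.node (.leaf 0x6) (.leaf 0x1c))) (.node (.node (.leaf 0xa) (.leaf 0x12)) (.node (.leaf 0x11) (.leaf 0))))) (.node (.node (.node (.node (.leaf 0x2) (.leaf 0xe)) (.node (.leaf 0xd) (.leaf 0x1b))) (.node (.node (.leaf 0x3) (.leaf 0x1018)) (.node (.leaf 0x9) (.leaf 0x101d)))) (.node (.node (.node (.leaf 0x5) (.leaf 0xf)) (.node (.leaf 0x8) (.leaf 0x19))) (.node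 (.node (.leaf 0x4) (.leaf 0x14)) (.node (.leaf 0x13) (.leaf 0)))))) (.node (.node (.node (.node (.node (.leaf 0x1) (.leaf 0x15)) (.node (.leaf 0xc) (.leaf 0x100b))) (.node (.node (.leaf 0x8) (.leaf 0x18)) (.node (.leaf 0xd) (.leaf 0x11)))) (.node (.node (.node (.leaf 0x4) (.leaf 0x13)) (.node (.leaf 0xf) (.leaf 0x1d))) (.node (.node (.leaf 0x1007) (.leaf 0x1a)) (.node (.leaf 0x12) (.leaf 0))))) (.node (.node (.node (.node (.leaf 0x3) (.leaf 0x10)) (.node (.leaf 0xe) (.leaf 0x1c))) (.node (.node (.leaf 0x9) (.leaf 0x19)) (.node (.leaf 0x2) (.leaf 0x101b)))) (.node (.node (.node (.leaf 0x6) (.leaf 0x5)) (.node (.leaf 0x100a) (.leaf 0x1017))) (.node (.node (.leaf 0x1000) (.leaf 0x16)) (.node (.leaf 0x14) (.leaf 0)))))))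

/-- closing hints -/
def tau73L1close : Trie :=
  tau73L1close0

/-- a level -/
def tau73L1 : SLev := ⟨6, [0x5132cc30b2cc, 0x9b4d34d96cb2d9], tau73L1tree, tau73L1word, 30, tau73L1close, [(29, 1)]⟩

/-- part of a tree -/
def tau73L2tree0 : Trie :=
  (.node (.leaf 0x0) (.leaf 0x0))

/-- a tree -/
def tau73L2tree : Trie :=
  tau73L2tree0

/-- part of transversal words -/
def tau73L2word0 : Trie :=
  (.node (.leaf 0x0) (.leaf 0x5132cc30b2cc))

/-- transversal words -/
def tau73L2word : Trie :=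
  tau73L2word0

/-- part of closing hints -/
def tau73L2close0 : Trie :=
  (.node (.leaf 0x1) (.leaf 0x0))

/-- closing hints -/
def tau73L2close : Trie :=
  tau73L2close0

/-- a level -/
def tau73L2 : SLev := ⟨9, [0x5132cc30b2cc], tau73L2tree, tau73L2word, 2, tau73L2close, []⟩

/-- a chain -/
def tau73 : List SLev := [tau73L0, tau73L1, tau73L2]

/-- a representative -/
def r73 : RepD := ⟨6, 43, 3, 0xda6d3acc864, 2, tau73, [0x11001, 1], [0x100100501a005, 0x100400101a005]⟩

/-- part of a tree -/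
def tau74L0tree0 : Trie :=
  (.node (.leaf 0x0) (.leaf 0x100000))

/-- a tree -/
def tau74L0tree : Trie :=
  tau74L0tree0

/-- part of transversal words -/
def tau74L0word0 : Trie :=
  (.node (.leaf 0x0) (.leaf 0x1489b524aeb32c2dd))

/-- transversal words -/
def tau74L0word : Trie :=
  tau74L0word0

/-- part of closing hints -/
def tau74L0close0 : Trie :=
  (.node (.node (.node (.leaf 0x1000000) (.leaf 0x1000000)) (.node (.leaf 0x1000) (.leaf 0))) (.node (.node (.leaf 0x1) (.leaf 0x1003001)) (.node (.leaf 0x1000001) (.leaf 0))))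

/-- closing hints -/
def tau74L0close : Trie :=
  tau74L0close0

/-- a level -/
def tau74L0 : SLev := ⟨0, [0x5132cc30b2cc, 0x1489b524aeb32c2dd, 0x5226d43216cc], tau74L0tree, tau74L0word, 2, tau74L0close, [(1, 0), (0, 2)]⟩

/-- part of a tree -/
def tau74L1tree0 : Trie :=
  (.node (.node (.node (.leaf 0x0) (.leaf 0x100002)) (.node (.leaf 0x1) (.leaf 0))) (.node (.node (.leaf 0x100000) (.leaf 0x100004)) (.node (.leaf 0x100001) (.leaf 0))))

/-- a tree -/
def tau74L1tree : Trie :=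
  tau74L1tree0

/-- part of transversal words -/
def tau74L1word0 : Trie :=
  (.node (.node (.node (.leaf 0x0) (.leaf 0x18616cc)) (.node (.leaf 0x91366190b661) (.leaf 0))) (.node (.node (.leaf 0x5226d43216cc) (.leaf 0x5142cb30c2cb)) (.node (.leaf 0x6a42d96642d9) (.leaf 0))))

/-- transversal words -/
def tau74L1word : Trie :=
  tau74L1word0

/-- part of closing hints -/
def tau74L1close0 : Trie :=
  (.node (.node (.node (.node (.leaf 0x1000) (.leaf 0x1003)) (.node (.leaf 0x1) (.leaf 0))) (.node (.node (.leaf 0x2) (.leaf 0x1005)) (.node (.leaf 0x1004) (.leaf 0)))) (.node (.node (.node (.leaf 0x1) (.leaf 0x5)) (.node (.leaf 0x4) (.leaf 0))) (.node (.node (.leaf 0x3) (.leaf 0x2)) (.node (.leaf 0x0) (.leaf 0)))))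

/-- closing hints -/
def tau74L1close : Trie :=
  tau74L1close0

/-- a level -/
def tau74L1 : SLev := ⟨6, [0x5132cc30b2cc, 0x5226d43216cc], tau74L1tree, tau74L1word, 6, tau74L1close, [(0, 0)]⟩

/-- part of a tree -/
def tau74L2tree0 : Trie :=
  (.node (.leaf 0x0) (.leaf 0x0))

/-- a tree -/
def tau74L2tree : Trie :=
  tau74L2tree0

/-- part of transversal words -/
def tau74L2word0 : Trie :=
  (.node (.leaf 0x0) (.leaf 0x5132cc30b2cc))

/-- transversal words -/
def tau74L2word : Trie :=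
  tau74L2word0

/-- part of closing hints -/
def tau74L2close0 : Trie :=
  (.node (.leaf 0x1) (.leaf 0x0))

/-- closing hints -/
def tau74L2close : Trie :=
  tau74L2close0

/-- a level -/
def tau74L2 : SLev := ⟨9, [0x5132cc30b2cc], tau74L2tree, tau74L2word, 2, tau74L2close, []⟩

/-- a chain -/
def tau74 : List SLev := [tau74L0, tau74L1, tau74L2]

/-- a representative -/
def r74 : RepD := ⟨6, 2649, 6, 0xad965b30b, 10, tau74, [0x1000000, 0x11001, 0x1001000], [0x16000, 0xf001, 0x100a000]⟩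

/-- part of a tree -/
def tau75L0tree0 : Trie :=
  (.node (.leaf 0x0) (.leaf 0x0))

/-- a tree -/
def tau75L0tree : Trie :=
  tau75L0tree0

/-- part of transversal words -/
def tau75L0word0 : Trie :=
  (.node (.leaf 0x0) (.leaf 0x5132cc30b2cc))

/-- transversal words -/
def tau75L0word : Trie :=
  tau75L0word0

/-- part of closing hints -/
def tau75L0close0 : Trie :=
  (.node (.leaf 0x1) (.leaf 0x0))

/-- closing hints -/
def tau75L0close : Trie :=
  tau75L0close0

/-- a level -/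
def tau75L0 : SLev := ⟨9, [0x5132cc30b2cc], tau75L0tree, tau75L0word, 2, tau75L0close, []⟩

/-- a chain -/
def tau75 : List SLev := [tau75L0]

/-- a representative -/
def r75 : RepD := ⟨6, 0x14b2ec, 7, 0x114b2292b74b75d, 120, tau75, [0x1000000], [0x1000000]⟩

/-- part of a tree -/
def tau76L0tree0 : Trie :=
  (.node (.leaf 0x0) (.leaf 0x100000))

/-- a tree -/
def tau76L0tree : Trie :=
  tau76L0tree0

/-- part of transversal words -/
def tau76L0word0 : Trie :=
  (.node (.leaf 0x0) (.leaf 0x3ada914a996cc965))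

/-- transversal words -/
def tau76L0word : Trie :=
  tau76L0word0

/-- part of closing hints -/
def tau76L0close0 : Trie :=
  (.node (.node (.leaf 0x1000) (.leaf 0x1001)) (.node (.leaf 0x1) (.leaf 0x0)))

/-- closing hints -/
def tau76L0close : Trie :=
  tau76L0close0

/-- a level -/
def tau76L0 : SLev := ⟨0, [0x45134da6d990c2cb, 0x3ada914a996cc965], tau76L0tree, tau76L0word, 2, tau76L0close, [(1, 0)]⟩

/-- part of a tree -/
def tau76L1tree0 : Trie :=
  (.node (.leaf 0x0) (.leaf 0x0))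

/-- a tree -/
def tau76L1tree : Trie :=
  tau76L1tree0

/-- part of transversal words -/
def tau76L1word0 : Trie :=
  (.node (.leaf 0x0) (.leaf 0x45134da6d990c2cb))

/-- transversal words -/
def tau76L1word : Trie :=
  tau76L1word0

/-- part of closing hints -/
def tau76L1close0 : Trie :=
  (.node (.leaf 0x1) (.leaf 0x0))

/-- closing hints -/
def tau76L1close : Trie :=
  tau76L1close0

/-- a level -/
def tau76L1 : SLev := ⟨6, [0x45134da6d990c2cb], tau76L1tree, tau76L1word, 2, tau76L1close, []⟩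

/-- a chain -/
def tau76 : List SLev := [tau76L0, tau76L1]

/-- a representative -/
def r76 : RepD := ⟨6, 0x14b6eb, 6, 0x355baebada65bae9, 60, tau76, [0x13000, 0x17001], [0x13000, 0x1004001]⟩

/-- part of a tree -/
def tau77L0tree0 : Trie :=
  (.node (.leaf 0x0) (.leaf 0x0))

/-- a tree -/
def tau77L0tree : Trie :=
  tau77L0tree0

/-- part of transversal words -/
def tau77L0word0 : Trie :=
  (.node (.leaf 0x0) (.leaf 0x9a8a44db2d9661))

/-- transversal words -/
def tau77L0word : Trie :=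
  tau77L0word0

/-- part of closing hints -/
def tau77L0close0 : Trie :=
  (.node (.leaf 0x1) (.leaf 0x0))

/-- closing hints -/
def tau77L0close : Trie :=
  tau77L0close0

/-- a level -/
def tau77L0 : SLev := ⟨6, [0x9a8a44db2d9661], tau77L0tree, tau77L0word, 2, tau77L0close, []⟩

/-- a chain -/
def tau77 : List SLev := [tau77L0]

/-- a representative -/
def r77 : RepD := ⟨6, 0x296dd, 6, 0x2455a6eb7542d9, 120, tau77, [0x1006000], [0x1000000]⟩

/-- part of a tree -/
def tau78L0tree0 : Trie :=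
  (.node (.node (.node (.node (.leaf 0x0) (.leaf 0x6)) (.node (.leaf 0x2) (.leaf 0))) (.node (.node (.leaf 0x100000) (.leaf 0)) (.node (.leaf 0x100004) (.leaf 0)))) (.node (.node (.node (.leaf 0x0) (.leaf 0x7)) (.node (.leaf 0x3) (.leaf 0))) (.node (.node (.leaf 0x100001) (.leaf 0)) (.node (.leaf 0x100005) (.leaf 0)))))

/-- a tree -/
def tau78L0tree : Trie :=
  tau78L0tree0

/-- part of transversal words -/
def tau78L0word0 : Trie :=
  (.node (.node (.node (.node (.leaf 0x0) (.leaf 0x5145226cb2db30c)) (.node (.leaf 0x135226d3521661861) (.leaf 0))) (.node (.node (.leaf 0x10c2db2cb) (.leaf 0)) (.node (.leaf 0x134da6a28596cb2cb) (.leaf 0)))) (.node (.node (.node (.leaf 0x1226d45226cc8616cc) (.leaf 0x5228a450b2d985b)) (.node (.leaf 0x289b4cb6cc85b) (.leaf 0))) (.node (.node (.leaf 0x134d351366190b661) (.leaf 0)) (.node (.leaf 0x69a9228a42d9659) (.leaf 0)))))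

/-- transversal words -/
def tau78L0word : Trie :=
  tau78L0word0

/-- part of closing hints -/
def tau78L0close0 : Trie :=
  (.node (.node (.node (.node (.node (.leaf 0x1) (.leaf 0x6)) (.node (.leaf 0x2) (.leaf 0))) (.node (.node (.leaf 0x4) (.leaf 0)) (.node (.leaf 0x8) (.leaf 0)))) (.node (.node (.node (.leaf 0x0) (.leaf 0x7)) (.node (.leaf 0x3) (.leaf 0))) (.node (.node (.leaf 0x5) (.leaf 0)) (.node (.leaf 0x9) (.leaf 0))))) (.node (.node (.node (.node (.leaf 0x2) (.leaf 0x9)) (.node (.leaf 0x6) (.leaf 0))) (.node (.node (.leaf 0x0) (.leaf 0)) (.node (.leaf 0x4) (.leaf 0)))) (.node (.node (.node (.leaf 0x3) (.leaf 0x8)) (.node (.leaf 0x7) (.leaf 0))) (.node (.node (.leaf 0x1) (.leaf 0)) (.node (.leaf 0x5) (.leaf 0))))))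

/-- closing hints -/
def tau78L0close : Trie :=
  tau78L0close0

/-- a level -/
def tau78L0 : SLev := ⟨6, [0x1226d45226cc8616cc, 0x10c2db2cb], tau78L0tree, tau78L0word, 10, tau78L0close, []⟩

/-- a chain -/
def tau78 : List SLev := [tau78L0]

/-- a representative -/
def r78 : RepD := ⟨6, 0x52dba61, 6, 0x289a9134d96eb2cb, 24, tau78, [0x19000, 0x1017000], [0x1d000, 0x7000]⟩

/-- part of a tree -/
def tau79L0tree0 : Trie :=
  (.node (.leaf 0x0) (.leaf 0x0))

/-- a tree -/
def tau79L0tree : Trie :=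
  tau79L0tree0

/-- part of transversal words -/
def tau79L0word0 : Trie :=
  (.node (.leaf 0x0) (.leaf 0x9a92a74bb29))

/-- transversal words -/
def tau79L0word : Trie :=
  tau79L0word0

/-- part of closing hints -/
def tau79L0close0 : Trie :=
  (.node (.node (.leaf 0x1) (.leaf 0x0)) (.node (.leaf 0x1000) (.leaf 0x1001)))

/-- closing hints -/
def tau79L0close : Trie :=
  tau79L0close0

/-- a level -/
def tau79L0 : SLev := ⟨0, [0x9a92a74bb29, 0x5132cc30b2cc], tau79L0tree, tau79L0word, 2, tau79L0close, [(0, 1)]⟩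

/-- part of a tree -/
def tau79L1tree0 : Trie :=
  (.node (.leaf 0x0) (.leaf 0x0))

/-- a tree -/
def tau79L1tree : Trie :=
  tau79L1tree0

/-- part of transversal words -/
def tau79L1word0 : Trie :=
  (.node (.leaf 0x0) (.leaf 0x5132cc30b2cc))

/-- transversal words -/
def tau79L1word : Trie :=
  tau79L1word0

/-- part of closing hints -/
def tau79L1close0 : Trie :=
  (.node (.leaf 0x1) (.leaf 0x0))

/-- closing hints -/
def tau79L1close : Trie :=
  tau79L1close0

/-- a level -/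
def tau79L1 : SLev := ⟨9, [0x5132cc30b2cc], tau79L1tree, tau79L1word, 2, tau79L1close, []⟩

/-- a chain -/
def tau79 : List SLev := [tau79L0, tau79L1]

/-- a representative -/
def r79 : RepD := ⟨6, 0x14c959, 4, 0x16592592a90c2d9, 60, tau79, [0x101d001, 0x1000000], [0x1002004003, 0x1000002000]⟩

/-- part of a tree -/
def tau80L0tree0 : Trie :=
  (.node (.node (.node (.node (.leaf 0x0) (.leaf 0x6)) (.node (.leaf 0x2) (.leaf 0))) (.node (.node (.leaf 0x100000) (.leaf 0)) (.node (.leaf 0x100004) (.leaf 0)))) (.node (.node (.node (.leaf 0x0) (.leaf 0x7)) (.node (.leaf 0x3) (.leaf 0))) (.node (.node (.leaf 0x100001) (.leaf 0)) (.node (.leaf 0x100005) (.leaf 0)))))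

/-- a tree -/
def tau80L0tree : Trie :=
  tau80L0tree0

/-- part of transversal words -/
def tau80L0word0 : Trie :=
  (.node (.node (.node (.node (.leaf 0x0) (.leaf 0x134d351366190b661)) (.node (.leaf 0x5145226cb2db30c) (.leaf 0))) (.node (.node (.leaf 0x5228a450b2d985b) (.leaf 0)) (.node (.leaf 0x1226d45226cc8616cc) (.leaf 0)))) (.node (.node (.node (.leaf 0x10c2db2cb) (.leaf 0x134da6a28596cb2cb)) (.node (.leaf 0x289b4cb6cc85b) (.leaf 0))) (.node (.node (.leaf 0x69a9228a42d9659) (.leaf 0)) (.node (.leaf 0x135226d3521661861) (.leaf 0)))))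

/-- transversal words -/
def tau80L0word : Trie :=
  tau80L0word0

/-- part of closing hints -/
def tau80L0close0 : Trie :=
  (.node (.node (.node (.node (.node (.leaf 0x1) (.leaf 0x6)) (.node (.leaf 0x2) (.leaf 0))) (.node (.node (.leaf 0x4) (.leaf 0)) (.node (.leaf 0x8) (.leaf 0)))) (.node (.node (.node (.leaf 0x0) (.leaf 0x7)) (.node (.leaf 0x3) (.leaf 0))) (.node (.node (.leaf 0x5) (.leaf 0)) (.node (.leaf 0x9) (.leaf 0))))) (.node (.node (.node (.node (.leaf 0x2) (.leaf 0x9)) (.node (.leaf 0x6) (.leaf 0))) (.node (.node (.leaf 0x0) (.leaf 0)) (.node (.leaf 0x4) (.leaf 0)))) (.node (.node (.node (.leaf 0x3) (.leaf 0x8)) (.node (.leaf 0x7) (.leaf 0))) (.node (.node (.leaf 0x1) (.leaf 0)) (.node (.leaf 0x5) (.leaf 0))))))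

/-- closing hints -/
def tau80L0close : Trie :=
  tau80L0close0

/-- a level -/
def tau80L0 : SLev := ⟨6, [0x10c2db2cb, 0x5228a450b2d985b], tau80L0tree, tau80L0word, 10, tau80L0close, []⟩

/-- a chain -/
def tau80 : List SLev := [tau80L0]

/-- a representative -/
def r80 : RepD := ⟨6, 0xa5b661, 5, 0x4d5753b252ec, 24, tau80, [0x1017000, 0x3000], [0x1000000, 0x4000000]⟩

/-- part of a tree -/
def tau81L0tree0 : Trie :=
  (.node (.leaf 0x0) (.leaf 0x100000))

/-- a tree -/
def tau81L0tree : Trie :=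
  tau81L0tree0

/-- part of transversal words -/
def tau81L0word0 : Trie :=
  (.node (.leaf 0x0) (.leaf 0x145159259136ec95b))

/-- transversal words -/
def tau81L0word : Trie :=
  tau81L0word0

/-- part of closing hints -/
def tau81L0close0 : Trie :=
  (.node (.node (.leaf 0x1004000) (.leaf 0x1001)) (.node (.leaf 0x1) (.leaf 0x1000000)))

/-- closing hints -/
def tau81L0close : Trie :=
  tau81L0close0

/-- a level -/
def tau81L0 : SLev := ⟨0, [0x16642cb, 0x145159259136ec95b], tau81L0tree, tau81L0word, 2, tau81L0close, [(1, 1), (1, 0)]⟩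

/-- part of a tree -/
def tau81L1tree0 : Trie :=
  (.node (.node (.node (.leaf 0x0) (.leaf 0x100002)) (.node (.leaf 0x1) (.leaf 0))) (.node (.node (.leaf 0x100000) (.leaf 0x100004)) (.node (.leaf 0x100001) (.leaf 0))))

/-- a tree -/
def tau81L1tree : Trie :=
  tau81L1tree0

/-- part of transversal words -/
def tau81L1word0 : Trie :=
  (.node (.node (.node (.leaf 0x0) (.leaf 0x5226d43216cc)) (.node (.leaf 0x4d489b2cc85b) (.leaf 0))) (.node (.node (.leaf 0x18616cc) (.leaf 0x1226d45226cc8616cc)) (.node (.leaf 0x3321659) (.leaf 0))))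

/-- transversal words -/
def tau81L1word : Trie :=
  tau81L1word0

/-- part of closing hints -/
def tau81L1close0 : Trie :=
  (.node (.node (.node (.node (.leaf 0x1000) (.leaf 0x1003)) (.node (.leaf 0x1) (.leaf 0))) (.node (.node (.leaf 0x2) (.leaf 0x1005)) (.node (.leaf 0x1004) (.leaf 0)))) (.node (.node (.node (.leaf 0x1) (.leaf 0x5)) (.node (.leaf 0x4) (.leaf 0))) (.node (.node (.leaf 0x3) (.leaf 0x2)) (.node (.leaf 0x0) (.leaf 0)))))

/-- closing hints -/
def tau81L1close : Trie :=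
  tau81L1close0

/-- a level -/
def tau81L1 : SLev := ⟨6, [0x5132cc30b2cc, 0x18616cc], tau81L1tree, tau81L1word, 6, tau81L1close, [(3, 0)]⟩

/-- part of a tree -/
def tau81L2tree0 : Trie :=
  (.node (.leaf 0x0) (.leaf 0x0))

/-- a tree -/
def tau81L2tree : Trie :=
  tau81L2tree0

/-- part of transversal words -/
def tau81L2word0 : Trie :=
  (.node (.leaf 0x0) (.leaf 0x5132cc30b2cc))

/-- transversal words -/
def tau81L2word : Trie :=
  tau81L2word0

/-- part of closing hints -/
def tau81L2close0 : Trie :=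
  (.node (.leaf 0x1) (.leaf 0x0))

/-- closing hints -/
def tau81L2close : Trie :=
  tau81L2close0

/-- a level -/
def tau81L2 : SLev := ⟨9, [0x5132cc30b2cc], tau81L2tree, tau81L2word, 2, tau81L2close, []⟩

/-- a chain -/
def tau81 : List SLev := [tau81L0, tau81L1, tau81L2]

/-- a representative -/
def r81 : RepD := ⟨6, 2713, 6, 0x455d6d4b2c32badd, 10, tau81, [4096, 0x1011001], [0x1010000, 0x11001]⟩

/-- part of a tree -/
def tau82L0tree0 : Trie :=
  (.node (.leaf 0x0) (.leaf 0x0))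

/-- a tree -/
def tau82L0tree : Trie :=
  tau82L0tree0

/-- part of transversal words -/
def tau82L0word0 : Trie :=
  (.node (.leaf 0x0) (.leaf 0x1489b524aeb32c2dd))

/-- transversal words -/
def tau82L0word : Trie :=
  tau82L0word0

/-- part of closing hints -/
def tau82L0close0 : Trie :=
  (.node (.node (.leaf 0x1) (.leaf 0x1000000)) (.node (.leaf 0x1000) (.leaf 0x2001)))

/-- closing hints -/
def tau82L0close : Trie :=
  tau82L0close0

/-- a level -/
def tau82L0 : SLev := ⟨0, [0x1489b524aeb32c2dd, 0xa26d34d990b661], tau82L0tree, tau82L0word, 2, tau82L0close, [(0, 1), (1, 0), (1, 1)]⟩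

/-- part of a tree -/
def tau82L1tree0 : Trie :=
  (.node (.node (.node (.node (.node (.leaf 0x0) (.leaf 0x8)) (.node (.leaf 0x4) (.leaf 0xf))) (.node (.node (.leaf 0x200001) (.leaf 0xa)) (.node (.leaf 0x100005) (.leaf 0x100012)))) (.node (.node (.node (.leaf 0x200000) (.leaf 0x200008)) (.node (.leaf 0x200004) (.leaf 0x20000f))) (.node (.node (.leaf 0x100002) (.leaf 0xd)) (.node (.leaf 0x6) (.leaf 0))))) (.node (.node (.node (.node (.leaf 0x0) (.leaf 0x100008)) (.node (.leaf 0x100004) (.leaf 0x10000f))) (.node (.node (.leaf 0x2) (.leaf 0x20000b)) (.node (.leaf 0x200005) (.leaf 0x100016)))) (.node (.node (.node (.leaf 0x1) (.leaf 0x9)) (.node (.leaf 0x5) (.leaf 0x12))) (.node (.node (.leaf 0x200003) (.leaf 0x10000d)) (.node (.leaf 0x7) (.leaf 0))))))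

/-- a tree -/
def tau82L1tree : Trie :=
  tau82L1tree0

/-- part of transversal words -/
def tau82L1word0 : Trie :=
  (.node (.node (.node (.node (.node (.leaf 0x0) (.leaf 0x3321659)) (.node (.leaf 0x89b5144cb65b30b) (.leaf 0x4d351365b66430b))) (.node (.node (.leaf 0x144da6d330c2d9) (.leaf 0x4d45226d96cc2cb)) (.node (.leaf 0x34da8a430b65b) (.leaf 0x1d92c91332c2eb65b)))) (.node (.node (.node (.leaf 0x11430c8616cc) (.leaf 0x244da8a42db2cb)) (.node (.leaf 0x135226d3521661861) (.leaf 0x10c2db2cb))) (.node (.node (.leaf 0x134da6a28596cb2cb) (.leaf 0x5148a489b30b2cb)) (.node (.leaf 0xa44d350b65b30b) (.leaf 0))))) (.node (.node (.node (.node (.leaf 0xa26d34d990b661) (.leaf 0x142d965b30b)) (.node (.leaf 0x48a42cb65990c) (.leaf 0x430b661))) (.node (.node (.leaf 0x4d3659861659) (.leaf 0x6a42cb65b661)) (.node (.leaf 0x2269a8a165b2cb) (.leaf 0x2452589b50badd6ec)))) (.node (.node (.node (.leaf 0x9a9136a430c859) (.leaf 0x16642cb)) (.node (.leaf 0x134d351366190b661)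 (.leaf 0x1226d45226cc8616cc))) (.node (.node (.leaf 0xa45148a430c321) (.leaf 0x861861)) (.node (.leaf 0x6a42d96642d9) (.leaf 0))))))

/-- transversal words -/
def tau82L1word : Trie :=
  tau82L1word0

/-- part of closing hints -/
def tau82L1close0 : Trie :=
  (.node (.node (.node (.node (.node (.node (.node (.leaf 0x1) (.leaf 0x1a)) (.node (.leaf 0x1) (.leaf 0))) (.node (.node (.leaf 0xc) (.leaf 0xe)) (.node (.leaf 0x4) (.leaf 0)))) (.node (.node (.node (.leaf 0x1006) (.leaf 0x7)) (.node (.leaf 0x17) (.leaf 0))) (.node (.node (.leaf 0x10) (.leaf 0x16)) (.node (.leaf 0x1014) (.leaf 0))))) (.node (.node (.node (.node (.leaf 0x1003) (.leaf 0x1b)) (.node (.leaf 0x6) (.leaf 0))) (.node (.node (.leaf 0x1000) (.leaf 0x1012)) (.node (.leaf 0x8) (.leaf 0)))) (.node (.node (.node (.leaf 0x8) (.leaf 0xf)) (.node (.leaf 0xf) (.leaf 0))) (.node (.node (.leaf 0x4) (.leaf 0)) (.node (.leaf 0x1019) (.leaf 0)))))) (.node (.node (.node (.node (.node (.leaf 0x2) (.leaf 0x1015))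 (.node (.leaf 0xe) (.leaf 0))) (.node (.node (.leaf 0xe) (.leaf 0x101b)) (.node (.leaf 0x17) (.leaf 0)))) (.node (.node (.node (.leaf 0x1001) (.leaf 0x1c)) (.node (.leaf 0xc) (.leaf 0))) (.node (.node (.leaf 0x12) (.leaf 0)) (.node (.leaf 0x10) (.leaf 0))))) (.node (.node (.node (.node (.leaf 0x5) (.leaf 0xd)) (.node (.leaf 0x10) (.leaf 0))) (.node (.node (.leaf 0x100a) (.leaf 0x11)) (.node (.leaf 0x1b) (.leaf 0)))) (.node (.node (.node (.leaf 0xa) (.leaf 0x101d)) (.node (.leaf 0x19) (.leaf 0))) (.node (.node (.leaf 0x14) (.leaf 0)) (.node (.leaf 0x1008) (.leaf 0))))))) (.node (.node (.node (.node (.node (.node (.leaf 0x1000) (.leaf 0x19)) (.node (.leaf 0x2) (.leaf 0))) (.node (.node (.leaf 0xd) (.leaf 0x101c)) (.node (.leaf 0x13) (.leaf 0)))) (.node (.node (.node (.leaf 0x0) (.leaf 0x1014)) (.node (.leaf 0x13) (.leaf 0))) (.node (.node (.leaf 0x11) (.leaf 0x1016)) (.node (.leaf 0x11) (.leaf 0))))) (.node (.node (.node (.node (.leaf 0x4) (.leaf 0x101a))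 (.node (.leaf 0x5) (.leaf 0))) (.node (.node (.leaf 0xf) (.leaf 0x12)) (.node (.leaf 0x18) (.leaf 0)))) (.node (.node (.node (.leaf 0x9) (.leaf 0xb)) (.node (.leaf 0x18) (.leaf 0))) (.node (.node (.leaf 0x1003) (.leaf 0)) (.node (.leaf 0x1018) (.leaf 0)))))) (.node (.node (.node (.node (.node (.leaf 0x3) (.leaf 0x1d)) (.node (.leaf 0x15) (.leaf 0))) (.node (.node (.leaf 0x2) (.leaf 0x101d)) (.node (.leaf 0x9) (.leaf 0)))) (.node (.node (.node (.leaf 0x7) (.leaf 0x100a)) (.node (.leaf 0xb) (.leaf 0))) (.node (.node (.leaf 0x13) (.leaf 0)) (.node (.leaf 0x5) (.leaf 0))))) (.node (.node (.node (.node (.leaf 0x6) (.leaf 0xc)) (.node (.leaf 0x16) (.leaf 0))) (.node (.node (.leaf 0x1009) (.leaf 0x17)) (.node (.leaf 0x1c) (.leaf 0)))) (.node (.node (.node (.leaf 0xb) (.leaf 0x15)) (.node (.leaf 0x1a) (.leaf 0))) (.node (.node (.leaf 0x1007) (.leaf 0)) (.node (.leaf 0x100d) (.leaf 0))))))))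

/-- closing hints -/
def tau82L1close : Trie :=
  tau82L1close0

/-- a level -/
def tau82L1 : SLev := ⟨6, [0xa26d34d990b661, 0x5132cc30b2cc, 0x11430c8616cc], tau82L1tree, tau82L1word, 30, tau82L1close, [(28, 0)]⟩

/-- part of a tree -/
def tau82L2tree0 : Trie :=
  (.node (.leaf 0x0) (.leaf 0x0))

/-- a tree -/
def tau82L2tree : Trie :=
  tau82L2tree0

/-- part of transversal words -/
def tau82L2word0 : Trie :=
  (.node (.leaf 0x0) (.leaf 0x5132cc30b2cc))

/-- transversal words -/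
def tau82L2word : Trie :=
  tau82L2word0

/-- part of closing hints -/
def tau82L2close0 : Trie :=
  (.node (.leaf 0x1) (.leaf 0x0))

/-- closing hints -/
def tau82L2close : Trie :=
  tau82L2close0

/-- a level -/
def tau82L2 : SLev := ⟨9, [0x5132cc30b2cc], tau82L2tree, tau82L2word, 2, tau82L2close, []⟩

/-- a chain -/
def tau82 : List SLev := [tau82L0, tau82L1, tau82L2]

/-- a representative -/
def r82 : RepD := ⟨6, 339, 6, 331, 2, tau82, [0x11001, 8192], [0x11001, 8192]⟩

/-- part of a tree -/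
def tau83L0tree0 : Trie :=
  (.node (.leaf 0x0) (.leaf 0x0))

/-- a tree -/
def tau83L0tree : Trie :=
  tau83L0tree0

/-- part of transversal words -/
def tau83L0word0 : Trie :=
  (.node (.leaf 0x0) (.leaf 0x9134eb764b0c2dd))

/-- transversal words -/
def tau83L0word : Trie :=
  tau83L0word0

/-- part of closing hints -/
def tau83L0close0 : Trie :=
  (.node (.node (.leaf 0x1) (.leaf 0x0)) (.node (.leaf 0x1001) (.leaf 0x1000)))

/-- closing hints -/
def tau83L0close : Trie :=
  tau83L0close0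

/-- a level -/
def tau83L0 : SLev := ⟨0, [0x9134eb764b0c2dd, 0x3ada914a996cc965], tau83L0tree, tau83L0word, 2, tau83L0close, [(0, 1)]⟩

/-- part of a tree -/
def tau83L1tree0 : Trie :=
  (.node (.leaf 0x0) (.leaf 0x0))

/-- a tree -/
def tau83L1tree : Trie :=
  tau83L1tree0

/-- part of transversal words -/
def tau83L1word0 : Trie :=
  (.node (.leaf 0x0) (.leaf 0x45134da6d990c2cb))

/-- transversal words -/
def tau83L1word : Trie :=
  tau83L1word0

/-- part of closing hints -/
def tau83L1close0 : Trie :=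
  (.node (.leaf 0x1) (.leaf 0x0))

/-- closing hints -/
def tau83L1close : Trie :=
  tau83L1close0

/-- a level -/
def tau83L1 : SLev := ⟨6, [0x45134da6d990c2cb], tau83L1tree, tau83L1word, 2, tau83L1close, []⟩

/-- a chain -/
def tau83 : List SLev := [tau83L0, tau83L1]

/-- a representative -/
def r83 : RepD := ⟨6, 0x2b6eb, 7, 0xda69b3216cb2cc, 60, tau83, [0x1004001, 0x17001], [4096, 0x1001000]⟩

/-- part of a tree -/
def tau84L0tree0 : Trie :=
  (.node (.leaf 0x0) (.leaf 0x100000))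

/-- a tree -/
def tau84L0tree : Trie :=
  tau84L0tree0

/-- part of transversal words -/
def tau84L0word0 : Trie :=
  (.node (.leaf 0x0) (.leaf 0x11491495b75baec))

/-- transversal words -/
def tau84L0word : Trie :=
  tau84L0word0

/-- part of closing hints -/
def tau84L0close0 : Trie :=
  (.node (.node (.leaf 0x1000) (.leaf 0x3001)) (.node (.leaf 0x1) (.leaf 0x2000)))

/-- closing hints -/
def tau84L0close : Trie :=
  tau84L0close0

/-- a level -/
def tau84L0 : SLev := ⟨0, [0xa26d34d990b661, 0x11491495b75baec], tau84L0tree, tau84L0word, 2, tau84L0close, [(0, 0), (1, 1), (1, 0)]⟩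

/-- part of a tree -/
def tau84L1tree0 : Trie :=
  (.node (.node (.node (.node (.node (.leaf 0x0) (.leaf 0x8)) (.node (.leaf 0x200003) (.leaf 0x20000c))) (.node (.node (.leaf 0x200001) (.leaf 0xa)) (.node (.leaf 0x6) (.leaf 0x100013)))) (.node (.node (.node (.leaf 0x100000) (.leaf 0x100009)) (.node (.leaf 0x100004) (.leaf 0x10000e))) (.node (.node (.leaf 0x3) (.leaf 0x10000b)) (.node (.leaf 0x200006) (.leaf 0))))) (.node (.node (.node (.node (.leaf 0x0) (.leaf 0x9)) (.node (.leaf 0x4) (.leaf 0xe))) (.node (.node (.leaf 0x200002) (.leaf 0xb)) (.node (.leaf 0x100006) (.leaf 0x17)))) (.node (.node (.node (.leaf 0x200000) (.leaf 0x200009)) (.node (.leaf 0x5) (.leaf 0x13))) (.node (.node (.leaf 0x100003) (.leaf 0x20000b)) (.node (.leaf 0x7) (.leaf 0))))))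

/-- a tree -/
def tau84L1tree : Trie :=
  tau84L1tree0

/-- part of transversal words -/
def tau84L1word0 : Trie :=
  (.node (.node (.node (.node (.node (.leaf 0x0) (.leaf 0x4d351365b66430b)) (.node (.leaf 0x6a42d96642d9) (.leaf 0x244da8a42db2cb))) (.node (.node (.leaf 0x9b4d34d96cb2d9) (.leaf 0x9a69b2cc85b)) (.node (.leaf 0x5142cb30c861) (.leaf 0x2269a8a165b2cb)))) (.node (.node (.node (.leaf 0x5228a450b2d985b) (.leaf 0x165b661)) (.node (.leaf 0x144da69b321861) (.leaf 0x10c2db2cb))) (.node (.node (.leaf 0x89a9148a165990b) (.leaf 0xa45148a430c321)) (.node (.leaf 0x69a9228a42d9659) (.leaf 0))))) (.node (.node (.node (.node (.leaf 0xa26d34d990b661) (.leaf 0xd48596cb2cb)) (.node (.leaf 0x1489a6a190c859) (.leaf 0x6a42cb65b661))) (.node (.node (.leaf 0x5259256d375b764) (.leaf 0xa26d34cb6642d9)) (.node (.leaf 0x134d36a430c859) (.leaf 0x4d44da6d990c2cb)))) (.node (.node (.node (.leaf 0x5226d43216cc) (.leaf 0x2452589b50badd6ec)) (.node (.leaf 0x430b661) (.leaf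 0x861861))) (.node (.node (.leaf 0x9a8a44db2d9661) (.leaf 0x1226d45226cc8616cc)) (.node (.leaf 0x91366190b661) (.leaf 0))))))

/-- transversal words -/
def tau84L1word : Trie :=
  tau84L1word0

/-- part of closing hints -/
def tau84L1close0 : Trie :=
  (.node (.node (.node (.node (.node (.node (.node (.leaf 0x1) (.leaf 0x10)) (.node (.leaf 0x1001) (.leaf 0))) (.node (.node (.leaf 0x8) (.leaf 0xd)) (.node (.leaf 0x16) (.leaf 0)))) (.node (.node (.node (.leaf 0x5) (.leaf 0x17)) (.node (.leaf 0x6) (.leaf 0))) (.node (.node (.leaf 0x10) (.leaf 0x101d)) (.node (.leaf 0x1015) (.leaf 0))))) (.node (.node (.node (.node (.leaf 0x1001) (.leaf 0x100c)) (.node (.leaf 0x3) (.leaf 0))) (.node (.node (.leaf 0xe) (.leaf 0x100e)) (.node (.leaf 0x14) (.leaf 0)))) (.node (.node (.node (.leaf 0x9) (.leaf 0x101b)) (.node (.leaf 0x14) (.leaf 0))) (.node (.node (.leaf 0x12) (.leaf 0)) (.node (.leaf 0x12) (.leaf 0)))))) (.node (.node (.node (.node (.node (.leaf 0x3) (.leaf 0x8))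 (.node (.leaf 0x16) (.leaf 0))) (.node (.node (.leaf 0xc) (.leaf 0x1019)) (.node (.leaf 0x1009) (.leaf 0)))) (.node (.node (.node (.leaf 0x7) (.leaf 0x1016)) (.node (.leaf 0x19) (.leaf 0))) (.node (.node (.leaf 0x0) (.leaf 0)) (.node (.leaf 0x1c) (.leaf 0))))) (.node (.node (.node (.node (.leaf 0x1000) (.leaf 0x1018)) (.node (.leaf 0x18) (.leaf 0))) (.node (.node (.leaf 0x3) (.leaf 0x12)) (.node (.leaf 0xa) (.leaf 0)))) (.node (.node (.node (.leaf 0x100a) (.leaf 0x1013)) (.node (.leaf 0xc) (.leaf 0))) (.node (.node (.leaf 0x14) (.leaf 0)) (.node (.leaf 0x6) (.leaf 0))))))) (.node (.node (.node (.node (.node (.node (.leaf 0x2) (.leaf 0x101c)) (.node (.leaf 0x15) (.leaf 0))) (.node (.node (.leaf 0x7) (.leaf 0x101a)) (.node (.leaf 0x15) (.leaf 0)))) (.node (.node (.node (.leaf 0x6) (.leaf 0x1017)) (.node (.leaf 0x11) (.leaf 0))) (.node (.node (.leaf 0x5) (.leaf 0x1019)) (.node (.leaf 0x1b) (.leaf 0))))) (.node (.node (.node (.node (.leaf 0x4) (.leaf 0x1d))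 (.node (.leaf 0xf) (.leaf 0))) (.node (.node (.leaf 0xf) (.leaf 0x13)) (.node (.leaf 0x1a) (.leaf 0)))) (.node (.node (.node (.leaf 0xa) (.leaf 0x1b)) (.node (.leaf 0xd) (.leaf 0))) (.node (.node (.leaf 0x13) (.leaf 0)) (.node (.leaf 0x11) (.leaf 0)))))) (.node (.node (.node (.node (.node (.leaf 0x1002) (.leaf 0xb)) (.node (.leaf 0x17) (.leaf 0))) (.node (.node (.leaf 0xd) (.leaf 0x101d)) (.node (.leaf 0x4) (.leaf 0)))) (.node (.node (.node (.leaf 0x8) (.leaf 0x101c)) (.node (.leaf 0x1a) (.leaf 0))) (.node (.node (.leaf 0x11) (.leaf 0)) (.node (.leaf 0x1010) (.leaf 0))))) (.node (.node (.node (.node (.leaf 0x0) (.leaf 0x100f)) (.node (.leaf 0x7) (.leaf 0))) (.node (.node (.leaf 0x2) (.leaf 0x18)) (.node (.leaf 0x9) (.leaf 0)))) (.node (.node (.node (.leaf 0xb) (.leaf 0xe)) (.node (.leaf 0x100b) (.leaf 0))) (.node (.node (.leaf 0x4) (.leaf 0)) (.node (.leaf 0x5) (.leaf 0))))))))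

/-- closing hints -/
def tau84L1close : Trie :=
  tau84L1close0

/-- a level -/
def tau84L1 : SLev := ⟨6, [0xa26d34d990b661, 0x5228a450b2d985b, 0x5226d43216cc], tau84L1tree, tau84L1word, 30, tau84L1close, [(1, 1)]⟩

/-- part of a tree -/
def tau84L2tree0 : Trie :=
  (.node (.leaf 0x0) (.leaf 0x0))

/-- a tree -/
def tau84L2tree : Trie :=
  tau84L2tree0

/-- part of transversal words -/
def tau84L2word0 : Trie :=
  (.node (.leaf 0x0) (.leaf 0x5132cc30b2cc))

/-- transversal words -/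
def tau84L2word : Trie :=
  tau84L2word0

/-- part of closing hints -/
def tau84L2close0 : Trie :=
  (.node (.leaf 0x1) (.leaf 0x0))

/-- closing hints -/
def tau84L2close : Trie :=
  tau84L2close0

/-- a level -/
def tau84L2 : SLev := ⟨9, [0x5132cc30b2cc], tau84L2tree, tau84L2word, 2, tau84L2close, []⟩

/-- a chain -/
def tau84 : List SLev := [tau84L0, tau84L1, tau84L2]

/-- a representative -/
def r84 : RepD := ⟨6, 331, 4, 0x1645226d432c2dd, 2, tau84, [8192, 1], [0x1000018000, 0x3023003]⟩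

/-- part of a tree -/
def tau85L0tree0 : Trie :=
  (.node (.leaf 0x0) (.leaf 0x100000))

/-- a tree -/
def tau85L0tree : Trie :=
  tau85L0tree0

/-- part of transversal words -/
def tau85L0word0 : Trie :=
  (.node (.leaf 0x0) (.leaf 0x145159259136ec95b))

/-- transversal words -/
def tau85L0word : Trie :=
  tau85L0word0

/-- part of closing hints -/
def tau85L0close0 : Trie :=
  (.node (.node (.leaf 0x2000) (.leaf 0x1001)) (.node (.leaf 0x1) (.leaf 0x1000000)))

/-- closing hints -/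
def tau85L0close : Trie :=
  tau85L0close0

/-- a level -/
def tau85L0 : SLev := ⟨0, [0x5226d43216cc, 0x145159259136ec95b], tau85L0tree, tau85L0word, 2, tau85L0close, [(1, 0), (0, 0)]⟩

/-- part of a tree -/
def tau85L1tree0 : Trie :=
  (.node (.node (.node (.leaf 0x0) (.leaf 0x100002)) (.node (.leaf 0x100000) (.leaf 0))) (.node (.node (.leaf 0x0) (.leaf 0x100003)) (.node (.leaf 0x100001) (.leaf 0))))

/-- a tree -/
def tau85L1tree : Trie :=
  tau85L1tree0

/-- part of transversal words -/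
def tau85L1word0 : Trie :=
  (.node (.node (.node (.leaf 0x0) (.leaf 0x6a42d96642d9)) (.node (.leaf 0x5226d43216cc) (.leaf 0))) (.node (.node (.leaf 0x430b661) (.leaf 0x3321659)) (.node (.leaf 0x1226d45226cc8616cc) (.leaf 0))))

/-- transversal words -/
def tau85L1word : Trie :=
  tau85L1word0

/-- part of closing hints -/
def tau85L1close0 : Trie :=
  (.node (.node (.node (.node (.leaf 0x1) (.leaf 0x1005)) (.node (.leaf 0x1000) (.leaf 0))) (.node (.node (.leaf 0x1002) (.leaf 0x1003)) (.node (.leaf 0x4) (.leaf 0)))) (.node (.node (.node (.leaf 0x2) (.leaf 0x0)) (.node (.leaf 0x4) (.leaf 0))) (.node (.node (.leaf 0x3) (.leaf 0x1)) (.node (.leaf 0x5) (.leaf 0)))))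

/-- closing hints -/
def tau85L1close : Trie :=
  tau85L1close0

/-- a level -/
def tau85L1 : SLev := ⟨6, [0x430b661, 0x5226d43216cc], tau85L1tree, tau85L1word, 6, tau85L1close, [(5, 0)]⟩

/-- part of a tree -/
def tau85L2tree0 : Trie :=
  (.node (.leaf 0x0) (.leaf 0x0))

/-- a tree -/
def tau85L2tree : Trie :=
  tau85L2tree0

/-- part of transversal words -/
def tau85L2word0 : Trie :=
  (.node (.leaf 0x0) (.leaf 0x5132cc30b2cc))

/-- transversal words -/
def tau85L2word : Trie :=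
  tau85L2word0

/-- part of closing hints -/
def tau85L2close0 : Trie :=
  (.node (.leaf 0x1) (.leaf 0x0))

/-- closing hints -/
def tau85L2close : Trie :=
  tau85L2close0

/-- a level -/
def tau85L2 : SLev := ⟨9, [0x5132cc30b2cc], tau85L2tree, tau85L2word, 2, tau85L2close, []⟩

/-- a chain -/
def tau85 : List SLev := [tau85L0, tau85L1, tau85L2]

/-- a representative -/
def r85 : RepD := ⟨6, 346, 8, 9, 10, tau85, [0x1001000, 0x1011001], [0x1001000000, 0x4001000]⟩

/-- part of a tree -/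
def tau86L0tree0 : Trie :=
  (.node (.leaf 0x0) (.leaf 0x0))

/-- a tree -/
def tau86L0tree : Trie :=
  tau86L0tree0

/-- part of transversal words -/
def tau86L0word0 : Trie :=
  (.node (.leaf 0x0) (.leaf 0x9a92a74bb29))

/-- transversal words -/
def tau86L0word : Trie :=
  tau86L0word0

/-- part of closing hints -/
def tau86L0close0 : Trie :=
  (.node (.node (.leaf 0x1) (.leaf 0x0)) (.node (.leaf 0x1000) (.leaf 0x1001)))

/-- closing hints -/
def tau86L0close : Trie :=
  tau86L0close0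

/-- a level -/
def tau86L0 : SLev := ⟨0, [0x9a92a74bb29, 0x5132cc30b2cc], tau86L0tree, tau86L0word, 2, tau86L0close, [(1, 1)]⟩

/-- part of a tree -/
def tau86L1tree0 : Trie :=
  (.node (.leaf 0x0) (.leaf 0x0))

/-- a tree -/
def tau86L1tree : Trie :=
  tau86L1tree0

/-- part of transversal words -/
def tau86L1word0 : Trie :=
  (.node (.leaf 0x0) (.leaf 0x5132cc30b2cc))

/-- transversal words -/
def tau86L1word : Trie :=
  tau86L1word0

/-- part of closing hints -/
def tau86L1close0 : Trie :=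
  (.node (.leaf 0x1) (.leaf 0x0))

/-- closing hints -/
def tau86L1close : Trie :=
  tau86L1close0

/-- a level -/
def tau86L1 : SLev := ⟨9, [0x5132cc30b2cc], tau86L1tree, tau86L1word, 2, tau86L1close, []⟩

/-- a chain -/
def tau86 : List SLev := [tau86L0, tau86L1]

/-- a representative -/
def r86 : RepD := ⟨6, 0x2c95a, 7, 0x9a9228596cb2d9, 60, tau86, [0x101d001, 0x1000000], [0x1001000, 0x1000000]⟩

/-- part of a tree -/
def tau87L0tree0 : Trie :=
  (.node (.leaf 0x0) (.leaf 0x0))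

/-- a tree -/
def tau87L0tree : Trie :=
  tau87L0tree0

/-- part of transversal words -/
def tau87L0word0 : Trie :=
  (.node (.leaf 0x0) (.leaf 0x11491495b75baec))

/-- transversal words -/
def tau87L0word : Trie :=
  tau87L0word0

/-- part of closing hints -/
def tau87L0close0 : Trie :=
  (.node (.node (.leaf 0x1) (.leaf 0x1000)) (.node (.leaf 0x3000) (.leaf 0x2001)))

/-- closing hints -/
def tau87L0close : Trie :=
  tau87L0close0

/-- a level -/
def tau87L0 : SLev := ⟨0, [0x11491495b75baec, 0xa26d34d990b661], tau87L0tree, tau87L0word, 2, tau87L0close, [(1, 0), (1, 1), (0, 1)]⟩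

/-- part of a tree -/
def tau87L1tree0 : Trie :=
  (.node (.node (.node (.node (.node (.leaf 0x0) (.leaf 0x200008)) (.node (.leaf 0x100003) (.leaf 0x10000e))) (.node (.node (.leaf 0x100001) (.leaf 0x10000c)) (.node (.leaf 0x7) (.leaf 0x100013)))) (.node (.node (.node (.leaf 0x100000) (.leaf 0x100009)) (.node (.leaf 0x200005) (.leaf 0x100010))) (.node (.node (.leaf 0x100002) (.leaf 0x10000d)) (.node (.leaf 0x200007) (.leaf 0))))) (.node (.node (.node (.node (.leaf 0x0) (.leaf 0x9)) (.node (.leaf 0x200004) (.leaf 0x10))) (.node (.node (.leaf 0x2) (.leaf 0xd)) (.node (.leaf 0x100007) (.leaf 0x17)))) (.node (.node (.node (.leaf 0x200000) (.leaf 0x200009)) (.node (.leaf 0x200006) (.leaf 0x200012))) (.node (.node (.leaf 0x200002) (.leaf 0x20000d)) (.node (.leaf 0x8) (.leaf 0))))))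

/-- a tree -/
def tau87L1tree : Trie :=
  tau87L1tree0

/-- part of transversal words -/
def tau87L1word0 : Trie :=
  (.node (.node (.node (.node (.node (.leaf 0x0) (.leaf 0x1489a6a190c859)) (.node (.leaf 0x9b4d34d96cb2d9) (.leaf 0x244da8a42db2cb))) (.node (.node (.leaf 0x5259256d375b764) (.leaf 0xd48596cb2cb)) (.node (.leaf 0x134d36a430c859) (.leaf 0x45134da6d990c2cb)))) (.node (.node (.node (.leaf 0x5226d43216cc) (.leaf 0x1226d45226cc8616cc)) (.node (.leaf 0x91366190b661) (.leaf 0x2452589b50badd6ec))) (.node (.node (.leaf 0x6a42d96642d9) (.leaf 0x9a69b2cc85b)) (.node (.leaf 0x5142cb30c861) (.leaf 0))))) (.node (.node (.node (.node (.leaf 0x5228a450b2d985b) (.leaf 0xa45148a430c321)) (.node (.leaf 0x430b661) (.leaf 0x165b661))) (.node (.node (.leaf 0x9a8a44db2d9661) (.leaf 0x10c2db2cb)) (.node (.leaf 0x69a9228a42d9659) (.leaf 0x228a430b2cc30b)))) (.node (.node (.node (.leaf 0xa26d34d990b661) (.leaf 0xa26d34cb6642d9)) (.node (.leaf 0x4d351365b66430b) (.leaf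 0x4d44da6d990c2cb))) (.node (.node (.leaf 0x89a9148a165990b) (.leaf 0x6a42cb65b661)) (.node (.leaf 0x144da69b321861) (.leaf 0))))))

/-- transversal words -/
def tau87L1word : Trie :=
  tau87L1word0

/-- part of closing hints -/
def tau87L1close0 : Trie :=
  (.node (.node (.node (.node (.node (.node (.node (.leaf 0x1) (.leaf 0xc)) (.node (.leaf 0xc) (.leaf 0))) (.node (.node (.leaf 0x1) (.leaf 0x101d)) (.node (.leaf 0x19) (.leaf 0)))) (.node (.node (.node (.leaf 0x7) (.leaf 0x1012)) (.node (.leaf 0x16) (.leaf 0))) (.node (.node (.leaf 0xf) (.leaf 0x1b)) (.node (.leaf 0x1b) (.leaf 0))))) (.node (.node (.node (.node (.leaf 0x4) (.leaf 0x19)) (.node (.leaf 0x7) (.leaf 0))) (.node (.node (.leaf 0xb) (.leaf 0x101a)) (.node (.leaf 0x100e) (.leaf 0)))) (.node (.node (.node (.leaf 0x6) (.leaf 0x1013)) (.node (.leaf 0x2) (.leaf 0))) (.node (.node (.leaf 0x12) (.leaf 0)) (.node (.leaf 0x16) (.leaf 0)))))) (.node (.node (.node (.node (.node (.leaf 0x3) (.leaf 0x14))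 (.node (.leaf 0x1010) (.leaf 0))) (.node (.node (.leaf 0x4) (.leaf 0x1017)) (.node (.leaf 0x14) (.leaf 0)))) (.node (.node (.node (.leaf 0x8) (.leaf 0x12)) (.node (.leaf 0xa) (.leaf 0))) (.node (.node (.leaf 0x10) (.leaf 0)) (.node (.leaf 0x1c) (.leaf 0))))) (.node (.node (.node (.node (.leaf 0x5) (.leaf 0x101d)) (.node (.leaf 0x5) (.leaf 0))) (.node (.node (.leaf 0xd) (.leaf 0xd)) (.node (.leaf 0x1018) (.leaf 0)))) (.node (.node (.node (.leaf 0x9) (.leaf 0x101c)) (.node (.leaf 0x1003) (.leaf 0))) (.node (.node (.leaf 0xe) (.leaf 0)) (.node (.leaf 0x8) (.leaf 0))))))) (.node (.node (.node (.node (.node (.node (.leaf 0x2) (.leaf 0x101a)) (.node (.leaf 0x13) (.leaf 0))) (.node (.node (.leaf 0xa) (.leaf 0x101b)) (.node (.leaf 0x1a) (.leaf 0)))) (.node (.node (.node (.leaf 0x1003) (.leaf 0x1011)) (.node (.leaf 0x17) (.leaf 0))) (.node (.node (.leaf 0x100f) (.leaf 0x15)) (.node (.leaf 0xb) (.leaf 0))))) (.node (.node (.node (.node (.leaf 0x1000) (.leaf 0x1d))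 (.node (.leaf 0x14) (.leaf 0))) (.node (.node (.leaf 0xc) (.leaf 0x1019)) (.node (.leaf 0x6) (.leaf 0)))) (.node (.node (.node (.leaf 0x5) (.leaf 0xf)) (.node (.leaf 0x8) (.leaf 0))) (.node (.node (.leaf 0x13) (.leaf 0)) (.node (.leaf 0x15) (.leaf 0)))))) (.node (.node (.node (.node (.node (.leaf 0x0) (.leaf 0x7)) (.node (.leaf 0x11) (.leaf 0))) (.node (.node (.leaf 0x0) (.leaf 0x18)) (.node (.leaf 0x9) (.leaf 0)))) (.node (.node (.node (.leaf 0x1001) (.leaf 0x10)) (.node (.leaf 0x18) (.leaf 0))) (.node (.node (.leaf 0x11) (.leaf 0)) (.node (.leaf 0x4) (.leaf 0))))) (.node (.node (.node (.node (.leaf 0x6) (.leaf 0x1c)) (.node (.leaf 0x15) (.leaf 0))) (.node (.node (.leaf 0xe) (.leaf 0x17)) (.node (.leaf 0x100a) (.leaf 0)))) (.node (.node (.node (.leaf 0x2) (.leaf 0x100b)) (.node (.leaf 0x16) (.leaf 0))) (.node (.node (.leaf 0x1009) (.leaf 0)) (.node (.leaf 0xd) (.leaf 0))))))))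

/-- closing hints -/
def tau87L1close : Trie :=
  tau87L1close0

/-- a level -/
def tau87L1 : SLev := ⟨6, [0x5228a450b2d985b, 0x5226d43216cc, 0xa26d34d990b661], tau87L1tree, tau87L1word, 30, tau87L1close, [(28, 0)]⟩

/-- part of a tree -/
def tau87L2tree0 : Trie :=
  (.node (.leaf 0x0) (.leaf 0x0))

/-- a tree -/
def tau87L2tree : Trie :=
  tau87L2tree0

/-- part of transversal words -/
def tau87L2word0 : Trie :=
  (.node (.leaf 0x0) (.leaf 0x5132cc30b2cc))

/-- transversal words -/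
def tau87L2word : Trie :=
  tau87L2word0

/-- part of closing hints -/
def tau87L2close0 : Trie :=
  (.node (.leaf 0x1) (.leaf 0x0))

/-- closing hints -/
def tau87L2close : Trie :=
  tau87L2close0

/-- a level -/
def tau87L2 : SLev := ⟨9, [0x5132cc30b2cc], tau87L2tree, tau87L2word, 2, tau87L2close, []⟩

/-- a chain -/
def tau87 : List SLev := [tau87L0, tau87L1, tau87L2]

/-- a representative -/
def r87 : RepD := ⟨6, 2761, 4, 0x159142cb2db, 2, tau87, [1, 8192], [0x1001001003, 0x1f000]⟩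

/-- part of a tree -/
def tau88L0tree0 : Trie :=
  (.node (.leaf 0x0) (.leaf 0x0))

/-- a tree -/
def tau88L0tree : Trie :=
  tau88L0tree0

/-- part of transversal words -/
def tau88L0word0 : Trie :=
  (.node (.leaf 0x0) (.leaf 0x114aebb2c2cb))

/-- transversal words -/
def tau88L0word : Trie :=
  tau88L0word0

/-- part of closing hints -/
def tau88L0close0 : Trie :=
  (.node (.leaf 0x1) (.leaf 0x0))

/-- closing hints -/
def tau88L0close : Trie :=
  tau88L0close0

/-- a level -/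
def tau88L0 : SLev := ⟨0, [0x114aebb2c2cb], tau88L0tree, tau88L0word, 2, tau88L0close, []⟩

/-- a chain -/
def tau88 : List SLev := [tau88L0]

/-- a representative -/
def r88 : RepD := ⟨6, 2860, 6, 0x56496432cb0c859, 120, tau88, [0x1a001], [0x1a001]⟩

/-- part of a tree -/
def tau89L0tree0 : Trie :=
  (.node (.leaf 0x0) (.leaf 0x0))

/-- a tree -/
def tau89L0tree : Trie :=
  tau89L0tree0

/-- part of transversal words -/
def tau89L0word0 : Trie :=
  (.node (.leaf 0x0) (.leaf 0x1226ea94cadd))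

/-- transversal words -/
def tau89L0word : Trie :=
  tau89L0word0

/-- part of closing hints -/
def tau89L0close0 : Trie :=
  (.node (.leaf 0x1) (.leaf 0x0))

/-- closing hints -/
def tau89L0close : Trie :=
  tau89L0close0

/-- a level -/
def tau89L0 : SLev := ⟨0, [0x1226ea94cadd], tau89L0tree, tau89L0word, 2, tau89L0close, []⟩

/-- a chain -/
def tau89 : List SLev := [tau89L0]

/-- a representative -/
def r89 : RepD := ⟨6, 0x5961, 6, 0x28a589d6d4b21861, 120, tau89, [0x18001], [0x17001]⟩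

/-- part of a tree -/
def tau90L0tree0 : Trie :=
  (.node (.leaf 0x0) (.leaf 0x0))

/-- a tree -/
def tau90L0tree : Trie :=
  tau90L0tree0

/-- part of transversal words -/
def tau90L0word0 : Trie :=
  (.node (.leaf 0x0) (.leaf 0x5158a196430c))

/-- transversal words -/
def tau90L0word : Trie :=
  tau90L0word0

/-- part of closing hints -/
def tau90L0close0 : Trie :=
  (.node (.leaf 0x1) (.leaf 0x0))

/-- closing hints -/
def tau90L0close : Trie :=
  tau90L0close0

/-- a level -/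
def tau90L0 : SLev := ⟨0, [0x5158a196430c], tau90L0tree, tau90L0word, 2, tau90L0close, []⟩

/-- a chain -/
def tau90 : List SLev := [tau90L0]

/-- a representative -/
def r90 : RepD := ⟨6, 0x15d6c9, 6, 0x9a8a432574b6ec, 120, tau90, [0x1c001], [0x17001]⟩

/-- part of a tree -/
def tau91L0tree0 : Trie :=
  (.node (.leaf 0x0) (.leaf 0x0))

/-- a tree -/
def tau91L0tree : Trie :=
  tau91L0tree0

/-- part of transversal words -/
def tau91L0word0 : Trie :=
  (.node (.leaf 0x0) (.leaf 0xaecaa5659))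

/-- transversal words -/
def tau91L0word : Trie :=
  tau91L0word0

/-- part of closing hints -/
def tau91L0close0 : Trie :=
  (.node (.leaf 0x1) (.leaf 0x0))

/-- closing hints -/
def tau91L0close : Trie :=
  tau91L0close0

/-- a level -/
def tau91L0 : SLev := ⟨0, [0xaecaa5659], tau91L0tree, tau91L0word, 2, tau91L0close, []⟩

/-- a chain -/
def tau91 : List SLev := [tau91L0]

/-- a representative -/
def r91 : RepD := ⟨6, 0x296dd32c, 6, 0x69a6acb22864b2b, 120, tau91, [0x1b001], [0x18001]⟩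

/-- part of a tree -/
def tau92L0tree0 : Trie :=
  (.node (.leaf 0x0) (.leaf 0x0))

/-- a tree -/
def tau92L0tree : Trie :=
  tau92L0tree0

/-- part of transversal words -/
def tau92L0word0 : Trie :=
  (.node (.leaf 0x0) (.leaf 0x92594caebb2c))

/-- transversal words -/
def tau92L0word : Trie :=
  tau92L0word0

/-- part of closing hints -/
def tau92L0close0 : Trie :=
  (.node (.node (.leaf 0x1) (.leaf 0x0)) (.node (.leaf 0x1001) (.leaf 0x1000)))

/-- closing hints -/
def tau92L0close : Trie :=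
  tau92L0close0

/-- a level -/
def tau92L0 : SLev := ⟨4, [0x92594caebb2c, 0x1aaecb0cb0bb25], tau92L0tree, tau92L0word, 2, tau92L0close, [(1, 1)]⟩

/-- part of a tree -/
def tau92L1tree0 : Trie :=
  (.node (.leaf 0x0) (.leaf 0x0))

/-- a tree -/
def tau92L1tree : Trie :=
  tau92L1tree0

/-- part of transversal words -/
def tau92L1word0 : Trie :=
  (.node (.leaf 0x0) (.leaf 0x1a6cb2cb30c))

/-- transversal words -/
def tau92L1word : Trie :=
  tau92L1word0

/-- part of closing hints -/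
def tau92L1close0 : Trie :=
  (.node (.leaf 0x1) (.leaf 0x0))

/-- closing hints -/
def tau92L1close : Trie :=
  tau92L1close0

/-- a level -/
def tau92L1 : SLev := ⟨6, [0x1a6cb2cb30c], tau92L1tree, tau92L1word, 2, tau92L1close, []⟩

/-- a chain -/
def tau92 : List SLev := [tau92L0, tau92L1]

/-- a representative -/
def r92 : RepD := ⟨7, 0, 6, 0x29157644d965b2cb, 160, tau92, [0x1001000, 4096], [0x1004001, 0x17001]⟩

/-- part of a tree -/
def tau93L0tree0 : Trie :=
  (.node (.leaf 0x0) (.leaf 0x0))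

/-- a tree -/
def tau93L0tree : Trie :=
  tau93L0tree0

/-- part of transversal words -/
def tau93L0word0 : Trie :=
  (.node (.leaf 0x0) (.leaf 0x92594caebb2c))

/-- transversal words -/
def tau93L0word : Trie :=
  tau93L0word0

/-- part of closing hints -/
def tau93L0close0 : Trie :=
  (.node (.node (.leaf 0x1) (.leaf 0x0)) (.node (.leaf 0x1000) (.leaf 0x1001)))

/-- closing hints -/
def tau93L0close : Trie :=
  tau93L0close0

/-- a level -/
def tau93L0 : SLev := ⟨4, [0x92594caebb2c, 0x1a6cb2cb30c], tau93L0tree, tau93L0word, 2, tau93L0close, [(1, 1)]⟩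

/-- part of a tree -/
def tau93L1tree0 : Trie :=
  (.node (.leaf 0x0) (.leaf 0x0))

/-- a tree -/
def tau93L1tree : Trie :=
  tau93L1tree0

/-- part of transversal words -/
def tau93L1word0 : Trie :=
  (.node (.leaf 0x0) (.leaf 0x1a6cb2cb30c))

/-- transversal words -/
def tau93L1word : Trie :=
  tau93L1word0

/-- part of closing hints -/
def tau93L1close0 : Trie :=
  (.node (.leaf 0x1) (.leaf 0x0))

/-- closing hints -/
def tau93L1close : Trie :=
  tau93L1close0

/-- a level -/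
def tau93L1 : SLev := ⟨6, [0x1a6cb2cb30c], tau93L1tree, tau93L1word, 2, tau93L1close, []⟩

/-- a chain -/
def tau93 : List SLev := [tau93L0, tau93L1]

/-- a representative -/
def r93 : RepD := ⟨7, 1, 6, 0x269d6d3a6185d2ec, 160, tau93, [0x1001000, 0x1000000], [0x17001, 0x13000]⟩

/-- part of a tree -/
def tau94L0tree0 : Trie :=
  (.node (.leaf 0x0) (.leaf 0x0))

/-- a tree -/
def tau94L0tree : Trie :=
  tau94L0tree0

/-- part of transversal words -/
def tau94L0word0 : Trie :=
  (.node (.leaf 0x0) (.leaf 0x1aaecb0cb0bb25))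

/-- transversal words -/
def tau94L0word : Trie :=
  tau94L0word0

/-- part of closing hints -/
def tau94L0close0 : Trie :=
  (.node (.node (.leaf 0x1) (.leaf 0x0)) (.node (.leaf 0x1001) (.leaf 0x1000)))

/-- closing hints -/
def tau94L0close : Trie :=
  tau94L0close0

/-- a level -/
def tau94L0 : SLev := ⟨4, [0x1aaecb0cb0bb25, 0x92594caebb2c], tau94L0tree, tau94L0word, 2, tau94L0close, [(1, 1)]⟩

/-- part of a tree -/
def tau94L1tree0 : Trie :=
  (.node (.leaf 0x0) (.leaf 0x0))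

/-- a tree -/
def tau94L1tree : Trie :=
  tau94L1tree0

/-- part of transversal words -/
def tau94L1word0 : Trie :=
  (.node (.leaf 0x0) (.leaf 0x1a6cb2cb30c))

/-- transversal words -/
def tau94L1word : Trie :=
  tau94L1word0

/-- part of closing hints -/
def tau94L1close0 : Trie :=
  (.node (.leaf 0x1) (.leaf 0x0))

/-- closing hints -/
def tau94L1close : Trie :=
  tau94L1close0

/-- a level -/
def tau94L1 : SLev := ⟨6, [0x1a6cb2cb30c], tau94L1tree, tau94L1word, 2, tau94L1close, []⟩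

/-- a chain -/
def tau94 : List SLev := [tau94L0, tau94L1]

/-- a representative -/
def r94 : RepD := ⟨7, 2, 7, 0x596cb30c, 160, tau94, [4096, 0x1001000], [0x1001000, 4096]⟩

/-- part of a tree -/
def tau95L0tree0 : Trie :=
  (.node (.leaf 0x0) (.leaf 0x100000))

/-- a tree -/
def tau95L0tree : Trie :=
  tau95L0tree0

/-- part of transversal words -/
def tau95L0word0 : Trie :=
  (.node (.leaf 0x0) (.leaf 0x92594caebb2c))

/-- transversal words -/
def tau95L0word : Trie :=
  tau95L0word0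

/-- part of closing hints -/
def tau95L0close0 : Trie :=
  (.node (.node (.leaf 0x1000) (.leaf 0x1001)) (.node (.leaf 0x1) (.leaf 0x0)))

/-- closing hints -/
def tau95L0close : Trie :=
  tau95L0close0

/-- a level -/
def tau95L0 : SLev := ⟨4, [0x1a6cb2cb30c, 0x92594caebb2c], tau95L0tree, tau95L0word, 2, tau95L0close, [(1, 0)]⟩

/-- part of a tree -/
def tau95L1tree0 : Trie :=
  (.node (.leaf 0x0) (.leaf 0x0))

/-- a tree -/
def tau95L1tree : Trie :=
  tau95L1tree0

/-- part of transversal words -/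
def tau95L1word0 : Trie :=
  (.node (.leaf 0x0) (.leaf 0x1a6cb2cb30c))

/-- transversal words -/
def tau95L1word : Trie :=
  tau95L1word0

/-- part of closing hints -/
def tau95L1close0 : Trie :=
  (.node (.leaf 0x1) (.leaf 0x0))

/-- closing hints -/
def tau95L1close : Trie :=
  tau95L1close0

/-- a level -/
def tau95L1 : SLev := ⟨6, [0x1a6cb2cb30c], tau95L1tree, tau95L1word, 2, tau95L1close, []⟩

/-- a chain -/
def tau95 : List SLev := [tau95L0, tau95L1]

/-- a representative -/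
def r95 : RepD := ⟨7, 9, 4, 0x15432c, 160, tau95, [0x1000000, 0x1001000], [0x1000000000, 0x1000010003]⟩

/-- part of a tree -/
def tau96L0tree0 : Trie :=
  (.node (.leaf 0x0) (.leaf 0x0))

/-- a tree -/
def tau96L0tree : Trie :=
  tau96L0tree0

/-- part of transversal words -/
def tau96L0word0 : Trie :=
  (.node (.leaf 0x0) (.leaf 0x1a6cb2cb30c))

/-- transversal words -/
def tau96L0word : Trie :=
  tau96L0word0

/-- part of closing hints -/
def tau96L0close0 : Trie :=
  (.node (.leaf 0x1) (.leaf 0x0))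

/-- closing hints -/
def tau96L0close : Trie :=
  tau96L0close0

/-- a level -/
def tau96L0 : SLev := ⟨6, [0x1a6cb2cb30c], tau96L0tree, tau96L0word, 2, tau96L0close, []⟩

/-- a chain -/
def tau96 : List SLev := [tau96L0]

/-- a representative -/
def r96 : RepD := ⟨7, 5, 5, 0x4b2590c2dd, 320, tau96, [0x1000000], [0x11000]⟩

/-- part of a tree -/
def tau97L0tree0 : Trie :=
  (.node (.leaf 0x0) (.leaf 0x0))

/-- a tree -/
def tau97L0tree : Trie :=
  tau97L0tree0

/-- part of transversal words -/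
def tau97L0word0 : Trie :=
  (.node (.leaf 0x0) (.leaf 0x1a6cb2cb30c))

/-- transversal words -/
def tau97L0word : Trie :=
  tau97L0word0

/-- part of closing hints -/
def tau97L0close0 : Trie :=
  (.node (.leaf 0x1) (.leaf 0x0))

/-- closing hints -/
def tau97L0close : Trie :=
  tau97L0close0

/-- a level -/
def tau97L0 : SLev := ⟨6, [0x1a6cb2cb30c], tau97L0tree, tau97L0word, 2, tau97L0close, []⟩

/-- a chain -/
def tau97 : List SLev := [tau97L0]

/-- a representative -/
def r97 : RepD := ⟨7, 42, 6, 0x2451575b52196175b, 320, tau97, [0x1000000], [0x1012000]⟩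

/-- part of a tree -/
def tau98L0tree0 : Trie :=
  (.node (.node (.node (.leaf 0x0) (.leaf 0x3)) (.node (.leaf 0x1) (.leaf 0))) (.node (.node (.leaf 0x0) (.leaf 0)) (.node (.leaf 0x2) (.leaf 0))))

/-- a tree -/
def tau98L0tree : Trie :=
  tau98L0tree0

/-- part of transversal words -/
def tau98L0word0 : Trie :=
  (.node (.node (.node (.leaf 0x0) (.leaf 0x296569bacb66194c)) (.node (.leaf 0x1ab2592ca9b2dd94b) (.leaf 0))) (.node (.node (.leaf 0x34d34da69b74b761) (.leaf 0)) (.node (.leaf 0x22aec8a4a9d6eb74c) (.leaf 0))))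

/-- transversal words -/
def tau98L0word : Trie :=
  tau98L0word0

/-- part of closing hints -/
def tau98L0close0 : Trie :=
  (.node (.node (.node (.leaf 0x1) (.leaf 0x0)) (.node (.leaf 0x3) (.leaf 0))) (.node (.node (.leaf 0x2) (.leaf 0)) (.node (.leaf 0x4) (.leaf 0))))

/-- closing hints -/
def tau98L0close : Trie :=
  tau98L0close0

/-- a level -/
def tau98L0 : SLev := ⟨0, [0x34d34da69b74b761], tau98L0tree, tau98L0word, 5, tau98L0close, []⟩

/-- a chain -/
def tau98 : List SLev := [tau98L0]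

/-- a representative -/
def r98 : RepD := ⟨7, 0xa5d665, 7, 0x12b6a4aebacc2d9, 128, tau98, [4227], [4245]⟩

/-- part of a tree -/
def tau99L0tree0 : Trie :=
  (.node (.leaf 0x0) (.leaf 0x100000))

/-- a tree -/
def tau99L0tree : Trie :=
  tau99L0tree0

/-- part of transversal words -/
def tau99L0word0 : Trie :=
  (.node (.leaf 0x0) (.leaf 0x26abb2caeb52c))

/-- transversal words -/
def tau99L0word : Trie :=
  tau99L0word0

/-- part of closing hints -/
def tau99L0close0 : Trie :=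
  (.node (.node (.node (.leaf 0x3000) (.leaf 0x0)) (.node (.leaf 0x2001) (.leaf 0))) (.node (.node (.leaf 0x1) (.leaf 0x2000)) (.node (.leaf 0x1001) (.leaf 0))))

/-- closing hints -/
def tau99L0close : Trie :=
  tau99L0close0

/-- a level -/
def tau99L0 : SLev := ⟨4, [0x165990b, 0x26abb2caeb52c, 0x2ada96575d929], tau99L0tree, tau99L0word, 2, tau99L0close, [(1, 0), (1, 2)]⟩

/-- part of a tree -/
def tau99L1tree0 : Trie :=
  (.node (.node (.node (.leaf 0x0) (.leaf 0x100001)) (.node (.leaf 0x100000) (.leaf 0))) (.node (.node (.leaf 0x0) (.leaf 0x4)) (.node (.leaf 0x1) (.leaf 0))))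

/-- a tree -/
def tau99L1tree : Trie :=
  tau99L1tree0

/-- part of transversal words -/
def tau99L1word0 : Trie :=
  (.node (.node (.node (.leaf 0x0) (.leaf 0x4da9132d990b)) (.node (.leaf 0x4d330c2cb30c) (.leaf 0))) (.node (.node (.leaf 0x42d9861) (.leaf 0x5136a430b664)) (.node (.leaf 0x165990b) (.leaf 0))))

/-- transversal words -/
def tau99L1word : Trie :=
  tau99L1word0

/-- part of closing hints -/
def tau99L1close0 : Trie :=
  (.node (.node (.node (.node (.leaf 0x1) (.leaf 0x5)) (.node (.leaf 0x1004) (.leaf 0))) (.node (.node (.leaf 0x3) (.leaf 0x1002)) (.node (.leaf 0x0) (.leaf 0)))) (.node (.node (.node (.leaf 0x2) (.leaf 0x1)) (.node (.leaf 0x0) (.leaf 0))) (.node (.node (.leaf 0x4) (.leaf 0x1005)) (.node (.leaf 0x1003) (.leaf 0)))))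

/-- closing hints -/
def tau99L1close : Trie :=
  tau99L1close0

/-- a level -/
def tau99L1 : SLev := ⟨8, [0x42d9861, 0x4d330c2cb30c], tau99L1tree, tau99L1word, 6, tau99L1close, [(2, 0)]⟩

/-- part of a tree -/
def tau99L2tree0 : Trie :=
  (.node (.leaf 0x0) (.leaf 0x0))

/-- a tree -/
def tau99L2tree : Trie :=
  tau99L2tree0

/-- part of transversal words -/
def tau99L2word0 : Trie :=
  (.node (.leaf 0x0) (.leaf 0x5132cc30b2cc))

/-- transversal words -/
def tau99L2word : Trie :=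
  tau99L2word0

/-- part of closing hints -/
def tau99L2close0 : Trie :=
  (.node (.leaf 0x1) (.leaf 0x0))

/-- closing hints -/
def tau99L2close : Trie :=
  tau99L2close0

/-- a level -/
def tau99L2 : SLev := ⟨9, [0x5132cc30b2cc], tau99L2tree, tau99L2word, 2, tau99L2close, []⟩

/-- a chain -/
def tau99 : List SLev := [tau99L0, tau99L1, tau99L2]

/-- a representative -/
def r99 : RepD := ⟨8, 0, 6, 345, 1280, tau99, [0x1004000000, 0x1001001000, 0x1004001000], [4096, 0x101d001, 0x1d001]⟩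

/-- part of a tree -/
def tau100L0tree0 : Trie :=
  (.node (.node (.node (.node (.node (.node (.leaf 0x0) (.leaf 0x15)) (.node (.leaf 0x8) (.leaf 0))) (.node (.node (.leaf 0x100003) (.leaf 0)) (.node (.leaf 0xd) (.leaf 0)))) (.node (.node (.node (.leaf 0x100001) (.leaf 0x10001d)) (.node (.leaf 0xa) (.leaf 0))) (.node (.node (.leaf 0x100005) (.leaf 0)) (.node (.leaf 0x10000f) (.leaf 0))))) (.node (.node (.node (.node (.leaf 0x100000) (.leaf 0x10001b)) (.node (.leaf 0x9) (.leaf 0))) (.node (.node (.leaf 0x100004) (.leaf 0)) (.node (.leaf 0xe) (.leaf 0)))) (.node (.node (.node (.leaf 0x100002) (.leaf 0x100020)) (.node (.leaf 0xc) (.leaf 0))) (.node (.node (.leaf 0x100006) (.leaf 0)) (.node (.leaf 0x100012) (.leaf 0)))))) (.node (.node (.node (.node (.node (.leaf 0x0) (.leaf 0x10001a)) (.node (.leaf 0x100008) (.leaf 0))) (.node (.node (.leaf 0x4) (.leaf 0)) (.node (.leaf 0x10000d) (.leaf 0)))) (.node (.node (.node (.leaf 0x2) (.leaf 0x1f)) (.node (.leaf 0x10000b)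 (.leaf 0))) (.node (.node (.leaf 0x6) (.leaf 0)) (.node (.leaf 0x11) (.leaf 0))))) (.node (.node (.node (.node (.leaf 0x1) (.leaf 0x1d)) (.node (.leaf 0x100009) (.leaf 0))) (.node (.node (.leaf 0x5) (.leaf 0)) (.node (.leaf 0xf) (.leaf 0)))) (.node (.node (.node (.leaf 0x3) (.leaf 0x21)) (.node (.leaf 0x10000c) (.leaf 0))) (.node (.node (.leaf 0x100007) (.leaf 0)) (.node (.leaf 0x100014) (.leaf 0)))))))

/-- a tree -/
def tau100L0tree : Trie :=
  tau100L0tree0

/-- part of transversal words -/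
def tau100L0word0 : Trie :=
  (.node (.node (.node (.node (.node (.node (.leaf 0x0) (.leaf 0x34d4ada94cb2192b)) (.node (.leaf 0x148ac9656da6ec2d9) (.leaf 0))) (.node (.node (.leaf 0x49158a585d764) (.leaf 0)) (.node (.leaf 0x29645656cb30c85d) (.leaf 0)))) (.node (.node (.node (.leaf 0xaec91432c32990c) (.leaf 0x3adaada74bacb75d)) (.node (.leaf 0x4da6d452c95d65d) (.leaf 0))) (.node (.node (.leaf 0xa575ba659616ec) (.leaf 0)) (.node (.leaf 0x26abb2c2eb30c) (.leaf 0))))) (.node (.node (.node (.node (.leaf 0x9226a590bad96d9) (.leaf 0xec964964add32b)) (.node (.leaf 0xa44d3add96585b) (.leaf 0))) (.node (.node (.leaf 0x275d6d34cb75b329) (.leaf 0)) (.node (.leaf 0x34d352265b2dbaeb) (.leaf 0)))) (.node (.node (.node (.leaf 0x26d4b14b2baebaa1) (.leaf 0x456275b4dd6d992b)) (.node (.leaf 0x4b2bad3acca65) (.leaf 0))) (.node (.node (.leaf 0x22b2b764b2a65d) (.leaf 0)) (.node (.leaf 0x226d452c2d9961) (.leaf 0)))))) (.node (.node (.node (.node (.node (.leaf 0x56455d6cc864a5b)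 (.leaf 0x4d491452c32990c)) (.node (.leaf 0x75b51592b32585b) (.leaf 0))) (.node (.node (.leaf 0x1136a495a92caeb) (.leaf 0)) (.node (.leaf 0x52cb2285baebb2c) (.leaf 0)))) (.node (.node (.node (.leaf 0x56ab52c32caeb) (.leaf 0x4ada92590c96174b)) (.node (.leaf 0x596452ca6192992c) (.leaf 0))) (.node (.node (.leaf 0x1a6d34eb76592c) (.leaf 0)) (.node (.leaf 0x7654cc) (.leaf 0))))) (.node (.node (.node (.node (.leaf 0x13524514b2575b761) (.leaf 0xb14b2b759664321)) (.node (.leaf 0x69b4d3acba5b765) (.leaf 0))) (.node (.node (.leaf 0x2913ad352cb0b65d) (.leaf 0)) (.node (.leaf 0x9b32c32caeb) (.leaf 0)))) (.node (.node (.node (.leaf 0x4d4b252d9661) (.leaf 0x2b52c96565b)) (.node (.leaf 0x1a9659142dbacc32c) (.leaf 0))) (.node (.node (.leaf 0x34da8a592baeb4db) (.leaf 0)) (.node (.leaf 0x4ada6eba5992b30c) (.leaf 0)))))))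

/-- transversal words -/
def tau100L0word : Trie :=
  tau100L0word0

/-- part of closing hints -/
def tau100L0close0 : Trie :=
  (.node (.node (.node (.node (.node (.node (.node (.leaf 0x1) (.leaf 0x2000013)) (.node (.leaf 0x2000008) (.leaf 0))) (.node (.node (.leaf 0x10) (.leaf 0)) (.node (.leaf 0x1001004) (.leaf 0)))) (.node (.node (.node (.leaf 0x9) (.leaf 0x2000021)) (.node (.leaf 0x2001000) (.leaf 0))) (.node (.node (.leaf 0x16) (.leaf 0)) (.node (.leaf 0x2001002) (.leaf 0))))) (.node (.node (.node (.node (.leaf 0x5) (.leaf 0x1017)) (.node (.leaf 0x1001006) (.leaf 0))) (.node (.node (.leaf 0x14) (.leaf 0)) (.node (.leaf 0x100001c) (.leaf 0)))) (.node (.node (.node (.leaf 0xd) (.leaf 0x1011)) (.node (.leaf 0x200000c) (.leaf 0))) (.node (.node (.leaf 0x1a) (.leaf 0)) (.node (.leaf 0x2000024) (.leaf 0)))))) (.node (.node (.node (.node (.node (.leaf 0x3) (.leaf 0x27)) (.node (.leaf 0x1d) (.leaf 0))) (.node (.node (.leaf 0x12) (.leaf 0)) (.node (.leaf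 0x200100f) (.leaf 0)))) (.node (.node (.node (.leaf 0xb) (.leaf 0x1001026)) (.node (.leaf 0x20) (.leaf 0))) (.node (.node (.leaf 0x18) (.leaf 0)) (.node (.leaf 0x23) (.leaf 0))))) (.node (.node (.node (.node (.leaf 0x7) (.leaf 0x200001f)) (.node (.leaf 0x2001015) (.leaf 0))) (.node (.node (.leaf 0x100e) (.leaf 0)) (.node (.leaf 0x1000019) (.leaf 0)))) (.node (.node (.node (.leaf 0x200100a) (.leaf 0x1001022)) (.node (.leaf 0x100001e) (.leaf 0))) (.node (.node (.leaf 0x1b) (.leaf 0)) (.node (.leaf 0x25) (.leaf 0))))))) (.node (.node (.node (.node (.node (.node (.leaf 0x2) (.leaf 0x26)) (.node (.leaf 0x200101a) (.leaf 0))) (.node (.node (.leaf 0x11) (.leaf 0)) (.node (.leaf 0x1d) (.leaf 0)))) (.node (.node (.node (.leaf 0xa) (.leaf 0x1000020)) (.node (.leaf 0x1f) (.leaf 0))) (.node (.node (.leaf 0x17) (.leaf 0)) (.node (.leaf 0x1001001) (.leaf 0))))) (.node (.node (.node (.node (.leaf 0x6) (.leaf 0x1027)) (.node (.leaf 0x1e) (.leaf 0))) (.node (.node (.leaf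 0x1001007) (.leaf 0)) (.node (.leaf 0x21) (.leaf 0)))) (.node (.node (.node (.leaf 0xe) (.leaf 0x1025)) (.node (.leaf 0x2001014) (.leaf 0))) (.node (.node (.leaf 0x200100b) (.leaf 0)) (.node (.leaf 0x23) (.leaf 0)))))) (.node (.node (.node (.node (.node (.leaf 0x4) (.leaf 0x2000010)) (.node (.leaf 0x1005) (.leaf 0))) (.node (.node (.leaf 0x13) (.leaf 0)) (.node (.leaf 0x100000d) (.leaf 0)))) (.node (.node (.node (.leaf 0xc) (.leaf 0x1001018)) (.node (.leaf 0x2001000) (.leaf 0))) (.node (.node (.leaf 0x19) (.leaf 0)) (.node (.leaf 0x24) (.leaf 0))))) (.node (.node (.node (.node (.leaf 0x8) (.leaf 0x100001b)) (.node (.leaf 0x1000009) (.leaf 0))) (.node (.node (.leaf 0x15) (.leaf 0)) (.node (.leaf 0x22) (.leaf 0)))) (.node (.node (.node (.leaf 0xf) (.leaf 0x1001012)) (.node (.leaf 0x1003) (.leaf 0))) (.node (.node (.leaf 0x1c) (.leaf 0)) (.node (.leaf 0x1000016) (.leaf 0))))))))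

/-- closing hints -/
def tau100L0close : Trie :=
  tau100L0close0

/-- a level -/
def tau100L0 : SLev := ⟨0, [0x56455d6cc864a5b, 0x9226a590bad96d9], tau100L0tree, tau100L0word, 40, tau100L0close, [(30, 0), (34, 1)]⟩

/-- part of a tree -/
def tau100L1tree0 : Trie :=
  (.node (.leaf 0x0) (.leaf 0x100000))

/-- a tree -/
def tau100L1tree : Trie :=
  tau100L1tree0

/-- part of transversal words -/
def tau100L1word0 : Trie :=
  (.node (.leaf 0x0) (.leaf 0x2ada96575d929))

/-- transversal words -/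
def tau100L1word : Trie :=
  tau100L1word0

/-- part of closing hints -/
def tau100L1close0 : Trie :=
  (.node (.node (.leaf 0x2000) (.leaf 0x1001)) (.node (.leaf 0x1) (.leaf 0x0)))

/-- closing hints -/
def tau100L1close : Trie :=
  tau100L1close0

/-- a level -/
def tau100L1 : SLev := ⟨4, [0x4da9132d990b, 0x2ada96575d929], tau100L1tree, tau100L1word, 2, tau100L1close, [(1, 0)]⟩

/-- part of a tree -/
def tau100L2tree0 : Trie :=
  (.node (.node (.leaf 0x0) (.leaf 0x1)) (.node (.leaf 0x0) (.leaf 0)))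

/-- a tree -/
def tau100L2tree : Trie :=
  tau100L2tree0

/-- part of transversal words -/
def tau100L2word0 : Trie :=
  (.node (.node (.leaf 0x0) (.leaf 0x4da9132d990b)) (.node (.leaf 0x89b32185b321) (.leaf 0)))

/-- transversal words -/
def tau100L2word : Trie :=
  tau100L2word0

/-- part of closing hints -/
def tau100L2close0 : Trie :=
  (.node (.node (.leaf 0x1) (.leaf 0x0)) (.node (.leaf 0x2) (.leaf 0)))

/-- closing hints -/
def tau100L2close : Trie :=
  tau100L2close0

/-- a level -/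
def tau100L2 : SLev := ⟨8, [0x89b32185b321], tau100L2tree, tau100L2word, 3, tau100L2close, []⟩

/-- a chain -/
def tau100 : List SLev := [tau100L0, tau100L1, tau100L2]

/-- a representative -/
def r100 : RepD := ⟨8, 0xadb50b, 8, 0x562913a5b765959, 128, tau100, [0x100400035a, 0x100000140c], [0x1001168, 0x1002001441]⟩

/-- the representatives -/
def reps : List RepD := [r0, r1, r2, r3, r4, r5, r6, r7, r8, r9, r10, r11, r12, r13, r14, r15, r16, r17, r18, r19, r20, r21, r22, r23, r24, r25, r26, r27, r28, r29, r30, r31, r32, r33, r34, r35, r36, r37, r38, r39, r40, r41, r42, r43, r44, r45, r46, r47, r48, r49, r50, r51, r52, r53, r54, r55, r56, r57, r58, r59, r60, r61, r62, r63, r64, r65, r66, r67, r68, r69, r70, r71, r72, r73, r74, r75, r76, r77, r78, r79, r80, r81, r82, r83, r84, r85, r86, r87, r88, r89, r90, r91, r92, r93, r94, r95, r96, r97, r98, r99, r100]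

end

end Cfsg.Agent.HN.Dat
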