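import Cfsg.Agent.Lib.HN.Checks
import Cfsg.Agent.Lib.HN.FactData
import Cfsg.Agent.Lib.HN.NodeData
import Cfsg.Agent.Lib.HN.RepData

/-! Loops, covers and moves. -/

set_option autoImplicit false
set_option maxRecDepth 100000
set_option maxHeartbeats 4000000
set_option Elab.async false

namespace Cfsg.Agent.HN.Dat

noncomputable section

/-- part of a tree -/
def kchainL0tree0 : Trie :=
  (.node (.node (.node (.node (.node (.node (.leaf 0x0) (.leaf 0x100019)) (.node (.leaf 0xa) (.leaf 0x2c))) (.node (.node (.leaf 0x4) (.leaf 0x20)) (.node (.leaf 0x10000f) (.leaf 0)))) (.node (.node (.node (.leaf 0x100001) (.leaf 0x10001d)) (.node (.leaf 0x10000c) (.leaf 0))) (.node (.node (.leaf 0x6) (.leaf 0x100024)) (.node (.leaf 0x100012) (.leaf 0))))) (.node (.node (.node (.node (.leaf 0x100000) (.leaf 0x10001c)) (.node (.leaf 0xb) (.leaf 0))) (.node (.node (.leaf 0x5) (.leaf 0x22)) (.node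 (.leaf 0x11) (.leaf 0)))) (.node (.node (.node (.leaf 0x3) (.leaf 0x1f)) (.node (.leaf 0x10000d) (.leaf 0))) (.node (.node (.leaf 0x7) (.leaf 0x2b)) (.node (.leaf 0x16) (.leaf 0)))))) (.node (.node (.node (.node (.node (.leaf 0x0) (.leaf 0x10001b)) (.node (.leaf 0x10000a) (.leaf 0x10002d))) (.node (.node (.leaf 0x100004) (.leaf 0x21)) (.node (.leaf 0x10) (.leaf 0)))) (.node (.node (.node (.leaf 0x100002) (.leaf 0x1e)) (.node (.leaf 0xd) (.leaf 0))) (.node (.node (.leaf 0x100006) (.leaf 0x10002a)) (.node (.leaf 0x15) (.leaf 0))))) (.node (.node (.node (.node (.leaf 0x1) (.leaf 0x1d)) (.node (.leaf 0x10000b) (.leaf 0))) (.node (.node (.leaf 0x100005) (.leaf 0x24)) (.node (.leaf 0x12) (.leaf 0)))) (.node (.node (.node (.leaf 0x100003) (.leaf 0x10001f)) (.node (.leaf 0xe) (.leaf 0))) (.node (.node (.leaf 0x100007) (.leaf 0x10002b)) (.node (.leaf 0x18) (.leaf 0)))))))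

/-- a tree -/
def kchainL0tree : Trie :=
  kchainL0tree0

/-- part of transversal words -/
def kchainL0word0 : Trie :=
  (.node (.node (.node (.node (.node (.node (.leaf 0x0) (.leaf 0xb2db2d9)) (.node (.leaf 0x1b4d9) (.leaf 0x32d96cb2db))) (.node (.node (.leaf 0x34cb) (.leaf 0xcb2db2d9)) (.node (.leaf 0x9b65b) (.leaf 0)))) (.node (.node (.node (.leaf 0x4cb) (.leaf 0x596cb2db)) (.node (.leaf 0x2664) (.leaf 0))) (.node (.node (.leaf 0x24) (.leaf 0x2d96cb2db)) (.node (.leaf 0x16596d9) (.leaf 0))))) (.node (.node (.node (.node (.leaf 0x99) (.leaf 0xb6596d9)) (.node (.leaf 0x1a6d9) (.leaf 0))) (.node (.node (.leaf 0x34d9) (.leaf 0xcb6596d9)) (.node (.leaf 0x32cb2d9) (.leaf 0)))) (.node (.node (.node (.leaf 0xdb) (.leaf 0x369b65b)) (.node (.leaf 0x9b2db) (.leaf 0))) (.node (.node (.leaf 0x1a65b) (.leaf 0x36596cb2db)) (.node (.leaf 0x69b2db) (.leaf 0)))))) (.node (.node (.node (.node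 (.node (.leaf 0x3) (.leaf 0xb2d96d9)) (.node (.leaf 0x2cb2d9) (.leaf 0x2290c321859))) (.node (.node (.leaf 0x26cb) (.leaf 0xcb2d96d9)) (.node (.leaf 0xdb4d9) (.leaf 0)))) (.node (.node (.node (.leaf 0x4d9) (.leaf 0x369b2db)) (.node (.leaf 0xd32db) (.leaf 0))) (.node (.node (.leaf 0x132db) (.leaf 0x132cb6596d9)) (.node (.leaf 0x6d32db) (.leaf 0))))) (.node (.node (.node (.node (.leaf 0x1b) (.leaf 0x36d32db)) (.node (.leaf 0x521) (.leaf 0))) (.node (.node (.leaf 0x26d9) (.leaf 0x6596cb2db)) (.node (.leaf 0xda6d9) (.leaf 0)))) (.node (.node (.node (.leaf 0x265b) (.leaf 0x5965b65b)) (.node (.leaf 0xda65b) (.leaf 0))) (.node (.node (.leaf 0x1365b) (.leaf 0x9a6996cb2db)) (.node (.leaf 0x69b65b) (.leaf 0)))))))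

/-- transversal words -/
def kchainL0word : Trie :=
  kchainL0word0

/-- part of closing hints -/
def kchainL0close0 : Trie :=
  (.node (.node (.node (.node (.node (.node (.node (.leaf 0x1) (.leaf 0x28)) (.node (.leaf 0x19) (.leaf 0x1004000001031))) (.node (.node (.leaf 0x1001000004002) (.leaf 0x100000000301c)) (.node (.leaf 0x1f) (.leaf 0)))) (.node (.node (.node (.leaf 0x8) (.leaf 0x2b)) (.node (.leaf 0x1001001003005) (.leaf 0))) (.node (.node (.leaf 0x100300500d009) (.leaf 0x30)) (.node (.leaf 0x1002005016016) (.leaf 0))))) (.node (.node (.node (.node (.leaf 0x300500d004) (.leaf 0x2a)) (.node (.leaf 0x1b) (.leaf 0))) (.node (.node (.leaf 0x10) (.leaf 0x100100500502c)) (.node (.leaf 0x100400000a011) (.leaf 0)))) (.node (.node (.node (.leaf 0xc) (.leaf 0x2007)) (.node (.leaf 0x1e) (.leaf 0))) (.node (.node (.leaf 0x17) (.leaf 0x2004008024)) (.node (.leaf 0x25) (.leaf 0))))))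 (.node (.node (.node (.node (.node (.leaf 0x3) (.leaf 0x29)) (.node (.leaf 0x1a) (.leaf 0x300300e027))) (.node (.node (.leaf 0x1004002009000) (.leaf 0x400101b00d)) (.node (.leaf 0x2000027013) (.leaf 0)))) (.node (.node (.node (.leaf 0xa) (.leaf 0x1001001020)) (.node (.leaf 0x1d) (.leaf 0))) (.node (.node (.leaf 0x15) (.leaf 0x300500d02f)) (.node (.leaf 0x23) (.leaf 0))))) (.node (.node (.node (.node (.leaf 0x6) (.leaf 0x2001015021)) (.node (.leaf 0x1001002010014) (.leaf 0))) (.node (.node (.leaf 0x12) (.leaf 0x2e)) (.node (.leaf 0x100200100f00b) (.leaf 0)))) (.node (.node (.node (.leaf 0xe) (.leaf 0x1001000001022)) (.node (.leaf 0x6018) (.leaf 0))) (.node (.node (.leaf 0x300202200f) (.leaf 0x100000402202d)) (.node (.leaf 0x26) (.leaf 0))))))) (.node (.node (.node (.node (.node (.node (.leaf 0x2) (.leaf 0x100400301f023)) (.node (.leaf 0x1000003021010) (.leaf 0x100000500802e)))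 (.node (.node (.leaf 0x2000026000) (.leaf 0x101d)) (.node (.leaf 0x100200400700c) (.leaf 0)))) (.node (.node (.node (.leaf 0x9) (.leaf 0x2c)) (.node (.leaf 0x1003004005003) (.leaf 0))) (.node (.node (.leaf 0x14) (.leaf 0x1003000002030)) (.node (.leaf 0x22) (.leaf 0))))) (.node (.node (.node (.node (.leaf 0x5) (.leaf 0x100200100f026)) (.node (.leaf 0x1c) (.leaf 0))) (.node (.node (.leaf 0x11) (.leaf 0x2d)) (.node (.leaf 0x1005003019) (.leaf 0)))) (.node (.node (.node (.leaf 0xd) (.leaf 0x100400302801e)) (.node (.leaf 0x100400301f006) (.leaf 0))) (.node (.node (.leaf 0x1003005008017) (.leaf 0x1002003010028)) (.node (.leaf 0x4001011025) (.leaf 0)))))) (.node (.node (.node (.node (.node (.leaf 0x4) (.leaf 0x1001004016029)) (.node (.leaf 0x100200301901a) (.leaf 0x100100000902a))) (.node (.node (.leaf 0x4004026001) (.leaf 0x100400101f01f)) (.node (.leaf 0x20) (.leaf 0)))) (.node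 (.node (.node (.leaf 0xb) (.leaf 0x2012)) (.node (.leaf 0x100300301801b) (.leaf 0))) (.node (.node (.leaf 0x16) (.leaf 0x31)) (.node (.leaf 0x24) (.leaf 0))))) (.node (.node (.node (.node (.leaf 0x7) (.leaf 0x300502300a)) (.node (.leaf 0x2000026008) (.leaf 0))) (.node (.node (.leaf 0x13) (.leaf 0x2f)) (.node (.leaf 0x21) (.leaf 0)))) (.node (.node (.node (.leaf 0xf) (.leaf 0x100000201a015)) (.node (.leaf 0x400401200e) (.leaf 0))) (.node (.node (.leaf 0x18) (.leaf 0x300201d02b)) (.node (.leaf 0x27) (.leaf 0))))))))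

/-- closing hints -/
def kchainL0close : Trie :=
  kchainL0close0

/-- a level -/
def kchainL0 : SLev := ⟨4, [3, 90], kchainL0tree, kchainL0word, 50, kchainL0close, [(40, 1), (37, 1)]⟩

/-- part of a tree -/
def kchainL1tree0 : Trie :=
  (.node (.node (.node (.node (.node (.node (.leaf 0x0) (.leaf 0x15)) (.node (.leaf 0x100009) (.leaf 0))) (.node (.node (.leaf 0x100003) (.leaf 0x21)) (.node (.leaf 0xf) (.leaf 0)))) (.node (.node (.node (.leaf 0x100001) (.leaf 0x1d)) (.node (.leaf 0xc) (.leaf 0))) (.node (.node (.leaf 0x100007) (.leaf 0)) (.node (.leaf 0x12) (.leaf 0))))) (.node (.node (.node (.node (.leaf 0x100000) (.leaf 0x18)) (.node (.leaf 0xb) (.leaf 0))) (.node (.node (.leaf 0x6) (.leaf 0)) (.node (.leaf 0x100010) (.leaf 0)))) (.node (.node (.node (.leaf 0x100002) (.leaf 0x1f)) (.node (.leaf 0x10000d) (.leaf 0))) (.node (.node (.leaf 0x100008) (.leaf 0)) (.node (.leaf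 0x100013) (.leaf 0)))))) (.node (.node (.node (.node (.node (.leaf 0x0) (.leaf 0x100015)) (.node (.leaf 0x10000a) (.leaf 0))) (.node (.node (.leaf 0x4) (.leaf 0x25)) (.node (.leaf 0x10) (.leaf 0)))) (.node (.node (.node (.leaf 0x2) (.leaf 0x10001d)) (.node (.leaf 0xd) (.leaf 0))) (.node (.node (.leaf 0x8) (.leaf 0)) (.node (.leaf 0x13) (.leaf 0))))) (.node (.node (.node (.node (.leaf 0x1) (.leaf 0x19)) (.node (.leaf 0x10000b) (.leaf 0))) (.node (.node (.leaf 0x7) (.leaf 0)) (.node (.leaf 0x100011) (.leaf 0)))) (.node (.node (.node (.leaf 0x3) (.leaf 0x10001f)) (.node (.leaf 0xe) (.leaf 0))) (.node (.node (.leaf 0x9) (.leaf 0)) (.node (.leaf 0x14) (.leaf 0)))))))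

/-- a tree -/
def kchainL1tree : Trie :=
  kchainL1tree0

/-- part of transversal words -/
def kchainL1word0 : Trie :=
  (.node (.node (.node (.node (.node (.node (.leaf 0x0) (.leaf 0x1d91575d6ec95b)) (.node (.leaf 0x1142cb6596cc) (.leaf 0))) (.node (.node (.leaf 0x5229136a430b659) (.leaf 0x289b5148616d96cc)) (.node (.leaf 0x4d34da6642cb6cb) (.leaf 0)))) (.node (.node (.node (.leaf 0x289b4da6a1859661) (.leaf 0xd48596cb659)) (.node (.leaf 0x5145226d32d990c2cb) (.leaf 0))) (.node (.node (.leaf 0x4ad56d3ad32dbacb) (.leaf 0)) (.node (.leaf 0x513aecb2ba9d) (.leaf 0))))) (.node (.node (.node (.node (.leaf 0x12289b65b65b) (.leaf 0x295ab2290b6ec95b)) (.node (.leaf 0x6a42d990c2cb) (.leaf 0))) (.node (.node (.leaf 0x132db321661) (.leaf 0)) (.node (.leaf 0x48a44d36996cc859) (.leaf 0)))) (.node (.node (.node (.leaf 0x1226da6d965b) (.leaf 0x34ec92b6e965d)) (.node (.leaf 0x26d48a452165b30c)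 (.leaf 0))) (.node (.node (.leaf 0x122914321859659) (.leaf 0)) (.node (.leaf 0x452269b4cc8616cb) (.leaf 0)))))) (.node (.node (.node (.node (.node (.leaf 0x8acaebb2c2e9) (.leaf 0x51489a6cc85b2d9)) (.node (.leaf 0x9a6d491430b2cc) (.leaf 0))) (.node (.node (.leaf 0xa4564adb30b765) (.leaf 0x44d48a16d990b)) (.node (.leaf 0x49648a2914b29964) (.leaf 0)))) (.node (.node (.node (.leaf 0x42d9659) (.leaf 0xa28a265b30c864)) (.node (.leaf 0x11451352165b30c) (.leaf 0))) (.node (.node (.leaf 0x1495d92cb0b2ebb0c) (.leaf 0)) (.node (.leaf 0x34d36a190b664) (.leaf 0))))) (.node (.node (.node (.node (.leaf 0x8a269b3216cc) (.leaf 0x22aecb2589d75d2ec)) (.node (.leaf 0x11491369a6cc86190b) (.leaf 0))) (.node (.node (.leaf 0x2296489d66432595b) (.leaf 0)) (.node (.leaf 0xa4522913659661) (.leaf 0)))) (.node (.node (.node (.leaf 0x1456452c2eb2dd75d) (.leaf 0x113522914861861)) (.node (.leaf 0x13b159148a52dbacb)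 (.leaf 0))) (.node (.node (.leaf 0x452291450c85b659) (.leaf 0)) (.node (.leaf 0x3b1589a6cc86532b) (.leaf 0)))))))

/-- transversal words -/
def kchainL1word : Trie :=
  kchainL1word0

/-- part of closing hints -/
def kchainL1close0 : Trie :=
  (.node (.node (.node (.node (.node (.node (.node (.leaf 0x1) (.leaf 0x2027)) (.node (.leaf 0x19) (.leaf 0))) (.node (.node (.leaf 0xd) (.leaf 0x6)) (.node (.leaf 0x22) (.leaf 0)))) (.node (.node (.node (.leaf 0x9) (.leaf 0x400201b)) (.node (.leaf 0x1f) (.leaf 0))) (.node (.node (.leaf 0x14) (.leaf 0)) (.node (.leaf 0x0) (.leaf 0))))) (.node (.node (.node (.node (.leaf 0x5) (.leaf 0x1004001025)) (.node (.leaf 0x1c) (.leaf 0))) (.node (.node (.leaf 0x1001010) (.leaf 0)) (.node (.leaf 0x100200101e) (.leaf 0)))) (.node (.node (.node (.leaf 0xa) (.leaf 0x1004000011)) (.node (.leaf 0x1004005013) (.leaf 0))) (.node (.node (.leaf 0x17) (.leaf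 0)) (.node (.leaf 0x1003002016) (.leaf 0)))))) (.node (.node (.node (.node (.node (.leaf 0x3) (.leaf 0x28)) (.node (.leaf 0x100100e) (.leaf 0))) (.node (.node (.leaf 0xf) (.leaf 0x4005004)) (.node (.leaf 0x23) (.leaf 0)))) (.node (.node (.node (.leaf 0x4002008) (.leaf 0x29)) (.node (.leaf 0x20) (.leaf 0))) (.node (.node (.leaf 0x15) (.leaf 0)) (.node (.leaf 0x24) (.leaf 0))))) (.node (.node (.node (.node (.leaf 0x7) (.leaf 0x1001021)) (.node (.leaf 0x1d) (.leaf 0))) (.node (.node (.leaf 0x12) (.leaf 0)) (.node (.leaf 0x100401a) (.leaf 0)))) (.node (.node (.node (.leaf 0xb) (.leaf 0x4000002)) (.node (.leaf 0x400c) (.leaf 0))) (.node (.node (.leaf 0x18) (.leaf 0)) (.node (.leaf 0x26) (.leaf 0))))))) (.node (.node (.node (.node (.node (.node (.leaf 0x2) (.leaf 0x300400d)) (.node (.leaf 0x1a) (.leaf 0))) (.node (.node (.leaf 0xe) (.leaf 0x100300101d)) (.node (.leaf 0x1000003022)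 (.leaf 0)))) (.node (.node (.node (.leaf 0x4000005) (.leaf 0x4026)) (.node (.leaf 0x4019) (.leaf 0))) (.node (.node (.leaf 0x3012) (.leaf 0)) (.node (.leaf 0x100001f) (.leaf 0))))) (.node (.node (.node (.node (.leaf 0x6) (.leaf 0x1001000017)) (.node (.leaf 0x1003002007) (.leaf 0))) (.node (.node (.leaf 0x11) (.leaf 0)) (.node (.leaf 0x9) (.leaf 0)))) (.node (.node (.node (.leaf 0x0) (.leaf 0x4001029)) (.node (.leaf 0x1000005020) (.leaf 0))) (.node (.node (.leaf 0x3) (.leaf 0)) (.node (.leaf 0xb) (.leaf 0)))))) (.node (.node (.node (.node (.node (.leaf 0x4) (.leaf 0x100f)) (.node (.leaf 0x1b) (.leaf 0))) (.node (.node (.leaf 0x10) (.leaf 0x1001005024)) (.node (.leaf 0x1002005023) (.leaf 0)))) (.node (.node (.node (.leaf 0x4000001) (.leaf 0x1003028)) (.node (.leaf 0x21) (.leaf 0))) (.node (.node (.leaf 0x16) (.leaf 0)) (.node (.leaf 0x25) (.leaf 0))))) (.node (.node (.node (.node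 (.leaf 0x8) (.leaf 0x1000000014)) (.node (.leaf 0x1e) (.leaf 0))) (.node (.node (.leaf 0x13) (.leaf 0)) (.node (.leaf 0xa) (.leaf 0)))) (.node (.node (.node (.leaf 0xc) (.leaf 0x100200001c)) (.node (.leaf 0x1003004018) (.leaf 0))) (.node (.node (.leaf 0x1002015) (.leaf 0)) (.node (.leaf 0x27) (.leaf 0))))))))

/-- closing hints -/
def kchainL1close : Trie :=
  kchainL1close0

/-- a level -/
def kchainL1 : SLev := ⟨6, [0x8acaebb2c2e9, 0x12289b65b65b], kchainL1tree, kchainL1word, 42, kchainL1close, [(33, 1), (34, 1), (32, 0)]⟩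

/-- part of a tree -/
def kchainL2tree0 : Trie :=
  (.node (.node (.node (.leaf 0x0) (.leaf 0x200001)) (.node (.leaf 0x200000) (.leaf 0))) (.node (.node (.leaf 0x0) (.leaf 0x100002)) (.node (.leaf 0x100001) (.leaf 0))))

/-- a tree -/
def kchainL2tree : Trie :=
  kchainL2tree0

/-- part of transversal words -/
def kchainL2word0 : Trie :=
  (.node (.node (.node (.leaf 0x0) (.leaf 0xa451452190c321)) (.node (.leaf 0x1452289a66190c30c) (.leaf 0))) (.node (.node (.leaf 0x165990b) (.leaf 0xd32cb65990b)) (.node (.leaf 0x5136a430b664) (.leaf 0))))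

/-- transversal words -/
def kchainL2word : Trie :=
  kchainL2word0

/-- part of closing hints -/
def kchainL2close0 : Trie :=
  (.node (.node (.node (.node (.node (.leaf 0x1) (.leaf 0x2)) (.node (.leaf 0x0) (.leaf 0))) (.node (.node (.leaf 0x3) (.leaf 0)) (.node (.leaf 0x2003) (.leaf 0)))) (.node (.node (.node (.leaf 0x2) (.leaf 0)) (.node (.leaf 0x1) (.leaf 0))) (.node (.node (.leaf 0x1002000) (.leaf 0)) (.node (.leaf 0x1) (.leaf 0))))) (.node (.node (.node (.node (.leaf 0x1001000) (.leaf 0x1001005)) (.node (.leaf 0x1003005) (.leaf 0))) (.node (.node (.leaf 0x4) (.leaf 0)) (.node (.leaf 0x1003004) (.leaf 0)))) (.node (.node (.node (.leaf 0x1002) (.leaf 0)) (.node (.leaf 0x1003003) (.leaf 0))) (.node (.node (.leaf 0x5) (.leaf 0)) (.node (.leaf 0x3004) (.leaf 0))))))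

/-- closing hints -/
def kchainL2close : Trie :=
  kchainL2close0

/-- a level -/
def kchainL2 : SLev := ⟨8, [0x165990b, 0x5132cc30b2cc, 0x1452289a66190c30c], kchainL2tree, kchainL2word, 6, kchainL2close, [(1, 0), (4, 0)]⟩

/-- part of a tree -/
def kchainL3tree0 : Trie :=
  (.node (.node (.node (.leaf 0x0) (.leaf 0x100001)) (.node (.leaf 0x100000) (.leaf 0))) (.node (.node (.leaf 0x0) (.leaf 0)) (.node (.leaf 0x1) (.leaf 0))))

/-- a tree -/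
def kchainL3tree : Trie :=
  kchainL3tree0

/-- part of transversal words -/
def kchainL3word0 : Trie :=
  (.node (.node (.node (.leaf 0x0) (.leaf 0x291369b66190b)) (.node (.leaf 0x4dd92591495b75b) (.leaf 0))) (.node (.node (.leaf 0x1a8a269986430c) (.leaf 0)) (.node (.leaf 0x5144d485b65b2cc) (.leaf 0))))

/-- transversal words -/
def kchainL3word : Trie :=
  kchainL3word0

/-- part of closing hints -/
def kchainL3close0 : Trie :=
  (.node (.node (.node (.node (.leaf 0x1) (.leaf 0x2)) (.node (.leaf 0x1000) (.leaf 0))) (.node (.node (.leaf 0x3) (.leaf 0)) (.node (.leaf 0x1004) (.leaf 0)))) (.node (.node (.node (.leaf 0x2) (.leaf 0x1)) (.node (.leaf 0x0) (.leaf 0))) (.node (.node (.leaf 0x4) (.leaf 0)) (.node (.leaf 0x1003) (.leaf 0)))))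

/-- closing hints -/
def kchainL3close : Trie :=
  kchainL3close0

/-- a level -/
def kchainL3 : SLev := ⟨9, [0x1a8a269986430c, 0x4dd92591495b75b], kchainL3tree, kchainL3word, 5, kchainL3close, [(3, 1)]⟩

/-- part of a tree -/
def kchainL4tree0 : Trie :=
  (.node (.leaf 0x0) (.leaf 0x0))

/-- a tree -/
def kchainL4tree : Trie :=
  kchainL4tree0

/-- part of transversal words -/
def kchainL4word0 : Trie :=
  (.node (.leaf 0x0) (.leaf 0x659659))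

/-- transversal words -/
def kchainL4word : Trie :=
  kchainL4word0

/-- part of closing hints -/
def kchainL4close0 : Trie :=
  (.node (.leaf 0x1) (.leaf 0x0))

/-- closing hints -/
def kchainL4close : Trie :=
  kchainL4close0

/-- a level -/
def kchainL4 : SLev := ⟨7, [0x659659], kchainL4tree, kchainL4word, 2, kchainL4close, []⟩

/-- a chain -/
def kchain : List SLev := [kchainL0, kchainL1, kchainL2, kchainL3, kchainL4]

/-- part of a tree -/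
def cchainL0tree0 : Trie :=
  (.node (.node (.node (.node (.node (.node (.leaf 0x0) (.leaf 0x16)) (.node (.leaf 0x100009) (.leaf 0))) (.node (.node (.leaf 0x100003) (.leaf 0x22)) (.node (.leaf 0x10000e) (.leaf 0)))) (.node (.node (.node (.leaf 0x100001) (.leaf 0x100019)) (.node (.leaf 0xc) (.leaf 0))) (.node (.node (.leaf 0x100005) (.leaf 0)) (.node (.leaf 0x100012) (.leaf 0))))) (.node (.node (.node (.node (.leaf 0x100000) (.leaf 0x17)) (.node (.leaf 0xb) (.leaf 0))) (.node (.node (.leaf 0x100004) (.leaf 0)) (.node (.leaf 0x11) (.leaf 0)))) (.node (.node (.node (.leaf 0x100002) (.leaf 0x10001c)) (.node (.leaf 0xd) (.leaf 0))) (.node (.node (.leaf 0x7) (.leaf 0)) (.node (.leaf 0x100013) (.leaf 0)))))) (.node (.node (.node (.node (.node (.leaf 0x0) (.leaf 0x100016)) (.node (.leaf 0xa) (.leaf 0))) (.node (.node (.leaf 0x4) (.leaf 0x100024)) (.node (.leaf 0xf) (.leaf 0)))) (.node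 (.node (.node (.leaf 0x2) (.leaf 0x10001b)) (.node (.leaf 0x10000c) (.leaf 0))) (.node (.node (.leaf 0x6) (.leaf 0)) (.node (.leaf 0x13) (.leaf 0))))) (.node (.node (.node (.node (.leaf 0x1) (.leaf 0x100017)) (.node (.leaf 0x10000b) (.leaf 0))) (.node (.node (.leaf 0x5) (.leaf 0)) (.node (.leaf 0x12) (.leaf 0)))) (.node (.node (.node (.leaf 0x3) (.leaf 0x10001d)) (.node (.leaf 0x10000d) (.leaf 0))) (.node (.node (.leaf 0x9) (.leaf 0)) (.node (.leaf 0x14) (.leaf 0)))))))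

/-- a tree -/
def cchainL0tree : Trie :=
  cchainL0tree0

/-- part of transversal words -/
def cchainL0word0 : Trie :=
  (.node (.node (.node (.node (.node (.node (.leaf 0x0) (.leaf 0x2290c2cb659)) (.node (.leaf 0x1143216596cb) (.leaf 0))) (.node (.node (.leaf 0x135136a16cb30c) (.leaf 0xa56ac9148a52dbacb)) (.node (.leaf 0x149658a275d6ecb21) (.leaf 0)))) (.node (.node (.node (.leaf 0x11486185b2cb) (.leaf 0x1142cb66430c)) (.node (.leaf 0x5226996cb664) (.leaf 0))) (.node (.node (.leaf 0x9b4d34d96cb2d9) (.leaf 0)) (.node (.leaf 0x29226d34d986430b) (.leaf 0))))) (.node (.node (.node (.node (.leaf 0xa432165b2d9) (.leaf 0x11369b51486430b65b)) (.node (.leaf 0x12265986430c) (.leaf 0))) (.node (.node (.leaf 0x1b4d48a165b2db) (.leaf 0)) (.node (.leaf 0xda69a8a185965b) (.leaf 0)))) (.node (.node (.node (.leaf 0x52291365b2d9) (.leaf 0x51595d76589d)) (.node (.leaf 0x89a9144d98596cb) (.leaf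 0))) (.node (.node (.leaf 0x28616d9861) (.leaf 0)) (.node (.leaf 0x4d35148616d96cc) (.leaf 0)))))) (.node (.node (.node (.node (.node (.leaf 0x26596d9659) (.leaf 0x1144d350c2db30c)) (.node (.leaf 0x6a48a26998642cc) (.leaf 0))) (.node (.node (.leaf 0xa45148a430c321) (.leaf 0x2864321661)) (.node (.leaf 0x26a26d350c2cb659) (.leaf 0)))) (.node (.node (.node (.leaf 0x6d486430c2d9) (.leaf 0x295aad432cb296ec)) (.node (.leaf 0x44d48a290b65990b) (.leaf 0))) (.node (.node (.leaf 0x5149144d985b661) (.leaf 0)) (.node (.leaf 0x452c92c8a4adbadb) (.leaf 0))))) (.node (.node (.node (.node (.leaf 0x1a9226a42cb6cb) (.leaf 0x135228a16596cc)) (.node (.leaf 0x11366190c2cb) (.leaf 0))) (.node (.node (.leaf 0x369b3216cb2cc) (.leaf 0)) (.node (.leaf 0x28a489b32190b) (.leaf 0)))) (.node (.node (.node (.leaf 0x2292289b30b6cc) (.leaf 0x36a42d96642cb)) (.node (.leaf 0x12bad450c964ad9) (.leaf 0))) (.node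 (.node (.leaf 0x1135242d9859659) (.leaf 0)) (.node (.leaf 0x269a9142d96cb664) (.leaf 0)))))))

/-- transversal words -/
def cchainL0word : Trie :=
  cchainL0word0

/-- part of closing hints -/
def cchainL0close0 : Trie :=
  (.node (.node (.node (.node (.node (.node (.node (.leaf 0x1) (.leaf 0x1010)) (.node (.leaf 0x1006) (.leaf 0))) (.node (.node (.leaf 0x100000000a) (.leaf 0x1003000023)) (.node (.leaf 0x100200200c) (.leaf 0)))) (.node (.node (.node (.leaf 0x9) (.leaf 0x301e)) (.node (.leaf 0x1f) (.leaf 0))) (.node (.node (.leaf 0x14) (.leaf 0)) (.node (.leaf 0x1002003004) (.leaf 0))))) (.node (.node (.node (.node (.leaf 0x5) (.leaf 0x28)) (.node (.leaf 0x1b) (.leaf 0))) (.node (.node (.leaf 0x11) (.leaf 0)) (.node (.leaf 0x2003015) (.leaf 0)))) (.node (.node (.node (.leaf 0xd) (.leaf 0x1001005017)) (.node (.leaf 0x20) (.leaf 0))) (.node (.node (.leaf 0x0) (.leaf 0)) (.node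 (.leaf 0x3004013) (.leaf 0)))))) (.node (.node (.node (.node (.node (.leaf 0x3) (.leaf 0x1000003021)) (.node (.leaf 0x1a) (.leaf 0))) (.node (.node (.leaf 0xf) (.leaf 0x4002029)) (.node (.leaf 0x100000201c) (.leaf 0)))) (.node (.node (.node (.leaf 0xb) (.leaf 0x1000024)) (.node (.leaf 0x1000002008) (.leaf 0))) (.node (.node (.leaf 0x16) (.leaf 0)) (.node (.leaf 0x4001025) (.leaf 0))))) (.node (.node (.node (.node (.leaf 0x7) (.leaf 0x1026)) (.node (.leaf 0x1d) (.leaf 0))) (.node (.node (.leaf 0x12) (.leaf 0)) (.node (.leaf 0x2) (.leaf 0)))) (.node (.node (.node (.leaf 0xe) (.leaf 0x1018)) (.node (.leaf 0x22) (.leaf 0))) (.node (.node (.leaf 0x19) (.leaf 0)) (.node (.leaf 0x2005027) (.leaf 0))))))) (.node (.node (.node (.node (.node (.node (.leaf 0x2) (.leaf 0x100300401a)) (.node (.leaf 0x400400f) (.leaf 0))) (.node (.node (.leaf 0x3003007) (.leaf 0x100100401f)) (.node (.leaf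 0x1005) (.leaf 0)))) (.node (.node (.node (.leaf 0xa) (.leaf 0x29)) (.node (.leaf 0xe) (.leaf 0))) (.node (.node (.leaf 0x15) (.leaf 0)) (.node (.leaf 0x26) (.leaf 0))))) (.node (.node (.node (.node (.leaf 0x6) (.leaf 0x1b)) (.node (.leaf 0x1c) (.leaf 0))) (.node (.node (.leaf 0x1009) (.leaf 0)) (.node (.leaf 0x2011) (.leaf 0)))) (.node (.node (.node (.leaf 0x1000) (.leaf 0x1003002019)) (.node (.leaf 0x21) (.leaf 0))) (.node (.node (.leaf 0x18) (.leaf 0)) (.node (.leaf 0x1002003020) (.leaf 0)))))) (.node (.node (.node (.node (.node (.leaf 0x4) (.leaf 0x100000201d)) (.node (.leaf 0x100000200b) (.leaf 0))) (.node (.node (.leaf 0x10) (.leaf 0x3012)) (.node (.leaf 0x24) (.leaf 0)))) (.node (.node (.node (.leaf 0xc) (.leaf 0x100d)) (.node (.leaf 0x1014) (.leaf 0))) (.node (.node (.leaf 0x17) (.leaf 0)) (.node (.leaf 0x27) (.leaf 0))))) (.node (.node (.node (.node (.leaf 0x8) (.leaf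 0x1022)) (.node (.leaf 0x1e) (.leaf 0))) (.node (.node (.leaf 0x13) (.leaf 0)) (.node (.leaf 0x25) (.leaf 0)))) (.node (.node (.node (.leaf 0x2004003) (.leaf 0x4001028)) (.node (.leaf 0x23) (.leaf 0))) (.node (.node (.leaf 0x4002001) (.leaf 0)) (.node (.leaf 0x3005016) (.leaf 0))))))))

/-- closing hints -/
def cchainL0close : Trie :=
  cchainL0close0

/-- a level -/
def cchainL0 : SLev := ⟨6, [0x26596d9659, 0xa432165b2d9], cchainL0tree, cchainL0word, 42, cchainL0close, [(24, 1), (26, 1)]⟩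

/-- part of a tree -/
def cchainL1tree0 : Trie :=
  (.node (.node (.node (.leaf 0x0) (.leaf 0x2)) (.node (.leaf 0x100000) (.leaf 0))) (.node (.node (.leaf 0x0) (.leaf 0x100003)) (.node (.leaf 0x100001) (.leaf 0))))

/-- a tree -/
def cchainL1tree : Trie :=
  cchainL1tree0

/-- part of transversal words -/
def cchainL1word0 : Trie :=
  (.node (.node (.node (.leaf 0x0) (.leaf 0x145144d48596cc859)) (.node (.leaf 0x452269b2cc864) (.leaf 0))) (.node (.node (.leaf 0x9a9136cb661) (.leaf 0x144da9144d9859659)) (.node (.leaf 0x89a9148a16596cc) (.leaf 0))))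

/-- transversal words -/
def cchainL1word : Trie :=
  cchainL1word0

/-- part of closing hints -/
def cchainL1close0 : Trie :=
  (.node (.node (.node (.node (.leaf 0x1) (.leaf 0x2)) (.node (.leaf 0x4) (.leaf 0))) (.node (.node (.leaf 0x0) (.leaf 0x1000005)) (.node (.leaf 0x1001003) (.leaf 0)))) (.node (.node (.node (.leaf 0x2) (.leaf 0x1000)) (.node (.leaf 0x1003004) (.leaf 0))) (.node (.node (.leaf 0x3) (.leaf 0x1)) (.node (.leaf 0x5) (.leaf 0)))))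

/-- closing hints -/
def cchainL1close : Trie :=
  cchainL1close0

/-- a level -/
def cchainL1 : SLev := ⟨8, [0x9a9136cb661, 0x452269b2cc864], cchainL1tree, cchainL1word, 6, cchainL1close, [(4, 1), (5, 0)]⟩

/-- part of a tree -/
def cchainL2tree0 : Trie :=
  (.node (.node (.node (.leaf 0x0) (.leaf 0x2)) (.node (.leaf 0x1) (.leaf 0))) (.node (.node (.leaf 0x0) (.leaf 0)) (.node (.leaf 0x100001) (.leaf 0))))

/-- a tree -/
def cchainL2tree : Trie :=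
  cchainL2tree0

/-- part of transversal words -/
def cchainL2word0 : Trie :=
  (.node (.node (.node (.leaf 0x0) (.leaf 0x5144d485b65b2cc)) (.node (.leaf 0x5134da6d990b30c) (.leaf 0))) (.node (.node (.leaf 0x1a69b2cc30b2cc) (.leaf 0)) (.node (.leaf 0x5132cc30b2cc) (.leaf 0))))

/-- transversal words -/
def cchainL2word : Trie :=
  cchainL2word0

/-- part of closing hints -/
def cchainL2close0 : Trie :=
  (.node (.node (.node (.node (.leaf 0x1) (.leaf 0x1003)) (.node (.leaf 0x4) (.leaf 0))) (.node (.node (.leaf 0x2) (.leaf 0)) (.node (.leaf 0x1000) (.leaf 0)))) (.node (.node (.node (.leaf 0x1000) (.leaf 0x1002)) (.node (.leaf 0x1004) (.leaf 0))) (.node (.node (.leaf 0x3) (.leaf 0)) (.node (.leaf 0x1) (.leaf 0)))))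

/-- closing hints -/
def cchainL2close : Trie :=
  cchainL2close0

/-- a level -/
def cchainL2 : SLev := ⟨9, [0x1a69b2cc30b2cc, 0x659659], cchainL2tree, cchainL2word, 5, cchainL2close, [(0, 1)]⟩

/-- part of a tree -/
def cchainL3tree0 : Trie :=
  (.node (.leaf 0x0) (.leaf 0x0))

/-- a tree -/
def cchainL3tree : Trie :=
  cchainL3tree0

/-- part of transversal words -/
def cchainL3word0 : Trie :=
  (.node (.leaf 0x0) (.leaf 0x659659))

/-- transversal words -/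
def cchainL3word : Trie :=
  cchainL3word0

/-- part of closing hints -/
def cchainL3close0 : Trie :=
  (.node (.leaf 0x1) (.leaf 0x0))

/-- closing hints -/
def cchainL3close : Trie :=
  cchainL3close0

/-- a level -/
def cchainL3 : SLev := ⟨7, [0x659659], cchainL3tree, cchainL3word, 2, cchainL3close, []⟩

/-- a chain -/
def cchain : List SLev := [cchainL0, cchainL1, cchainL2, cchainL3]

/-- loops of length five -/
def five : List (List Hint × ℕ) := [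
  ([⟨0, 0, 0⟩, ⟨1, 0, 0⟩, ⟨3, 0, 0⟩, ⟨2, 0, 0⟩, ⟨4, 0, 0⟩], 3), 
  ([⟨1, 0, 0⟩, ⟨3, 0, 0⟩, ⟨2, 0, 0⟩, ⟨4, 0, 0⟩, ⟨0, 3, 0⟩], 0), 
  ([⟨2, 0, 0⟩, ⟨4, 0, 0⟩, ⟨0, 3, 0⟩, ⟨1, 0, 0⟩, ⟨3, 0, 0⟩], 0), 
  ([⟨3, 0, 0⟩, ⟨2, 0, 0⟩, ⟨4, 0, 0⟩, ⟨0, 3, 0⟩, ⟨1, 0, 0⟩], 0), 
  ([⟨4, 0, 0⟩, ⟨0, 3, 0⟩, ⟨1, 0, 0⟩, ⟨3, 0, 0⟩, ⟨2, 0, 0⟩], 0), 
  ([⟨5, 0, 0⟩, ⟨8, 34, 0x216cb661⟩, ⟨12, 0, 0⟩, ⟨26, 0, 0⟩, ⟨15, 0, 0⟩], 0), 
  ([⟨6, 0, 0⟩, ⟨13, 0, 0⟩, ⟨14, 0, 0⟩, ⟨7, 45, 0x1990b661⟩, ⟨27, 1, 0⟩], 0), 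
  ([⟨7, 0, 0⟩, ⟨27, 1, 0x216cc859⟩, ⟨6, 0, 0x216cc859⟩, ⟨13, 0, 0x216cc859⟩, ⟨14, 0, 0x216cc859⟩], 45), 
  ([⟨8, 0, 0⟩, ⟨12, 0, 0xb32190b⟩, ⟨26, 0, 0xb32190b⟩, ⟨15, 0, 0xb32190b⟩, ⟨5, 0, 0xb32190b⟩], 34), 
  ([⟨9, 0, 0⟩, ⟨30, 0, 0x2cb659⟩, ⟨18, 0xf000, 0x4da8a16d96cb⟩, ⟨25, 4096, 0x8a430c32190c⟩, ⟨33, 0, 0x8a430c32190c⟩], 0x2005028022), 
  ([⟨10, 0, 0⟩, ⟨24, 8192, 0x2c92c92a6ccb0c⟩, ⟨32, 3, 0xa44da6996cb30c⟩, ⟨31, 0, 0x8a45148a1659864⟩, ⟨19, 0xf000, 0x4d48a26cb2d96d9⟩], 0x300201301b), 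
  ([⟨11, 0, 0⟩, ⟨46, 0, 0⟩, ⟨48, 0, 0xa56d3764a64b21⟩, ⟨47, 0, 0x69a6d33216d9⟩, ⟨49, 0, 0x145226d4add6eb764⟩], 0x4003007002), 
  ([⟨12, 0, 0⟩, ⟨26, 0, 0⟩, ⟨15, 0, 0⟩, ⟨5, 0, 0⟩, ⟨8, 34, 0x216cb661⟩], 0), 
  ([⟨13, 0, 0⟩, ⟨14, 0, 0⟩, ⟨7, 45, 0x1990b661⟩, ⟨27, 1, 0⟩, ⟨6, 0, 0⟩], 0), 
  ([⟨14, 0, 0⟩, ⟨7, 45, 0x1990b661⟩, ⟨27, 1, 0⟩, ⟨6, 0, 0⟩, ⟨13, 0, 0⟩], 0), 
  ([⟨15, 0, 0⟩, ⟨5, 0, 0⟩, ⟨8, 34, 0x216cb661⟩, ⟨12, 0, 0⟩, ⟨26, 0, 0⟩], 0), 
  ([⟨16, 0, 0⟩, ⟨20, 0, 0x4da69a6cb65b661⟩, ⟨62, 0, 0xa45148a430c321⟩, ⟨39, 8195, 0x9b2d990c859⟩, ⟨65, 0, 0x69b2d990c30b⟩], 0x1002000000000), 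
  ([⟨17, 0, 0⟩, ⟨40, 8194, 0x8a42d98596cc⟩, ⟨21, 0x2005010000, 0x5226d48616cc⟩, ⟨63, 0, 0x5226d48616cc⟩, ⟨64, 0, 0x1a6d44d96d990c⟩], 0x1000003017000), 
  ([⟨18, 0, 0⟩, ⟨25, 4096, 0x145144cc85b659⟩, ⟨33, 0, 0x145144cc85b659⟩, ⟨9, 0x1002000016022, 0x4d369b4cb2d96cb⟩, ⟨30, 0, 0x228596cb2cb⟩], 0x1003002029000), 
  ([⟨19, 0, 0⟩, ⟨10, 0x100400000d01b, 0x52591592b65bacc⟩, ⟨24, 8192, 0x456575d929759⟩, ⟨32, 3, 0x5145226cb65b30b⟩, ⟨31, 0, 0x244da91432190c⟩], 0x1003005023000), 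
  ([⟨20, 0, 0⟩, ⟨62, 0, 0x1226cc861861⟩, ⟨39, 8195, 0xa29135216d9859⟩, ⟨65, 0, 0x12caebb254ec861⟩, ⟨16, 0, 0xa26a42db2cb⟩], 0x1004005012000), 
  ([⟨21, 0, 0⟩, ⟨63, 0, 0⟩, ⟨64, 0, 0x48a29149132cb659⟩, ⟨17, 0x17000, 0xa44da8a430c859⟩, ⟨40, 8194, 0x13b159148a52dbacb⟩], 0x4002012000), 
  ([⟨22, 0, 0⟩, ⟨80, 0x1006000, 0x5144da6642cb6cb⟩, ⟨51, 0, 0x49148a289965b321⟩, ⟨53, 0x7000, 0x2762b22914a5b761⟩, ⟨67, 0, 0x34da69b4eb75badd⟩], 0x1002000000000), 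
  ([⟨23, 0, 0⟩, ⟨56, 0x7000, 0x89a9134db2cc30c⟩, ⟨78, 0x3002, 0x2962b226658596ec⟩, ⟨71, 0, 0xa26ec954964325⟩, ⟨50, 0, 0x69b2cb66190b⟩], 0x1000001005000), 
  ([⟨24, 0, 0⟩, ⟨32, 3, 0x14522914861861⟩, ⟨31, 0, 0x1432190c861⟩, ⟨19, 0xf000, 0x29136996d990b⟩, ⟨10, 0x100400000d01b, 0x6a29142d965b⟩], 0x3000001000), 
  ([⟨25, 0, 0⟩, ⟨33, 0, 0⟩, ⟨9, 0x1002000016022, 0x6a48642cc30c⟩, ⟨30, 0, 0x6d489b2cb30c2cb⟩, ⟨18, 0xf000, 0x134da6a18596cb⟩], 0x1004005003000), 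
  ([⟨26, 0, 0⟩, ⟨15, 0, 0⟩, ⟨5, 0, 0⟩, ⟨8, 34, 0x216cb661⟩, ⟨12, 0, 0⟩], 0), 
  ([⟨27, 0, 0⟩, ⟨6, 0, 0⟩, ⟨13, 0, 0⟩, ⟨14, 0, 0⟩, ⟨7, 45, 0x1990b661⟩], 1), 
  ([⟨28, 0, 0⟩, ⟨87, 0, 0x69a9226d42cb659⟩, ⟨44, 0x100001b000, 0x258a2764b13add2eb⟩, ⟨43, 0x1021002, 0x14add6ec9142eb664⟩, ⟨73, 0, 0x1228a4861859659⟩], 0x1004000000005), 
  ([⟨29, 0, 0⟩, ⟨45, 0, 0x762b2589d6e9761⟩, ⟨82, 0, 0x44da6d4864321⟩, ⟨84, 0, 0x44da6d4864321⟩, ⟨42, 1, 0x52c95b5299656dd⟩], 1), 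
  ([⟨30, 0, 0⟩, ⟨18, 0xf000, 0x5145133216d96cb⟩, ⟨25, 4096, 0x196cb30c⟩, ⟨33, 0, 0x196cb30c⟩, ⟨9, 0x1002000016022, 0x52289a6d965b2cc⟩], 0x1004002000), 
  ([⟨31, 0, 0⟩, ⟨19, 0xf000, 0x4d44da6d96642cc⟩, ⟨10, 0x100400000d01b, 0x145656ec94baeb321⟩, ⟨24, 8192, 0x136a289b659861⟩, ⟨32, 3, 0x1b4d49136cc321⟩], 0x1000023000), 
  ([⟨32, 0, 0⟩, ⟨31, 0, 1227⟩, ⟨19, 0xf000, 0x1451452285966190c⟩, ⟨10, 0x100400000d01b, 0x45228a44d990c2d9⟩, ⟨24, 8192, 0x69a8a432190c⟩], 0x2009003), 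
  ([⟨33, 0, 0⟩, ⟨9, 0x1002000016022, 0x6a48642cc30c⟩, ⟨30, 0, 0x6d489b2cb30c2cb⟩, ⟨18, 0xf000, 0x134da6a18596cb⟩, ⟨25, 4096, 0x2290b30c2d9⟩], 0x1014000), 
  ([⟨34, 0, 0⟩, ⟨55, 4096, 0x1a6cb30c861⟩, ⟨52, 8193, 0x259228a2acb75995b⟩, ⟨36, 0x100301d000, 0x76591485b2dd761⟩, ⟨70, 0, 0x355d75a92b75b65d⟩], 0x201d001), 
  ([⟨35, 0, 0⟩, ⟨37, 0, 0x964b24accb256dd⟩, ⟨57, 0x16001, 0x22b24b24ad4b25929⟩, ⟨69, 0x1007000, 0x9a69a6cc85b659⟩, ⟨54, 0x1000014000, 0x244da9142d96d9⟩], 0x100201d000), 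
  ([⟨36, 0, 0⟩, ⟨70, 0, 0x5990b6cb⟩, ⟨34, 0x100001f001, 0xb24b24b13add6eb⟩, ⟨55, 4096, 0x76275b4e98616dd⟩, ⟨52, 8193, 0x35228a26642db30c⟩], 0x401d000), 
  ([⟨37, 0, 0⟩, ⟨57, 0x16001, 0x292269b5216cb321⟩, ⟨69, 0x1007000, 0x351489a66185b664⟩, ⟨54, 0x1000014000, 0x5228a48a42cc30b⟩, ⟨35, 0x100301d000, 0x1a8a44da86430c85b⟩], 0x1000000), 
  ([⟨38, 0, 0⟩, ⟨92, 0, 0x2cb659⟩, ⟨76, 0, 0x2b244d330cb2c2eb⟩, ⟨86, 0x7000, 0xa26d4914861659⟩, ⟨95, 0, 0x134d450c32190c⟩], 0x1002004000), 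
  ([⟨39, 0, 0⟩, ⟨65, 0, 0x11490c2cb321⟩, ⟨16, 0, 0x142d9864321⟩, ⟨20, 0, 0x6a430c85b659⟩, ⟨62, 0, 0x69a6d352166430b⟩], 0x13003), 
  ([⟨40, 0, 0⟩, ⟨21, 0x2005010000, 0x45145226d9859664⟩, ⟨63, 0, 0x45145226d9859664⟩, ⟨64, 0, 0x4da8a265b30c864⟩, ⟨17, 0x17000, 0x69a6d352166430b⟩], 0x1000004002), 
  ([⟨41, 0, 0⟩, ⟨83, 0, 0x75a91352c964acc⟩, ⟨94, 0, 0x244d369b30c864⟩, ⟨93, 0, 0x289a69b4d9659661⟩, ⟨79, 0x7000, 0x28a289990c2d9⟩], 0x1000009000), 
  ([⟨42, 0, 0⟩, ⟨29, 1, 0xb2289a66596174b⟩, ⟨45, 0, 0x156ab69d6596dd⟩, ⟨82, 0, 0xb1495d65b3216dd⟩, ⟨84, 0, 0xb1495d65b3216dd⟩], 1), 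
  ([⟨43, 0, 0⟩, ⟨73, 0, 0x564b2432196175b⟩, ⟨28, 0x100100500f005, 0x27659229542cb74b⟩, ⟨87, 0, 0x564b2432196175b⟩, ⟨44, 0x100001b000, 0x2c5658642d96dd⟩], 0x4015002), 
  ([⟨44, 0, 0⟩, ⟨43, 0x1021002, 0xac91450b2eba5d⟩, ⟨73, 0, 0x51369b32190c⟩, ⟨28, 0x100100500f005, 0x4da69b4cc321664⟩, ⟨87, 0, 0x51369b32190c⟩], 0xc000), 
  ([⟨45, 0, 0⟩, ⟨82, 0, 0x145148a26cc2d9661⟩, ⟨84, 0, 0x145148a26cc2d9661⟩, ⟨42, 1, 0x2c91452c325329⟩, ⟨29, 1, 0x4ec564b0badd2ec⟩], 0), 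
  ([⟨46, 0, 0⟩, ⟨48, 0, 0xa56d3764a64b21⟩, ⟨47, 0, 0x69a6d33216d9⟩, ⟨49, 0, 0x145226d4add6eb764⟩, ⟨11, 0x100400300100a, 0x4d45226cb65b30b⟩], 0x2016000), 
  ([⟨47, 0, 0⟩, ⟨49, 0, 0xa455bb2192b761⟩, ⟨11, 0x100400300100a, 0x69b30b6cb2d9⟩, ⟨46, 0, 0x69b30b6cb2d9⟩, ⟨48, 0, 0xac964859929764⟩], 0x200b000), 
  ([⟨48, 0, 0⟩, ⟨47, 0, 0x3adab2b75a6eb75b⟩, ⟨49, 0, 0x4ada6ec94c964⟩, ⟨11, 0x100400300100a, 0x4962b256eb75a92b⟩, ⟨46, 0, 0x4962b256eb75a92b⟩], 0x100000b000), 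
  ([⟨49, 0, 0⟩, ⟨11, 0x100400300100a, 0x16592b65d6dd964⟩, ⟨46, 0, 0x16592b65d6dd964⟩, ⟨48, 0, 0xd45229132d9661⟩, ⟨47, 0, 0x29136a290c2db321⟩], 0x1002009000), 
  ([⟨50, 0, 0⟩, ⟨23, 0x3000024000, 0x5134d990b664⟩, ⟨56, 0x7000, 0x134d452c964b25⟩, ⟨78, 0x3002, 0x10c2d990c⟩, ⟨71, 0, 0x26d489a6cb2d990c⟩], 0x1003000000), 
  ([⟨51, 0, 0⟩, ⟨53, 0x7000, 0xa26da65b30b⟩, ⟨67, 0, 0x269aadd6eb2cca64⟩, ⟨22, 0, 0x35244da8a430c859⟩, ⟨80, 0x1006000, 0x8a29229142d9859⟩], 0x2000000), 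
  ([⟨52, 0, 0⟩, ⟨36, 0x100301d000, 0x22b24b24ad4b25929⟩, ⟨70, 0, 0x226a430b2cc30b⟩, ⟨34, 0x100001f001, 0xda8a44d990c2db⟩, ⟨55, 4096, 0x8a291450b2db30b⟩], 0x1002002001), 
  ([⟨53, 0, 0⟩, ⟨67, 0, 0x134d451332190b659⟩, ⟨22, 0, 0x13b245642d96e9761⟩, ⟨80, 0x1006000, 0x9148642d9659⟩, ⟨51, 0, 0xa45148a16596cc⟩], 0x1003007000), 
  ([⟨54, 0, 0⟩, ⟨35, 0x100301d000, 0xda9142cb30c861⟩, ⟨37, 0, 0x1b2d990b65b⟩, ⟨57, 0x16001, 0x2b244d330cb252ec⟩, ⟨69, 0x1007000, 0x1490c30b2d9⟩], 0x100000a000), 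
  ([⟨55, 0, 0⟩, ⟨52, 8193, 0x451369b4d990c30c⟩, ⟨36, 0x100301d000, 0x44eb69a8616ebb2c⟩, ⟨70, 0, 0x489a9134d9659864⟩, ⟨34, 0x100001f001, 0x9a6d452185b2d9⟩], 0x3000000), 
  ([⟨56, 0, 0⟩, ⟨78, 0x3002, 0x1456495b2dd90c2e9⟩, ⟨71, 0, 0xda8a269b2cb30c⟩, ⟨50, 0, 0x489a6a190b6cb⟩, ⟨23, 0x3000024000, 0x245226d32cb664⟩], 0x1007000), 
  ([⟨57, 0, 0⟩, ⟨69, 0x1007000, 0x9134d49132cc30b⟩, ⟨54, 0x1000014000, 0x229134d3699861859⟩, ⟨35, 0x100301d000, 0x12296292c8996dd92b⟩, ⟨37, 0, 0x26d34da90b6596d9⟩], 0x1016001), 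
  ([⟨58, 0, 0⟩, ⟨77, 0x100c000, 0x51369b2cb664⟩, ⟨72, 0x19000, 0x226d489b2cb2db⟩, ⟨59, 0x1000007000, 0xada92badd94b75b⟩, ⟨96, 0x1001072, 0x4cb659861⟩], 0x2018001), 
  ([⟨59, 0, 0⟩, ⟨96, 0x1001072, 0x13add76495b7542dd⟩, ⟨58, 0x2018001, 0x92c8abb2595b325⟩, ⟨77, 0x100c000, 0xd34da6a186430b⟩, ⟨72, 0x19000, 0x134d369a861859664⟩], 0x1000007000), 
  ([⟨60, 0, 0⟩, ⟨61, 0x4000000, 0x4d9859661⟩, ⟨75, 0x1002002, 0xb244d492c4dbb29⟩, ⟨97, 0x1001072, 0x1a8a274c964b25⟩, ⟨66, 0x100d003, 0x2289a6a290b321659⟩], 0x2008000), 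
  ([⟨61, 0, 0⟩, ⟨75, 0x1002002, 0xda9226a44cb66430c⟩, ⟨97, 0x1001072, 0xa485990b2d9⟩, ⟨66, 0x100d003, 0x148a2b2592c954⟩, ⟨60, 0x1004008000, 0x4d351365b6616d9⟩], 0x100400b000), 
  ([⟨62, 0, 0⟩, ⟨39, 8195, 0x4da89b30b6cc⟩, ⟨65, 0, 0x1576552ba5d⟩, ⟨16, 0, 0x5259256d375b764⟩, ⟨20, 0, 0x9a69a85b2db30c⟩], 0x19000), 
  ([⟨63, 0, 0⟩, ⟨64, 0, 0x48a29149132cb659⟩, ⟨17, 0x17000, 0xa44da8a430c859⟩, ⟨40, 8194, 0x13b159148a52dbacb⟩, ⟨21, 0x2005010000, 0x35226d486190b⟩], 0x1003000), 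
  ([⟨64, 0, 0⟩, ⟨17, 0x17000, 0x489a922913659661⟩, ⟨40, 8194, 0x11369a8a430c859⟩, ⟨21, 0x2005010000, 0x56d452992c961⟩, ⟨63, 0, 0x56d452992c961⟩], 0x10000), 
  ([⟨65, 0, 0⟩, ⟨16, 0, 0xa28a44d990c30b⟩, ⟨20, 0, 0x269a6a289b65b65b⟩, ⟨62, 0, 0x2bada6d352c865965⟩, ⟨39, 8195, 0x45226a44d966430c⟩], 0x19000), 
  ([⟨66, 0, 0⟩, ⟨60, 0x1004008000, 0x2289b2cb30c2cb⟩, ⟨61, 0x4000000, 0x9228a26998642cc⟩, ⟨75, 0x1002002, 0x9144da69986190b⟩, ⟨97, 0x1001072, 0x26d48a26d966430c⟩], 0x1017003), 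
  ([⟨67, 0, 0⟩, ⟨22, 0, 0x226acb2c964adb2dd⟩, ⟨80, 0x1006000, 0x1369b4d32d96cb664⟩, ⟨51, 0, 0x4ebaeb5256dd32c⟩, ⟨53, 0x7000, 0x136a45136a1659861⟩], 0x1012000), 
  ([⟨68, 0, 0⟩, ⟨74, 0x4002, 0x9158a290cb2592b⟩, ⟨81, 0x1002000, 0x1b562913aeb4ecb25⟩, ⟨85, 0, 0x32cc859⟩, ⟨99, 757, 0x4d330c2cb30c⟩], 0x1000000), 
  ([⟨69, 0, 0⟩, ⟨54, 0x1000014000, 0x36a45148a16cc2cb⟩, ⟨35, 0x100301d000, 0x616d96cc⟩, ⟨37, 0, 0xa48a289966190b⟩, ⟨57, 0x16001, 0x5134d450b2d9859⟩], 0x101b000), 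
  ([⟨70, 0, 0⟩, ⟨34, 0x100001f001, 0x1245142cb30c859⟩, ⟨55, 4096, 0x1456451569bb0b6eb⟩, ⟨52, 8193, 0x6ebad352cb25764⟩, ⟨36, 0x100301d000, 0x1134d34d96cb2cb⟩], 0x1c000), 
  ([⟨71, 0, 0⟩, ⟨50, 0, 0x69a89b52185b30c⟩, ⟨23, 0x3000024000, 0x8a26d34d990b661⟩, ⟨56, 0x7000, 0x5242d98596cb⟩, ⟨78, 0x3002, 0x9156d3aa185bae9⟩], 0x13000), 
  ([⟨72, 0, 0⟩, ⟨59, 0x1000007000, 0x1b5144d34cc321861⟩, ⟨96, 0x1001072, 0x52c92c864b2185d⟩, ⟨58, 0x2018001, 0x248a28a42d990b⟩, ⟨77, 0x100c000, 0x2c96489a92c8a5864⟩], 0x19000), 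
  ([⟨73, 0, 0⟩, ⟨28, 0x100100500f005, 0x5148a26642db30c⟩, ⟨87, 0, 0⟩, ⟨44, 0x100001b000, 0xa26d34d990c859⟩, ⟨43, 0x1021002, 0x6d48a26998616d9⟩], 0x4000), 
  ([⟨74, 0, 0⟩, ⟨81, 0x1002000, 0x42d9861⟩, ⟨85, 0, 0x8a5914ada75d75d85b⟩, ⟨99, 757, 0x9158a290cb2592b⟩, ⟨68, 0, 0x9158a290cb2592b⟩], 0xa002), 
  ([⟨75, 0, 0⟩, ⟨97, 0x1001072, 0x1b2d96cb6cc⟩, ⟨66, 0x100d003, 0x92291430b2cb661⟩, ⟨60, 0x1004008000, 0x289a6a430b2cc⟩, ⟨61, 0x4000000, 0xa269a6cb321664⟩], 8194), 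
  ([⟨76, 0, 0⟩, ⟨86, 0x7000, 0x1a6d3321859661⟩, ⟨95, 0, 0x6a291369b2cc861⟩, ⟨38, 0x2004000, 0x1592292b52c2dbadb⟩, ⟨92, 0, 0xa569a7645296596dd⟩], 0x13000), 
  ([⟨77, 0, 0⟩, ⟨72, 0x19000, 0x1b4eb4dd6d42dbadd⟩, ⟨59, 0x1000007000, 0x1134da69986430c⟩, ⟨96, 0x1001072, 0xcb65b659⟩, ⟨58, 0x2018001, 0x91486430c861⟩], 0x100c000), 
  ([⟨78, 0, 0⟩, ⟨71, 0, 0xa26a44d365b659659⟩, ⟨50, 0, 0x5244da6a42cc861⟩, ⟨23, 0x3000024000, 0x6a452265b65b664⟩, ⟨56, 0x7000, 0xd35148996cc321⟩], 0x1003002), 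
  ([⟨79, 0, 0⟩, ⟨41, 0x100100c000, 0x4b1374b6eb6e9⟩, ⟨83, 0, 0x1a8a269b30c861⟩, ⟨94, 0, 0x26a48a42d96cb⟩, ⟨93, 0, 0x148a28996cb659⟩], 0x12000), 
  ([⟨80, 0, 0⟩, ⟨51, 0, 0x9132cb2db2cb⟩, ⟨53, 0x7000, 0x9b4da6d3659861⟩, ⟨67, 0, 0x1452452165b2db⟩, ⟨22, 0, 0x6a451352165b659⟩], 0x1c000), 
  ([⟨81, 0, 0⟩, ⟨85, 0, 0x8abada92b75d92b⟩, ⟨99, 757, 0x289d76595d6a5⟩, ⟨68, 0, 0x289d76595d6a5⟩, ⟨74, 0x4002, 0x89b32185b321⟩], 0x1a000), 
  ([⟨82, 0, 0⟩, ⟨84, 0, 0⟩, ⟨42, 1, 0xb244da914b2b65d⟩, ⟨29, 1, 0x26a45216cb65b⟩, ⟨45, 0, 0x1351489a90b2d9659⟩], 0), 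
  ([⟨83, 0, 0⟩, ⟨94, 0, 0x6d34da913659661⟩, ⟨93, 0, 0x12b4d3b229532cb6e9⟩, ⟨79, 0x7000, 0x369d6eb75ba996d9⟩, ⟨41, 0x100100c000, 0xa26a44cb66190c⟩], 0x13000), 
  ([⟨84, 0, 0⟩, ⟨42, 1, 0xb244da914b2b65d⟩, ⟨29, 1, 0x26a45216cb65b⟩, ⟨45, 0, 0x1351489a90b2d9659⟩, ⟨82, 0, 0⟩], 0), 
  ([⟨85, 0, 0⟩, ⟨99, 757, 0x42d9861⟩, ⟨68, 0, 0x42d9861⟩, ⟨74, 0x4002, 0x136a595376595d⟩, ⟨81, 0x1002000, 0x275a96575d961⟩], 0x1019000), 
  ([⟨86, 0, 0⟩, ⟨95, 0, 0x9a9228996cb2d9⟩, ⟨38, 0x2004000, 0x43216d96cc⟩, ⟨92, 0, 0x91430b2d96cb⟩, ⟨76, 0, 0x4914564b2592c321⟩], 0x12000), 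
  ([⟨87, 0, 0⟩, ⟨44, 0x100001b000, 0xa26d34d990c859⟩, ⟨43, 0x1021002, 0x6d48a26998616d9⟩, ⟨73, 0, 0x185b30c⟩, ⟨28, 0x100100500f005, 0x26d36a26cb66190c⟩], 0x4000), 
  ([⟨88, 0, 0⟩, ⟨88, 0, 0x9b52289b2d9661⟩, ⟨88, 0, 0x248a29144cb2d965b⟩, ⟨88, 0, 0x12289b2d9661861⟩, ⟨88, 0, 0x75d6d48a2ad3acc965⟩], 0x1a001), 
  ([⟨89, 0, 0⟩, ⟨89, 0x1002002, 0x2450c2d9659⟩, ⟨89, 0x1002002, 0x452c5226eb6a5865⟩, ⟨89, 0x1002002, 0x28a45226cb32190c⟩, ⟨89, 0x1002002, 0x229649645256dd⟩], 0x5003), 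
  ([⟨90, 0, 0⟩, ⟨90, 0x1010002, 0x29136a190b6cb⟩, ⟨90, 0x1010002, 0x291369b5218596cc⟩, ⟨90, 0x1010002, 0x1489aadd6eb754⟩, ⟨90, 0x1010002, 0x2b56496275bada65d⟩], 0x18003), 
  ([⟨91, 0, 0⟩, ⟨91, 8194, 0x95bb2cada75b761⟩, ⟨91, 8194, 0x275a6d49644eb2eb⟩, ⟨91, 8194, 0x51489a65b66165b⟩, ⟨91, 8194, 0x13b24ada6eb6eb⟩], 0x9003), 
  ([⟨92, 0, 0⟩, ⟨76, 0, 0x9b4d36a42d9661⟩, ⟨86, 0x7000, 0x5226996d990b⟩, ⟨95, 0, 0x1966190c⟩, ⟨38, 0x2004000, 0x30c2cb⟩], 0x1000000), 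
  ([⟨93, 0, 0⟩, ⟨79, 0x7000, 0x248616d96cc⟩, ⟨41, 0x100100c000, 0x28a28a430c2d9⟩, ⟨83, 0, 0x369a6d485b2cc⟩, ⟨94, 0, 0x4cb659861⟩], 0x1000000), 
  ([⟨94, 0, 0⟩, ⟨93, 0, 0x4cb659861⟩, ⟨79, 0x7000, 0x48a29142cb6cc⟩, ⟨41, 0x100100c000, 0x45242d96cb659⟩, ⟨83, 0, 0x6a44da914861861⟩], 0x1000000), 
  ([⟨95, 0, 0⟩, ⟨38, 0x2004000, 0x69b2d96596cb⟩, ⟨92, 0, 0x1966190c⟩, ⟨76, 0, 0x6a28a44d990c321⟩, ⟨86, 0x7000, 0x28a45216cb6cc⟩], 0x1000000), 
  ([⟨96, 0, 0⟩, ⟨58, 0x2018001, 0x4cb30c861⟩, ⟨77, 0x100c000, 0x616d990c⟩, ⟨72, 0x19000, 0xb134dd6d375b759⟩, ⟨59, 0x1000007000, 0x2c89ab24adbb2c962⟩], 0x1001072), 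
  ([⟨97, 0, 0⟩, ⟨66, 0x100d003, 0xacad3adbb2c525⟩, ⟨60, 0x1004008000, 0x592269d69bb0c32b⟩, ⟨61, 0x4000000, 0x28a44da6cc86165b⟩, ⟨75, 0x1002002, 0x9132cb6cc321⟩], 4210), 
  ([⟨98, 0, 0⟩, ⟨98, 45, 0x1136a430c2cb661⟩, ⟨98, 45, 0x1369a6a16cc30c⟩, ⟨98, 45, 0x1a69a91330c321⟩, ⟨98, 45, 0x9a9144cb2d990b⟩], 45), 
  ([⟨99, 0, 0⟩, ⟨68, 0, 0⟩, ⟨74, 0x4002, 0x9158a290cb2592b⟩, ⟨81, 0x1002000, 0x1b562913aeb4ecb25⟩, ⟨85, 0, 0x32cc859⟩], 0x10000002f5), 
  ([⟨100, 0, 0⟩, ⟨100, 249, 0x9d6eb699665964⟩, ⟨100, 249, 0xdd75a8a192c961⟩, ⟨100, 249, 0⟩, ⟨100, 249, 0x9d6eb699665964⟩], 0x1002001128)]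

/-- loops through x -/
def xloop : List (List Hint × ℕ) := [
  ([⟨0, 7, 0⟩, ⟨2, 0, 0⟩, ⟨4, 0, 0⟩], 3), 
  ([⟨3, 0, 0⟩, ⟨4, 0, 0⟩, ⟨0, 3, 0⟩], 0), 
  ([⟨1, 0, 0⟩, ⟨1, 0, 0⟩, ⟨3, 0, 0⟩], 0), 
  ([⟨4, 0, 0⟩, ⟨0, 7, 0⟩, ⟨1, 0, 0⟩], 0), 
  ([⟨2, 0, 0⟩, ⟨3, 0, 0⟩, ⟨2, 0, 0⟩], 0), 
  ([⟨7, 45, 0x1990b661⟩, ⟨26, 0, 0⟩, ⟨15, 0, 0⟩], 0), 
  ([⟨5, 0, 0⟩, ⟨7, 45, 0x1990b661⟩, ⟨27, 1, 0⟩], 0), 
  ([⟨8, 3, 0x44cc⟩, ⟨13, 0, 0x430c859⟩, ⟨14, 0, 0x430c859⟩], 0x400302502d), 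
  ([⟨6, 0x1002024009, 0x32cb661⟩, ⟨15, 0, 0x16596cc⟩, ⟨5, 0, 0x16596cc⟩], 0x100400201f022), 
  ([⟨10, 0x100400000d01b, 0x22b2baec94bb21⟩, ⟨25, 4096, 0x69b2d96cb2cb⟩, ⟨33, 0, 0x69b2d96cb2cb⟩], 0x1004000002022), 
  ([⟨9, 0x1002024009, 0x1226cc2cb321⟩, ⟨31, 0, 0xac92b66565d⟩, ⟨19, 0xf000, 0xa48596cb2cb⟩], 0x100400302901b), 
  ([⟨11, 0x2004017006, 0x228acb2b75d6dd⟩, ⟨47, 0, 0x51456595baeb6e9⟩, ⟨49, 0, 0x144d3524521861659⟩], 0x2025017), 
  ([⟨14, 0, 0⟩, ⟨5, 0, 0⟩, ⟨8, 34, 0x216cb661⟩], 0), 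
  ([⟨12, 0, 0⟩, ⟨27, 0, 0⟩, ⟨6, 0, 0⟩], 0), 
  ([⟨15, 0, 0⟩, ⟨6, 0, 0⟩, ⟨13, 0, 0⟩], 0), 
  ([⟨13, 0, 0⟩, ⟨12, 0, 0⟩, ⟨26, 0, 0⟩], 0), 
  ([⟨17, 0x17000, 0x489a922913659661⟩, ⟨39, 0x1021002, 0x1145134d990b661⟩, ⟨65, 0, 0x11489a74b75badd⟩], 0x1000000), 
  ([⟨20, 0, 0⟩, ⟨63, 0, 0xa42d990c30c⟩, ⟨64, 0, 0xa45226d4861859⟩], 0x1002001017000), 
  ([⟨19, 0, 0⟩, ⟨9, 0, 0x8a42db2cb321⟩, ⟨30, 0, 0x5144d365b6642cc⟩], 0xf000), 
  ([⟨25, 8192, 0x11595bb252ebacb⟩, ⟨32, 0, 0x28acadd92975d659⟩, ⟨31, 0, 0x51451485b659664⟩], 0x100100101e000), 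
  ([⟨21, 0x2005010000, 0x29135245216cb2cc⟩, ⟨65, 0, 0x489a922913659661⟩, ⟨16, 0, 0x2289a6a190c859⟩], 0x1004003018000), 
  ([⟨16, 0, 0⟩, ⟨17, 0, 0x1b4d34d96cb6cc⟩, ⟨40, 8194, 0xda86165b30c⟩], 0x1004002018000), 
  ([⟨23, 0x5007000, 0x142d96cc30c⟩, ⟨53, 0x7000, 0x5229136a430b2d9⟩, ⟨67, 0, 0x513add90c95ba64⟩], 0x1000000000), 
  ([⟨22, 0x300000b000, 0x11485b⟩, ⟨71, 0, 0x34da69b4d9659864⟩, ⟨50, 0, 0x34da9148596cc⟩], 0x1001027000), 
  ([⟨18, 0xb000, 0x4d48a265b30c864⟩, ⟨19, 0xf000, 0x51451485b659664⟩, ⟨10, 0x100400000d01b, 0x4d350c2db2db⟩], 0x100000401e000), 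
  ([⟨24, 0xf000, 0x5148a489b30b2cb⟩, ⟨30, 3, 0x289b4db2cb664⟩, ⟨18, 0xf000, 0x1452291330c2d9⟩], 0x2019000), 
  ([⟨27, 1, 0⟩, ⟨8, 34, 0x216cb661⟩, ⟨12, 0, 0⟩], 0), 
  ([⟨26, 0, 0⟩, ⟨14, 0, 0⟩, ⟨7, 45, 0x1990b661⟩], 1), 
  ([⟨29, 0x4002001000, 0x1a6d491485990c⟩, ⟨43, 0x1021002, 0x56a59659142e96eb⟩, ⟨73, 0, 0x69a9226d42cb30c⟩], 0x1002000001005), 
  ([⟨28, 0x100100500f003, 0x44da69b2cc85b⟩, ⟨84, 0, 0x44da6d4864321⟩, ⟨42, 1, 0x52c95b5299656dd⟩], 1), 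
  ([⟨32, 0, 0⟩, ⟨33, 0, 1689⟩, ⟨9, 0x1002000016022, 0x51491366430c⟩], 0x100301b000), 
  ([⟨30, 0, 0⟩, ⟨24, 8192, 0xa574bb2995d⟩, ⟨32, 3, 0x52269a6d990c2cb⟩], 0x100201a000), 
  ([⟨33, 0, 0⟩, ⟨10, 0x100400000d01b, 0x69a8a285990c2db⟩, ⟨24, 8192, 0x6a48642cc861⟩], 0x1004017003), 
  ([⟨31, 0, 0⟩, ⟨18, 0xf000, 0x6a26d4913321661⟩, ⟨25, 4096, 0x9132cb659664⟩], 0x100200e000), 
  ([⟨35, 0x100301d000, 0x289d76595d6a5⟩, ⟨36, 0x100301d000, 0x4d56d3a6185baec⟩, ⟨70, 0, 0x52289a90b2d96d9⟩], 0x1009001), 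
  ([⟨36, 0, 0⟩, ⟨69, 0, 0xcc85b659⟩, ⟨54, 0x1000014000, 0x9a6d350c2cb664⟩], 0x100301d000), 
  ([⟨37, 0x17000, 0x269a6a289b65b65b⟩, ⟨55, 0x9001, 0x76275b4e98616dd⟩, ⟨52, 8193, 0x35228a26642db30c⟩], 0x401d000), 
  ([⟨34, 0, 0⟩, ⟨54, 0x1000014000, 0x48a451369b2cb30c⟩, ⟨35, 0x100301d000, 0x1d8acb134cc32565b⟩], 0x1002000000), 
  ([⟨41, 0xb003, 0x36a29148642cb⟩, ⟨86, 0x7000, 0x9b4da6d3659861⟩, ⟨95, 0, 0xa26a4321864⟩], 0x100201f003), 
  ([⟨40, 0x6000, 0x1a6596cb659⟩, ⟨20, 0, 0x29134db30c864⟩, ⟨62, 0, 0x89a9226998642d9⟩], 0xa003), 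
  ([⟨39, 0x1021003, 0x16295a92b6e9⟩, ⟨64, 0, 0xb14b228596ec325⟩, ⟨17, 0x17000, 0x2c4d3add6e96cc⟩], 0x1004003002), 
  ([⟨38, 0x19003, 0x8a28a44db30c861⟩, ⟨93, 0, 0x1430c3216d9⟩, ⟨79, 0x7000, 0x92265966430b⟩], 0x1004019003), 
  ([⟨43, 0x1021003, 0x11430b6cc30c⟩, ⟨82, 0, 0x15914b15864b2cb0c⟩, ⟨84, 0, 0x15914b15864b2cb0c⟩], 0x3015002), 
  ([⟨45, 2, 0x922b1375992b6eb⟩, ⟨87, 0, 0xb24b1375b765929⟩, ⟨44, 0x100001b000, 0x29226a42d9664⟩], 0x12001), 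
  ([⟨42, 1, 0x2c91452c325329⟩, ⟨28, 0x100100500f003, 0x89a69b4cc8616d9⟩, ⟨87, 0, 0x8a29144d985b2cc⟩], 0xd003), 
  ([⟨44, 0, 0⟩, ⟨42, 1, 0x2c91452c325329⟩, ⟨29, 1, 0x4ec564b0badd2ec⟩], 0), 
  ([⟨48, 0, 0⟩, ⟨49, 0, 0x145226d4add6eb764⟩, ⟨11, 0x100400300100a, 0x4d45226cb65b30b⟩], 0x2016000), 
  ([⟨46, 0, 0⟩, ⟨46, 0, 0x4ada6ec94c964⟩, ⟨48, 0, 0x3adab2b75a6eb75b⟩], 0x3000), 
  ([⟨49, 0, 0⟩, ⟨11, 0x2004017006, 0x228acb2b75d6dd⟩, ⟨46, 0, 0x228acb2b75d6dd⟩], 0x100000d000), 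
  ([⟨47, 0, 0⟩, ⟨48, 0, 0x48ab7643256ec⟩, ⟨47, 0, 0xa56d3764a64b21⟩], 0), 
  ([⟨53, 0x7000, 0x34d36a190b664⟩, ⟨78, 0x3002, 0x4d44da6d96642cc⟩, ⟨71, 0, 0x1b3216cb2db⟩], 0x1000000000), 
  ([⟨50, 0, 0⟩, ⟨22, 0x1003022000, 0x56ebb24b2275b74c⟩, ⟨80, 0x1006000, 0x48a485b659661⟩], 0x4000000), 
  ([⟨54, 0x1006000, 0x9d8ac8a44dd2dbb0c⟩, ⟨34, 0, 0x13ad3aeb66192cb29⟩, ⟨55, 4096, 0x5144da6cb30c2db⟩], 0x1004002001), 
  ([⟨56, 0, 0⟩, ⟨80, 0x1006000, 0x69b2d990c30b⟩, ⟨51, 0, 0xa45144cb6596cc⟩], 0x1002007000), 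
  ([⟨55, 0x1003007000, 0x1a6ab75badd50b2d9⟩, ⟨57, 8193, 0x2b2455b321929959⟩, ⟨69, 0x1007000, 0x2485b3216d9⟩], 0x300a000), 
  ([⟨57, 0x2016000, 0x1b52269b2db2cb⟩, ⟨70, 0x3001, 0xac8a575d6d32dbae9⟩, ⟨34, 0x100001f001, 0x9132cc32190b⟩], 0x100300f000), 
  ([⟨51, 0x1000014000, 0x5244d3b24b2192b6eb⟩, ⟨50, 0, 0xa289b6596cc⟩, ⟨23, 0x3000024000, 0x44da69a6cc86190c⟩], 0x2007000), 
  ([⟨52, 0, 0⟩, ⟨35, 0x100301d000, 0x14564964b0badbb25⟩, ⟨37, 0, 0x26d45226cc8616d9⟩], 0x16001), 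
  ([⟨60, 0x1004008000, 0x1b4d4913659864⟩, ⟨59, 0x16000, 0xda69b2cc321659⟩, ⟨96, 0x1001072, 0x28a296275d96575a⟩], 0x3004001), 
  ([⟨61, 0x2017000, 0x4ec56452c30b6ec⟩, ⟨77, 0xa003, 0x4524514a64b2592c⟩, ⟨72, 0x19000, 0x13659661864⟩], 0x1001007000), 
  ([⟨59, 0x4008000, 0x2190b2d9⟩, ⟨97, 0x1001072, 0x1a8a274c964b25⟩, ⟨66, 0x100d003, 0x2289a6a290b321659⟩], 0x2008000), 
  ([⟨58, 8192, 0xd48a26998642cb⟩, ⟨66, 0x100d003, 0x6a29228a165990c⟩, ⟨60, 0x1004008000, 0x4cc859861⟩], 0x4000000), 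
  ([⟨64, 0, 0⟩, ⟨16, 0, 0⟩, ⟨20, 0, 0x4da69a6cb65b661⟩], 0xa000), 
  ([⟨62, 0, 0⟩, ⟨40, 0x6000, 0x9a91489b2cb661⟩, ⟨21, 0x2005010000, 0x5134da6d990b30c⟩], 0x1007000), 
  ([⟨65, 0, 0⟩, ⟨21, 0, 0x1145226d4861859⟩, ⟨63, 0, 0x1145226d4861859⟩], 0x101c000), 
  ([⟨63, 0, 0⟩, ⟨62, 0, 0x29145226d96596cb⟩, ⟨39, 8195, 0x369b2cc8616cb⟩], 0x100f000), 
  ([⟨77, 0x1007003, 0x369b2cb6cc2d9⟩, ⟨75, 0x1002002, 0x4d48a285965b2db⟩, ⟨97, 0x1001072, 0x9a89b50c3216cc⟩], 0x100d003), 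
  ([⟨71, 0, 0⟩, ⟨51, 0, 0x4ebaeb5256dd32c⟩, ⟨53, 0x7000, 0x136a45136a1659861⟩], 0x1012000), 
  ([⟨74, 0, 0⟩, ⟨85, 0x1002000, 0x185b30c⟩, ⟨99, 757, 0x5136a430b664⟩], 0x100e000), 
  ([⟨70, 0, 0⟩, ⟨37, 0x100001f001, 0xa48a289966190b⟩, ⟨57, 0x16001, 0x5134d450b2d9859⟩], 0x101b000), 
  ([⟨69, 0x1007001, 0x92bad450c964b0b⟩, ⟨52, 0x18000, 0x134d369a86165b30b⟩, ⟨36, 0x100301d000, 0xda90b⟩], 0x1d000), 
  ([⟨80, 0x1006000, 0xa26d36cc859⟩, ⟨56, 0x7000, 0x8a44da6d42cb30c⟩, ⟨78, 0x3002, 0x44da89b2d96cb⟩], 0x12000), 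
  ([⟨66, 0, 0⟩, ⟨58, 0, 0x28a2b2592c961661⟩, ⟨77, 0x100c000, 0x5243216cb661⟩], 0x1019000), 
  ([⟨84, 0, 0⟩, ⟨44, 0, 0x6a291352165b2cb⟩, ⟨43, 0x1021002, 0xecb226cc2cb75d⟩], 0x100f001), 
  ([⟨85, 0, 0⟩, ⟨99, 940, 1697⟩, ⟨68, 0, 1697⟩], 0xa003), 
  ([⟨72, 0x1c002, 0xb2269d6ec8a4acc⟩, ⟨60, 0x1004008000, 0x289a6a430b2cc⟩, ⟨61, 0x4000000, 0xa269a6cb321664⟩], 8194), 
  ([⟨79, 0x7000, 0x2592589badbb2c94b⟩, ⟨38, 0x4014003, 0x34d575d92cb2285d⟩, ⟨92, 0, 0x229136a430b65b⟩], 0x17001), 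
  ([⟨75, 0x1009001, 0x44d369a90b2db2d9⟩, ⟨96, 0, 0x34da661861659⟩, ⟨58, 0x2018001, 0xda6d9661859⟩], 0x1b000), 
  ([⟨67, 2, 0x159228a29626cc965⟩, ⟨23, 0x4001016000, 0x34ec9132eb2dd2eb⟩, ⟨56, 0x7000, 0x36a42d990c2d9⟩], 0x1a002), 
  ([⟨86, 0, 0⟩, ⟨94, 0, 0x352430b2d965b⟩, ⟨93, 0, 0x1a9136cb2db⟩], 0x7000), 
  ([⟨78, 0x5002, 0x1a8a274c964b25⟩, ⟨67, 0, 0x4da69b5216cb321⟩, ⟨22, 0, 0x4ad56ebaa432595b⟩], 0x1018000), 
  ([⟨68, 0, 0⟩, ⟨68, 0x4002, 0x8abada92b75d92b⟩, ⟨74, 0x4002, 0⟩], 0x5000), 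
  ([⟨73, 0, 0⟩, ⟨29, 1, 0x26a45216cb65b⟩, ⟨45, 0, 0x1351489a90b2d9659⟩], 0), 
  ([⟨76, 0, 0⟩, ⟨79, 0x7000, 0x134da6a430b2cc⟩, ⟨41, 0x100100c000, 0x6a56ec90c2eb32c⟩], 0), 
  ([⟨87, 0, 0⟩, ⟨45, 0x100001b000, 0x44da69b32190b⟩, ⟨82, 0, 0xa495badd661865⟩], 0x16001), 
  ([⟨81, 0, 0⟩, ⟨74, 0, 0x9158a290cb2592b⟩, ⟨81, 0x1002000, 0x1b562913aeb4ecb25⟩], 0xe000), 
  ([⟨83, 0x1007000, 0x456452cb2595432c⟩, ⟨92, 0, 0x91430b2d96cb⟩, ⟨76, 0, 0x4914564b2592c321⟩], 0x12000), 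
  ([⟨82, 0, 0⟩, ⟨73, 0, 0⟩, ⟨28, 0x100100500f005, 0x5148a26642db30c⟩], 0), 
  ([⟨89, 0x1000000, 0x5648abaccb296dd⟩, ⟨88, 8194, 0x12289b2d9661861⟩, ⟨88, 0, 0x75d6d48a2ad3acc965⟩], 0x1a001), 
  ([⟨90, 0x100b000, 0x26d34da90c3216cb⟩, ⟨89, 0x1002002, 0x28a45226cb32190c⟩, ⟨89, 0x1002002, 0x229649645256dd⟩], 0x5003), 
  ([⟨91, 0x101b002, 0x56ec91494cb256dd⟩, ⟨90, 0x100b000, 0x1489aadd6eb754⟩, ⟨90, 0x1010002, 0x2b56496275bada65d⟩], 0x18003), 
  ([⟨88, 0x1002002, 0x3513661859659⟩, ⟨91, 0x1002002, 0x51489a65b66165b⟩, ⟨91, 8194, 0x13b24ada6eb6eb⟩], 0x9003), 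
  ([⟨94, 0, 0⟩, ⟨95, 0, 0x196cb30c⟩, ⟨38, 0x2004000, 0x30c861⟩], 0), 
  ([⟨92, 0, 0⟩, ⟨83, 0, 0x369a6d485b2cc⟩, ⟨94, 0, 0x4cb659861⟩], 0x1000000), 
  ([⟨95, 0, 0⟩, ⟨41, 0xb003, 0x9d92c964a9b30c⟩, ⟨83, 0, 0xd45226d42cb2cc⟩], 0x1001000), 
  ([⟨93, 0, 0⟩, ⟨76, 0, 0x6a28a44d990c321⟩, ⟨86, 0x7000, 0x28a45216cb6cc⟩], 0x1000000), 
  ([⟨97, 0x1001072, 0x145135218642d9⟩, ⟨72, 0x100d003, 0xb134dd6d375b759⟩, ⟨59, 0x1000007000, 0x2c89ab24adbb2c962⟩], 0x1001072), 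
  ([⟨96, 0, 0⟩, ⟨61, 0x2013001, 0x28a44da6cc86165b⟩, ⟨75, 0x1002002, 0x9132cb6cc321⟩], 4210), 
  ([⟨98, 0x1001015, 0x2b229229542dbb29⟩, ⟨98, 0x100101b, 0x51452450c2cb6cb⟩, ⟨98, 45, 0x269d6a292b6eb6a5⟩], 0x100107f), 
  ([⟨99, 940, 1697⟩, ⟨81, 0, 1228⟩, ⟨85, 0, 0x48a269b50b66190b⟩], 0x50012f5), 
  ([⟨100, 0x300102d, 0x1148a289990c861⟩, ⟨100, 170, 0x2c86495badd75d⟩, ⟨100, 249, 0x4913a9badd6eb⟩], 0x10030003e8)]

/-- base loops -/
def base0 : List BaseE := [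
  ⟨0, 0, [⟨0, 2, 0⟩, ⟨5, 0, 0⟩, ⟨4, 0, 0⟩], 3⟩, 
  ⟨1, 0, [⟨5, 0, 0⟩, ⟨4, 0, 0⟩, ⟨0, 8, 0⟩], 0⟩, 
  ⟨2, 0, [⟨7, 45, 0x1990b661⟩, ⟨27, 2, 0⟩, ⟨3, 0, 0⟩], 0⟩, 
  ⟨3, 0, [⟨6, 0, 0⟩, ⟨15, 1, 0⟩, ⟨1, 0, 0⟩], 0⟩, 
  ⟨4, 0, [⟨8, 34, 0x216cb661⟩, ⟨14, 1, 0⟩, ⟨2, 0, 0⟩], 0⟩, 
  ⟨5, 0, [⟨1, 0, 0⟩, ⟨6, 0, 0⟩, ⟨15, 1, 0⟩], 0⟩, 
  ⟨5, 1, [⟨10, 0x300101b01a, 0x9bad56ec89d75d⟩, ⟨16, 0x3001, 0x4d489b65b30b⟩, ⟨15, 0, 0x134d450b2d96cc⟩], 0x1003000023000⟩, 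
  ⟨5, 4, [⟨9, 0x1002000016022, 0x90b66430c⟩, ⟨31, 2, 0x244da6d32cb6cc⟩, ⟨15, 0, 0x485b32190b⟩], 0x1003005028000⟩, 
  ⟨6, 0, [⟨3, 0, 0⟩, ⟨7, 45, 0x1990b661⟩, ⟨27, 2, 0⟩], 0⟩, 
  ⟨6, 1, [⟨9, 0x4004010027, 0x26acb2c964adb2dd⟩, ⟨42, 2, 0x134eb4d486592c94b⟩, ⟨27, 3, 0x5226d34cc86165b⟩], 0x1000004005000⟩, 
  ⟨6, 4, [⟨10, 34, 0x28a28a430c2d9⟩, ⟨12, 0, 0x28a269a86430c859⟩, ⟨27, 28, 0xb244d36a4b252ec⟩], 0x1000002020000⟩, 
  ⟨7, 0, [⟨2, 0, 4⟩, ⟨8, 4, 0x216cb661⟩, ⟨14, 1, 0⟩], 0x101b02d⟩, 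
  ⟨7, 1, [⟨9, 0x400200e022, 0x6a291352165b30c⟩, ⟨40, 8193, 0x48a430b65990c⟩, ⟨14, 0, 0x9144d36a18642d9⟩], 0x200401502d⟩, 
  ⟨7, 4, [⟨10, 0x100400201f010, 0x136a44d96642db⟩, ⟨18, 0x19001, 0x5145226cb659664⟩, ⟨14, 0, 0x11490b2cc30b⟩], 0x100100501f02d⟩, 
  ⟨8, 0, [⟨4, 0, 1227⟩, ⟨0, 0x300001600d008, 0⟩, ⟨5, 0, 0⟩], 0x1003002025022⟩, 
  ⟨8, 1, [⟨10, 0x1003005023004, 0xd45226998642cb⟩, ⟨19, 1, 0xa26d350c2cb6cb⟩, ⟨5, 0x100400201f022, 0x9a9226998642cb⟩], 0x4001015022⟩, 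
  ⟨8, 4, [⟨9, 0x1002000016022, 0x1352430c2d9659⟩, ⟨33, 1, 0x51489b659664⟩, ⟨5, 0, 0x148a26d96d965b⟩], 0x1000004002022⟩, 
  ⟨9, 0, [⟨8, 34, 0xb6cb661⟩, ⟨24, 4096, 0x5142cb30c861⟩, ⟨33, 1, 0x143216642cc⟩], 0x3000006022⟩, 
  ⟨9, 1, [⟨11, 0x1003005001002, 0x1a914321659861⟩, ⟨52, 0x5000, 0x28a489b32190b⟩, ⟨33, 0, 0x1145226d3659661⟩], 0x1003004017022⟩, 
  ⟨9, 4, [⟨5, 0x1002024009, 0xcb6596cc⟩, ⟨9, 0x1002005015000, 0x69a89b659664⟩, ⟨33, 1, 0x1489a6a26cb30c2cb⟩], 0x1004004028022⟩, 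
  ⟨9, 6, [⟨7, 0x100400000d00a, 0xa29228a165b2d9⟩, ⟨29, 0x1004004011001, 0x489a6da864321⟩, ⟨33, 0, 0xd35149132cb30c⟩], 0x1000000022⟩, 
  ⟨9, 20, [⟨6, 6, 0x4521661861⟩, ⟨17, 0x5000, 0x291489a90c8596cb⟩, ⟨33, 0, 0x1226596cb659⟩], 0x1001005022022⟩, 
  ⟨10, 0, [⟨8, 34, 0xa48616cb661⟩, ⟨16, 0x4000, 0x4d36a290b664321⟩, ⟨19, 0x6001, 0x9226cc861861⟩], 0x200501b01b⟩, 
  ⟨10, 1, [⟨11, 0x100400000d025, 0x2596495a9644dd665⟩, ⟨50, 0x1002004000, 0x136642cc30c⟩, ⟨19, 0xf000, 0x1a6cb30c2d9⟩], 0x400401b01b⟩, 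
  ⟨10, 4, [⟨7, 4, 0xb14adbb2185d⟩, ⟨26, 25, 0x6d45226996cc861⟩, ⟨19, 4096, 0x5145132d96cb65b⟩], 0x100300001401b⟩, 
  ⟨10, 11, [⟨6, 0x1002024009, 0x132d985b30b⟩, ⟨18, 0, 0x132d9859664⟩, ⟨19, 0x19001, 0x136a28a4321661⟩], 0x300201701b⟩, 
  ⟨10, 15, [⟨5, 0x2001016011, 0x55badd6eb4d990c⟩, ⟨10, 0x2700d, 0xd45228a4321659⟩, ⟨19, 0xe001, 0x4d452290c8642cb⟩], 0x100502301b⟩, 
  ⟨11, 0, [⟨10, 0x2001016025, 0x34d32d9661859⟩, ⟨23, 0x3017000, 0x5242d986430b⟩, ⟨49, 0, 0x145134cb6642d9⟩], 0x100302502b⟩, 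
  ⟨11, 1, [⟨9, 0, 0x6a1659861⟩, ⟨34, 0, 0x3321861⟩, ⟨49, 0, 0x92576496292b75d⟩], 0x100400300100a⟩, 
  ⟨12, 0, [⟨14, 1, 0⟩, ⟨2, 0, 0⟩, ⟨8, 34, 0x216cb661⟩], 0⟩, 
  ⟨12, 1, [⟨16, 0x2000007000, 0x134d352c964b25⟩, ⟨19, 0x6001, 0xa48a291486432185b⟩, ⟨8, 0x4005004007, 0x69a9134d990c859⟩], 0x200501a000⟩, 
  ⟨12, 4, [⟨24, 4096, 0x145134d432166185b⟩, ⟨33, 1, 0x218596cb⟩, ⟨8, 0, 0x1a6cc2d9859⟩], 0x200500c000⟩, 
  ⟨13, 0, [⟨15, 1, 0⟩, ⟨1, 0, 0⟩, ⟨6, 0, 0⟩], 0⟩, 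
  ⟨13, 1, [⟨17, 0x1004005008000, 0x134d352c964b25⟩, ⟨33, 0, 0xd34d45216cc859⟩, ⟨6, 0x100400201f022, 0xadd69b65d6ec⟩], 0x2004000⟩, 
  ⟨13, 4, [⟨18, 0, 0⟩, ⟨19, 0x19001, 0x8a269b6642cc⟩, ⟨6, 0x1002024009, 0x2b256d3aeb6d495d⟩], 0x4001023000⟩, 
  ⟨14, 0, [⟨12, 1, 0⟩, ⟨26, 2, 0⟩, ⟨13, 1, 0⟩], 0⟩, 
  ⟨14, 1, [⟨21, 0xb000, 0x28a48996cc85b⟩, ⟨64, 4099, 0x44da8a42d990b⟩, ⟨13, 0, 0x89b32185b30c⟩], 0x1000016000⟩, 
  ⟨14, 4, [⟨25, 8192, 0x11595bb252ebacb⟩, ⟨30, 1, 0x11595bb252ebacb⟩, ⟨13, 0, 0x56dd6dd69d⟩], 0x4003015000⟩, 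
  ⟨15, 0, [⟨13, 1, 0⟩, ⟨12, 1, 0⟩, ⟨26, 2, 0⟩], 0⟩, 
  ⟨15, 1, [⟨20, 0xa000, 0x28a48996cc85b⟩, ⟨73, 0, 0x185b30c⟩, ⟨26, 5, 0x145149132cc30b⟩], 0x1000001019000⟩, 
  ⟨15, 4, [⟨19, 0, 0x659861⟩, ⟨7, 45, 0x9136598642cc⟩, ⟨26, 0x100300000e006, 0x9b5228a190c2cb⟩], 0x2001003000⟩, 
  ⟨16, 0, [⟨12, 0, 4⟩, ⟨28, 0, 0⟩, ⟨65, 0, 0x6d49149142d96cc⟩], 0x1002001000000⟩, 
  ⟨16, 1, [⟨24, 0xe001, 0x51369a90b2d96d9⟩, ⟨39, 8194, 0x48a430b65990c⟩, ⟨65, 4099, 0x8a4522914861861⟩], 0x1003004000000⟩, 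
  ⟨16, 2, [⟨21, 1, 3⟩, ⟨68, 0, 0⟩, ⟨65, 2, 0x4da8a26642db30c⟩], 0x1005000000⟩, 
  ⟨16, 3, [⟨23, 0x1003004004000, 0xa44d48a16cb30c⟩, ⟨61, 0x4000, 0xb25922914b21865⟩, ⟨65, 0, 0x29134da90b65990c⟩], 0x4003000000⟩, 
  ⟨16, 4, [⟨22, 0x3016000, 0x6cc30b6cb⟩, ⟨78, 0x1001001, 0x9b5228a16cc2cb⟩, ⟨65, 0, 0xa42d990c30b⟩], 0x1003003000000⟩, 
  ⟨16, 5, [⟨17, 0x6001, 0x1a9134da90c3216cb⟩, ⟨36, 0x11001, 0xda9148a42cc864⟩, ⟨65, 0, 0x91365b2d9859⟩], 0x1002000000000⟩, 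
  ⟨16, 48, [⟨20, 1, 0x2c9134eb2dd2e9⟩, ⟨63, 2, 0xa48596cb30c⟩, ⟨65, 2, 0xa489a6d330c859⟩], 0x2000000000⟩, 
  ⟨17, 0, [⟨13, 0, 4⟩, ⟨21, 0x2005010000, 0x29135245216cb2cc⟩, ⟨64, 4099, 0x1a6d44d96d990c⟩], 0x1000003017000⟩, 
  ⟨17, 1, [⟨25, 0x7001, 0x144eb6a2954964acc⟩, ⟨45, 8192, 0x291352452190c30b⟩, ⟨64, 1, 0x432190b65b⟩], 0x1017000⟩, 
  ⟨17, 2, [⟨20, 1, 3⟩, ⟨81, 1, 0x1574bb2995d⟩, ⟨64, 1, 0x352291485b2cb⟩], 0x1003017000⟩, 
  ⟨17, 3, [⟨22, 0x1004005007000, 0x89a69b4cc8596d9⟩, ⟨77, 0x9000, 0x4564b2c52cb252cb⟩, ⟨64, 0, 0x922962add965759⟩], 0x2005017000⟩, 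
  ⟨17, 4, [⟨23, 0x9000, 0x1136a48a190c2db⟩, ⟨57, 0x1000017001, 0x1145134d43216596cc⟩, ⟨64, 1, 0x4564aeb75b7596dd⟩], 0x1002017000⟩, 
  ⟨17, 5, [⟨16, 0x3001, 0x1a9134da90c3216cb⟩, ⟨22, 0x1001005017000, 0x228a44da65b2cc85b⟩, ⟨64, 0, 0x489b32186430c⟩], 0x2001017000⟩, 
  ⟨17, 48, [⟨17, 0x2005010001, 0x3adaada90c9642dd⟩, ⟨39, 8192, 0x4cb659659⟩, ⟨64, 2, 0x9a8a430c864⟩], 0x1003004017000⟩, 
  ⟨18, 0, [⟨13, 0, 1689⟩, ⟨25, 8192, 0x11595bb252ebacb⟩, ⟨30, 1, 0x11595bb252ebacb⟩], 0x4003015000⟩, 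
  ⟨18, 1, [⟨22, 0x100200501f000, 0x4da91452185b2d9⟩, ⟨70, 3, 0x964b2452194cb0c⟩, ⟨30, 1, 0xda85b321861⟩], 0x2025000⟩, 
  ⟨18, 4, [⟨24, 8193, 0x134d452166185b⟩, ⟨32, 2, 0x6a486185b659⟩, ⟨30, 2, 0x1366185b659⟩], 0x400101a000⟩, 
  ⟨18, 6, [⟨18, 0x19001, 0x5134da6cb65b30c⟩, ⟨17, 0x1001000028001, 0x5149144cb2d96cc⟩, ⟨30, 3, 0xda66185b659⟩], 0x1000004013000⟩, 
  ⟨18, 20, [⟨21, 0x5001, 0x42d96cc864⟩, ⟨84, 0, 0x2432190b65b⟩, ⟨30, 3, 0xda6a28a430c2d9⟩], 0x3001028000⟩, 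
  ⟨19, 0, [⟨15, 0, 1227⟩, ⟨9, 0x1002000016022, 0x8a432190c2cb⟩, ⟨31, 2, 0x51489b65b30b⟩], 0x100400200a000⟩, 
  ⟨19, 1, [⟨23, 0x400300b000, 0x296455d92ca5bad9⟩, ⟨54, 0x1000017001, 0x2964b2592c4cb6cb⟩, ⟨31, 0, 0x28a29142cb30c⟩], 0x1004005023000⟩, 
  ⟨19, 4, [⟨25, 4097, 0x134d452166185b⟩, ⟨32, 2, 0x1a6a28a190c861⟩, ⟨31, 1, 0x1a6cb2cb30c⟩], 0x400500a000⟩, 
  ⟨19, 6, [⟨24, 0x7001, 0x11451352190c861⟩, ⟨44, 3, 0x132db321661⟩, ⟨31, 0, 0x524321859664⟩], 0x100300401a000⟩, 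
  ⟨19, 20, [⟨20, 0x200501b001, 0x33216cc864⟩, ⟨62, 4099, 0x24aeb5244ebadd95b⟩, ⟨31, 1, 0x32cb321⟩], 0x1000002020000⟩, 
  ⟨20, 0, [⟨15, 0, 161⟩, ⟨10, 0x2001016007, 0xac56432194b6e9⟩, ⟨16, 0x6001, 0x1226cc⟩], 0x1000002018000⟩, 
  ⟨20, 1, [⟨17, 1, 153⟩, ⟨40, 0x1021000, 0xad56ebaa432595b⟩, ⟨16, 0x10001, 0xa26d45226cc861861⟩], 0x4005010000⟩, 
  ⟨20, 2, [⟨19, 0x6001, 0xd45144cb30c2db⟩, ⟨8, 0x4005004007, 0x12450b2cc30b⟩, ⟨16, 0x22000, 0x9145148a430c30b⟩], 0x2000012000⟩, 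
  ⟨20, 3, [⟨21, 0x3001, 0x1a6ac9132e9864a65⟩, ⟨67, 0, 0x12b55b4da92a6dd659⟩, ⟨16, 0xb000, 0x134d48a290c2cb2d9⟩], 0⟩, 
  ⟨20, 4, [⟨22, 0x4003018000, 0x8a269b6642d9⟩, ⟨64, 0, 0x1451369a86165b321⟩, ⟨16, 0x4001, 0x1145148a430c30b⟩], 0x2000012000⟩, 
  ⟨20, 5, [⟨23, 0x4000, 0xa29134d42d98642cc⟩, ⟨50, 0xd001, 0xd96596cc⟩, ⟨16, 0x9000, 0x135145216cb2cb⟩], 0x1002005015000⟩, 
  ⟨20, 48, [⟨16, 1, 0xac91432192cae9⟩, ⟨16, 1, 0x245136a190c85b⟩, ⟨16, 1, 0x145144d9864321⟩], 0⟩, 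
  ⟨21, 0, [⟨14, 0, 161⟩, ⟨9, 0x1004002019013, 0x49645256dd75bb25⟩, ⟨40, 0x100001b001, 0xa4b2592c962661⟩], 0x1004001017000⟩, 
  ⟨21, 1, [⟨16, 1, 153⟩, ⟨17, 0x18001, 0x1496495b32c85d⟩, ⟨40, 8192, 0x4ada6a2864b29961⟩], 0x4002012000⟩, 
  ⟨21, 2, [⟨18, 0x6001, 0xd48a26998616d9⟩, ⟨25, 0x7001, 0x14b13ada75965b764⟩, ⟨40, 0x3002, 0x9144d34cb66430c⟩], 0x4002012000⟩, 
  ⟨21, 3, [⟨20, 0x6001, 0x1a6ac9132e9864a65⟩, ⟨70, 0x1001001, 0x76296585baeb6eb⟩, ⟨40, 1, 0x45136a290b659864⟩], 0x2004015000⟩, 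
  ⟨21, 4, [⟨23, 0x4001016000, 0xd32cb65b321⟩, ⟨52, 0xf001, 0x5134eb4e96dd6dd⟩, ⟨40, 4099, 0x2269b2cc861859⟩], 0x1000000017000⟩, 
  ⟨21, 5, [⟨22, 0x2000007000, 0x16296452594b75d⟩, ⟨79, 0x1007000, 0x592296275a6dd6cc⟩, ⟨40, 0x6001, 0x1b4da913664321⟩], 0x4002015000⟩, 
  ⟨21, 48, [⟨21, 0x17001, 0x291352290b2d9664⟩, ⟨62, 2, 0x162b216dd75b765⟩, ⟨40, 0x6001, 0x35226da8642d9⟩], 0x1004001015000⟩, 
  ⟨22, 0, [⟨20, 0x17000, 0x962913764b2b765⟩, ⟨78, 0x100e002, 0x9a6d486190c⟩, ⟨67, 4099, 0x89d91495bad3325⟩], 0x1001000000000⟩, 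
  ⟨22, 1, [⟨23, 0x1004028001, 0xa28a44d965b30c⟩, ⟨61, 0x1001016000, 0xa26a489b30b659⟩, ⟨67, 0x1006002, 0x2b2b75d65b65d759⟩], 0x2000000000⟩, 
  ⟨22, 2, [⟨22, 0x1004000022001, 0x45229134db30b2cb⟩, ⟨91, 0x3003, 0x34da8a42d9664⟩, ⟨67, 0x3001, 0x75d76452165d75d⟩], 0x1002000000000⟩, 
  ⟨22, 4, [⟨16, 0xb000, 0x1144d491430c2cb⟩, ⟨21, 0x3001, 0x2ada8a2b2592c2d9⟩, ⟨67, 0, 0x136a28ac964b1365d⟩], 0⟩, 
  ⟨22, 5, [⟨22, 0x100000400e001, 0x2b24adba5b32b⟩, ⟨89, 0x1011000, 0x4eb75badd6a16d9⟩, ⟨67, 0x1002002, 0x451352452165b321⟩], 0x1001000000000⟩, 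
  ⟨22, 6, [⟨17, 0x13000, 0xd48a26d330c859⟩, ⟨41, 0x3005000, 0x6a44d491330c321⟩, ⟨67, 0, 0xa28a26642d96cc⟩], 0x1001000000000⟩, 
  ⟨22, 8, [⟨22, 0x3017001, 0x34d34d990b6cb⟩, ⟨82, 2, 0x1369b56495b2dd6dd⟩, ⟨67, 0x12002, 0xa289d91495bacb325⟩], 0x1004000000000⟩, 
  ⟨22, 9, [⟨23, 0x1003001016001, 0x35228a42d990c⟩, ⟨58, 0x1004000000, 0x351369b2d96cb⟩, ⟨67, 0, 0x248a452289b30b659⟩], 0x1003000000000⟩, 
  ⟨22, 10, [⟨23, 0x100000401d001, 0x451352165b664⟩, ⟨56, 0x1000011001, 0x5649644eb66530c⟩, ⟨67, 0x12002, 0x2b75d75b30c96585b⟩], 0x1000000000000⟩, 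
  ⟨22, 20, [⟨21, 0x1001000029000, 0x575bb24b226e975b⟩, ⟨77, 0x1006003, 0x69a89b65b321⟩, ⟨67, 8195, 0x12b75badd2cb659⟩], 0x1003000000000⟩, 
  ⟨22, 36, [⟨18, 0x3000, 0x34da8a44cb65990b⟩, ⟨22, 0x3000006000, 0x28a44d990b65b⟩, ⟨67, 0x1006002, 0x145145218596cb⟩], 0x4000000000⟩, 
  ⟨22, 44, [⟨25, 0x3000, 0x1d8ab75b2cb30c94c⟩, ⟨36, 0x400b000, 0x92b69bb25325⟩, ⟨67, 0x5002, 0x1d8ac8a26a4a5b761⟩], 0x1000000000⟩, 
  ⟨23, 0, [⟨20, 0x17000, 0x4d35245216cb2cc⟩, ⟨66, 0x4000, 0x48a42cb65990c⟩, ⟨50, 0x13000, 0x22b15914b1432185d⟩], 0x100000001d000⟩, 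
  ⟨23, 1, [⟨22, 0x1002002017001, 0x4d351365b65965b⟩, ⟨72, 0x17003, 0x1132cb65b321⟩, ⟨50, 0, 0x6d36642d9661⟩], 0x100100400a000⟩, 
  ⟨23, 2, [⟨23, 0x4003016001, 0x2489a69b321864⟩, ⟨60, 0x2014000, 0x9a9144d98642d9⟩, ⟨50, 0x4001000, 0x1a9649645256dd⟩], 0x1000015000⟩, 
  ⟨23, 4, [⟨17, 0x100000400d000, 0x9a76495d6ecb2b⟩, ⟨34, 0x4002, 0x9a69b5218596cc⟩, ⟨50, 0x8001, 0x134d34da66190b2cc⟩], 0x100000001d000⟩, 
  ⟨23, 5, [⟨23, 0xe001, 0x256a58ac4cb6596dd⟩, ⟨60, 0x200a000, 0x2b6a495badb50b6e9⟩, ⟨50, 0x3000, 0x89a91369986430c⟩], 0x1001027000⟩, 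
  ⟨23, 9, [⟨22, 0x500a001, 0x4d44da65b6616cb⟩, ⟨66, 0x17002, 0x248a485990b321⟩, ⟨50, 0x1003009000, 0x26d45226cb32190c⟩], 0x1000015000⟩, 
  ⟨23, 10, [⟨22, 0x1000004003001, 0x4add6eb50b2e9⟩, ⟨71, 0x12002, 0x1a89b5148596cb2db⟩, ⟨50, 0x5001, 0x49656d369b764a61⟩], 0x1000015000⟩, 
  ⟨23, 11, [⟨21, 0xb000, 0x226d35218642db⟩, ⟨69, 0x3000, 0x1432190c30c⟩, ⟨50, 1, 0x256d375baec52b6e9⟩], 0x301c000⟩, 
  ⟨23, 13, [⟨23, 0x2021001, 0xa292269b321859⟩, ⟨55, 0x1000014001, 0x1a9228a430b65b⟩, ⟨50, 0x13000, 0x276495b4dd6dd⟩], 0x1000015000⟩, 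
  ⟨23, 15, [⟨16, 0x5000, 0xd3b22b2590c959⟩, ⟨23, 0x1000000026000, 0x96455d6eba64adb⟩, ⟨50, 0xd001, 0x5136a26cb6616cb⟩], 0x100100400a000⟩, 
  ⟨23, 41, [⟨24, 0, 0x145134d990c2cb⟩, ⟨37, 0x4003, 0xd490c861861⟩, ⟨50, 0x13000, 0x5156d3aeb75d69d⟩], 0x1003002018000⟩, 
  ⟨23, 49, [⟨19, 0x1a000, 0x8a29136996cb661⟩, ⟨11, 0x29024, 0x89a6d48a18596cb⟩, ⟨50, 0x1002008000, 0x8a451352165b30b⟩], 0x1000000021000⟩, 
  ⟨24, 0, [⟨12, 0, 0xdb4cb⟩, ⟨27, 0x2004016008, 0x91369a91330c2cb⟩, ⟨10, 0x1004002019022, 0x28a289b659861⟩], 0x1002000020000⟩, 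
  ⟨24, 1, [⟨23, 0x3000005000, 0x145144cc86190c⟩, ⟨49, 0, 0x2451489b65965b⟩, ⟨10, 0x400200e012, 0x52432185b2cc⟩], 0x100100201d000⟩, 
  ⟨24, 4, [⟨18, 0xe001, 0x1a6a28996cb2cb⟩, ⟨14, 0, 0x9a6d365b30b⟩, ⟨10, 0x100101501b, 0x26eb6ab764325864⟩], 0x1002000010000⟩, 
  ⟨24, 6, [⟨19, 1, 0x145144d96cc861⟩, ⟨5, 0x100400500001d, 0x6eb6a26dd92a929⟩, ⟨10, 0x1002024000, 0x8a42db2cb321⟩], 0x1004004027000⟩, 
  ⟨24, 20, [⟨16, 8193, 0x4d49148a1864321⟩, ⟨15, 0, 0x5229143216d9⟩, ⟨10, 0x2001016007, 0xec92b65badbb0b⟩], 0x1003000016000⟩, 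
  ⟨25, 0, [⟨14, 0, 0x16d9861⟩, ⟨10, 27, 0x28a4321661861⟩, ⟨18, 0x19001, 0x4da8a26d96cb2cb⟩], 0x4003016000⟩, 
  ⟨25, 1, [⟨22, 0x3004000000, 0x3ada8a592b69bb0b⟩, ⟨67, 0x1006002, 0x3add6ec90c2eb661⟩, ⟨18, 0x3000, 0x369b2d96cb2cb⟩], 0x1001000006000⟩, 
  ⟨25, 4, [⟨19, 0xa001, 0x69a6a16cb6cc⟩, ⟨6, 0x1002024009, 0xd4b1485d6eb74c⟩, ⟨18, 0xf000, 0x1432166185b⟩], 0x11000⟩, 
  ⟨25, 6, [⟨25, 8193, 0x1244da9136596cb⟩, ⟨40, 0x6002, 0x16291375b32c329⟩, ⟨18, 0x6001, 0xa269b50c8616cb⟩], 0x2000004000⟩, 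
  ⟨25, 20, [⟨17, 0x19001, 0x28a26d350c2cb661⟩, ⟨30, 3, 0x36a430c85b321⟩, ⟨18, 0xe001, 0x56496495485d659⟩], 0x400101e000⟩, 
  ⟨26, 0, [⟨26, 2, 0⟩, ⟨13, 1, 0⟩, ⟨12, 1, 0⟩], 0⟩, 
  ⟨26, 1, [⟨28, 0x3011000, 0x10c2db30c⟩, ⟨65, 0, 0xc2db2cb⟩, ⟨12, 0, 0x11491369a65b321864⟩], 0x3004002000⟩, 
  ⟨26, 4, [⟨27, 0x100300000e008, 0x291369a65b32190b⟩, ⟨10, 0x1004002019022, 0x4859861⟩, ⟨12, 0, 0x6ec89a6dd92a929⟩], 0x1000001020000⟩, 
  ⟨27, 0, [⟨27, 4, 0⟩, ⟨3, 0, 0⟩, ⟨7, 45, 0x1990b661⟩], 1⟩, 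
  ⟨27, 1, [⟨29, 0x3001002005, 0x266430c859⟩, ⟨33, 3, 0xa48a291486432185b⟩, ⟨7, 0x200500d016, 0x9256eb75a6cc329⟩], 0x1000016001⟩, 
  ⟨27, 4, [⟨26, 0x100300000e008, 0x492c9132d975d2ec⟩, ⟨19, 0x3000, 0x4d369b66185b⟩, ⟨7, 45, 0x2595b50b6ec964⟩], 0x1003005012001⟩, 
  ⟨28, 0, [⟨26, 0, 4⟩, ⟨20, 0x17000, 0x29135245216cb2cc⟩, ⟨73, 0, 0x89a69b5216cb2cc⟩], 0x100000401a005⟩, 
  ⟨28, 2, [⟨28, 0x100100500f008, 0x4da69b2cc85b⟩, ⟨74, 0x4002, 0x6d485b2cc859⟩, ⟨73, 2, 0x595d76585d⟩], 0x1001003005⟩, 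
  ⟨28, 3, [⟨29, 0x1001005008019, 0xda90b⟩, ⟨41, 0x15003, 0x124adaadd6cb75b⟩, ⟨73, 0, 0x34d34d990c864⟩], 0x1000003001005⟩, 
  ⟨28, 4, [⟨28, 0x100400401901f, 0x95b55bada6ec30c⟩, ⟨78, 8192, 0x491452269b2cc30b⟩, ⟨73, 2, 0x56495d6a586532b⟩], 0x100000401a005⟩, 
  ⟨28, 48, [⟨29, 0x4002001004, 0x452452269b2cb661⟩, ⟨45, 1, 0x352432190c30c⟩, ⟨73, 2, 0x51369a90c3216d9⟩], 0x100000500f005⟩, 
  ⟨29, 0, [⟨27, 0, 4⟩, ⟨9, 0x27006, 0x2cb2c964adb4dd⟩, ⟨42, 8193, 0x144d49144cb30c859⟩], 0x100400200f001⟩, 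
  ⟨29, 2, [⟨29, 0x4002001004, 0x2291491365990c⟩, ⟨44, 0x100001b001, 0x29648a2914b29959⟩, ⟨42, 0x400b000, 0x44d48a290b65990c⟩], 0x100100201a003⟩, 
  ⟨29, 3, [⟨28, 0x300401200a, 0x452269a85b32190b⟩, ⟨79, 0x1011000, 0x5228a44d990c321⟩, ⟨42, 1, 0x2289a6a190b661⟩], 0x401a003⟩, 
  ⟨29, 4, [⟨29, 0x400501b00a, 0x45226d48a16cc861⟩, ⟨35, 0x15001, 0x4d575495d765⟩, ⟨42, 0x100001b000, 0x1134d44d96cc861⟩], 0x100200500f001⟩]

/-- base loops -/
def base1 : List BaseE := [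
  ⟨29, 48, [⟨28, 0x100100500f006, 0x26a489a964b2592c⟩, ⟨84, 2, 0xd4b2589b665929⟩, ⟨42, 0, 0x1badd6eba5d6642e9⟩], 0x200200f003⟩, 
  ⟨30, 0, [⟨33, 1, 0⟩, ⟨5, 0, 1292⟩, ⟨9, 0, 0x30c861⟩], 0⟩, 
  ⟨30, 1, [⟨34, 0x4015000, 0x135226a485b30b65b⟩, ⟨49, 0, 0x369d6eb75ba996cb⟩, ⟨9, 0x100400300100a, 0x2bb2cadd32c⟩], 0x2013000⟩, 
  ⟨30, 4, [⟨31, 2, 0x90b66430c⟩, ⟨15, 0, 0x4899⟩, ⟨9, 0x100400201f022, 0x1485965b661⟩], 0x18000⟩, 
  ⟨30, 6, [⟨40, 0x6001, 0x1a6596cb659⟩, ⟨14, 0, 0x48a42cb65b661⟩, ⟨9, 0x1002002020009, 0x69a8a26d986185b⟩], 0x100101e000⟩, 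
  ⟨30, 20, [⟨42, 8193, 0x4524b2292b74b759⟩, ⟨27, 1, 0x12b6acb2c95badb⟩, ⟨9, 0x27006, 0x2c92badd9652d9⟩], 0x301d000⟩, 
  ⟨31, 0, [⟨31, 1, 0⟩, ⟨25, 8193, 0x456575d94cb0c⟩, ⟨32, 2, 0x134d450b2d96cb⟩], 0x3008000⟩, 
  ⟨31, 1, [⟨35, 0xb000, 0x289a6a594b76595d⟩, ⟨35, 0x1021002, 0x1a8a44da86430c85b⟩, ⟨32, 0, 0x350c2cb30c⟩], 0x100b000⟩, 
  ⟨31, 4, [⟨30, 2, 0x14522914861659⟩, ⟨24, 4097, 0x5135216d96cb⟩, ⟨32, 2, 0x2285966190c⟩], 0x1e000⟩, 
  ⟨31, 6, [⟨39, 0x1021002, 0x16295a92b6e9⟩, ⟨87, 0, 0x45649642ebaeb65d⟩, ⟨32, 0, 0x11451369966190c⟩], 0x1000004000⟩, 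
  ⟨31, 20, [⟨43, 2, 0x26d34d42d990c864⟩, ⟨62, 0, 0x1229136a42d96cc⟩, ⟨32, 2, 0x575b4ebacb75d⟩], 0x100201b000⟩, 
  ⟨32, 0, [⟨32, 1, 0⟩, ⟨30, 2, 0x1485b321861⟩, ⟨24, 4097, 0x1489b52285b659664⟩], 0x100000b003⟩, 
  ⟨32, 1, [⟨37, 0x1021000, 0x51451485b2db30c⟩, ⟨50, 0x13000, 0x196596cc⟩, ⟨24, 0, 0xa28a432190c⟩], 0x401a003⟩, 
  ⟨32, 4, [⟨33, 2, 0x14522914861659⟩, ⟨8, 0, 0x14522914861861⟩, ⟨24, 0, 0x65b6642cc⟩], 0x1013003⟩, 
  ⟨32, 6, [⟨39, 8193, 0x2290c861861⟩, ⟨65, 4099, 0x4d491352165b659⟩, ⟨24, 0xe001, 0x89a6a489965b30c⟩], 0x100200e003⟩, 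
  ⟨32, 20, [⟨44, 8192, 0x1a6596cb659⟩, ⟨31, 0, 0xd45226d3659661⟩, ⟨24, 0x3001, 0x134d592c964b13⟩], 0x100100b003⟩, 
  ⟨33, 0, [⟨30, 1, 0⟩, ⟨13, 0, 0x113ad366592c94b⟩, ⟨25, 4096, 0⟩], 0⟩, 
  ⟨33, 1, [⟨36, 4096, 0x85b2db30c⟩, ⟨67, 0x5002, 0x35142cb30c861⟩, ⟨25, 0x3000, 0x24b22aec9656cc95b⟩], 0x200a000⟩, 
  ⟨33, 4, [⟨32, 2, 0x90b66430c⟩, ⟨31, 1, 0x91366430c2cb⟩, ⟨25, 8193, 0x69a8a42cc85b⟩], 0x22000⟩, 
  ⟨33, 6, [⟨40, 2, 0x1226596cb659⟩, ⟨18, 0x6001, 0x91595d764a5d90c⟩, ⟨25, 0x3001, 0x45226a45216642cc⟩], 0x301b000⟩, 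
  ⟨33, 20, [⟨45, 8192, 0x51369a8642cb65b⟩, ⟨64, 1, 0x4d4913321664⟩, ⟨25, 0x7001, 0xd45226d3659661⟩], 0x3022000⟩, 
  ⟨34, 0, [⟨30, 0, 4⟩, ⟨22, 0x3000, 0x2b24b24b13add6e9⟩, ⟨70, 3, 0x52289a90b2d96d9⟩], 0x1009001⟩, 
  ⟨34, 1, [⟨44, 0x100001b001, 0x491592b69bb25859⟩, ⟨36, 0x3011001, 0x9226da6d9864⟩, ⟨70, 0x1007002, 0x6a48a26998642d9⟩], 0x1008001⟩, 
  ⟨34, 2, [⟨36, 1, 3⟩, ⟨77, 0x1014001, 0x48a26a42db2cb⟩, ⟨70, 0x11003, 0x57659136a190b6e9⟩], 0x301f001⟩, 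
  ⟨34, 3, [⟨41, 4099, 0x34da91430c864⟩, ⟨90, 2, 0x1a913b2292c85badd⟩, ⟨70, 0x3002, 0x89a9134d986190b⟩], 0x201d001⟩, 
  ⟨34, 4, [⟨38, 0x2004000, 0x145134d96596cb⟩, ⟨93, 44, 0x32cc861⟩, ⟨70, 0x1001001, 0x12286165990c⟩], 0x100001f001⟩, 
  ⟨34, 5, [⟨34, 0x4005001, 0x1455bada75bb296eb⟩, ⟨57, 0x1002009001, 0x291596275b2e9765⟩, ⟨70, 0x1006003, 0x28a430b661659⟩], 0x1002008001⟩, 
  ⟨34, 6, [⟨41, 0x4003, 0x4b24add7644eb65d⟩, ⟨88, 3, 0x44da6a28596d9864⟩, ⟨70, 0x1007001, 0x5226d48a16cb30c⟩], 0x1002009001⟩, 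
  ⟨34, 8, [⟨40, 0x400b000, 0x76489ba9990b75d⟩, ⟨20, 0x5001, 0x2b4dd95366595d⟩, ⟨70, 0x1001001, 0x11489b50c85b2db⟩], 0x1008001⟩, 
  ⟨34, 9, [⟨35, 0x401e002, 0x35226d366430c⟩, ⟨41, 0x1004000, 0x8a28a452190b2d9⟩, ⟨70, 0x8001, 0x52c8ac95b69992c⟩], 0x1d001⟩, 
  ⟨34, 12, [⟨37, 0xd002, 0xda92269b32185b⟩, ⟨58, 0x1014001, 0x76295d6cc325965⟩, ⟨70, 0x1010001, 0x48a29228a165990c⟩], 0x100001f001⟩, 
  ⟨34, 44, [⟨34, 0xf002, 0x6ec92c89d90bad9⟩, ⟨53, 1, 0x9b5226d3321859⟩, ⟨70, 0x101b002, 0x134d450b2cb6cb⟩], 0x1002009001⟩, 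
  ⟨34, 48, [⟨35, 0x100301d001, 0xda9144d96642db⟩, ⟨39, 0x4003, 0x1b5242cb2d990b⟩, ⟨70, 0x3000, 0xd34d452165b2d9⟩], 0x1004017001⟩, 
  ⟨35, 0, [⟨31, 0, 4⟩, ⟨23, 0x1002002004000, 0x248a29136a430c321⟩, ⟨54, 0x1000017001, 0x244da9142d96d9⟩], 0x100201d000⟩, 
  ⟨35, 1, [⟨45, 0x100001b001, 0x34dab256cb764b0b⟩, ⟨80, 0x8003, 0x1b5228a44d965b30b⟩, ⟨54, 0x16001, 0xa26d48a16cc2cb⟩], 0x100401d000⟩, 
  ⟨35, 2, [⟨35, 0x100301d001, 0xada96575d92b⟩, ⟨34, 0x1a002, 0x34d330c2cb30c⟩, ⟨54, 0x1018001, 0xa26d45216cc2cb⟩], 0x100401d000⟩, 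
  ⟨35, 3, [⟨38, 0x2022003, 0x13b244da6642dd765⟩, ⟨96, 0x1001087, 0x13add91495ba59⟩, ⟨54, 0x1002013001, 0x1351592c964b14⟩], 0x100101d000⟩, 
  ⟨35, 4, [⟨41, 0x1014003, 0x149148a42d96d9⟩, ⟨72, 0xe001, 0x9b4d3a5badd6eb⟩, ⟨54, 0x2016000, 0x269a8a1659664⟩], 0x100201d000⟩, 
  ⟨35, 5, [⟨37, 0x100001b001, 0x292bada90cb2cb25⟩, ⟨55, 0x4008000, 0xa45144d965990b⟩, ⟨54, 0xc000, 0x9a6d36a16596d9⟩], 0x101d000⟩, 
  ⟨35, 6, [⟨38, 0x1000001000, 0x452291450c8642d9⟩, ⟨96, 0x1001052, 0x148a295ba9bad96e9⟩, ⟨54, 0x1000017001, 0x34da9142d96d9⟩], 0x100201d000⟩, 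
  ⟨35, 8, [⟨39, 0x100001f000, 0x51452290c30c85b⟩, ⟨71, 0x1002000, 0x35229144d985b661⟩, ⟨54, 0x4001, 0x6d330c2cb664⟩], 0x100201d000⟩, 
  ⟨35, 9, [⟨34, 0x301a002, 0x89a9142db321⟩, ⟨60, 0x100300b000, 0xa4b24ad995b32c⟩, ⟨54, 0x18000, 0x292291332185b⟩], 0x201d000⟩, 
  ⟨35, 12, [⟨36, 0x400b002, 0xda92269b32185b⟩, ⟨72, 0x1004003, 0x6a48642cc30b⟩, ⟨54, 0x1004000000, 0x9148a29142cb2cc⟩], 0x301d000⟩, 
  ⟨35, 44, [⟨37, 0x1021002, 0x592265b2dd765⟩, ⟨48, 1, 0xac8a4b22b0b2d9964⟩, ⟨54, 0x1002000000, 0x9a6da90c30c⟩], 0x401d000⟩, 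
  ⟨35, 48, [⟨34, 0x17001, 0xd4b2592c954321⟩, ⟨51, 1, 0x6d35148a190b2d9⟩, ⟨54, 8193, 0xd44da8a42cb659⟩], 0x100001d000⟩, 
  ⟨36, 0, [⟨33, 0, 161⟩, ⟨11, 0x100300500101c, 0x35136a43216cb⟩, ⟨52, 0x2016000, 0x14564964b0badbb25⟩], 0x100301d000⟩, 
  ⟨36, 1, [⟨34, 1, 153⟩, ⟨60, 0x1002016000, 0x9a6d44d96d9661⟩, ⟨52, 0x18000, 0x1489a65b65b664⟩], 0x100001d000⟩, 
  ⟨36, 2, [⟨43, 8195, 0x114564aebb2c4dd⟩, ⟨71, 0x12002, 0x2b69d92c9132dba5b⟩, ⟨52, 0x4001, 0x1144d34d9661864⟩], 0x101d000⟩, 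
  ⟨36, 3, [⟨36, 0x11001, 0x11376451569992cb0b⟩, ⟨69, 0x11003, 0x2c564b13add6d32eb⟩, ⟨52, 0x1002013001, 0x13ad56d42eb30c964⟩], 0x100301d000⟩, 
  ⟨36, 4, [⟨38, 0x1001021003, 0x145226996cb2cc⟩, ⟨96, 0x1001000, 0x1a6d44d96cb664⟩, ⟨52, 0x7001, 0x89d6eb7645216e9⟩], 0x100101d000⟩, 
  ⟨36, 5, [⟨41, 0x1001003, 0x34d452285b2cb6cc⟩, ⟨66, 0x1b001, 0x1229136996d985b⟩, ⟨52, 0xc000, 0xa430c2cb6cb⟩], 0x1d000⟩, 
  ⟨36, 6, [⟨41, 0x21000, 0x90b6596d9⟩, ⟨66, 0x1008000, 0x34d592cb0cb2c94b⟩, ⟨52, 0x1004009000, 0x44da9148a42cb30c⟩], 0x100301d000⟩, 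
  ⟨36, 8, [⟨37, 0x301a002, 0x76595d6cb765⟩, ⟨60, 0x200f001, 0x226a489a6618642db⟩, ⟨52, 0x1003007000, 0xab4eb764aebad9⟩], 0x201d000⟩, 
  ⟨36, 9, [⟨40, 0x3003, 0x44da91365b30b⟩, ⟨23, 0x1000002019000, 0x9148596d9861⟩, ⟨52, 0xf001, 0x95bada929864325⟩], 0x100401d000⟩, 
  ⟨36, 13, [⟨35, 0x7002, 0x52291450c85b2cc⟩, ⟨37, 0x1f001, 0x9a69b4db30c2cb⟩, ⟨52, 0xe000, 0x69d6eb7645216e9⟩], 0x100101d000⟩, 
  ⟨36, 44, [⟨36, 0x2023002, 0x2b244da914b29959⟩, ⟨80, 4099, 0x28a26d332165b65b⟩, ⟨52, 8193, 0x1648a2914b252eb⟩], 0x401d000⟩, 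
  ⟨36, 48, [⟨37, 0x17001, 0x4d452285b2d9864⟩, ⟨51, 0x7000, 0x1144d350c8616cc⟩, ⟨52, 0x1000017001, 0x1489b52285b659664⟩], 0x100101d000⟩, 
  ⟨37, 0, [⟨32, 0, 161⟩, ⟨35, 0xb000, 0x289a6a594b76595d⟩, ⟨35, 0x1021002, 0x1a8a44da86430c85b⟩], 0x1000000⟩, 
  ⟨37, 1, [⟨37, 0x17001, 0x9148a430b2cb661⟩, ⟨52, 0x4003000, 0x6a291485b659⟩, ⟨35, 2, 0x2cb2c4dd953759965⟩], 0x1000000⟩, 
  ⟨37, 2, [⟨42, 0x100001b000, 0x1365965b2cb⟩, ⟨29, 10, 0xa2914864321⟩, ⟨35, 0x4014002, 0x22add92585d6eb6e9⟩], 0x1000000000⟩, 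
  ⟨37, 3, [⟨35, 0x100100c001, 0xb13ad575a6dd929⟩, ⟨35, 0x100100c001, 0x2275bada75975d325⟩, ⟨35, 0x100100c001, 0x1134d450c2d9664⟩], 0x1003000000⟩, 
  ⟨37, 4, [⟨41, 0x201d003, 0x6a28a48a16cc30c⟩, ⟨70, 8192, 0x6a289b65b659⟩, ⟨35, 0x4015003, 0x2add92585d6eb6e9⟩], 0x1000000000⟩, 
  ⟨37, 5, [⟨38, 0x4015000, 0x4ec55bad430b2dd⟩, ⟨95, 52, 0x11365b30c859⟩, ⟨35, 0x4000, 0xa29144d96cc321⟩], 0x3000000⟩, 
  ⟨37, 6, [⟨38, 0x4015003, 0x89a6d48616cb⟩, ⟨95, 0x1000006, 0x575a6a5964aec⟩, ⟨35, 0x7000, 0x4d36a290c32165b⟩], 0x1002000000⟩, 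
  ⟨37, 8, [⟨36, 0x401e002, 0xd45226d32d9659⟩, ⟨79, 0x1008000, 0x12b564b1485b2dba61⟩, ⟨35, 0x7000, 0x4d48a290c2d990c⟩], 0⟩, 
  ⟨37, 9, [⟨39, 0x4003, 0x9a913b2592c4cc85d⟩, ⟨70, 0x3000, 0x26ab75aaeb32595b⟩, ⟨35, 0x8000, 0xada92cb0cb21965⟩], 0x1000000⟩, 
  ⟨37, 13, [⟨34, 0x4002, 0xd352289b30c85b2db⟩, ⟨54, 0xb001, 0x6a44d369966185b⟩, ⟨35, 0x8001, 0x4ec8a2ad3325959⟩], 0x2000000⟩, 
  ⟨37, 44, [⟨35, 0x1021002, 0x16489a7596e9761⟩, ⟨32, 0, 0x69a69b52186430b⟩, ⟨35, 0xb000, 0x134d48a26598642cb⟩], 0x1000000000⟩, 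
  ⟨37, 48, [⟨36, 0x100301d001, 0x34d48a45216cb30c⟩, ⟨62, 1, 0x28a48a430b65b⟩, ⟨35, 0x2004003, 0x1b4da913659864⟩], 0⟩, 
  ⟨38, 0, [⟨36, 0x100301d000, 0x26ebb2caeb329⟩, ⟨83, 0x1000000, 0x26a451485b321864⟩, ⟨95, 0x100102c, 0x226596cc2d9⟩], 0x201f003⟩, 
  ⟨38, 1, [⟨38, 0x17002, 0x61861⟩, ⟨94, 33, 0x491430c8642cc⟩, ⟨95, 33, 0x289a6996cb30c⟩], 0x1002004000⟩, 
  ⟨38, 2, [⟨41, 0x21002, 0x5145226cc86190b⟩, ⟨75, 0x1012002, 0x29229148596cb⟩, ⟨95, 4146, 0x1a9144db2cb664⟩], 0x1002004000⟩, 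
  ⟨38, 3, [⟨41, 0x3005001, 0x8a26d350c8616cc⟩, ⟨75, 0x1b002, 0x228a269b321861⟩, ⟨95, 0x1001015, 0xd330c321864⟩], 0x100201f003⟩, 
  ⟨38, 4, [⟨34, 0x1021000, 0x45244da6d32cc30b⟩, ⟨59, 0x2003000, 0x91452289965b30c⟩, ⟨95, 0, 0x4d48a265b30c864⟩], 0x2004000⟩, 
  ⟨38, 5, [⟨41, 0x1001018002, 0x9148616cc30c⟩, ⟨86, 0x7002, 0x4d45148643216cb⟩, ⟨95, 0x100005b, 0x9a6a4321864⟩], 0x100201f003⟩, 
  ⟨38, 6, [⟨35, 0xc000, 0x5242ec964b25⟩, ⟨38, 0x1019000, 0x52b75badd521864⟩, ⟨95, 4102, 0xd35136996cb30c⟩], 0x1002004000⟩, 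
  ⟨38, 7, [⟨37, 0x1001019003, 0x1330c86430b⟩, ⟨59, 0x1000017001, 0xa2b2baecaa5⟩, ⟨95, 4232, 0x28a29226cb659664⟩], 0x2004000⟩, 
  ⟨38, 8, [⟨41, 0xb002, 0x229144db2d96cb⟩, ⟨83, 0x1010003, 0x8a1b2592c964⟩, ⟨95, 158, 0xd430c32190c⟩], 0x2004000⟩, 
  ⟨38, 9, [⟨38, 0x17001, 0x5144d48616cb65b⟩, ⟨94, 0x1001062, 0xa26d36a190c2cb⟩, ⟨95, 36, 0x35244da6996cb30c⟩], 0x2004000⟩, 
  ⟨38, 10, [⟨38, 0x300c002, 0x149649659542dd92c⟩, ⟨94, 0x1001024, 0x26d45132cb6cb6cc⟩, ⟨95, 132, 0xa48596cc2d9⟩], 0x201f003⟩, 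
  ⟨38, 12, [⟨38, 0x2009002, 0x1369a914861859⟩, ⟨98, 0x1001004, 0x452575b32ca65929⟩, ⟨95, 143, 0x248a430c32190c⟩], 0x2004000⟩, 
  ⟨38, 15, [⟨37, 0x16003, 0x145134d432185b2d9⟩, ⟨59, 0x4008001, 0x48642d990b⟩, ⟨95, 65, 0x6d34d44d96cc2d9⟩], 0x201f003⟩, 
  ⟨38, 16, [⟨35, 0x1020003, 0x3aec89d75d6cb32c⟩, ⟨38, 0x2022003, 0x28ab75badd30b⟩, ⟨95, 0x1000037, 0x15d6ab65ba6592c⟩], 0x2004000⟩, 
  ⟨38, 27, [⟨38, 0x1003019002, 0x11366165b30c⟩, ⟨94, 4141, 0x9132cb65b30c⟩, ⟨95, 0x1001062, 0x26cc321659⟩], 0x201f003⟩, 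
  ⟨38, 29, [⟨41, 0x100301a001, 0x369b32190c861⟩, ⟨86, 0x8003, 0x92290c321859⟩, ⟨95, 4097, 0x1a6616cb659⟩], 0x100201f003⟩, 
  ⟨38, 30, [⟨38, 0x201d001, 0x156a450badd6eb⟩, ⟨94, 4228, 0x455d6d432965bb21⟩, ⟨95, 32, 0x6cc32190c⟩], 0x2004000⟩, 
  ⟨38, 36, [⟨43, 8194, 0x113b24ada6eb6eb⟩, ⟨83, 8193, 0x8a48a26d4321861⟩, ⟨95, 159, 0x524321859664⟩], 0x2004000⟩, 
  ⟨38, 44, [⟨44, 0x400b000, 0x2495d75ba5d92c95d⟩, ⟨38, 0x100101a003, 0x6a44da6d32cc30b⟩, ⟨95, 25, 0x6d49134d990b65b⟩], 0x201f003⟩, 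
  ⟨38, 48, [⟨39, 0x6001, 0x2c92c92a65d6cc⟩, ⟨75, 0x1016002, 0x55b524b2592cb2a⟩, ⟨95, 126, 0x45142cb321661⟩], 0x1002004000⟩, 
  ⟨39, 0, [⟨32, 1, 9945⟩, ⟨43, 2, 0x114564aa4ad96ec⟩, ⟨62, 0, 0x9a913664321⟩], 0x201a003⟩, 
  ⟨39, 1, [⟨38, 0x100c002, 0x114b14521964b25⟩, ⟨97, 125, 0x2269a89b2d9861⟩, ⟨62, 4099, 0x4564b242cc96432b⟩], 0x301b003⟩, 
  ⟨39, 4, [⟨40, 2, 0x89a9136cb659⟩, ⟨21, 1, 0x1a6d34db30c864⟩, ⟨62, 2, 0x289b4d486430b664⟩], 0x13003⟩, 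
  ⟨39, 6, [⟨39, 8193, 0x2489a6d36cc861⟩, ⟨74, 0, 0xa28a265b2cb65b⟩, ⟨62, 0, 0x48a485990b321⟩], 8195⟩, 
  ⟨39, 11, [⟨31, 2, 0x9a6996cb664⟩, ⟨20, 0x3001, 0x134ec9132eb2dd2e9⟩, ⟨62, 4099, 0x244d34d42d965b2db⟩], 0x1000003⟩, 
  ⟨39, 15, [⟨35, 0x100100c000, 0x89b5226d32d9861⟩, ⟨36, 0x100301d001, 0x2c92c92a865864⟩, ⟨62, 1, 0x290b659861⟩], 0x1e003⟩, 
  ⟨39, 20, [⟨37, 0x8003, 0x28a596285d75bb2b⟩, ⟨56, 0x1000014000, 0x4d369b6642cb⟩, ⟨62, 0, 0x1864321⟩], 0x4010003⟩, 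
  ⟨40, 0, [⟨30, 1, 9945⟩, ⟨18, 8193, 0x6d430c2cb664⟩, ⟨17, 0x1001000028001, 0x6a2964add7654dd⟩], 0x1000017002⟩, 
  ⟨40, 1, [⟨41, 0x1003012002, 0x134d44d965b2cc⟩, ⟨67, 0, 0x8a26da6596cc⟩, ⟨17, 0x4000, 0x28a489a65b3216cb⟩], 0x100400f002⟩, 
  ⟨40, 4, [⟨39, 0x1021002, 1689⟩, ⟨64, 2, 0x28a48a430c864⟩, ⟨17, 1, 0xda9144d96642db⟩], 0x100400b002⟩, 
  ⟨40, 6, [⟨40, 2, 0x134d352190b659⟩, ⟨16, 0x10001, 0x1134da6a18616d9⟩, ⟨17, 0x1001001010001, 0x1136a450b6cb2db⟩], 0x200c002⟩, 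
  ⟨40, 11, [⟨33, 2, 0x29132cb30c861⟩, ⟨6, 0x1004002019013, 0x269a74b75badd⟩, ⟨17, 8192, 0x248a56eb7598642eb⟩], 0x400a002⟩, 
  ⟨40, 15, [⟨34, 0x100001b000, 0x34da8a44d990c861⟩, ⟨50, 0x8001, 0x95bb2589d65bb29⟩, ⟨17, 0xf000, 0xb15962699864acb⟩], 0x1b002⟩, 
  ⟨40, 20, [⟨36, 0x9003, 0x9a69b4cc8596d9⟩, ⟨65, 0, 0x1145134cb6cb2cc⟩, ⟨17, 0x1001000023001, 0x143218642cb⟩], 0x1b002⟩, 
  ⟨41, 0, [⟨36, 0x100301d000, 0x12266430b2d9⟩, ⟨90, 0xb000, 0x2289a6d4321859⟩, ⟨79, 1, 0x56495aaebb252d9⟩], 0x1002021003⟩, 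
  ⟨41, 1, [⟨41, 0x1019001, 0x56295992b6eb⟩, ⟨88, 0x1003003, 0x28a45136616d990b⟩, ⟨79, 0x1005002, 0xa56d3764a64b21⟩], 0x1002021003⟩, 
  ⟨41, 2, [⟨38, 0x21002, 0x36ab7645256e9864⟩, ⟨97, 21, 0xd489b2d9859659⟩, ⟨79, 0x5002, 0x91332185b30b⟩], 0x100100c000⟩, 
  ⟨41, 3, [⟨41, 0x100c001, 0x51489b4cb66190c⟩, ⟨90, 0xe003, 0x11376451569992cb0b⟩, ⟨79, 0x1010000, 0x2265966430b⟩], 0x1004019003⟩, 
  ⟨41, 4, [⟨35, 0x3015000, 0x48a26d32d985b⟩, ⟨36, 0x19002, 0x1244d36a18642db⟩, ⟨79, 0x3000, 0x11332185b30b⟩], 0x100100c000⟩, 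
  ⟨41, 5, [⟨38, 0x1001020001, 0x2289a6d4859861⟩, ⟨97, 4146, 0x26a2914861859⟩, ⟨79, 0x1007002, 0x9a91352185b30b⟩], 0x100100c000⟩, 
  ⟨41, 6, [⟨36, 0x4000, 0x9145136a16cc2cb⟩, ⟨88, 0xa001, 0x145134cc30b6cc⟩, ⟨79, 0x100a002, 0x269a69b4cb30c2d9⟩], 0x1002021003⟩, 
  ⟨41, 8, [⟨38, 0x100301c001, 0x145136a16cb30c⟩, ⟨92, 1, 0x2ad4514964b0b325⟩, ⟨79, 0x7002, 0x142d986190b⟩], 0x1004019003⟩, 
  ⟨41, 9, [⟨41, 0x1003012002, 0x9a6d32d990b⟩, ⟨76, 0x12002, 0xeb75badd4cc⟩, ⟨79, 0x101b002, 0x15bb2caa56dd65b⟩], 0x100100c000⟩, 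
  ⟨41, 10, [⟨41, 0x101f001, 0x228a29136596cb6cb⟩, ⟨89, 0x1008003, 0x25925964aeba59⟩, ⟨79, 0x8000, 0x9d6d3764a64b21⟩], 0x1002021003⟩, 
  ⟨41, 11, [⟨37, 0x1021000, 0x51491452185965b⟩, ⟨58, 0x4013001, 0x29626d365d6eb764⟩, ⟨79, 4099, 0x136a289990c2d9⟩], 0x1000009000⟩, 
  ⟨41, 12, [⟨41, 0xc001, 0x1592592cad3b2c⟩, ⟨91, 0x1003000, 0x8a26d36cc861⟩, ⟨79, 0x100d003, 0x1430c2db30b⟩], 0x1004019003⟩, 
  ⟨41, 13, [⟨38, 0x4015002, 0x292b75badd85b⟩, ⟨93, 158, 0x29144db2cb6cc⟩, ⟨79, 0xa003, 0xd332185b30b⟩], 0x100100c000⟩, 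
  ⟨41, 15, [⟨40, 0x100001b001, 0x2cb2c8a532c325⟩, ⟨22, 0x400500d000, 0x269a9142db32185b⟩, ⟨79, 0x1007000, 0x962b1496595b74c⟩], 0x100100c000⟩, 
  ⟨41, 18, [⟨41, 0x1006002, 0x1495d6d432965bacc⟩, ⟨74, 0x3000, 0xda764a64b21929⟩, ⟨79, 0x1006001, 0x52592b69bb252d9⟩], 0x1002021003⟩, 
  ⟨41, 19, [⟨34, 0x101f003, 0x4d369b4cc30b6cc⟩, ⟨61, 0x100100a000, 0x575a75d65d764⟩, ⟨79, 0x7000, 0x28a2b2596296592c⟩], 0x1002021003⟩, 
  ⟨41, 20, [⟨34, 0x1001019003, 0x489d92cb0cb2c964⟩, ⟨61, 0x1004003000, 0x35149148a16596d9⟩, ⟨79, 1, 0x6d332185b30b⟩], 0x100100c000⟩, 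
  ⟨41, 28, [⟨38, 0x1001016002, 0x15bb2450ba5d6cb⟩, ⟨92, 0x100005b, 0x11489b2cc30c861⟩, ⟨79, 0xe002, 0x6a42d96cc859⟩], 0x1004019003⟩, 
  ⟨41, 41, [⟨42, 2, 0x9d91575d6ec961⟩, ⟨28, 0x100301400a, 0x69a9144d96cc321⟩, ⟨79, 0x4001, 0xabad3ad975bb29⟩], 0x100100c000⟩, 
  ⟨41, 49, [⟨45, 0x400b000, 0x44da6a285b66185b⟩, ⟨76, 0x1006000, 0xa26a44d490b2cc30b⟩, ⟨79, 0x4002, 0x22659661864⟩], 0x1002021003⟩, 
  ⟨42, 0, [⟨37, 0x100c000, 0x4522859661859⟩, ⟨53, 0, 0x1644eb75bb2552b⟩, ⟨84, 2, 0xac964b0c861964⟩], 4098⟩, 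
  ⟨42, 1, [⟨43, 0x100001b002, 0xb24b24a61961861⟩, ⟨81, 0x1007003, 0x11489a69b4cc30c2d9⟩, ⟨84, 2, 0x148a44da8642d990c⟩], 0x100100d001⟩, 
  ⟨42, 2, [⟨41, 0x12001, 0x1245228a165b664⟩, ⟨76, 0x6003, 0x35229134d9859664⟩, ⟨84, 0, 0x2575d75a65b75d⟩], 0x1002013001⟩, 
  ⟨42, 8, [⟨42, 1, 0x34cb⟩, ⟨28, 0x100100500f008, 0x15915764b296ec864⟩, ⟨84, 2, 0x122b137616eb6ec⟩], 0x1000009002⟩, 
  ⟨42, 36, [⟨30, 2, 0xada6a594b65d75d⟩, ⟨21, 0x4005001001, 0x12592c962659759⟩, ⟨84, 0, 0x24b2592c4cb2e9⟩], 0x1003010001⟩]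

/-- base loops -/
def base2 : List BaseE := [
  ⟨43, 0, [⟨36, 0x1007000, 0xd34d369b2cb2cc⟩, ⟨70, 0x1007002, 0x48ac8a265996585d⟩, ⟨44, 0x100001b000, 0x8a289a6cb2cb664⟩], 0x3009001⟩, 
  ⟨43, 1, [⟨44, 3, 0xac8ac95b69992c⟩, ⟨44, 1, 0xac8ac95b69992c⟩, ⟨44, 1, 0xac8ac95b69992c⟩], 0x6002⟩, 
  ⟨43, 5, [⟨42, 8194, 0x1985b30c⟩, ⟨29, 0x1005007008, 0x6abada6d4864b2b⟩, ⟨44, 0x100001b001, 0xb244d37654d96dd⟩], 0x4015002⟩, 
  ⟨43, 6, [⟨38, 0x1002010001, 0x2cb22913b216dd90c⟩, ⟨95, 25, 0x922b24ada6eb6eb⟩, ⟨44, 0x100001b000, 0x26d369b32185b⟩], 0x1001018001⟩, 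
  ⟨43, 48, [⟨31, 1, 0xb14b24b2190b2e9⟩, ⟨24, 8193, 0x5922b226d375b65d⟩, ⟨44, 8192, 0x269b4d98642db⟩], 0x6002⟩, 
  ⟨44, 0, [⟨32, 0, 0x16d9861⟩, ⟨39, 8194, 9945⟩, ⟨87, 0, 0x35242cc85990c⟩], 0x100201a000⟩, 
  ⟨44, 1, [⟨38, 0x4000000, 0x1375a75d6a532b759⟩, ⟨93, 159, 0x5134da8642cb664⟩, ⟨87, 0, 0x11452291430c2d9⟩], 0x7003⟩, 
  ⟨44, 4, [⟨43, 0x1021003, 0x4d352285b2d96cc⟩, ⟨82, 2, 0x269b4da8642cb65b⟩, ⟨87, 2, 0x44d36a44d965b30c⟩], 0x1002003000⟩, 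
  ⟨44, 6, [⟨45, 8193, 0x1592575b52cb0cb21⟩, ⟨68, 2, 0x52289b66185b⟩, ⟨87, 0, 0xa452269986190b⟩], 0x1019003⟩, 
  ⟨44, 15, [⟨34, 0x1020002, 0x269d75a665964aec⟩, ⟨56, 0x1003015001, 0x149145216cb2db⟩, ⟨87, 2, 0x34da69a86430b65b⟩], 0x1001019003⟩, 
  ⟨45, 0, [⟨33, 0, 0xdb50c⟩, ⟨7, 4, 0x6d430c2cb6cc⟩, ⟨29, 0x1002004001, 0x350cadd6eb764⟩], 0x1011000⟩, 
  ⟨45, 1, [⟨41, 0x2013003, 0x44d56eb759665⟩, ⟨73, 0, 0xd34da6d42cb661⟩, ⟨29, 0x100001801e, 0x4b2589b66592b⟩], 0x2021003⟩, 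
  ⟨45, 4, [⟨45, 1, 1689⟩, ⟨73, 2, 0x491430b2cb664⟩, ⟨29, 4, 0x1365990b321⟩], 0x1000009003⟩, 
  ⟨45, 11, [⟨44, 8193, 0xb24aeb6a5961964⟩, ⟨42, 0x100001b000, 0x2289a6a42cc30b⟩, ⟨29, 0x4002001002, 0x2489a9132d96cb⟩], 0x100100e003⟩, 
  ⟨45, 16, [⟨35, 0x2004002, 0x145144d32db2cb321⟩, ⟨42, 0x100001b000, 0x1a91489a90b2d9664⟩, ⟨29, 10, 0xd36596cc859⟩], 0x200b000⟩, 
  ⟨46, 0, [⟨50, 0, 0⟩, ⟨19, 0xf000, 0x134d451485b321859⟩, ⟨11, 0x4000006024, 0x4d45226cb65b30b⟩], 0x2016000⟩, 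
  ⟨46, 1, [⟨52, 0xe000, 0x26a28a42d96d985b⟩, ⟨33, 0, 0x1b4d330c861861⟩, ⟨11, 0x100400300100a, 0xad49626eb6ea859⟩], 0x4009000⟩, 
  ⟨47, 0, [⟨53, 0x7000, 0x34d36a190b664⟩, ⟨80, 0x3002, 0xa44d350b65b321⟩, ⟨48, 0, 0x8a26996cc85b⟩], 0x1001006000⟩, 
  ⟨47, 1, [⟨54, 0, 0⟩, ⟨37, 0xf002, 0x44ec8a4add69992c⟩, ⟨48, 1, 0x36a26d365990b⟩], 0x2017000⟩, 
  ⟨48, 0, [⟨51, 0, 0⟩, ⟨55, 0x7001, 0x6a26da90c2cb⟩, ⟨46, 1, 0x144d49142d9859⟩], 0x14000⟩, 
  ⟨48, 1, [⟨57, 0x1002004000, 0xd3b245642d96e9761⟩, ⟨71, 0x12002, 0xda69b2cc321661⟩, ⟨46, 0, 0x4b2291575b754b25⟩], 0x1004007000⟩, 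
  ⟨49, 0, [⟨56, 0x7000, 0x9a69b50c85b321⟩, ⟨69, 3, 0x148a44da95badd6ec⟩, ⟨47, 0, 0x36a29136a430c30b⟩], 0x3007000⟩, 
  ⟨49, 1, [⟨55, 0x100d000, 0x1a9145134cc321661⟩, ⟨51, 0, 0xa26d4914321859⟩, ⟨47, 0, 0x8a48a26d4321861⟩], 0x1004013000⟩, 
  ⟨50, 0, [⟨46, 0, 0⟩, ⟨57, 0x1002000000, 0x136a26d96cc864⟩, ⟨71, 0x12002, 0x4da91369990b2d9⟩], 0x4000000⟩, 
  ⟨50, 1, [⟨50, 0x5001, 0x1644dd964ae992c⟩, ⟨22, 0x1e001, 0x352cb24ad9964b29⟩, ⟨71, 0x1002002, 0x4b2baeb6643296dd⟩], 0x4000000⟩, 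
  ⟨50, 2, [⟨56, 0x5001, 0x91432185b661⟩, ⟨76, 0, 0x4d36a44d965990b⟩, ⟨71, 0x1006001, 0x45142cb30c30b⟩], 0x3000000⟩, 
  ⟨50, 3, [⟨61, 0x1004001000, 0x1134d350b6596cc⟩, ⟨88, 0x1002001, 0x55d764b2c86174b⟩, ⟨71, 1, 0x243216cb2db⟩], 0x1000000000⟩, 
  ⟨50, 4, [⟨59, 0x1000007000, 0x1452caebb2c4ec⟩, ⟨97, 25, 0x145148a1659864⟩, ⟨71, 0, 0x49145226998616d9⟩], 0x4000000⟩, 
  ⟨50, 6, [⟨61, 0x4010000, 0xb15962699864ad9⟩, ⟨90, 0x10000, 0x132cb2d96cb⟩, ⟨71, 0x4002, 0x11451592c964b13⟩], 0x2000000⟩, 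
  ⟨50, 8, [⟨57, 8193, 0x2b56496275bada65d⟩, ⟨78, 0x1000001, 0x15ba6575bb25⟩, ⟨71, 0x1006002, 0xa451452190c30b⟩], 0x3000000⟩, 
  ⟨50, 9, [⟨60, 0x1006000, 0x226d3659661861⟩, ⟨58, 0x6001, 0x44d369b6596cc⟩, ⟨71, 0x1011001, 0x12291430b2cc321⟩], 0x1001000000⟩, 
  ⟨50, 20, [⟨55, 0x13001, 0x29134d450c2d9659⟩, ⟨53, 0x13000, 0x26a44d96642db⟩, ⟨71, 4099, 0x1245142cb30c30b⟩], 0x3000000⟩, 
  ⟨50, 31, [⟨60, 0x1002005000, 0xec92b65badbb0b⟩, ⟨61, 0x1003013001, 0x9144d48996cc2cb⟩, ⟨71, 8195, 0xda6d485b2db⟩], 0x1004000000⟩, 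
  ⟨50, 43, [⟨54, 0x4001, 0xa269a8642cb2db⟩, ⟨39, 0x8000, 0x148a2add6eb759861⟩, ⟨71, 0x1002000, 0x132d96cb2cb⟩], 0x1000000000⟩, 
  ⟨50, 44, [⟨52, 0x4001, 0x44d36a290c32165b⟩, ⟨43, 8195, 0x34dd75a6a5964ae9⟩, ⟨71, 0x1006002, 0x45629616ebb2592b⟩], 0x1004000000⟩, 
  ⟨51, 0, [⟨48, 0, 0⟩, ⟨53, 0x6000, 0x5229148a430b2cb⟩, ⟨80, 0x3002, 0x2574bb2caeb⟩], 0x1000000⟩, 
  ⟨51, 1, [⟨51, 0x4001, 0x4d575495d765⟩, ⟨58, 0x2009000, 0x1486165990b⟩, ⟨80, 0, 0xa29229142d9859⟩], 0x2000000⟩, 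
  ⟨51, 2, [⟨53, 0x1000014001, 0x8acb2265d30c961⟩, ⟨77, 0xc000, 0x9a6996d96cc⟩, ⟨80, 0x8003, 0x4913762add965759⟩], 0x1003000000⟩, 
  ⟨51, 3, [⟨58, 4096, 0x69a764b2592b2d9⟩, ⟨89, 0x9003, 0x15d9656eb30ca64⟩, ⟨80, 0x8003, 0x1d6d375ba99665⟩], 0x1000000000⟩, 
  ⟨51, 4, [⟨61, 0x1003002000, 0x145648a2add75d6e9⟩, ⟨78, 0x1001001, 0x269b5649643256dd⟩, ⟨80, 0x12002, 0x1a8a44cc85b65b⟩], 0x1002000000⟩, 
  ⟨51, 8, [⟨59, 0x1009000, 0x276489a75a6e975b⟩, ⟨97, 4124, 0xabada92285d6eb75d⟩, ⟨80, 0x1001001, 0x11452269b2d9659⟩], 0x1000000000⟩, 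
  ⟨51, 9, [⟨52, 8193, 0x51489b4d430c86430b⟩, ⟨36, 0x1021002, 0x29256d375ba5bb0c⟩, ⟨80, 4099, 0x89b30b6cb2cc⟩], 0⟩, 
  ⟨51, 11, [⟨58, 0x400f000, 0x269a69b2d9859⟩, ⟨91, 0xf000, 0x12289a69b30b661⟩, ⟨80, 0x1006000, 0x28a576595d4eb⟩], 0x1000000⟩, 
  ⟨51, 20, [⟨57, 0xf001, 0x9145135216d9861⟩, ⟨63, 0, 0x65b3216cc⟩, ⟨80, 0x1006000, 0xd3762add965759⟩], 0x1003000000⟩, 
  ⟨51, 31, [⟨59, 0x4014000, 0x229644da6ec964b13⟩, ⟨93, 105, 0xac96585badd75d92c⟩, ⟨80, 0x1006000, 0x450c2d9659⟩], 0x4000000⟩, 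
  ⟨51, 44, [⟨54, 0x16001, 0x4ebada6d4864b2b⟩, ⟨45, 0x100001b001, 0x9228a4a9badd6e9⟩, ⟨80, 0x3003, 0x44da89b2cb664⟩], 0x4000000⟩, 
  ⟨51, 45, [⟨55, 1, 0x26d48a290b6596cc⟩, ⟨56, 0, 0x592286432595d⟩, ⟨80, 0x8003, 0xa58a275bb2caec⟩], 0x4000000⟩, 
  ⟨52, 0, [⟨46, 0, 4⟩, ⟨51, 0xd000, 0x26a48a452166185b⟩, ⟨55, 0x7001, 0x289a69b4cc859861⟩], 0x1000002001⟩, 
  ⟨52, 1, [⟨54, 0x16001, 0x5226d352165b659⟩, ⟨37, 0x1021001, 0x9d9144d56ec32585b⟩, ⟨55, 0xe000, 0x1355d75b2e97596eb⟩], 0x4002001⟩, 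
  ⟨52, 2, [⟨57, 8193, 0x269a8a28596cb2cc⟩, ⟨66, 0x1019003, 0x56575996175d⟩, ⟨55, 0x16000, 0x75d8a4b1495bae9⟩], 0x1002002001⟩, 
  ⟨52, 3, [⟨56, 0x1009001, 0x4dd69a6cbadd6eb⟩, ⟨80, 0x8003, 0x5159659142e975d⟩, ⟨55, 1, 0x289d6ec90c2e9759⟩], 8193⟩, 
  ⟨52, 4, [⟨53, 0x4001, 0x1a85b⟩, ⟨71, 4099, 0x248a28a44d98642cb⟩, ⟨55, 0x13001, 0x2489a9148616d9⟩], 0x1002001⟩, 
  ⟨52, 5, [⟨61, 0x1002004000, 0xa28a190b664⟩, ⟨72, 0x1c002, 0x6d48a26998616d9⟩, ⟨55, 0, 0xa29134d966430b⟩], 0x1000002001⟩, 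
  ⟨52, 6, [⟨61, 0x1004005000, 0x1a69b30c2cb661⟩, ⟨69, 2, 0x69a69b5216cb661⟩, ⟨55, 0x1000014001, 0x4d36a44d96cc30c⟩], 8193⟩, 
  ⟨52, 7, [⟨60, 0x3000, 0xac964b2550b6cc⟩, ⟨60, 0xe001, 0x4d36a26d9661864⟩, ⟨55, 0x6000, 0x92269b2cc859861⟩], 0x1000002001⟩, 
  ⟨52, 14, [⟨60, 0x100000d000, 0x489a6d489b2d9861⟩, ⟨60, 0x100200d001, 0x5144d34d9861659⟩, ⟨55, 0x4008000, 0x15aadd92c95a92b⟩], 0x1002001⟩, 
  ⟨52, 20, [⟨58, 0x1003004000, 0x134da6d3659659⟩, ⟨66, 0x1005001, 0xd34d48a190c859⟩, ⟨55, 0x4005000, 0x9a9148616d9⟩], 0x1002001⟩, 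
  ⟨52, 47, [⟨51, 0x1009001, 0x5964964adb4dd2eb⟩, ⟨47, 0, 0x5226d45216d9659⟩, ⟨55, 0x16000, 0x45226a44d96642cb⟩], 8193⟩, 
  ⟨52, 49, [⟨50, 0x4001, 0xac9132d96ebb29⟩, ⟨23, 0x200001a001, 0x89aadd6eb7616cc⟩, ⟨55, 0x1000014001, 0x144da6a42cc859⟩], 0x3002001⟩, 
  ⟨53, 0, [⟨47, 0, 4⟩, ⟨55, 0x4005000, 0x1baebb256eb2eb⟩, ⟨51, 0, 0x132db321859⟩], 0x1004007000⟩, 
  ⟨53, 1, [⟨52, 0x4001, 0x44d9⟩, ⟨37, 1, 0x269b52285b2d9864⟩, ⟨51, 0x7000, 0x89b30c8642cc⟩], 0x3007000⟩, 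
  ⟨53, 2, [⟨58, 0x2013000, 0x48a42d98642cc⟩, ⟨80, 0, 0x9a69b4d96596cb⟩, ⟨51, 0xd001, 0x34d489b65b2cc⟩], 0x4007000⟩, 
  ⟨53, 3, [⟨58, 0x1003007000, 0x2762b256eb2dd865⟩, ⟨72, 0x1007001, 0x4cb30c2cb⟩, ⟨51, 0x1003009000, 0xa44da6a430b2cb⟩], 0x1002007000⟩, 
  ⟨53, 4, [⟨60, 0x4018000, 0x2291352165b2db⟩, ⟨51, 0x6000, 0x5914964b2b4eb6e9⟩, ⟨51, 0x1000010001, 0x132cb2db30c⟩], 0x7000⟩, 
  ⟨53, 5, [⟨55, 1, 0x65b32190b⟩, ⟨46, 1, 0xada8a4a59664b29⟩, ⟨51, 0x1000014000, 0xd330c85b659⟩], 0x2007000⟩, 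
  ⟨53, 6, [⟨59, 0x1003010000, 0x89b52291430b2cb⟩, ⟨96, 0x1000043, 0x92289a6d4861659⟩, ⟨51, 8193, 0x248a26d365990b⟩], 0x1000007000⟩, 
  ⟨53, 7, [⟨51, 0xb001, 0x226a4859661861⟩, ⟨60, 0x1008000, 0x9a9148a1659864⟩, ⟨51, 0x6000, 0x1244d489b65b2cc⟩], 0x4007000⟩, 
  ⟨53, 8, [⟨53, 0xf001, 0xda6a452190b6cb⟩, ⟨72, 0xf003, 0x12591575d6ec964⟩, ⟨51, 0x13000, 0x242cb661⟩], 0x4007000⟩, 
  ⟨53, 9, [⟨59, 0x1000016000, 0x44d369a86190c2db⟩, ⟨96, 0x100108f, 0x148a44d4b2592c964⟩, ⟨51, 0x1003001001, 0x248a42cc8642cc⟩], 0x4007000⟩, 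
  ⟨53, 47, [⟨57, 0x16001, 0x9a6ab30cb25929⟩, ⟨69, 0x1010003, 0x134d350b66430c⟩, ⟨51, 0x6001, 0x1a8a44da6596d965b⟩], 0x1002007000⟩, 
  ⟨53, 48, [⟨54, 0x1000017001, 0x8a42d986430b⟩, ⟨34, 1, 0x29228a42d96cc⟩, ⟨51, 1, 0x52c4eb759964a65⟩], 0x3007000⟩, 
  ⟨54, 0, [⟨47, 0, 3⟩, ⟨56, 0x4000, 0x229134da90b65990c⟩, ⟨69, 3, 0x269b52265b2cb664⟩], 0x1002008000⟩, 
  ⟨54, 1, [⟨52, 0x100000d001, 0x4d330c321859⟩, ⟨36, 0xb001, 0x36a486430c861⟩, ⟨69, 0x11003, 0x1148a269a85b30c861⟩], 0x3004000⟩, 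
  ⟨54, 2, [⟨58, 0x100400a000, 0x1491369b5218596cc⟩, ⟨89, 0x1002003, 0x34da8a489986190b⟩, ⟨69, 0x1002002, 0x56ebad375b50c965⟩], 0x1002008000⟩, 
  ⟨54, 4, [⟨56, 0x4001, 0x65b6642cb⟩, ⟨78, 0x1006000, 0x9b5144cc8642d9⟩, ⟨69, 0x101b002, 0x256d44eb75b4dd6cb⟩], 0x1012000⟩, 
  ⟨54, 5, [⟨58, 0x1004007000, 0x8a289b4cb2d990b⟩, ⟨91, 0x1b000, 0x136ac96452c95d325⟩, ⟨69, 0x1007001, 0x2b2296285b7616ec⟩], 0x1000014000⟩, 
  ⟨54, 6, [⟨59, 0x1001015000, 0x12c96489992974b⟩, ⟨92, 116, 0xd486165b30b⟩, ⟨69, 8192, 0x491490c30b2d9⟩], 0x100000a000⟩, 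
  ⟨54, 8, [⟨51, 0x5001, 0x489d6eb69966595b⟩, ⟨57, 0x4001, 0x14b244d330cb252ec⟩, ⟨69, 0x1010003, 0x1b52269b2cb664⟩], 0x1000014000⟩, 
  ⟨54, 9, [⟨59, 0x1004007000, 0x451369b6596d9⟩, ⟨97, 33, 0x292c4da90cb2592b⟩, ⟨69, 0xa000, 0x2b13ada6d3a5b761⟩], 0x3004000⟩, 
  ⟨54, 10, [⟨55, 0x5001, 0x6a4b2592c962661⟩, ⟨61, 0x1003004001, 0xeb75bad3661961⟩, ⟨69, 2, 0x9a8a290c2cb2db⟩], 0x4008000⟩, 
  ⟨54, 20, [⟨61, 0x1004005000, 0x2b2c89a75432565b⟩, ⟨76, 0x1007000, 0x9a75d6ab32575b325⟩, ⟨69, 0x3000, 0x245149148596d9⟩], 0x300a000⟩, 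
  ⟨54, 36, [⟨53, 0x1003001001, 0x369b2cc321664⟩, ⟨63, 0, 0x144da8a165b2cc⟩, ⟨69, 0x1001001, 0x51592c96285d2cb⟩], 0x1000004000⟩, 
  ⟨54, 44, [⟨50, 0x4001, 0x35144da66190b664⟩, ⟨21, 0x5001000, 0x26d34d44d9661861⟩, ⟨69, 8192, 0xeb4dd74badd6ec⟩], 0x100000a000⟩, 
  ⟨55, 0, [⟨49, 0, 1227⟩, ⟨9, 0x1004002019003, 0x35645132ccb2c2eb⟩, ⟨34, 0x17000, 0x144d489990c2cb⟩], 0x100200a000⟩, 
  ⟨55, 1, [⟨60, 0x1001018000, 0x1d6a4513add6ec2db⟩, ⟨52, 0x18000, 0x1355bb2caa590c2e9⟩, ⟨34, 0x1f001, 0x1132cc32190b⟩], 0x100300f000⟩, 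
  ⟨55, 3, [⟨61, 0x18000, 0x29149132db30c⟩, ⟨79, 0x1007001, 0x4eb6a489aadd864b0b⟩, ⟨34, 0x400b003, 0x12c92b6656d9865⟩], 0x3000000⟩, 
  ⟨55, 4, [⟨59, 0x1000007000, 0x9a6d36996cc861⟩, ⟨95, 0, 0x296275d965759⟩, ⟨34, 0, 0x6d485990c2cb⟩], 0x100200a000⟩, 
  ⟨55, 5, [⟨61, 0x3015000, 0x52269b65b2cc⟩, ⟨79, 0x7000, 0x257644d4b2c32592c⟩, ⟨34, 0x1021000, 0x5242d966190c⟩], 4096⟩, 
  ⟨55, 7, [⟨60, 0x1004000000, 0x5229228a430b661⟩, ⟨54, 0x18000, 0x149648a2914b2994c⟩, ⟨34, 0x4014002, 0xb2b69baecb2b⟩], 4096⟩, 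
  ⟨55, 9, [⟨54, 0x1003015001, 0xd375a7536eb6eb⟩, ⟨35, 1, 0xd48642cc30c⟩, ⟨34, 0x1a002, 0x489b2cc32185b⟩], 0x100300f000⟩, 
  ⟨55, 10, [⟨57, 0x2013001, 0x226a452265b2d9664⟩, ⟨70, 3, 0xa489a9132d9659⟩, ⟨34, 0xa000, 0x48a44d48996cc859⟩], 0x1000000000⟩, 
  ⟨55, 13, [⟨50, 0x100300c001, 0x132cc8596cc⟩, ⟨17, 0xf000, 0x6a29144cb30c85b⟩, ⟨34, 0x1006002, 0x59134e96eb759⟩], 0x4018000⟩, 
  ⟨55, 21, [⟨53, 0x1010001, 0xd48a4861861659⟩, ⟨70, 0x101b002, 0x35229134d990b661⟩, ⟨34, 4099, 0x9149144d96d965b⟩], 0x3000000⟩, 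
  ⟨55, 41, [⟨56, 0x100a001, 0x245245144cb30c85b⟩, ⟨87, 2, 0x45226d48616d9⟩, ⟨34, 0x17001, 0x9156d3764b142dd⟩], 0x4018000⟩, 
  ⟨55, 48, [⟨51, 0x1010001, 0x148a26996d9859⟩, ⟨54, 8193, 0x44da9226a42cb659⟩, ⟨34, 1, 0x8ac8abb2c95bad9⟩], 0x100300f000⟩, 
  ⟨56, 0, [⟨49, 0, 161⟩, ⟨10, 0x2003016001, 0x9aadd6eb74b2db⟩, ⟨23, 0x13000, 0xa26a44d96642cc⟩], 0x1002007000⟩, 
  ⟨56, 1, [⟨61, 0x16000, 0x28a29144cb2cc861⟩, ⟨65, 0, 0x248a29136a430c861⟩, ⟨23, 0x2000010000, 0x45226d32cb664⟩], 0x1007000⟩, 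
  ⟨56, 2, [⟨57, 0x4001, 0x285b⟩, ⟨64, 1, 0x34da9134d965b321⟩, ⟨23, 0x4001007000, 0x6a42d96642cc⟩], 0x1002007000⟩, 
  ⟨56, 3, [⟨54, 0x4001, 0x1985b321⟩, ⟨31, 0, 0x4d59626596eb759⟩, ⟨23, 0x1000004006000, 0xd35144d96642cc⟩], 0x1002007000⟩, 
  ⟨56, 4, [⟨58, 0x3014000, 0x4d351486432190c⟩, ⟨67, 0, 0xa29136a430b659⟩, ⟨23, 0x1000005014001, 0x34d36a26cc3216d9⟩], 0x1004007000⟩, 
  ⟨56, 5, [⟨61, 0x300f000, 0x369b2d96cb2cc⟩, ⟨67, 0x1006002, 0x591495ba9bacc2db⟩, ⟨23, 0x100400500a001, 0xa29144db30b2d9⟩], 0x3007000⟩, 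
  ⟨56, 6, [⟨60, 0x1003009000, 0xda9145216cb2db⟩, ⟨50, 0x4001000, 0x1a8a26d34cc30b659⟩, ⟨23, 0x13001, 0x1a6da90b664⟩], 0x1000007000⟩, 
  ⟨56, 7, [⟨60, 0x3016000, 0x2575b50ca596ec⟩, ⟨50, 0x1002008000, 0x9134da914321861⟩, ⟨23, 0x3000008001, 0x26d4321659861⟩], 0x1002007000⟩, 
  ⟨56, 9, [⟨50, 0x1010001, 0x6a45144cb321864⟩, ⟨16, 0x7000, 0x12595d6cb6596dd⟩, ⟨23, 0x100400501c000, 0x29136a43216cb⟩], 0x1004007000⟩, 
  ⟨56, 10, [⟨56, 8193, 0x496575d929764⟩, ⟨67, 2, 0x48a48a289965b2d9⟩, ⟨23, 0x5001, 0x5226da6642cc⟩], 0x1003007000⟩, 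
  ⟨56, 47, [⟨55, 0x9001, 0x1145256dd6dd865⟩, ⟨50, 0x13000, 0x34d352190b65b⟩, ⟨23, 0x200001a001, 0x12c964b2550b⟩], 0x3007000⟩, 
  ⟨56, 48, [⟨52, 8193, 0x1452cb226d42cb75d⟩, ⟨40, 4099, 0x1a9148996d96cc⟩, ⟨23, 0x500f000, 0x296455d75bb2585b⟩], 0x1007000⟩, 
  ⟨57, 0, [⟨48, 0, 161⟩, ⟨54, 0x1004000, 0x5148a489b30b2cb⟩, ⟨37, 0xf002, 0xd452269b2cc321⟩], 0x1003016001⟩, 
  ⟨57, 1, [⟨52, 8193, 0x34d45144cb659661⟩, ⟨35, 0x101b002, 0x2489a6d489b2cb659⟩, ⟨37, 0x101f001, 0x489a6d48a190b659⟩], 0x4016001⟩, 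
  ⟨57, 2, [⟨55, 0x1000014001, 0x13add6eb2d9865⟩, ⟨54, 0x1004009000, 0x42cb321⟩, ⟨37, 0x4005001, 0x26d369a90c2cb2db⟩], 0x1001016001⟩, 
  ⟨57, 3, [⟨58, 0x2009000, 0x51489b50c86165b⟩, ⟨79, 4099, 0x1134d350b6596cc⟩, ⟨37, 0x1001002000, 0x51376432592992c⟩], 0x1004016001⟩, 
  ⟨57, 4, [⟨56, 0x4001, 0x196642d9⟩, ⟨62, 0, 0xa2914864321⟩, ⟨37, 0x4005000, 0x9145134cb30c2db⟩], 0x16001⟩, 
  ⟨57, 5, [⟨51, 0x1000014001, 0x9b52290b6642db⟩, ⟨52, 0x1000017001, 0x8a56d3aa185bae9⟩, ⟨37, 1, 0x1575aad452596565b⟩], 0x4016001⟩, 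
  ⟨57, 6, [⟨58, 0x1002016000, 0x1144d491430c2cb⟩, ⟨70, 0x1010001, 0xab52c96175ba5d⟩, ⟨37, 0x1019003, 0x292c8ac95b6a16eb⟩], 0x1016001⟩, 
  ⟨57, 8, [⟨59, 0x16000, 0x1451369a86165b30c⟩, ⟨95, 4232, 0x89a6d34cc3216cc⟩, ⟨37, 0x1000008003, 0x15b5242e965b75d⟩], 0x16001⟩, 
  ⟨57, 17, [⟨59, 0x2017000, 0x14b256eb32c32575b⟩, ⟨95, 0x1000041, 0x34d995badd6eb⟩, ⟨37, 0x7000, 0x113add6eb754321⟩], 0x2016001⟩, 
  ⟨57, 20, [⟨60, 0x1001007000, 0x51452592c964b14⟩, ⟨52, 0x1003007000, 0xec964b1485b329⟩, ⟨37, 0x4014002, 0xd34d450c2cb2db⟩], 0x1016001⟩, 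
  ⟨57, 46, [⟨53, 0x5001, 0x76496495976430c⟩, ⟨84, 2, 0x2292c964b25864⟩, ⟨37, 0x1001019002, 0x228a269b30c861⟩], 0x2016001⟩, 
  ⟨57, 47, [⟨50, 0x1009001, 0x2289a6a26cc30b2cb⟩, ⟨24, 0, 0x44ec92c85d90badb⟩, ⟨37, 0x16003, 0x1451369a86165b30c⟩], 0x4016001⟩, 
  ⟨58, 0, [⟨56, 0x7000, 0x8a430b6cc859⟩, ⟨75, 0x1013001, 0x9132cb65b2d9⟩, ⟨96, 25, 0x4cb659861⟩], 0x2018001⟩, 
  ⟨58, 1, [⟨61, 0x100400f001, 0x26a591369bb2592c⟩, ⟨75, 0x19000, 0x1143216cb659⟩, ⟨96, 4124, 0x4d355badd6e9859⟩], 0x3004001⟩, 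
  ⟨58, 2, [⟨58, 0x2018001, 0x8a269a6cc32185b⟩, ⟨86, 0x4002, 0x24b24adba99759⟩, ⟨96, 0x1000005, 0x2296275d965759⟩], 0x3004001⟩, 
  ⟨58, 3, [⟨60, 0x3009001, 0xa56ac96291365b74c⟩, ⟨59, 0x3011001, 0xa28a4522861659864⟩, ⟨96, 92, 0x1b4cb659861⟩], 0x2018001⟩, 
  ⟨58, 4, [⟨52, 0x2016000, 0x26d34d990c864⟩, ⟨38, 0, 0x6cc85990c⟩, ⟨96, 0, 0x296275d965759⟩], 0x3004001⟩, 
  ⟨58, 5, [⟨59, 0x12001, 0x245242db2cc861⟩, ⟨94, 4146, 0x56eb75bb142db⟩, ⟨96, 21, 0x1490b659861⟩], 0x2018001⟩, 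
  ⟨58, 6, [⟨54, 0x1008000, 0x6a26da90c2d9⟩, ⟨38, 0x3005000, 0x15964ada6eb6ebb14⟩, ⟨96, 0x1000087, 0x1244cb659861⟩], 0x2018001⟩, 
  ⟨58, 7, [⟨59, 0x3006001, 0x229226996cc85b⟩, ⟨98, 23, 0x6d351489b2cc30c⟩, ⟨96, 4142, 0xda6cb659861⟩], 0x2018001⟩, 
  ⟨58, 9, [⟨61, 0x300e001, 0xd351452190c321⟩, ⟨75, 0x1003001, 0x275badaad332530b⟩, ⟨96, 0x1001006, 0x8a45228996cc861⟩], 0x3004001⟩]

/-- base loops -/
def base3 : List BaseE := [
  ⟨58, 10, [⟨60, 0x1001003001, 0x4d3b2c50baeb765⟩, ⟨59, 0x1014001, 0xd490c30b659⟩, ⟨96, 122, 0x26d32cb659861⟩], 0x2018001⟩, 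
  ⟨58, 11, [⟨53, 0x1000014000, 0xd48a26996cc30b⟩, ⟨75, 0x8000, 0x1b5228a190c864⟩, ⟨96, 19, 0x290b659861⟩], 0x2018001⟩, 
  ⟨58, 12, [⟨60, 0x1004005001, 0x9a69b4d96cc321⟩, ⟨59, 0x100d001, 0x226ebb2caeb329⟩, ⟨96, 0x100005d, 0x6a28a452165b2d9⟩], 0x3004001⟩, 
  ⟨58, 13, [⟨58, 0x1004014001, 0xcb6cb659⟩, ⟨75, 0x100d002, 0x4eb75badd6a16d9⟩, ⟨96, 0x100102c, 0x3b2bad4b0bae9⟩], 0x3004001⟩, 
  ⟨58, 14, [⟨58, 0x5001, 0x55b513add6cb764⟩, ⟨75, 0x1007003, 0x4b2bada8a165bad9⟩, ⟨96, 0x100002d, 0x6a2861659861⟩], 0x2018001⟩, 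
  ⟨58, 15, [⟨61, 0x100400b001, 0x351491332185b⟩, ⟨83, 0x1000001, 0x51369b50c86430c⟩, ⟨96, 0x1001098, 0xa4864321861⟩], 0x2018001⟩, 
  ⟨58, 18, [⟨61, 0x14001, 0x3aeb6a594cb2530c⟩, ⟨75, 0x100c001, 0xad48a275badd864⟩, ⟨96, 52, 0x149132cb659861⟩], 0x2018001⟩, 
  ⟨58, 20, [⟨51, 0x1000016000, 0x762b24aea90c965⟩, ⟨59, 0x3000, 0x3564b2530c2dd⟩, ⟨96, 0x1000043, 0x1bb2bad4b0bae9⟩], 0x3004001⟩, 
  ⟨58, 21, [⟨57, 0x4000, 0xda8642d9859⟩, ⟨75, 0x100d000, 0xda9145216cc864⟩, ⟨96, 33, 0x451589a6eb6ec89d⟩], 0x3004001⟩, 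
  ⟨58, 22, [⟨59, 0x1002000001, 0x26ac964b258642db⟩, ⟨94, 4127, 0x292292289966190b⟩, ⟨96, 4146, 0x2595b50b6ec95b⟩], 0x3004001⟩, 
  ⟨58, 24, [⟨60, 0x4011001, 0x229226d365b2cb⟩, ⟨59, 0x100300c001, 0x4b245642d96e9764⟩, ⟨96, 4226, 0xda90b659861⟩], 0x2018001⟩, 
  ⟨58, 25, [⟨59, 0x1004011001, 0x58ab69baebadbb0b⟩, ⟨98, 38, 0x45226d36a430b2d9⟩, ⟨96, 0x1000015, 0x9a8a452165b2d9⟩], 0x3004001⟩, 
  ⟨58, 26, [⟨58, 0x100d001, 0xdd6ec9142e9759⟩, ⟨86, 0x1002002, 0x289a69b659659⟩, ⟨96, 73, 0x9a861659861⟩], 0x2018001⟩, 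
  ⟨58, 29, [⟨60, 0x1017001, 0x48a42cc8596cc⟩, ⟨59, 0x100000f001, 0x1369b4da90c30c864⟩, ⟨96, 0x100001c, 0xd432185b661⟩], 0x2018001⟩, 
  ⟨58, 34, [⟨58, 0x2010001, 0x1492c914b0b65baeb⟩, ⟨75, 0x5003, 0x9a8a450c2db30b⟩, ⟨96, 0x1001024, 0x5244d4913659861⟩], 0x2018001⟩, 
  ⟨58, 36, [⟨54, 0x1002004000, 0x964b24521929761⟩, ⟨38, 0x5003, 0x1bb245256a4325959⟩, ⟨96, 82, 0x8aca6575d94b⟩], 0x3004001⟩, 
  ⟨58, 40, [⟨61, 0x3005001, 0x9b2cb321864⟩, ⟨83, 0x100c000, 0x91451489b661659⟩, ⟨96, 4149, 0x145245144cb30c861⟩], 0x3004001⟩, 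
  ⟨58, 41, [⟨59, 0x1002003001, 0x1a6a452165b65b⟩, ⟨94, 126, 0xd45228a165b2cb⟩, ⟨96, 0x100107d, 0xda6d48a16cb664⟩], 0x3004001⟩, 
  ⟨58, 44, [⟨51, 0x100d000, 0x89a6d44d9864321⟩, ⟨59, 0x1004000, 0x45136a290b6596cb⟩, ⟨96, 0x100108f, 0x44d491452165b2cc⟩], 0x3004001⟩, 
  ⟨58, 48, [⟨57, 0x3000, 0x1b4da6d48616cc⟩, ⟨86, 0x1010000, 0x145136a165b2d9⟩, ⟨96, 0x1001072, 0x1a6d34db30c85b⟩], 0x2018001⟩, 
  ⟨58, 49, [⟨53, 0x1003009000, 0x2489b32b75badd⟩, ⟨83, 0x1002001, 0x1495d6d36a4325964⟩, ⟨96, 0x1001069, 0x1244da913659664⟩], 0x2018001⟩, 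
  ⟨59, 0, [⟨57, 0xe000, 0xa29134d32d9664321⟩, ⟨91, 0x19003, 0x1134d36a190c2d9⟩, ⟨72, 0x1006000, 0x13659661864⟩], 0x1001007000⟩, 
  ⟨59, 1, [⟨59, 0x1002006001, 0x22b132eb75ba64⟩, ⟨92, 73, 0x245229136cb30c⟩, ⟨72, 0x1b001, 0x1369a6d48616cc2db⟩], 0x1000007000⟩, 
  ⟨59, 2, [⟨60, 0x1000000001, 0x289a6a18596d9⟩, ⟨61, 0x1003004001, 0x52596296586594c⟩, ⟨72, 0x12002, 0xa4859661864⟩], 0x1001007000⟩, 
  ⟨59, 3, [⟨58, 0x10001, 0x9226ab75badd30c⟩, ⟨76, 0x12002, 0x1148ac95b2dd929⟩, ⟨72, 0x6000, 0x9b55b4d430c965329⟩], 0x1000007000⟩, 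
  ⟨59, 4, [⟨55, 0xc000, 0x15d6d36a585b74c⟩, ⟨61, 0x100200f001, 0xb2db321⟩, ⟨72, 0x1c002, 0x6a4859661864⟩], 0x1001007000⟩, 
  ⟨59, 6, [⟨57, 0x1004003000, 0x1a6a48a432165b⟩, ⟨89, 0xb001, 0x6d369a91430b2d9⟩, ⟨72, 0xf002, 0x1369a8a285966190b⟩], 0x1000007000⟩, 
  ⟨59, 7, [⟨61, 0x1003014001, 0x75a8a4adbad995b⟩, ⟨89, 0x1012000, 0x69a6d3add6eb753⟩, ⟨72, 0x5003, 0x36a4859661864⟩], 0x1001007000⟩, 
  ⟨59, 8, [⟨59, 0x100200e001, 0x44d36996d985b⟩, ⟨97, 0x100002d, 0x1d914adaacb6cb764⟩, ⟨72, 0x9001, 0x5226d352165b30c⟩], 0x1000007000⟩, 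
  ⟨59, 10, [⟨61, 0x100300b001, 0x158ac524ad4b256e9⟩, ⟨90, 0x1006000, 0x2913aeb6a594cb25⟩, ⟨72, 0x100d003, 0x592591592cb0c94c⟩], 0x1000007000⟩, 
  ⟨59, 11, [⟨50, 0x1000014000, 0x2ada6ec92cb256e9⟩, ⟨22, 0x4005010001, 0x276455d92c525929⟩, ⟨72, 0x1004003, 0x144da6d3a5badd6e9⟩], 0x1000007000⟩, 
  ⟨59, 12, [⟨61, 0x1018001, 0x92c9658a5964ad9⟩, ⟨91, 4099, 0x148a2b2cadd75b759⟩, ⟨72, 0x1010000, 0x12c8a2ad332ca656eb⟩], 0x1000007000⟩, 
  ⟨59, 13, [⟨59, 0x1000009001, 0x69bad495992b6ec⟩, ⟨97, 0x1001024, 0x289b2cb321861⟩, ⟨72, 0x100c001, 0x248a4859661864⟩], 0x1001007000⟩, 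
  ⟨59, 14, [⟨58, 0x7001, 0x145134da65990c2cb⟩, ⟨63, 4099, 0x14564b2592a85b321⟩, ⟨72, 0x1002000, 0x35226d352165b30c⟩], 0x1000007000⟩, 
  ⟨59, 15, [⟨54, 0x1000014000, 0xda6d489b32190b⟩, ⟨36, 0x101b002, 0xd48a26d32d9659⟩, ⟨72, 0x8003, 0x134d35148616cb30c⟩], 0x1000007000⟩, 
  ⟨59, 16, [⟨61, 0x1001001001, 0x642cb2db⟩, ⟨88, 0x11001, 0x1a8a26996cb30c⟩, ⟨72, 0x8000, 0x6a289b4cc8616d9⟩], 0x1000007000⟩, 
  ⟨59, 17, [⟨58, 0x100400b001, 0x1a6d489b2cb664⟩, ⟨77, 0x1011003, 0x56abaeb52185d6eb⟩, ⟨72, 0x1019003, 0x51452450c861864⟩], 0x1001007000⟩, 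
  ⟨59, 18, [⟨61, 0x100200f001, 0x22922861659661⟩, ⟨81, 0x1002002, 0x8a291369990b30c⟩, ⟨72, 0x1002002, 0x289a6d48616cc2db⟩], 0x1000007000⟩, 
  ⟨59, 19, [⟨59, 0x100400f001, 0x375a8a4adba61961⟩, ⟨92, 0x1000003, 0x6d48a26d42cb661⟩, ⟨72, 0x100c000, 0xda6d3a9badd6e9⟩], 0x1000007000⟩, 
  ⟨59, 20, [⟨58, 0x1003016001, 0x91369a6a190c861⟩, ⟨76, 0x1002002, 0x114b24b2c95d75a⟩, ⟨72, 0xa000, 0x48a4859661864⟩], 0x1001007000⟩, 
  ⟨59, 24, [⟨60, 0x1001001001, 0x9228a44db2d985b⟩, ⟨58, 0x100a001, 0xa44d48a165b2cb⟩, ⟨72, 0x1014000, 0x145134d330c2db2cb⟩], 0x1000007000⟩, 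
  ⟨59, 25, [⟨60, 0x100d001, 0x35226d369986190c⟩, ⟨61, 0x1002008001, 0x4b2c962b2596532b⟩, ⟨72, 0x5002, 0x76496485992b6ec⟩], 0x1000007000⟩, 
  ⟨59, 26, [⟨59, 0x300c001, 0x34da6a42db2d9⟩, ⟨97, 0x100102c, 0xa26d34cc32185b⟩, ⟨72, 0xb000, 0x6d332165b30c⟩], 0x1000007000⟩, 
  ⟨59, 27, [⟨58, 0x100400f001, 0xa29136996d9859⟩, ⟨77, 0x1b003, 0x5134da90c2d985b⟩, ⟨72, 0x16003, 0x29226d3699661864⟩], 0x1001007000⟩, 
  ⟨59, 29, [⟨54, 0x5000, 0x9142d965b661⟩, ⟨41, 0xb003, 0x229149132d965b⟩, ⟨72, 0xe001, 0x16456265baeba5d⟩], 0x1000007000⟩, 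
  ⟨59, 30, [⟨53, 0x1003004000, 0x89a6d350c2cb6cc⟩, ⟨89, 0x1007000, 0x33216d96cc⟩, ⟨72, 0xe003, 0x227649643256cb32c⟩], 0x1000007000⟩, 
  ⟨59, 35, [⟨60, 0x1002016001, 0x26a2b2592c4cb665⟩, ⟨56, 0x4000, 0x89a9148596cb⟩, ⟨72, 0x17002, 0x45226d34cc8616cb⟩], 0x1000007000⟩, 
  ⟨59, 38, [⟨60, 0x3010001, 0x55a8a4b2275b32c⟩, ⟨58, 0x400f001, 0x289b4db2cc864⟩, ⟨72, 0x1a000, 0x1a92269a6cc86190b⟩], 0x1000007000⟩, 
  ⟨59, 40, [⟨53, 0x100300c000, 0x34d48a43216cc⟩, ⟨91, 0x1001003, 0x5142cb2cc321⟩, ⟨72, 0x100a000, 0x9a91450b6cc321⟩], 0x1001007000⟩, 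
  ⟨59, 42, [⟨51, 0x7000, 0xda69b52185b65b⟩, ⟨53, 0x1000010001, 0x592589badbb2c94b⟩, ⟨72, 0x101c003, 0x4cc30b2cc⟩], 0x1001007000⟩, 
  ⟨59, 46, [⟨51, 0x13000, 0x12592cb14b2c94b⟩, ⟨58, 0x4013000, 0x48a26d34d96642cb⟩, ⟨72, 0x1007001, 0xd3514521659864⟩], 0x1000007000⟩, 
  ⟨60, 0, [⟨55, 0x1003004000, 0x256eb75990ca59⟩, ⟨57, 0x1002000000, 0x1149142cb321859⟩, ⟨66, 0x1014003, 0x2289a6a290b321659⟩], 0x2008000⟩, 
  ⟨60, 1, [⟨61, 0x1004000001, 0x8acaeb65b2cb6e9⟩, ⟨90, 8192, 0x34d36a450b65b30b⟩, ⟨66, 0x100a002, 0x289a6a290b321659⟩], 0x2008000⟩, 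
  ⟨60, 2, [⟨58, 0x4009001, 0x1369b4d350c2cb661⟩, ⟨91, 0x9000, 0x490b3216d9⟩, ⟨66, 0x1008000, 0x351452450b6616d9⟩], 0x2008000⟩, 
  ⟨60, 3, [⟨61, 0x16001, 0x452269b4d990c30c⟩, ⟨88, 0x100c000, 0x9142d9859664⟩, ⟨66, 0x11000, 0x26d3b24b2a9656e9⟩], 0x2008000⟩, 
  ⟨60, 4, [⟨53, 0x6000, 0x490b65b2d9⟩, ⟨78, 0x1007000, 0x4daadd6eb76185b⟩, ⟨66, 8195, 0x292b6a26dd6e96eb⟩], 0x2008000⟩, 
  ⟨60, 5, [⟨59, 0x100100b001, 0x2455d6d495baec95b⟩, ⟨93, 4157, 0x9a6a26d432165b2cb⟩, ⟨66, 0x1a001, 0xab75d9256d4adba61⟩], 0x2008000⟩, 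
  ⟨60, 6, [⟨56, 0xe000, 0x6a29148a4321861⟩, ⟨88, 0x6000, 0xd4564b2592b2d9⟩, ⟨66, 0x18000, 0xd35136a18642cb⟩], 0x1004008000⟩, 
  ⟨60, 8, [⟨58, 0x400f001, 0x256d56cb321965⟩, ⟨89, 0x1008003, 0xd369a6a190c861⟩, ⟨66, 0x100d003, 0xda6618642cb⟩], 0x1004008000⟩, 
  ⟨60, 10, [⟨61, 0x1001001, 0x28a292290c3216cc⟩, ⟨77, 0x101c001, 0x289baec8596dd6eb⟩, ⟨66, 0x19002, 0x22922914321664⟩], 0x2008000⟩, 
  ⟨60, 11, [⟨57, 0x1002004000, 0x492c91432196532b⟩, ⟨76, 0x7001, 0x29134da90c8642cc⟩, ⟨66, 0x8000, 0x1a69a914899861859⟩], 0x2008000⟩, 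
  ⟨60, 12, [⟨58, 0x300d001, 0x229142cb2cc30b⟩, ⟨88, 0x100a002, 0xa269b4cc8596d9⟩, ⟨66, 0, 0x89b4da6a18596d9⟩], 0x1004008000⟩, 
  ⟨60, 15, [⟨52, 0x3000, 0x5144da6596cc864⟩, ⟨41, 0x3015000, 0x248a29136cb659⟩, ⟨66, 0x19000, 0xa5922913ad36eb65d⟩], 0x2008000⟩, 
  ⟨60, 18, [⟨61, 0x2018001, 0xa5922ada91494cad9⟩, ⟨77, 0x101a001, 0x591365bb2592c⟩, ⟨66, 0x1d002, 0x26a292290c321664⟩], 0x2008000⟩, 
  ⟨60, 19, [⟨60, 0x100000d001, 0x1145148a42d9859⟩, ⟨58, 0x1001008001, 0x491369a914861859⟩, ⟨66, 0x1002001, 0xacada6eb6a4add665⟩], 0x2008000⟩, 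
  ⟨60, 20, [⟨61, 0x7001, 0x575bad56ebaeb32b⟩, ⟨77, 0x1008000, 0x9a91450b2d96cb⟩, ⟨66, 8195, 0x451452450b6616d9⟩], 0x2008000⟩, 
  ⟨60, 21, [⟨60, 0x100200e001, 0xb2295ba596d96ec⟩, ⟨61, 0x1006001, 0x2186165b⟩, ⟨66, 0x16003, 0x1142cc8642cb⟩], 0x1004008000⟩, 
  ⟨60, 23, [⟨59, 0x4002001, 0x45135226d985b30b⟩, ⟨93, 0x100109a, 0x44dd92265d65ba5d⟩, ⟨66, 8193, 0x5144d96cb2db⟩], 0x1004008000⟩, 
  ⟨60, 24, [⟨59, 0x1000012001, 0x58a4b2296589bb25⟩, ⟨97, 19, 0x244da6a44cb6cb2cc⟩, ⟨66, 0x1007001, 0x8a29136596d9⟩], 0x1004008000⟩, 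
  ⟨60, 25, [⟨60, 0x1000012001, 0x69a6d34d990c2d9⟩, ⟨58, 0x3011001, 0x452c9658a5964a59⟩, ⟨66, 0x3001, 0x8a289a66432190b⟩], 0x1004008000⟩, 
  ⟨60, 27, [⟨58, 0x100000a001, 0x369b30c8616cc⟩, ⟨90, 0x4003, 0xa275b52c92ca9bae9⟩, ⟨66, 0x101c003, 0xa289a90b65b2cb⟩], 0x1004008000⟩, 
  ⟨60, 28, [⟨58, 0x4008001, 0x2cb2450cb2cb2b⟩, ⟨68, 0x3001, 0x26a29132d9859⟩, ⟨66, 0x3000, 0x5136ac964b258a4⟩], 0x1004008000⟩, 
  ⟨60, 29, [⟨52, 0xd000, 0x9b4d592cb14b2c964⟩, ⟨41, 0x1003013003, 0xd352291330c30b⟩, ⟨66, 0x1c001, 0x45242cb2d9864⟩], 0x1004008000⟩, 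
  ⟨60, 31, [⟨59, 0x16001, 0x44d34cb6642db⟩, ⟨97, 0x1001006, 0x45145216cb6cc⟩, ⟨66, 0x1014000, 0x134da964b2c52cb25⟩], 0x2008000⟩, 
  ⟨60, 32, [⟨60, 0x1000013001, 0x375d6d3754b2532b⟩, ⟨56, 0x5000, 0x2b50cb2592c⟩, ⟨66, 4099, 0x6a489a913321859⟩], 0x1004008000⟩, 
  ⟨60, 38, [⟨59, 0x1003014001, 0xec9132d992ca65⟩, ⟨97, 0x1000034, 0xd48a26996cc321⟩, ⟨66, 0x4000, 0xb2592bada96194c⟩], 0x1004008000⟩, 
  ⟨60, 40, [⟨50, 0x1002004000, 0x4da6d332190c⟩, ⟨22, 0x100200101a001, 0x1132cb65b2d9⟩, ⟨66, 0x4002, 0x89a9144cb6596cb⟩], 0x2008000⟩, 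
  ⟨60, 42, [⟨56, 0x1003004000, 0xd34da6a18642cb⟩, ⟨90, 0xa001, 0x5648a2914b2994c⟩, ⟨66, 0x16003, 0x90c321664⟩], 0x2008000⟩, 
  ⟨60, 43, [⟨50, 0x16000, 0x45226d36a1659664⟩, ⟨20, 0, 0x256eb75baa1⟩, ⟨66, 0x3000, 0x5149144d98642cb⟩], 0x1004008000⟩, 
  ⟨60, 44, [⟨60, 0x1008001, 0xda9229132d9664⟩, ⟨61, 0x400e001, 0x51489b4cb30c864⟩, ⟨66, 0x19003, 0x144d48a42cc859⟩], 0x1004008000⟩, 
  ⟨60, 49, [⟨55, 0xa000, 0xa485990b2cb⟩, ⟨58, 0x3007001, 0x764b259298642cb⟩, ⟨66, 0x1005001, 0x9baebada74bacb74c⟩], 0x2008000⟩, 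
  ⟨61, 0, [⟨56, 0x1000016000, 0x45148a190b664⟩, ⟨72, 0x100d002, 0x5136a290b6cb2d9⟩, ⟨60, 0x4001, 0x4cc859861⟩], 0x4000000⟩, 
  ⟨61, 1, [⟨51, 0x1002015000, 0x5226d36a16cb321⟩, ⟨51, 1, 0x5149144eb75badd⟩, ⟨60, 0x1001008000, 0x34d351365b6616d9⟩], 0x100400b000⟩, 
  ⟨61, 2, [⟨55, 0x16000, 0x275ab2575d961⟩, ⟨60, 0x100000d001, 0x29135228642d990b⟩, ⟨60, 0x100200d001, 0x26cc859861⟩], 0x4000000⟩, 
  ⟨61, 3, [⟨58, 0x400e001, 0x36616d96d9⟩, ⟨72, 0x1006000, 0x489a6d489b2d9861⟩, ⟨60, 0xe001, 0x1b4cc859861⟩], 0x4000000⟩, 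
  ⟨61, 4, [⟨58, 0x1003008001, 0x4adaadd6d985bad9⟩, ⟨66, 0x1002001, 0x2452430b65b30b⟩, ⟨60, 0x100000d001, 0x134da94b75badd⟩], 0x100400b000⟩, 
  ⟨61, 5, [⟨50, 0x100d000, 0xd36a44cb6642db⟩, ⟨23, 0x100300201f001, 0x4964b2592a864⟩, ⟨60, 0x1002004000, 0x1a6d34db30c85b⟩], 0x100400b000⟩, 
  ⟨61, 6, [⟨59, 0x9001, 0x24514859659861⟩, ⟨96, 0x100005d, 0x8a175badd6eb⟩, ⟨60, 0x4005000, 0x12285990b321⟩], 0x4000000⟩, 
  ⟨61, 7, [⟨59, 0x2010001, 0xa452289b2cc321⟩, ⟨96, 122, 0x2b2cada6cc32cb29⟩, ⟨60, 0x1000014000, 0x1228616cc321⟩], 0x4000000⟩, 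
  ⟨61, 8, [⟨52, 0x1006000, 0x56a489bad9961961⟩, ⟨37, 0x7002, 0x289b4d48642cb6cc⟩, ⟨60, 0x100400f001, 0x51369b4d966190b⟩], 0x100400b000⟩, 
  ⟨61, 9, [⟨59, 0x100100c001, 0x1355d6ecb0cb29965⟩, ⟨96, 4226, 0x156a4ada75bb2552c⟩, ⟨60, 0x200e000, 0xda6d34db30c85b⟩], 0x100400b000⟩, 
  ⟨61, 10, [⟨60, 0x1003013001, 0x369a9144cb65965b⟩, ⟨60, 0x1004003001, 0x369a6d48a185b2cb⟩, ⟨60, 0x1004008001, 0x6a28a489b2cc861⟩], 0x100400b000⟩, 
  ⟨61, 11, [⟨58, 0x1002012001, 0x2291489b2cc864⟩, ⟨72, 0x1a000, 0x4d430b2d9661⟩, ⟨60, 0x4003001, 0xa289a65b6616d9⟩], 0x100400b000⟩, 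
  ⟨61, 12, [⟨60, 0x3010001, 0x4da95ba9bad96eb⟩, ⟨55, 0, 0x6a432190b2cb⟩, ⟨60, 0x100200b001, 0x2285990b321⟩], 0x4000000⟩, 
  ⟨61, 13, [⟨61, 0x1000011001, 0x2451369b2cb2db⟩, ⟨72, 0x1005002, 0x9d6d56ec864b21⟩, ⟨60, 0x2001001, 0x228616cc321⟩], 0x4000000⟩, 
  ⟨61, 14, [⟨59, 0x3015001, 0x495d9258a4add75b⟩, ⟨96, 0x100005c, 0x291452290c30c85b⟩, ⟨60, 0x4017000, 0x4d45226d98642cb⟩], 0x100400b000⟩, 
  ⟨61, 16, [⟨61, 0x100f001, 0x69a69b4d966430b⟩, ⟨66, 0x1019003, 0xa26d452185b321⟩, ⟨60, 0x1000014001, 0x2489b2d96cc321⟩], 0x100400b000⟩, 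
  ⟨61, 18, [⟨58, 0x200f001, 0xa26a450b2d96d9⟩, ⟨71, 0x1011001, 0x269a6a290c30b2cc⟩, ⟨60, 0x1002006000, 0x514859661861⟩], 0x4000000⟩, 
  ⟨61, 21, [⟨58, 0x2011001, 0x69a6da6cb2d9⟩, ⟨66, 0x3001, 0x296489d914a596e9⟩, ⟨60, 0x100200b001, 0x134d34db30c861⟩], 0x4000000⟩, 
  ⟨61, 22, [⟨52, 0xc000, 0x91369a6a16cc321⟩, ⟨34, 0x101f001, 0x24b2cb2c3256d992b⟩, ⟨60, 0x1000011000, 0x8a485b321861⟩], 0x4000000⟩, 
  ⟨61, 26, [⟨55, 0x6000, 0x4da6d48616cc⟩, ⟨60, 1, 0x1badaadd6cb75b⟩, ⟨60, 0xe001, 0x26a289b659861⟩], 0x4000000⟩, 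
  ⟨61, 28, [⟨59, 0x3011001, 0x52430b65b2cc⟩, ⟨96, 0x100001c, 0x15a6d43256e96eb⟩, ⟨60, 0x1002012000, 0x2289d92c96185d⟩], 0x100400b000⟩, 
  ⟨61, 30, [⟨60, 0x13001, 0x15d92c92b69b765⟩, ⟨60, 0x4013001, 0x34d56abad36596dd⟩, ⟨60, 0x4013001, 0xa45144d985965b⟩], 0x4000000⟩, 
  ⟨61, 31, [⟨61, 0x1004006001, 0x245228a48a430c30b⟩, ⟨66, 0x16003, 0x452269b4db321661⟩, ⟨60, 0x1000008001, 0x1b514859661861⟩], 0x4000000⟩, 
  ⟨61, 34, [⟨60, 0x1000002001, 0x24add91495bacb⟩, ⟨60, 0x1003015001, 0x2add6eb4cca64⟩, ⟨60, 0x1002002001, 0x9144d4914321659⟩], 0x100400b000⟩, 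
  ⟨61, 35, [⟨61, 0x1001004001, 0x35148a44d96596cb⟩, ⟨72, 0x12002, 0x44d369b4d96cc2d9⟩, ⟨60, 0x1010001, 0x136ac95b2dd929⟩], 0x100400b000⟩, 
  ⟨61, 36, [⟨60, 0x100000d001, 0x34d9659661⟩, ⟨55, 0x4008000, 0x9aada6ac50b75d321⟩, ⟨60, 0x3015001, 0x52430b2cb6cb⟩], 0x100400b000⟩, 
  ⟨61, 37, [⟨56, 0x1003004000, 0x1245228a42d990b⟩, ⟨66, 0xf003, 0x1256ec91365d2e9⟩, ⟨60, 8193, 0x56ec9142e974b⟩], 0x4000000⟩, 
  ⟨61, 44, [⟨61, 0x1001013001, 0x245156ebacbaeb761⟩, ⟨71, 8195, 0x2c89ba5badd659⟩, ⟨60, 0x5000, 0x29228a452190b321⟩], 0x4000000⟩, 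
  ⟨61, 45, [⟨50, 4096, 0x165914953add665⟩, ⟨23, 0x13001, 0xa29134d365986185b⟩, ⟨60, 0x3012000, 0x576595d2eb⟩], 0x100400b000⟩, 
  ⟨61, 48, [⟨54, 0xc000, 0x12290c2cb2d9⟩, ⟨34, 0x7002, 0x51369d6ec8a4add⟩, ⟨60, 0x1015000, 0x4d49134cc30b6cb⟩], 0x100400b000⟩, 
  ⟨62, 0, [⟨62, 4099, 0x2269a8a165b2cb⟩, ⟨31, 1, 0x228a269b2cc859⟩, ⟨20, 0x21001, 1291⟩], 0x100a000⟩, 
  ⟨62, 1, [⟨73, 0, 0⟩, ⟨26, 5, 0x5149134d990b661⟩, ⟨20, 0, 0x28a48996cc85b⟩], 0x4000⟩, 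
  ⟨62, 2, [⟨81, 0, 0⟩, ⟨64, 0, 0x455d6d495baec95b⟩, ⟨20, 0x2005010001, 0xda6cb30c2cb⟩], 0x17000⟩, 
  ⟨62, 3, [⟨66, 4096, 0x1985b30b⟩, ⟨50, 0x13000, 0x5226a450b2d990c⟩, ⟨20, 0x200401b000, 0x132cc85990c⟩], 0x1002000⟩, 
  ⟨62, 4, [⟨70, 0x1007001, 0x2291369b50c85b30b⟩, ⟨40, 1, 0x36a291332165b⟩, ⟨20, 0x1004002020001, 0x4d42d9861659⟩], 0x1017000⟩, 
  ⟨62, 5, [⟨78, 8194, 0x1575a6a596195d⟩, ⟨67, 4099, 0x51489b5216cb659⟩, ⟨20, 0x17000, 0x48a29144db30b2cc⟩], 0x1001000⟩, 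
  ⟨62, 48, [⟨63, 2, 0x1b4d36a16d9664⟩, ⟨65, 2, 0x491432185b661⟩, ⟨20, 1, 0x26d48a165b2db⟩], 0x1013000⟩, 
  ⟨63, 0, [⟨64, 4099, 0x1a8a269986430c⟩, ⟨13, 0, 0x289a6a18596cb⟩, ⟨21, 0, 0x1a8a269986430c⟩], 0x1013000⟩, 
  ⟨63, 1, [⟨68, 0, 0⟩, ⟨65, 2, 0x4da8a26642db30c⟩, ⟨21, 0x12001, 0x89b51489966190c⟩], 0x1009000⟩, 
  ⟨63, 2, [⟨84, 0, 0⟩, ⟨30, 3, 0x275b52292b75bad4⟩, ⟨21, 0x4005001001, 0x4522964b2592c2cc⟩], 0x101c000⟩, 
  ⟨63, 3, [⟨67, 0x1002000, 0x33216d96cc⟩, ⟨16, 0xb000, 0x6a42d9659864⟩, ⟨21, 0x3001, 0x32d96d990b⟩], 0x1002000⟩, 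
  ⟨63, 4, [⟨69, 0, 0⟩, ⟨50, 1, 0x89b4d450b2cb664⟩, ⟨21, 0x5001000, 0x51489b4cb66430c⟩], 0x19000⟩, 
  ⟨63, 5, [⟨77, 0x1003003, 0x135228a486430c864⟩, ⟨67, 8195, 0x26abb2cadd52b⟩, ⟨21, 0x1001000029000, 0x26cb321659⟩], 4096⟩, 
  ⟨63, 48, [⟨62, 2, 0xa289a90b2d96cb⟩, ⟨40, 0x6001, 0x28a269a85b659659⟩, ⟨21, 1, 0x52432185b321⟩], 0x1d000⟩, 
  ⟨64, 0, [⟨63, 4099, 0x1a8a269986430c⟩, ⟨82, 0, 0x45134d365b30c864⟩, ⟨63, 0, 0x9a6a489b30b2cc⟩], 0x100a000⟩, 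
  ⟨64, 1, [⟨85, 0, 0⟩, ⟨99, 0x100300142f, 0x1b565913acb2ecb25⟩, ⟨63, 0, 0x56d59644eb2cbb2c⟩], 0x1007000⟩, 
  ⟨64, 2, [⟨82, 0, 0⟩, ⟨63, 0, 153⟩, ⟨63, 4099, 0x5148a452190c30c⟩], 0x1004000⟩]

/-- base loops -/
def base4 : List BaseE := [
  ⟨64, 3, [⟨80, 0x1007000, 0x4d351485b65b30b⟩, ⟨57, 0xf001, 0x522b2292c85badd⟩, ⟨63, 0, 0xdd76595d665⟩], 0xd000⟩, 
  ⟨64, 4, [⟨69, 0x1007001, 0x92bad450c964b0b⟩, ⟨53, 0x7001, 0x34d44da86190b664⟩, ⟨63, 0, 0x4d351595d764a5d⟩], 0x11000⟩, 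
  ⟨64, 5, [⟨72, 4096, 0x1985b30b⟩, ⟨58, 0x1000013001, 0xb256ebb296ec⟩, ⟨63, 4099, 0x489a6d489b2cc861⟩], 0x100f000⟩, 
  ⟨64, 48, [⟨65, 2, 0xa289a90b2d96cb⟩, ⟨20, 1, 0x6d332165b30c⟩, ⟨63, 2, 0x122b13aecb2ba64⟩], 0x101d000⟩, 
  ⟨65, 0, [⟨65, 4099, 0x2269a8a165b2cb⟩, ⟨24, 0xe001, 0x9149144d98642db⟩, ⟨39, 8194, 0x4962b24aea90c965⟩], 0x3000⟩, 
  ⟨65, 1, [⟨87, 0, 0⟩, ⟨32, 0, 0x148616596d9⟩, ⟨39, 2, 0x2485b2cb65b⟩], 0x1012000⟩, 
  ⟨65, 2, [⟨74, 0, 0⟩, ⟨62, 0, 0xd965b30b⟩, ⟨39, 0x1021002, 0x2452289b2cc85b⟩], 0x6000⟩, 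
  ⟨65, 3, [⟨75, 0x1005002, 0x8a291450b2d965b⟩, ⟨95, 126, 0x9226d45216cb65b⟩, ⟨39, 0x8001, 0x489b2cc8616cb⟩], 0x100f000⟩, 
  ⟨65, 4, [⟨70, 0, 0x659861⟩, ⟨35, 0x8000, 0x9226cc2cb30c⟩, ⟨39, 0x4003, 0x9134da9132d9659⟩], 0x1009000⟩, 
  ⟨65, 5, [⟨71, 0x1002000, 0x9a9136cb661⟩, ⟨54, 0x4001, 0x89a6d485b2d9⟩, ⟨39, 0x8000, 0x164b244cc964329⟩], 0x1018000⟩, 
  ⟨65, 48, [⟨64, 2, 0x1b4d36a16d9664⟩, ⟨17, 1, 0x964513a996dd75b⟩, ⟨39, 8192, 0x52269a6d990c2cb⟩], 0x1015000⟩, 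
  ⟨66, 0, [⟨62, 0, 4⟩, ⟨38, 0xc002, 0x248a28a44d98642d9⟩, ⟨97, 0x100107d, 0x26d48a26d966430c⟩], 0x1017003⟩, 
  ⟨66, 1, [⟨69, 3, 0x148a26d36616cb6cb⟩, ⟨59, 0x1002012000, 0x34d489990c85b⟩, ⟨97, 33, 0x69a89b50c3216cc⟩], 0x100d003⟩, 
  ⟨66, 2, [⟨78, 0x1001001, 0x292b55b2cc3296dd⟩, ⟨86, 0, 0xa269a6a1859661⟩, ⟨97, 0x1001069, 0x2964ada6ec9642cc⟩], 0x1017003⟩, 
  ⟨66, 3, [⟨80, 0x12002, 0x1a6642cc861⟩, ⟨59, 0x1009000, 0x9d91592c864b21⟩, ⟨97, 4124, 0x291352450c85b2cc⟩], 0x1017003⟩, 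
  ⟨66, 4, [⟨66, 0x1c002, 0x289bb2c95d30b75d⟩, ⟨59, 0x100200b001, 0x1369a6a1864321⟩, ⟨97, 19, 0x4d369b4cc86430c⟩], 0x1017003⟩, 
  ⟨66, 5, [⟨71, 8195, 0x5132cc30b2cb⟩, ⟨59, 0x7000, 0x289a69b2cb661⟩, ⟨97, 25, 0x564ada6ec9642cc⟩], 0x1017003⟩, 
  ⟨66, 6, [⟨77, 0x1001001, 0x44daaecb2b754adb⟩, ⟨86, 0x1010001, 0xd48616cc2cb⟩, ⟨97, 4149, 0x9144d350c3216cc⟩], 0x100d003⟩, 
  ⟨66, 7, [⟨90, 4096, 0x9d764add32cb0c⟩, ⟨75, 0x101c000, 0x589a6ebadd965⟩, ⟨97, 10, 0xa289b4d965b2cc⟩], 0x100d003⟩, 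
  ⟨66, 8, [⟨75, 0x4001, 0x26d592c964b0c85b⟩, ⟨98, 0x1000024, 0x26d36a44d965b2cc⟩, ⟨97, 0x1000054, 0xda6d35244d965b2cc⟩], 0x1017003⟩, 
  ⟨66, 9, [⟨88, 0, 0x1a6cb⟩, ⟨75, 8195, 0x12bada8652cb764⟩, ⟨97, 77, 0x28ab75badd50b2cc⟩], 0x100d003⟩, 
  ⟨66, 10, [⟨79, 0x1002000, 0x1569b32c964a5b⟩, ⟨38, 0x1003006001, 0x6cc8596cc⟩, ⟨97, 21, 0x1145134cc86430c⟩], 0x100d003⟩, 
  ⟨66, 11, [⟨77, 0x10001, 0x59149644dd6eb⟩, ⟨86, 8193, 0x26a289990c2d9⟩, ⟨97, 152, 0xda69b2cc859659⟩], 0x1017003⟩, 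
  ⟨66, 12, [⟨83, 0x1010001, 0x1b51369b32190c⟩, ⟨94, 0x1000006, 0x1375bb13ad975bb25⟩, ⟨97, 4169, 0x1144d350c3216cc⟩], 0x100d003⟩, 
  ⟨66, 13, [⟨72, 0x1003002, 0x1369b2d9859659⟩, ⟨59, 0x6001, 0x35136a450b65b30c⟩, ⟨97, 49, 0x28a452285b2d9664⟩], 0x1017003⟩, 
  ⟨66, 14, [⟨90, 0x1002000, 0x1575b2d990c965⟩, ⟨83, 0x1001001, 0x22add76494c32c325⟩, ⟨97, 4178, 0x12b75ba99664b21⟩], 0x100d003⟩, 
  ⟨66, 16, [⟨83, 0x1007001, 0x6ec964b25521⟩, ⟨94, 0x1000037, 0x9a8a26cb2d96cc⟩, ⟨97, 0x1000005, 0x352430c85b2cc⟩], 0x1017003⟩, 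
  ⟨66, 17, [⟨72, 0x11002, 0x569ab2c9658a4ad9⟩, ⟨59, 0x100400f001, 0x8a291369965b2cb⟩, ⟨97, 0x1001020, 0x36a29144d985b2d9⟩], 0x100d003⟩, 
  ⟨66, 18, [⟨88, 0x100c000, 0x51489b4cc8616cc⟩, ⟨83, 0x1007002, 0x451369b50b6cc859⟩, ⟨97, 4231, 0xada6abaeb32592c⟩], 0x100d003⟩, 
  ⟨66, 20, [⟨89, 0x1019001, 0x4adab2b75d90b764⟩, ⟨75, 0x1006000, 0x1648a595b6a5965⟩, ⟨97, 133, 0x149145226d986430c⟩], 0x1017003⟩, 
  ⟨66, 21, [⟨91, 0x8003, 0x451452452186190b⟩, ⟨75, 0x1008002, 0x1485990b321⟩, ⟨97, 100, 0x2b75ba99664b21⟩], 0x100d003⟩, 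
  ⟨66, 22, [⟨75, 0x1c001, 0x1a9229148616cb⟩, ⟨98, 0x1001020, 0x6abb2c8a16596dd⟩, ⟨97, 0x1000086, 0xa489a9132d9661⟩], 0x100d003⟩, 
  ⟨66, 23, [⟨66, 0x1006003, 0x2b134d375bacc2dd⟩, ⟨59, 0x4008001, 0x92265986430b⟩, ⟨97, 4102, 0x8a45134cb2d990c⟩], 0x1017003⟩, 
  ⟨66, 26, [⟨66, 0xf003, 0x29226d42d96cb⟩, ⟨59, 0x1003017001, 0x3b2289b50bae9759⟩, ⟨97, 0x1000034, 0x352c95b2dd92b⟩], 0x100d003⟩, 
  ⟨66, 27, [⟨90, 0x1007000, 0x89b2d96cc30c⟩, ⟨75, 0x1b001, 0x6d452269b30b2d9⟩, ⟨97, 110, 0x1228a269986185b⟩], 0x1017003⟩, 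
  ⟨66, 30, [⟨79, 0x4001, 0x8a26d350c85b2d9⟩, ⟨38, 0x4015001, 0x492b75badd50b⟩, ⟨97, 4146, 0xa5922aeb32ca5b764⟩], 0x1017003⟩, 
  ⟨66, 33, [⟨88, 0x14000, 0xa26d350c85b2cc⟩, ⟨75, 0x1013002, 0x352c964b252db⟩, ⟨97, 0x1000037, 0x11486190b30c⟩], 0x100d003⟩, 
  ⟨66, 46, [⟨77, 1, 0x1d9258a575bad96e9⟩, ⟨83, 0x1007000, 0x45134db32165b⟩, ⟨97, 0, 0xa28a48a190c30c⟩], 0x1017003⟩, 
  ⟨66, 47, [⟨86, 0x1011001, 0x28a48a26cc2db30b⟩, ⟨94, 0x100102c, 0x2ad3b22964add4ec⟩, ⟨97, 114, 0x52c8a265996585d⟩], 0x100d003⟩, 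
  ⟨66, 48, [⟨72, 0x101c003, 0x2c9134eb2dd2e9⟩, ⟨59, 0x100a001, 0x292592c964a5b⟩, ⟨97, 0x100102c, 0x1145136a165b30c⟩], 0x100d003⟩, 
  ⟨66, 49, [⟨74, 0x1002002, 0x8a26a450c85b2cc⟩, ⟨75, 0x11000, 0x26a45144cb30c2cb⟩, ⟨97, 159, 0x6a2964ad96ec961⟩], 0x100d003⟩, 
  ⟨67, 0, [⟨63, 0, 4⟩, ⟨69, 0x1001001, 0x491365986165b⟩, ⟨53, 0x7001, 0x244d35143216cc864⟩], 0x1d000⟩, 
  ⟨67, 1, [⟨70, 0x101b002, 0xd34da6a18596cb⟩, ⟨34, 4099, 0x8a26d369b30b2d9⟩, ⟨53, 1, 0x44d35143216cc864⟩], 0x1d000⟩, 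
  ⟨67, 2, [⟨72, 0x101c003, 3⟩, ⟨51, 0x13000, 0x6a4514914859861⟩, ⟨53, 0x10001, 0x9229136a430b6cc⟩], 0x1000000⟩, 
  ⟨67, 3, [⟨75, 0x19000, 0x34da8a44d965b30b⟩, ⟨96, 19, 0x9a69a90b30c2db⟩, ⟨53, 0x1002008001, 0x226cc2cb659⟩], 0x7000⟩, 
  ⟨67, 4, [⟨80, 0x3002, 0x2c5144eb75bacc⟩, ⟨48, 0, 0x352452291330c2d9⟩, ⟨53, 0x6000, 0x5135244d98596cc⟩], 0x13000⟩, 
  ⟨67, 5, [⟨77, 0x1008000, 0x3b25914b2992b74c⟩, ⟨80, 0x8003, 0x58ab6a496275bb25⟩, ⟨53, 0xb001, 0x492c964899929761⟩], 0⟩, 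
  ⟨67, 6, [⟨78, 0x1007000, 0x4d351485b65b30b⟩, ⟨66, 8195, 0xd48a26996cc30c⟩, ⟨53, 0x7000, 0x4d4b22b256d375b⟩], 0x1d000⟩, 
  ⟨67, 7, [⟨89, 0x6001, 0x69a9148616cb⟩, ⟨72, 0x11002, 0x1226a44cb6cb6cb⟩, ⟨53, 0x16000, 0x8a289a6cb2db30b⟩], 0x7000⟩, 
  ⟨67, 12, [⟨91, 4099, 0xa452289b2cb2d9⟩, ⟨72, 0x100a000, 0x145245142cb2db2db⟩, ⟨53, 0xd000, 0x2b75aaeb52595b⟩], 0x101d000⟩, 
  ⟨67, 20, [⟨83, 0, 0xd330b6cb30c⟩, ⟨96, 105, 0x5228a275badd6eb⟩, ⟨53, 0x9001, 0x42d96cc864⟩], 0x1013000⟩, 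
  ⟨67, 48, [⟨71, 4099, 0x4d36a430c864⟩, ⟨55, 0x13001, 0x6a5964b216eb75d⟩, ⟨53, 0x13000, 0x28a48a26cc2db30b⟩], 0x1007000⟩, 
  ⟨67, 49, [⟨84, 2, 0x6a44d34cb66430c⟩, ⟨37, 0x1001019002, 0x36a432190b30c⟩, ⟨53, 0, 0x451589a75badd4cb⟩], 0⟩, 
  ⟨68, 0, [⟨63, 0, 3⟩, ⟨85, 0x1002000, 0x9158a290cb2592b⟩, ⟨99, 0x100300142f, 0x185b30c⟩], 0x1004000⟩, 
  ⟨68, 1, [⟨76, 0x1003000, 0x156a59642eb2e96dd⟩, ⟨85, 0x3000, 0x45226d34d990c321⟩, ⟨99, 1018, 0x1b2cc859⟩], 0xe000⟩, 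
  ⟨68, 2, [⟨77, 0x14000, 0x44da6a285b2cb2db⟩, ⟨85, 0x1002002, 0xa275b4ec9542db325⟩, ⟨99, 582, 0x144d494c964b25⟩], 0x101d001⟩, 
  ⟨68, 3, [⟨91, 4099, 0x1b5226d34d966430c⟩, ⟨85, 0x1002000, 0x148a595376595d⟩, ⟨99, 0x100500014e, 0x69b32185b321⟩], 0x1001000⟩, 
  ⟨68, 5, [⟨89, 0x1012000, 0xa292269b30c861⟩, ⟨85, 4099, 0x1142cb32190b⟩, ⟨99, 0x500111b, 0xeb6a495ba596d96eb⟩], 0x19000⟩, 
  ⟨68, 8, [⟨82, 2, 0x229136996cc2db⟩, ⟨85, 0x4002, 0x69b4d450b2d990b⟩, ⟨99, 539, 0x3513add6eb7596cb⟩], 0x10000⟩, 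
  ⟨68, 14, [⟨85, 0x1007003, 0x26d34d430b6cb6cb⟩, ⟨100, 0x3001014, 0x369a9134d96d9659⟩, ⟨99, 0x5000034, 0x1258a59642cb75d764⟩], 0x1018001⟩, 
  ⟨68, 44, [⟨74, 0x1002002, 0x589a6d452196532b⟩, ⟨85, 2, 0x8a48a430c861659⟩, ⟨99, 302, 0x6d965b2d9⟩], 0⟩, 
  ⟨69, 0, [⟨63, 0, 1689⟩, ⟨80, 0x1000000, 0x8a29132cb6cc⟩, ⟨57, 0xf001, 0x289a964b2592a⟩], 4096⟩, 
  ⟨69, 1, [⟨89, 0xf001, 0x162ada89b75bacb⟩, ⟨72, 0xf002, 0x2c96489992974b⟩, ⟨57, 0x18000, 0x9aad43256dd865⟩], 0x101b000⟩, 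
  ⟨69, 2, [⟨76, 0x1000000, 0x1228a269986165b⟩, ⟨66, 0xe001, 0x489b4d34d990b659⟩, ⟨57, 0x2016000, 0x489b5228a16596cc⟩], 0x100e000⟩, 
  ⟨69, 3, [⟨91, 0x1010003, 0xd48a289965b659⟩, ⟨72, 0x1006000, 0x52591495bad3325⟩, ⟨57, 0xc000, 0x5145244d96cc321⟩], 0xc000⟩, 
  ⟨69, 4, [⟨69, 0x3003, 0x29136996d990b⟩, ⟨51, 0x6001, 0x248a29142db321⟩, ⟨57, 0x4001, 0xda964b25929⟩], 4096⟩, 
  ⟨69, 6, [⟨70, 0x11003, 0x48a289a6d965b2d9⟩, ⟨34, 0x18000, 0x5134da6cb65b30c⟩, ⟨57, 0x1006001, 0x6d366190c859⟩], 0x1017000⟩, 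
  ⟨69, 7, [⟨75, 0x101c000, 0x11455badd6ea66190b⟩, ⟨96, 33, 0x9b4d489986190b⟩, ⟨57, 0xb001, 0x11369a8a165b659⟩], 0xf000⟩, 
  ⟨69, 8, [⟨86, 0x1001000, 0x5149134d990b659⟩, ⟨96, 0x1001072, 0x36a289a65b3216cb⟩, ⟨57, 0x100a001, 0x8a269990c85b⟩], 0x13000⟩, 
  ⟨69, 9, [⟨71, 0x5002, 0xd490b30c2cb⟩, ⟨46, 0, 0x69a6d485b2cb⟩, ⟨57, 0x1002000000, 0x289b52285b30b6cc⟩], 0x100a000⟩, 
  ⟨69, 20, [⟨66, 0x7003, 0x45245148996cb321⟩, ⟨55, 0x16000, 0xd369a6d3659661⟩, ⟨57, 0x1004000000, 0x4d49148a430c321⟩], 0x1005000⟩, 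
  ⟨69, 42, [⟨64, 1, 0xadd6eb50c32c2db⟩, ⟨23, 0x3000007000, 0x524add6eb30c32c⟩, ⟨57, 0x1000017001, 0x9a91485b321⟩], 0x13000⟩, 
  ⟨69, 44, [⟨78, 0x7001, 0x269a914521859661⟩, ⟨71, 0x1006002, 0x1485b321861⟩, ⟨57, 8193, 0xd45226d4861859⟩], 0xc000⟩, 
  ⟨70, 0, [⟨65, 0, 1227⟩, ⟨17, 0x1001000023001, 0x226d32cc30b659⟩, ⟨36, 0x8001, 0x10b6cb661⟩], 0⟩, 
  ⟨70, 1, [⟨83, 0x1000000, 0x29145134cc30b2d9⟩, ⟨95, 0x100102c, 0xd330c30b6cc⟩, ⟨36, 0x19003, 0x143216cc859⟩], 0x14000⟩, 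
  ⟨70, 2, [⟨88, 0x9001, 0x51352190c864⟩, ⟨79, 0x100a002, 0x352c9642dd6cb761⟩, ⟨36, 0x6003, 0x228a4321861859⟩], 0x1c000⟩, 
  ⟨70, 4, [⟨70, 0x1007002, 0x26a595d76532c2d9⟩, ⟨44, 0x100001b000, 0x226d36a16d990b⟩, ⟨36, 0x1019001, 0xcb2d990b⟩], 0x1d000⟩, 
  ⟨70, 5, [⟨90, 0xa001, 0xd34da6d4321859⟩, ⟨79, 0x1006001, 0x1a95badd66165d⟩, ⟨36, 0, 0xd35228a165b2d9⟩], 0xd000⟩, 
  ⟨70, 6, [⟨69, 0x1010003, 0x16295a92b6e9⟩, ⟨52, 0xf001, 0x134d36a16cc321⟩, ⟨36, 0x100400d001, 0x6d43216cc859⟩], 0x14000⟩, 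
  ⟨70, 8, [⟨67, 0x5002, 0x34d3659861659⟩, ⟨25, 0x3000, 0xa45145218596cb⟩, ⟨36, 0x400b000, 0x6a28a290c861864⟩], 0x1c000⟩, 
  ⟨70, 9, [⟨79, 0x1001000, 0x5145226cb6616cc⟩, ⟨35, 0x7000, 0x2ad34da6eb6ec85d⟩, ⟨36, 0x401e002, 0x248a45148a1659864⟩], 0x1002000⟩, 
  ⟨70, 10, [⟨77, 0x1014001, 0x135245132cc8642db⟩, ⟨70, 0x11003, 0x3762b2285974b6e9⟩, ⟨36, 0, 0x4da69b3216cc⟩], 0x100b000⟩, 
  ⟨70, 20, [⟨72, 0x7003, 0x12b75badd2cb659⟩, ⟨54, 0x1004000000, 0xa26d365990b⟩, ⟨36, 0x101b002, 0x9134da913659659⟩], 0x1011000⟩, 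
  ⟨70, 36, [⟨62, 1, 0x9229228a190b664⟩, ⟨35, 0x2004003, 0x6642cb65b⟩, ⟨36, 0x100301d001, 0x26da6cc864⟩], 0⟩, 
  ⟨70, 44, [⟨80, 4099, 0x495b4da9549642dd⟩, ⟨52, 8193, 0x3add92289bacc85d⟩, ⟨36, 0x1021002, 0xa26a48a165990c⟩], 0⟩, 
  ⟨71, 0, [⟨65, 0, 161⟩, ⟨22, 0x16000, 0xd34ebb2caeb52c⟩, ⟨78, 0x1001001, 0x2486432190c⟩], 0x1000000⟩, 
  ⟨71, 1, [⟨75, 0x1011001, 0x1591376592ba64acb⟩, ⟨92, 105, 0x4da6a285b6596cb⟩, ⟨78, 0x7003, 0x36a291486185b⟩], 0x101d000⟩, 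
  ⟨71, 2, [⟨69, 0x101b002, 0x292c92b69badbadb⟩, ⟨56, 1, 0x1569a85d6eb764⟩, ⟨78, 0x1006000, 0x4964add75d325⟩], 0x1013000⟩, 
  ⟨71, 3, [⟨66, 8195, 0x89a661859659⟩, ⟨53, 0x7000, 0xa44da6d3659861⟩, ⟨78, 0, 0x86432190c⟩], 0x1000000⟩, 
  ⟨71, 4, [⟨71, 0x1006002, 0x1149144d98642db⟩, ⟨57, 8193, 0x34da9134d990b659⟩, ⟨78, 0x1000001, 0x5136a432190c⟩], 0x101d000⟩, 
  ⟨71, 5, [⟨77, 1, 0x6a432185b2d9⟩, ⟨77, 1, 0x44d352285965b2db⟩, ⟨78, 0x1006000, 0x1a75badd6ea659⟩], 0x1d000⟩, 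
  ⟨71, 6, [⟨80, 0x5002, 0x135148a16cb2d9⟩, ⟨61, 0x1004002000, 0x6d34d450c2cb2db⟩, ⟨78, 0x1001001, 0xd56d3aa185bae9⟩], 0x13000⟩, 
  ⟨71, 7, [⟨88, 0x3001, 0x35245144eb75badd⟩, ⟨88, 0x1012002, 0x5136a44d965990b⟩, ⟨78, 3, 0x352291486185b⟩], 0x1000000⟩, 
  ⟨71, 13, [⟨90, 0, 1228⟩, ⟨90, 0x7000, 0x4dd8ac96175ba5d⟩, ⟨78, 8192, 0x764add75d325⟩], 0x1013000⟩, 
  ⟨71, 20, [⟨86, 0x7000, 0x58acb1485b2dba59⟩, ⟨97, 0x1001069, 0x44ebaeb5256ec865⟩, ⟨78, 0x5002, 0x45229136a430c861⟩], 0⟩, 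
  ⟨71, 46, [⟨73, 2, 0x4d49145216cb2cb⟩, ⟨28, 0x100000201b004, 0x1245242cb65965b⟩, ⟨78, 0x1000001, 0x9226d9861659⟩], 0x1d000⟩, 
  ⟨71, 48, [⟨67, 4099, 0x44eb69bb2532590b⟩, ⟨20, 0x17000, 0x2b2292b75d8656dd⟩, ⟨78, 0x100e002, 0x9a8a44d96596cc⟩], 0x13000⟩, 
  ⟨72, 0, [⟨64, 0, 161⟩, ⟨22, 0x300b000, 0xd48a26d42cb661⟩, ⟨77, 0x9000, 0x5243216cb661⟩], 0x1019000⟩, 
  ⟨72, 1, [⟨67, 4099, 0x44cb30c861⟩, ⟨21, 0x5001000, 0x289d76595baa5⟩, ⟨77, 0x1007003, 0x12b6a29256cc964a64⟩], 0x19000⟩, 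
  ⟨72, 2, [⟨70, 3, 0x92b4ebacc9656dd⟩, ⟨36, 0x101f000, 0x51489b52186430c⟩, ⟨77, 0x1007001, 0x89b4da6998642cb⟩], 0x19000⟩, 
  ⟨72, 3, [⟨80, 3, 0x289b51485b32185b⟩, ⟨53, 0x1000011001, 0x69a9145216cb2cb⟩, ⟨77, 0xb000, 0x2b6a29256cc964a64⟩], 0x19000⟩, 
  ⟨72, 4, [⟨77, 0x1019001, 0x144d56eb75ba5965b⟩, ⟨78, 0x1006000, 0x1a8ac964b25659⟩, ⟨77, 0x1013001, 0x9b4da6998642cb⟩], 0x19000⟩, 
  ⟨72, 5, [⟨78, 8192, 0x592269b52595b2eb⟩, ⟨77, 0x7001, 0x148a26d330c859⟩, ⟨77, 1, 0x143216cb661⟩], 0x1019000⟩, 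
  ⟨72, 6, [⟨75, 0x1010000, 0x365b659664⟩, ⟨92, 46, 0xda91489b321864⟩, ⟨77, 0x1006003, 0x9a69b65b659⟩], 0x1019000⟩, 
  ⟨72, 7, [⟨86, 0x1002000, 0x2b4da964b252d9⟩, ⟨97, 4248, 0x4d489a6596cc864⟩, ⟨77, 0x1007002, 0x36a43216cb661⟩], 0x1019000⟩, 
  ⟨72, 8, [⟨89, 0x1000000, 0xada75430b75d⟩, ⟨90, 0x18001, 0x13aeb75bad332532b⟩, ⟨77, 0x1011001, 0xa29226d42cb661⟩], 0x1019000⟩, 
  ⟨72, 9, [⟨72, 0x8003, 0x565913aea75bad9⟩, ⟨58, 0x1003016001, 0xd352430b2cc30c⟩, ⟨77, 0x1b003, 0x9d91495bad42dd⟩], 0x19000⟩, 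
  ⟨72, 10, [⟨91, 0x18002, 0xa269ab24b2275b329⟩, ⟨89, 0x9002, 0xa291374c964b25⟩, ⟨77, 0x101c000, 0xd332185b659⟩], 0x1019000⟩, 
  ⟨72, 11, [⟨75, 4096, 0x269a6a16cb30c⟩, ⟨92, 154, 0x5144d48596d990b⟩, ⟨77, 0x1006002, 0x1216cb661⟩], 0x1019000⟩, 
  ⟨72, 12, [⟨76, 0x7001, 0x148a45216cc85b⟩, ⟨91, 0x3001, 0x5256ec90b65d665⟩, ⟨77, 0x11003, 0xa485b30b661⟩], 0x1019000⟩, 
  ⟨72, 13, [⟨89, 0x1003001, 0x142cb6cc30c⟩, ⟨76, 0x1001001, 0x1589b52595d765⟩, ⟨77, 8195, 0x351491450c85b2d9⟩], 0x19000⟩, 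
  ⟨72, 14, [⟨66, 0x11002, 0x9649643256dd6cc⟩, ⟨61, 0xc001, 0x69b5144cc8596cb⟩, ⟨77, 0x1a001, 0x1144d351365b321861⟩], 0x19000⟩, 
  ⟨72, 16, [⟨76, 0x10001, 0x34da6d32d985b⟩, ⟨89, 0x3003, 0x4d451486432165b⟩, ⟨77, 0x1007001, 0xa269a6d42d98642cb⟩], 0x19000⟩, 
  ⟨72, 17, [⟨91, 0x100e002, 0x6a430c85b2d9⟩, ⟨76, 0x1008003, 0x89a6a290c2d985b⟩, ⟨77, 0x101a002, 0xa44da6998642cb⟩], 0x19000⟩, 
  ⟨72, 18, [⟨66, 0x1003002, 0x6d365b30b2cb⟩, ⟨61, 0x4012001, 0x34d34da90b6596d9⟩, ⟨77, 0x15001, 0x1d6ab6a2759864ad9⟩], 0x19000⟩, 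
  ⟨72, 20, [⟨90, 0x11000, 0x589d6d3ad32dbb0b⟩, ⟨89, 0x7001, 0x158a5914b256ea75b⟩, ⟨77, 0x1001001, 0x44da6d4864321⟩], 0x1019000⟩, 
  ⟨72, 21, [⟨88, 0xa000, 0x491485986165b⟩, ⟨91, 0x1001001, 0x4d356496592bae9⟩, ⟨77, 0x1007003, 0xa451369986430b⟩], 0x1019000⟩, 
  ⟨72, 22, [⟨91, 0x100c002, 0xda65b321661⟩, ⟨88, 0x1007003, 0x148a28a430b2cc⟩, ⟨77, 0x100e003, 0x49143216cb661⟩], 0x1019000⟩, 
  ⟨72, 23, [⟨77, 0x9000, 0x69a91489986190b⟩, ⟨77, 0x18000, 0x149132d9661859⟩, ⟨77, 0x1018000, 0x9142cb2db30c⟩], 0x1019000⟩, 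
  ⟨72, 26, [⟨77, 0x3000, 0x4913b2592c959⟩, ⟨77, 0x1004000, 0x29226d485b2d9⟩, ⟨77, 0x4000, 0xda6a289990c859⟩], 0x19000⟩, 
  ⟨72, 27, [⟨72, 3, 0x1259656ec961964⟩, ⟨58, 0x1003012001, 0x28a26a48618642db⟩, ⟨77, 0x3003, 0x69a6d44d98642cb⟩], 0x19000⟩, 
  ⟨72, 30, [⟨89, 0x18000, 0xb2c92b6a592ca59⟩, ⟨91, 0x1002003, 0x89a6a26cb321664⟩, ⟨77, 0x1a003, 0x91332185b659⟩], 0x1019000⟩, 
  ⟨72, 33, [⟨86, 0x4001, 0x5144da66190b65b⟩, ⟨97, 4149, 0x14b2596296585b665⟩, ⟨77, 0x1001002, 0x9228616d9861⟩], 0x1019000⟩, 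
  ⟨72, 46, [⟨85, 0x1002002, 0xb2295ba596d96ec⟩, ⟨99, 0x1002000246, 0xa2b22aec9654dd⟩, ⟨77, 0x1010001, 0xa269a6616cb6cb⟩], 0x19000⟩, 
  ⟨72, 47, [⟨83, 0xa000, 0xa29226996cb30c⟩, ⟨97, 0, 0x1256eb659665959⟩, ⟨77, 0x100b002, 0x45159256d375b74c⟩], 0x19000⟩, 
  ⟨72, 48, [⟨66, 0x101c003, 0xac91432192cae9⟩, ⟨61, 0x4002001, 0x52b76485b2eb32c⟩, ⟨77, 0x1008000, 0x285b2cb659⟩], 0x1019000⟩, 
  ⟨72, 49, [⟨75, 0x19000, 0x248a2913659664⟩, ⟨93, 0, 0x135228a42d9659⟩, ⟨77, 0x1002003, 0x1134da913659661⟩], 0x19000⟩, 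
  ⟨73, 0, [⟨62, 0, 3⟩, ⟨32, 2, 0x4d48a265b32190b⟩, ⟨43, 0x1021002, 0x4ec92cb2a85bb25⟩], 0x1016000⟩]

/-- base loops -/
def base5 : List BaseE := [
  ⟨73, 1, [⟨83, 0x3000, 0x4d48a265b2cb65b⟩, ⟨95, 159, 0x144d3ad486175badd⟩, ⟨43, 8193, 0x44da69b5218596cb⟩], 0x1014000⟩, 
  ⟨73, 2, [⟨71, 0x8003, 0x1451352165b321⟩, ⟨52, 0x4001, 0x113add6d32ccb2c⟩, ⟨43, 8195, 0x1b5229136a16596cc⟩], 0x19001⟩, 
  ⟨73, 8, [⟨81, 0x1002002, 0xad569ba65759929⟩, ⟨84, 2, 0x89b2d96cb30c⟩, ⟨43, 8192, 0x8ab69d914b2cb29⟩], 0x8000⟩, 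
  ⟨73, 44, [⟨82, 2, 0x4d489a6d966185b⟩, ⟨87, 2, 0x514add6eb2db2eb⟩, ⟨43, 8195, 0x4da6d489b2cb661⟩], 0x1003000⟩, 
  ⟨74, 0, [⟨65, 0, 153⟩, ⟨21, 0x10001, 0x589a69bb258a16e9⟩, ⟨68, 0x3001, 0x89b30c85b321⟩], 0x100b003⟩, 
  ⟨74, 1, [⟨66, 0x5003, 0x5245144cb30c85b⟩, ⟨58, 0x1000007001, 0x28a44da90b65b321⟩, ⟨68, 0x3001, 0x6da90b⟩], 0x101b003⟩, 
  ⟨74, 2, [⟨83, 0x1003000, 0x14aeb69b32c2dbadb⟩, ⟨92, 33, 0x26d32db2db⟩, ⟨68, 0x3000, 0x15925922b22759664⟩], 0x1016002⟩, 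
  ⟨74, 3, [⟨88, 0x1007000, 0x51369b4d9661864⟩, ⟨91, 8192, 0x52269b6642cb⟩, ⟨68, 0x3001, 0x12290b⟩], 0x101b003⟩, 
  ⟨74, 5, [⟨90, 0x1006001, 0x52b7645256e990c⟩, ⟨89, 0x1000001, 0x6ab50cb25929⟩, ⟨68, 0x4002, 0x89a6d42d96d9⟩], 0x101d002⟩, 
  ⟨74, 9, [⟨87, 2, 0xa289b2d9664⟩, ⟨45, 2, 0x9144da8a430b659⟩, ⟨68, 0x4002, 0xa2913b2592c95a⟩], 0x4002⟩, 
  ⟨74, 14, [⟨74, 2, 0x1a8a29142cb30c⟩, ⟨81, 4099, 0x89a922914861859⟩, ⟨68, 0x1007003, 0x45144d32d990b6cb⟩], 0x1000002⟩, 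
  ⟨74, 44, [⟨68, 0x1002002, 0x5644eb6a192b2dd⟩, ⟨68, 0x3000, 0x51489b2cb65b⟩, ⟨68, 0x3000, 0x29226d350c2d965b⟩], 0x1003002⟩, 
  ⟨75, 0, [⟨75, 0x1c002, 0x8a59229142d992caec⟩, ⟨96, 4124, 0x2b14914b25929861⟩, ⟨61, 0x4003000, 0xd34da9142d985b664⟩], 0x1002002⟩, 
  ⟨75, 1, [⟨75, 0x1006003, 0x1145149142cb30c⟩, ⟨96, 4102, 0x6eb69badd4cc865⟩, ⟨61, 0x4000, 0x4d44da6cb321664⟩], 8194⟩, 
  ⟨75, 2, [⟨79, 0xe002, 0x92265b30b2d9⟩, ⟨34, 0x1021000, 0x8a48a26996cc859⟩, ⟨61, 0x2014000, 0x69a6d3321664⟩], 8194⟩, 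
  ⟨75, 3, [⟨90, 0x1003002, 0x592cb144eb325961⟩, ⟨66, 0x100a002, 0x9a6a44cb66190b⟩, ⟨61, 0x100100d001, 0x2b56489a96165bb0b⟩], 0x1002002⟩, 
  ⟨75, 4, [⟨81, 0, 1689⟩, ⟨72, 0x1002002, 0x2b69a8a175d2e9⟩, ⟨61, 0x3016001, 0x11491375baa5964add⟩], 0x1002002⟩, 
  ⟨75, 5, [⟨88, 0x6003, 0x4d369a66190b6cb⟩, ⟨66, 0x1007001, 0x6ec8a495430b75d⟩, ⟨61, 0x2013001, 0x9a69a6cb321664⟩], 8194⟩, 
  ⟨75, 6, [⟨77, 0x100c003, 0x1569a90cb2592c⟩, ⟨66, 0x1d002, 0x8a29144d966430b⟩, ⟨61, 0xc001, 0x9a6a4b13659964b25⟩], 0x1002002⟩, 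
  ⟨75, 7, [⟨83, 0x7003, 0x44da6a42db30b⟩, ⟨96, 0x1001098, 0x48a26a42cb6cc⟩, ⟨61, 0x17000, 0x1491375baa5964add⟩], 0x1002002⟩, 
  ⟨75, 8, [⟨77, 0x101b002, 0x452456575d92a75b⟩, ⟨66, 8195, 0xa289b4cb30c2db⟩, ⟨61, 0x4002001, 0xa26a44d966430b⟩], 0x1002002⟩, 
  ⟨75, 9, [⟨76, 0x100e002, 0xa44d34d9659864⟩, ⟨69, 0x3000, 0x51575a75d69d75b⟩, ⟨61, 0x1004007000, 0x145144cb321664⟩], 8194⟩, 
  ⟨75, 10, [⟨66, 0x1c001, 0x330c861⟩, ⟨60, 0x1000008001, 0x1b5244d34d990b321⟩, ⟨61, 0x1006001, 0x52b75badd4cc85b⟩], 8194⟩, 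
  ⟨75, 11, [⟨77, 0xe003, 0x1144da6a18642cb⟩, ⟨66, 0x1019002, 0xa2922699864321⟩, ⟨61, 0x1001015001, 0x4da69a6cb321664⟩], 8194⟩, 
  ⟨75, 12, [⟨71, 0x1011001, 0x2b52289aadd6cb74c⟩, ⟨60, 0x5000, 0x48a26d352c964b25⟩, ⟨61, 0x1003013001, 0xabb244d375d762929⟩], 0x1002002⟩, 
  ⟨75, 13, [⟨79, 0x1007003, 0x48a485b2cc861⟩, ⟨34, 4099, 0x5148a452165b30c⟩, ⟨61, 0x1003002000, 0x114b24b2292b6ea90c⟩], 0x1002002⟩, 
  ⟨75, 14, [⟨91, 0x3001, 0x69b4d4913659861⟩, ⟨72, 0x1010000, 0xa591575d6ec94b⟩, ⟨61, 0x2011001, 0x5136a16d96cb⟩], 8194⟩, 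
  ⟨75, 17, [⟨89, 0xb002, 0x5144db2db2d9⟩, ⟨72, 0x5003, 0x6d35229132d9861⟩, ⟨61, 0x1002003001, 0x249644ec92ba64b29⟩], 0x1002002⟩, 
  ⟨75, 18, [⟨75, 0xf003, 0x6a485b30b659⟩, ⟨96, 52, 0x4d45148596d96cc⟩, ⟨61, 0x18000, 0x156eb69ba64b0c859⟩], 0x1002002⟩, 
  ⟨75, 19, [⟨78, 3, 0x2485b2d990c⟩, ⟨80, 0x5002, 0x1b52289b6596cb⟩, ⟨61, 0x1004002000, 0x8a59144cb32595d⟩], 8194⟩, 
  ⟨75, 20, [⟨72, 4096, 0x134d352190b659⟩, ⟨60, 0x1010001, 0x91452289965b2d9⟩, ⟨61, 0x100300e001, 0x14b24b2292b6ea90c⟩], 0x1002002⟩, 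
  ⟨75, 21, [⟨72, 0x1010000, 0x36a28a450c85b30b⟩, ⟨60, 0x2001001, 0x1a91489b50c85b321⟩, ⟨61, 0x1002008001, 0x35136a16d96cb⟩], 8194⟩, 
  ⟨75, 23, [⟨66, 0x4001, 0x92289b4db2cc85b⟩, ⟨60, 0x100100a001, 0x26d48a26cb66165b⟩, ⟨61, 0x100400f001, 0x12b75d69d75baa16cb⟩], 8194⟩, 
  ⟨75, 24, [⟨90, 0x5002, 0x5148a45216642d9⟩, ⟨71, 0x4002, 0x89b522913659661⟩, ⟨61, 0x1001010000, 0x1452275b30ca64b25⟩], 0x1002002⟩, 
  ⟨75, 25, [⟨88, 0x1002003, 0x91430b6cc30b⟩, ⟨72, 0x8000, 0x26a29226cc861864⟩, ⟨61, 0x100300e001, 0x1a6ac9132e9864a65⟩], 0x1002002⟩, 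
  ⟨75, 26, [⟨83, 0x1007002, 0x148a26d32db2d965b⟩, ⟨96, 4149, 0x1242cb2db2db⟩, ⟨61, 0x1002014000, 0x45226a42d9664⟩], 8194⟩, 
  ⟨75, 31, [⟨88, 0x1008003, 0x289b4d350c859659⟩, ⟨71, 1, 0x52289b4d96cb2cb⟩, ⟨61, 0x4001000, 0x289a9144cb30c859⟩], 0x1002002⟩, 
  ⟨75, 32, [⟨90, 0x4002, 0x48a291430b6cc⟩, ⟨72, 0x100d003, 0x92265986190b⟩, ⟨61, 0x4010001, 0x95d6ec96175d75d⟩], 8194⟩, 
  ⟨75, 36, [⟨69, 0x3000, 0x4d569a90cb25929⟩, ⟨55, 0x1000014001, 0x56ac9626996d96e9⟩, ⟨61, 0x1004004001, 0x8a29144d9659864⟩], 0x1002002⟩, 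
  ⟨75, 42, [⟨67, 0xa000, 0x16496495485d90b⟩, ⟨23, 0x1004028001, 0x452430c8616cb⟩, ⟨61, 0x1001016000, 0xa28a26a42d966430c⟩], 0x1002002⟩, 
  ⟨75, 44, [⟨65, 2, 0x5258ac8a58616dd⟩, ⟨23, 0x1001001010000, 0x36a26d36a16d9659⟩, ⟨61, 0x1002004000, 0x356489a6dd85b765⟩], 0x1002002⟩, 
  ⟨75, 47, [⟨72, 0x19000, 0xda6a44db30b664⟩, ⟨55, 0, 0x89b2db30c861⟩, ⟨61, 0x100f001, 0xcc2d9664⟩], 8194⟩, 
  ⟨76, 0, [⟨82, 0, 9945⟩, ⟨86, 0x7000, 0x14b259626eb6ec4dd⟩, ⟨92, 25, 0xa569a7645296596dd⟩], 0x13000⟩, 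
  ⟨76, 1, [⟨77, 0x1003002, 0x8a269b4cb32185b⟩, ⟨75, 0x1001000, 0x148a451332190c864⟩, ⟨92, 0x100109a, 0x29136a430b65b⟩], 0x17001⟩, 
  ⟨76, 2, [⟨89, 0x6003, 0x91490b659861⟩, ⟨86, 0x1006001, 0xa45144db321661⟩, ⟨92, 4102, 0x4da8a44d990c321⟩], 0⟩, 
  ⟨76, 3, [⟨72, 0x1002001, 0x44d49132cb664⟩, ⟨59, 0x2000001, 0x144d48996cb661⟩, ⟨92, 0x1000049, 0xa26ec8a275376192c⟩], 0x13000⟩, 
  ⟨76, 4, [⟨75, 0x4002, 0x29134d36643216cb⟩, ⟨94, 116, 0x5649642eb6cb2e9⟩, ⟨92, 0x100102c, 0x92bad4913aeb765⟩], 0x1004001⟩, 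
  ⟨76, 5, [⟨78, 0x7003, 0x28a489a90b2d965b⟩, ⟨75, 0x1005001, 0x351430c861659⟩, ⟨92, 105, 0x1a8a44d36642d965b⟩], 0x13000⟩, 
  ⟨76, 7, [⟨77, 0x1007002, 0x26a45132d96642db⟩, ⟨75, 0x4000, 0x1369d96596185b765⟩, ⟨92, 46, 0x12bad4913aeb765⟩], 0x1004001⟩, 
  ⟨76, 8, [⟨89, 0x100b002, 0x52269a6cc861864⟩, ⟨83, 0x1010001, 0x244d592c961659759⟩, ⟨92, 4228, 0x35136a430b65b⟩], 0x17001⟩, 
  ⟨76, 9, [⟨79, 0x12002, 0x2b2592c94c2cb659⟩, ⟨38, 0x1001009001, 0xadd922aecb2a85b⟩, ⟨92, 1, 0x352269b50c8616cc⟩], 0x1004001⟩, 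
  ⟨76, 10, [⟨83, 0x3002, 0x4514321861659⟩, ⟨98, 4156, 0x489a6d48616cb⟩, ⟨92, 100, 0x26ec964b2550c864⟩], 0x1004001⟩, 
  ⟨76, 12, [⟨72, 0x1c001, 0x1badaadd6cb764⟩, ⟨59, 0x16001, 0x2489b2d990c2cb⟩, ⟨92, 0x1000003, 0x9229136a430b65b⟩], 0x17001⟩, 
  ⟨76, 14, [⟨91, 0xb001, 0x596596285b765⟩, ⟨86, 0x4002, 0x44ec8a2659964a5d⟩, ⟨92, 0x1000037, 0x1b5136a430b65b⟩], 0x17001⟩, 
  ⟨76, 15, [⟨69, 8192, 0x6ac913acc864b2c⟩, ⟨59, 0x1008000, 0xa26eb75badd2cc⟩, ⟨92, 116, 0xa4b22aebacc86585d⟩], 0x13000⟩, 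
  ⟨76, 18, [⟨83, 0x6003, 0x369a9226d32cc30c⟩, ⟨94, 25, 0x355badd6ea659⟩, ⟨92, 159, 0x4d352290b32165b⟩], 0⟩, 
  ⟨76, 20, [⟨90, 0x1008003, 0x2b764b149642dd94b⟩, ⟨83, 0x1006000, 0x1256d375bad992b⟩, ⟨92, 32, 0x28a48a28642d965b⟩], 0x13000⟩, 
  ⟨76, 21, [⟨88, 0x1c002, 0x4da9144db321861⟩, ⟨83, 0x1011003, 0x1b521764b2592b⟩, ⟨92, 0x1001024, 0x1229136a190b65b⟩], 0x17001⟩, 
  ⟨76, 23, [⟨79, 0x8003, 0x12269a8a190b661⟩, ⟨38, 0x400c001, 0x564b242cc95b65d⟩, ⟨92, 0x100005b, 0x48a289990b65b⟩], 0x17001⟩, 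
  ⟨76, 28, [⟨86, 0xa003, 0x6cc85b659⟩, ⟨94, 158, 0x2914b2baecaa5⟩, ⟨92, 158, 0x456495b32c85d⟩], 0x1004001⟩, 
  ⟨76, 35, [⟨91, 0x1010001, 0x259256cb75b74b⟩, ⟨83, 0x1003002, 0x89a6d32d96cb⟩, ⟨92, 98, 0x145134d366430c321⟩], 0x13000⟩, 
  ⟨76, 40, [⟨68, 0x3000, 0x52269a65b32185b⟩, ⟨83, 0x3002, 0xa28a450b6cc859⟩, ⟨92, 33, 0x1a9144d48642d9664⟩], 0x13000⟩, 
  ⟨77, 0, [⟨63, 4099, 0x26d34d450b2d9659⟩, ⟨72, 0x1007000, 0x13522913659659⟩, ⟨58, 0x1000013001, 0x91486430c861⟩], 0x100c000⟩, 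
  ⟨77, 1, [⟨75, 0x1009003, 0x1489a9132d9861⟩, ⟨96, 0x100002d, 0x289a6d450b2d9859⟩, ⟨58, 0x100300a000, 0x11486430c861⟩], 0x100c000⟩, 
  ⟨77, 2, [⟨89, 0x100a002, 0x6a45144db30b661⟩, ⟨69, 0x1010003, 0x69a6d48a18596d9⟩, ⟨58, 0x100100d000, 0x134da6da661859⟩], 0x1b000⟩, 
  ⟨77, 3, [⟨86, 0x1b002, 0x9149134d990b664⟩, ⟨96, 0x1000049, 0x452289a65b321664⟩, ⟨58, 0, 0x1486430c861⟩], 0x100c000⟩, 
  ⟨77, 4, [⟨75, 0x7002, 0x1352291365990b65b⟩, ⟨96, 0x100102c, 0x6a45144cb6cc2d9⟩, ⟨58, 0x1015000, 0xd34da6da661859⟩], 0x1b000⟩, 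
  ⟨77, 5, [⟨86, 8195, 0x89b5136a190b2d9⟩, ⟨96, 0x1001005, 0x5229144d98642cb⟩, ⟨58, 0xc000, 0x145226da861859⟩], 0x1b000⟩, 
  ⟨77, 6, [⟨72, 0x3000, 0xda89b2cc30b659⟩, ⟨60, 0x100300e001, 0xa48a289990c2cb⟩, ⟨58, 0x100a001, 0x226d9661859⟩], 0x1b000⟩, 
  ⟨77, 7, [⟨66, 0x1004001, 0x15b52c92b6ecb25⟩, ⟨60, 0x100200b001, 0x26d59256d375b759⟩, ⟨58, 0x3011001, 0x6d34da6da661859⟩], 0x1b000⟩, 
  ⟨77, 8, [⟨89, 0x6003, 0x5229136cb2cc⟩, ⟨66, 0x100d003, 0x292291430c85b⟩, ⟨58, 0x2011001, 0x91430b6cc2d9⟩], 0x100c000⟩, 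
  ⟨77, 9, [⟨76, 4099, 0x1a96495b4dd6dd⟩, ⟨72, 0x1009001, 0x135136a190b2cc⟩, ⟨58, 0x1001018001, 0xd45226da861859⟩], 0x1b000⟩, 
  ⟨77, 10, [⟨91, 0x1001001, 0x35148a2b2592c964⟩, ⟨66, 0x1006001, 0x28a48a450b66165b⟩, ⟨58, 0x100f001, 0x1b5144db2d965b⟩], 0x100c000⟩, 
  ⟨77, 11, [⟨70, 0x1007001, 0x9a9134d96cb321⟩, ⟨37, 0x18003, 0x4b2cb2289d6ccb2b⟩, ⟨58, 0x1004014001, 0x1226d9861859⟩], 0x1b000⟩, 
  ⟨77, 13, [⟨66, 0x1007001, 0x275b52c92ca9baec⟩, ⟨60, 0x100000d001, 0x52269a85b2cb664⟩, ⟨58, 0x1003012001, 0xa26d352185965b⟩], 0x100c000⟩, 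
  ⟨77, 14, [⟨75, 0x17003, 0x12c91432196532b⟩, ⟨96, 49, 0x9a6d369966430b⟩, ⟨58, 0x1004000, 0x52289a6d96d9859⟩], 0x1b000⟩, 
  ⟨77, 15, [⟨67, 0xa000, 0xa2add6d3aeb76285d⟩, ⟨23, 0x5014001, 0x295b5244cb32595d⟩, ⟨58, 0x1000000000, 0x6d45226da861859⟩], 0x1b000⟩, 
  ⟨77, 17, [⟨89, 0x18003, 0x1244d34d96cb6cc⟩, ⟨80, 0x8003, 0x1a8a44d965b65b⟩, ⟨58, 0x200a000, 0x4b245144cc965329⟩], 0x1b000⟩, 
  ⟨77, 18, [⟨91, 0x18001, 0x2b2592c2cb2eb⟩, ⟨80, 1, 0x9ab244d330cb2c2e9⟩, ⟨58, 0x3018000, 0x248a43216d9661⟩], 0x100c000⟩, 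
  ⟨77, 19, [⟨71, 0x3001, 0x289a6d990b664⟩, ⟨60, 0x1004006000, 0x2caebaeb75a92995b⟩, ⟨58, 0x6001, 0xda9144db32185b⟩], 0x100c000⟩, 
  ⟨77, 20, [⟨90, 0x1001002, 0x34cc30b659⟩, ⟨66, 0x1005002, 0x148a289990c859⟩, ⟨58, 0x1003015001, 0x9a6d452190c30b⟩], 0x1b000⟩, 
  ⟨77, 21, [⟨72, 0x1009001, 0x89b4d36998642d9⟩, ⟨51, 0x1003009000, 0x592cb14b2a90b759⟩, ⟨58, 0x1004013000, 0x48a29149132d9659⟩], 0x1b000⟩, 
  ⟨77, 24, [⟨76, 0x1010003, 0xa5922ada96196532c⟩, ⟨72, 8193, 0x269b52450c861864⟩, ⟨58, 0x1004003001, 0x1244da914864321⟩], 0x100c000⟩, 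
  ⟨77, 27, [⟨66, 0x3001, 0x4b22aeb75d325⟩, ⟨55, 0x4005000, 0x90c30c864⟩, ⟨58, 0x1004007001, 0x266430c861⟩], 0x100c000⟩, 
  ⟨77, 28, [⟨88, 0x1b002, 0x1134da6d32cc321⟩, ⟨66, 0, 0x4d48a190c864⟩, ⟨58, 0x100300a001, 0x226a451485b66190b⟩], 0x1b000⟩, 
  ⟨77, 29, [⟨68, 0x3001, 0x351491352165b2cc⟩, ⟨66, 0x8000, 0x148a26d42d9861⟩, ⟨58, 0x1000007001, 0x10b2d965b⟩], 0x100c000⟩, 
  ⟨77, 30, [⟨77, 0x100d003, 0x1a8a26a42d9659⟩, ⟨72, 0x1019003, 0xd330c85b321⟩, ⟨58, 0x1003012001, 0x148a29132cc30b⟩], 0x1b000⟩, 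
  ⟨77, 32, [⟨91, 0x1010001, 0x351491332185b⟩, ⟨69, 8192, 0x8a48a430b2cc30c⟩, ⟨58, 0x1004011000, 0x5145228642d990b⟩], 0x1b000⟩, 
  ⟨77, 36, [⟨80, 0x10000, 0x49142d9864321⟩, ⟨51, 0x3001, 0x2b149645216dd92c⟩, ⟨58, 0x4009000, 0x292b55b4eb2cb6ec⟩], 0x1b000⟩, 
  ⟨77, 40, [⟨77, 3, 0x4d489a90c3216cb⟩, ⟨72, 0x16003, 0x2b22b2590c2cb2eb⟩, ⟨58, 0x1003016001, 0x5144d36a1861659⟩], 0x1b000⟩, 
  ⟨77, 42, [⟨72, 0x1008000, 0x69a92289965b321⟩, ⟨60, 0x4003001, 0x136a291330c2d9⟩, ⟨58, 0x400f001, 0x34da6d48616cb⟩], 0x1b000⟩, 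
  ⟨77, 47, [⟨79, 0x7002, 0x6a44d36996cc30b⟩, ⟨37, 0x8003, 0x135148a16cc321⟩, ⟨58, 0x1003013001, 0x2aec92b69bb25959⟩], 0x1b000⟩, 
  ⟨78, 0, [⟨67, 0, 9945⟩, ⟨23, 0x100401d001, 0x69a6d452186190b⟩, ⟨56, 0x1000011001, 0xd35148996cc321⟩], 0x1003002⟩, 
  ⟨78, 1, [⟨76, 0x1001003, 0x166185b⟩, ⟨71, 0, 0x29136a290b66190b⟩, ⟨56, 0x1010001, 0x158ac8a2acb2dbb0b⟩], 0x101a002⟩, 
  ⟨78, 2, [⟨88, 0x5002, 0x51452290b2d9864⟩, ⟨66, 0x18000, 0x56ac90c92b75b75d⟩, ⟨56, 0x16000, 0x9a69b3216cb⟩], 0x10002⟩, 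
  ⟨78, 4, [⟨78, 0x5002, 0x269a6a290c2d9661⟩, ⟨69, 0x101b002, 0x26d369b2db30b⟩, ⟨56, 1, 0x492c92c864adbb0b⟩], 0x16002⟩, 
  ⟨78, 5, [⟨90, 0xe003, 0x13b24adbad3b21⟩, ⟨66, 0x16003, 0x9a964b159626eba59⟩, ⟨56, 0x4001000, 0x56abad450b6cc959⟩], 0x1016002⟩, 
  ⟨78, 9, [⟨66, 0x18001, 0x226d45244d990c30c⟩, ⟨60, 8193, 0x256d56cb321965⟩, ⟨56, 0x5000, 0x34da69b3216cb⟩], 0x10002⟩, 
  ⟨78, 10, [⟨75, 0x100e003, 0x9d9134eb764325⟩, ⟨96, 25, 0x52289b4cc3216cc⟩, ⟨56, 0x1000010001, 0x11355baa575bb25⟩], 0x1009002⟩, 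
  ⟨78, 11, [⟨87, 0, 0x1a65990c859⟩, ⟨34, 0x101f001, 0x11369b2cc859861⟩, ⟨56, 0x1003015001, 0x48a495a92a6dd6dd⟩], 0x1003002⟩, 
  ⟨78, 13, [⟨80, 1, 0x355d92c85ba65929⟩, ⟨55, 1, 0x15925962759759964⟩, ⟨56, 0, 0x13b2451492b2dbaeb⟩], 0x1003002⟩, 
  ⟨78, 15, [⟨72, 0x101c000, 0xa28a48a290c30c2d9⟩, ⟨60, 0x4001, 0x4eb76485b2eb32c⟩, ⟨56, 0x4000, 0x2295bada75d4dd92b⟩], 0x3002⟩, 
  ⟨78, 41, [⟨69, 0x1010001, 0x2b69a8a16ebb29⟩, ⟨47, 0, 0x489ab2592c94c2db⟩, ⟨56, 0x13000, 0x9a6d365990b⟩], 0x10002⟩, 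
  ⟨78, 49, [⟨62, 2, 0x5148a26643216cc⟩, ⟨37, 0x4005000, 0x352291369965b2d9⟩, ⟨56, 0x1000014000, 0x9a6da6642cb⟩], 0x1010002⟩, 
  ⟨79, 0, [⟨81, 0, 1313⟩, ⟨86, 0x1011001, 0x30c2cb⟩, ⟨93, 33, 0x89a69b30b664⟩], 0x1013001⟩, 
  ⟨79, 1, [⟨70, 0x3000, 0x26d45226cc8642cb⟩, ⟨38, 0x4009002, 0x34da9136cb30c⟩, ⟨93, 0x100102c, 0x48a28a432190c⟩], 0x1012001⟩, 
  ⟨79, 2, [⟨77, 0x101b002, 0x148a592c964b0b2db⟩, ⟨75, 0, 0x1244d36a42d965b⟩, ⟨93, 0, 0x351369b30b664⟩], 0x1013001⟩, 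
  ⟨79, 4, [⟨79, 8195, 0x8a56d3aa185bae9⟩, ⟨38, 0x4014002, 0x4d48a26642cb664⟩, ⟨93, 158, 0x45242d98596cb⟩], 0x12000⟩, 
  ⟨79, 6, [⟨86, 0x1012002, 0x5144d490b32165b⟩, ⟨98, 17, 0x45648a585b2dd764⟩, ⟨93, 4217, 0x44daadd6d4964325⟩], 0x12000⟩, 
  ⟨79, 7, [⟨75, 0x17002, 0x149132d9859661⟩, ⟨94, 73, 0xa2914861864⟩, ⟨93, 6, 0x5242d98596cb⟩], 0x12000⟩, 
  ⟨79, 8, [⟨88, 0x100f003, 0x1452289b4cc30b2cb⟩, ⟨75, 0x1b002, 0x289b2cb30c859⟩, ⟨93, 0x1001088, 0x5226a432185b⟩], 0x1013001⟩, 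
  ⟨79, 9, [⟨75, 0x1014003, 0xd365b2cb2d9⟩, ⟨94, 3, 0xa48a2b2592c962⟩, ⟨93, 0x1001037, 0x28596cb659⟩], 0x12000⟩, 
  ⟨79, 10, [⟨90, 0x100b002, 0x28a44db30b65b⟩, ⟨75, 0x1007000, 0x2285965b2d9⟩, ⟨93, 65, 0x292269b30b664⟩], 0x1013001⟩, 
  ⟨79, 12, [⟨66, 0x1014000, 0xa269a8618642db⟩, ⟨59, 0x1003007001, 0x26a452165b2db⟩, ⟨93, 0x100109a, 0x6a28a432190c⟩], 0x1012001⟩, 
  ⟨79, 13, [⟨90, 2, 0x228ac92c8a4adbb0c⟩, ⟨86, 0xa000, 0x524b2baec94bacb⟩, ⟨93, 0x1001024, 0x85b66185b⟩], 0x7000⟩, 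
  ⟨79, 14, [⟨91, 0x1b000, 0x1489b2cc30b2cb⟩, ⟨86, 0x5002, 0x2290b2cb30c⟩, ⟨93, 98, 0x9b2d966190b⟩], 0x1013001⟩, 
  ⟨79, 16, [⟨66, 0x1002000, 0x55a86592c94b⟩, ⟨59, 0x4001, 0x5149134cb659864⟩, ⟨93, 4157, 0xa29228a165b661⟩], 0x1012001⟩, 
  ⟨79, 17, [⟨88, 0x1005002, 0x1226cb321859⟩, ⟨86, 0x101b002, 0x6a486190b321⟩, ⟨93, 4141, 0xd48a44d96cb65b⟩], 0x1013001⟩, 
  ⟨79, 18, [⟨89, 0x1007002, 0x229226a430b664⟩, ⟨86, 0x1010000, 0x1148a29142cb661⟩, ⟨93, 4228, 0x148a289b2d96cb6cc⟩], 0x12000⟩, 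
  ⟨79, 20, [⟨76, 0x12002, 0x4b2c52452cb25764⟩, ⟨83, 0x1002002, 0xb226a592c8a4b0b⟩, ⟨93, 0x100005b, 0x48a291485b659⟩], 0x1012001⟩, 
  ⟨79, 21, [⟨76, 3, 0x4eb75badd4cb664⟩, ⟨83, 0x1000002, 0x1226d48a185b664⟩, ⟨93, 4097, 0x1a6d49148616cb⟩], 0x7000⟩, 
  ⟨79, 46, [⟨87, 0, 0x145226d32d96d9664⟩, ⟨38, 0x1004004000, 0x5965964a5d65d6eb⟩, ⟨93, 159, 0x12185b321⟩], 0x1013001⟩, 
  ⟨79, 47, [⟨80, 0x1006000, 0x28a295badd6ec4db⟩, ⟨59, 0x4014000, 0x575bb2296165d2e9⟩, ⟨93, 105, 0x9a8a45216cb2cb⟩], 0x7000⟩, 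
  ⟨79, 49, [⟨86, 0x1002002, 0xac9132d975d2e9⟩, ⟨94, 159, 0x2289d92c96185d⟩, ⟨93, 25, 0x36a26d430c864⟩], 0x1012001⟩, 
  ⟨80, 0, [⟨64, 0, 0x136cc⟩, ⟨16, 4097, 0x13ada91495badd6a4⟩, ⟨22, 0x2005010000, 0xda8a269966185b⟩], 0x6000⟩, 
  ⟨80, 1, [⟨70, 0x1006003, 0x3ada8a592b69bb0b⟩, ⟨30, 1, 0xd432186190c⟩, ⟨22, 0x3000004000, 0x369a9144d985b661⟩], 4096⟩, 
  ⟨80, 2, [⟨77, 0xa000, 0x245134cc8642db⟩, ⟨64, 0, 0x56d3b22b0b6cc95b⟩, ⟨22, 0x400300b000, 0x226d34da90b65990c⟩], 0x1006000⟩, 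
  ⟨80, 3, [⟨66, 0x11002, 0x1966185b⟩, ⟨50, 0x1003009000, 0x89a922914861859⟩, ⟨22, 0x1004000022001, 0x6a48a26d4321659⟩], 0x1006000⟩]

/-- base loops -/
def base6 : List BaseE := [
  ⟨80, 4, [⟨67, 2, 0x295ab2430b2e96dd⟩, ⟨18, 0x3000, 0x91375ba5bb21929⟩, ⟨22, 0x3000006000, 0x3b245156ebaeb754⟩], 0x1018000⟩, 
  ⟨80, 5, [⟨72, 0x8003, 0x44da8a44d990c2d9⟩, ⟨50, 0, 0x2add92cadbad96e9⟩, ⟨22, 0x200401b001, 0x44da6d3a5badd6eb⟩], 4096⟩, 
  ⟨80, 6, [⟨71, 0x4002, 0x15914a99664b29⟩, ⟨50, 0x5001, 0xb2b6659656dd⟩, ⟨22, 0x1e001, 0x514964ad96ec94c⟩], 0x1c000⟩, 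
  ⟨80, 7, [⟨91, 0x1b003, 0x95bb2292b754861⟩, ⟨67, 0x3001, 0x5136a430c864⟩, ⟨22, 0x1001000022001, 0x148a26d330c2d9⟩], 0x18000⟩, 
  ⟨80, 12, [⟨89, 0x18000, 0x350c2cb30c⟩, ⟨67, 0x1002002, 0x4d44da6cb6cc30b⟩, ⟨22, 0x6001, 0x269a8a185965b⟩], 0x101c000⟩, 
  ⟨80, 20, [⟨79, 0x1006001, 0x34d45148616cc2db⟩, ⟨40, 4098, 0x135256d332992b2dd⟩, ⟨22, 0x4029000, 0x34d36a44d96642cb⟩], 0xf000⟩, 
  ⟨80, 48, [⟨78, 1, 0x515915764b2a6ec⟩, ⟨65, 0, 0x269a69b2cc321⟩, ⟨22, 0x16000, 0x6d489b2cb30c2cb⟩], 4096⟩, 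
  ⟨80, 49, [⟨82, 2, 0x44da69a85b659664⟩, ⟨67, 0x1006002, 0xa44da6a190b661⟩, ⟨22, 0x3017001, 0x34eb69ab142dd74b⟩], 0xf000⟩, 
  ⟨81, 0, [⟨62, 0, 153⟩, ⟨39, 2, 0x6d48a26996d9661⟩, ⟨74, 0x1002000, 0x42d9861⟩], 0x1012000⟩, 
  ⟨81, 1, [⟨75, 0x1b001, 0x574bb2caec⟩, ⟨97, 159, 0x8a2922914321859⟩, ⟨74, 0x3001, 0x29258a495bb2cae9⟩], 0xa001⟩, 
  ⟨81, 2, [⟨79, 4096, 0x1b30c2d9⟩, ⟨41, 0x18002, 0x269a89b30b659⟩, ⟨74, 0x3000, 0x45226d34d990c30c⟩], 0x11000⟩, 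
  ⟨81, 3, [⟨90, 0x4001, 0x4ada964b256ea75b⟩, ⟨88, 0x11001, 0x1229134da90b659664⟩, ⟨74, 0x3000, 0x69b32185b321⟩], 0x1a000⟩, 
  ⟨81, 5, [⟨88, 0x1007001, 0x1244d48a42d96cb⟩, ⟨90, 4098, 0xd48a28996cc30c⟩, ⟨74, 4099, 0x148a28996642cc⟩], 0x6000⟩, 
  ⟨81, 9, [⟨73, 2, 0xa289b2d9664⟩, ⟨28, 2, 0xcb2d990b⟩, ⟨74, 4099, 0x295aaecb2bad9⟩], 0x1c001⟩, 
  ⟨81, 14, [⟨81, 2, 0x1a8a29142cb30c⟩, ⟨68, 0x4002, 0x69a8a285b66430b⟩, ⟨74, 0, 0x26d34d990b6cb⟩], 0x1a000⟩, 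
  ⟨81, 44, [⟨85, 0x1002002, 0x5644eb6a192b2dd⟩, ⟨99, 302, 0x29226d350c2d965b⟩, ⟨74, 0x1002002, 0x89a6d432190c⟩], 0x1002000⟩, 
  ⟨82, 0, [⟨64, 0, 153⟩, ⟨25, 0x7001, 0x4ada6a285baeca5b⟩, ⟨45, 3, 0x1351489a90b2d9659⟩], 0⟩, 
  ⟨82, 1, [⟨80, 4099, 0x5245144cb30c85b⟩, ⟨54, 0x16001, 0x145149132cc30b⟩, ⟨45, 0x100001b001, 0x12c89a6dd92a929⟩], 0x100e000⟩, 
  ⟨82, 2, [⟨76, 0x3000, 0x12289a90b65b2db⟩, ⟨79, 0x4002, 0x6d48a26998616d9⟩, ⟨45, 0x1021000, 0x44d36a44d96642d9⟩], 0x7001⟩, 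
  ⟨82, 9, [⟨68, 0x1002002, 0x26a489990b6cc⟩, ⟨87, 0, 0x9134d350b65b2d9⟩, ⟨45, 2, 0x6d3add6eb74b⟩], 0x100d000⟩, 
  ⟨82, 44, [⟨73, 2, 0x89a6d34cb6642d9⟩, ⟨29, 4, 0x48a26d32db321⟩, ⟨45, 1, 0xa292269966190c⟩], 0x101c001⟩, 
  ⟨83, 0, [⟨73, 0, 219⟩, ⟨29, 0x100001801e, 0x9d6a292c8a4ad9665⟩, ⟨41, 0x3012000, 0xa26a44cb66190c⟩], 0x13000⟩, 
  ⟨83, 1, [⟨90, 0x1004003, 0x89a6a26cb2d9664⟩, ⟨70, 0x3002, 0x4d350b65b2db⟩, ⟨41, 0x2023002, 0x4d569a90cb25929⟩], 0x1004001⟩, 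
  ⟨83, 2, [⟨75, 0x19003, 0x295bada659965⟩, ⟨95, 4127, 0xac8a4b226eb74b⟩, ⟨41, 0x100000a002, 0x6a42cb66190c⟩], 0x13000⟩, 
  ⟨83, 3, [⟨67, 0x1006001, 0x35229148a16596d9⟩, ⟨17, 0x13000, 0x44d4b2585b66592b⟩, ⟨41, 0x3005000, 0x75ba5bad96ec⟩], 0x17001⟩, 
  ⟨83, 4, [⟨72, 0x8000, 0x164b2c52cb254cb664⟩, ⟨54, 0x2016000, 0x9a8a26596d965b⟩, ⟨41, 0x1019000, 0x289b5148a1659861⟩], 0⟩, 
  ⟨83, 5, [⟨66, 0x1002001, 0xa26a489965b321⟩, ⟨52, 0x100300c000, 0x34da6d3a5badd6eb⟩, ⟨41, 0x2023003, 0x9a6a44cb66190c⟩], 0x13000⟩, 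
  ⟨83, 7, [⟨76, 0x3002, 0x28a28a430c2cb⟩, ⟨79, 0x1003003, 0x29649643256cb32c⟩, ⟨41, 0x3005001, 0x4da69a6cc85b2cb⟩], 0⟩, 
  ⟨83, 8, [⟨86, 0x12002, 0x3b159626996d96e9⟩, ⟨95, 0x100005b, 0x369a9144d96cc861⟩, ⟨41, 0x12001, 0x962922964b2530c⟩], 0x13000⟩, 
  ⟨83, 9, [⟨90, 0x1b002, 0xa289a90b6cb2d9⟩, ⟨79, 0x1010000, 0x45226d332190c⟩, ⟨41, 0x2016002, 0x4d45148642d990b⟩], 0x17001⟩, 
  ⟨83, 10, [⟨75, 0x7003, 0x6a4b2592c94b⟩, ⟨95, 0x1001032, 0x91592c964b0b⟩, ⟨41, 4097, 0xec4eb4da90c2eb32c⟩], 0⟩, 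
  ⟨83, 13, [⟨76, 0x6003, 0x34d352285b2d965b⟩, ⟨84, 0, 0x8a45144cc8642d9⟩, ⟨41, 0x4015003, 0x4da8a285990c864⟩], 0x1004001⟩, 
  ⟨83, 14, [⟨88, 3, 0x9132cb6616cb⟩, ⟨70, 0x1007001, 0x45149136cb30c⟩, ⟨41, 0x21001, 0x16489a6d496585d⟩], 0x1004001⟩, 
  ⟨83, 15, [⟨66, 0x1003001, 0x4aeb4ebacbaeb⟩, ⟨52, 0x18000, 0x5242cc85b2cb⟩, ⟨41, 0x13003, 0x69b51450b2cb6cc⟩], 0x13000⟩, 
  ⟨83, 16, [⟨70, 8192, 0x12b75bad430ca5b⟩, ⟨35, 0x4015003, 0x489b2db30b2cc⟩, ⟨41, 0x201d003, 0x4add6a592cb136ec⟩], 0x13000⟩, 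
  ⟨83, 20, [⟨91, 0x14001, 0x44d49134cb664321⟩, ⟨79, 0x100d003, 0x26d45216d96cb⟩, ⟨41, 0x2013001, 0x8a42cb66190c⟩], 0x13000⟩, 
  ⟨83, 21, [⟨83, 0x1010003, 0xa575d75ba65865929⟩, ⟨95, 158, 0xd351452190b661⟩, ⟨41, 0x201d002, 0xab69d75a7645252ec⟩], 0⟩, 
  ⟨83, 26, [⟨86, 0x8003, 0x26ec56430b2e96dd⟩, ⟨95, 4097, 0x9228a29142d9659⟩, ⟨41, 0x1004009001, 0x6a26d352185b30c⟩], 0x1004001⟩, 
  ⟨83, 28, [⟨89, 0x100c003, 0x2c96592c86595d6ec⟩, ⟨79, 0x8000, 0x4b2c89d75b69d6eb⟩, ⟨41, 0x6001, 0x26d369a65b2db30c⟩], 0x1004001⟩, 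
  ⟨83, 38, [⟨88, 0x1003003, 0x9132d96cb2d9⟩, ⟨79, 0x1005002, 0x69a91430c864⟩, ⟨41, 0x3022001, 0x26d36a190c864⟩], 0x1004001⟩, 
  ⟨83, 39, [⟨74, 0x3000, 0x9134d34d990c2d9⟩, ⟨79, 0x1006001, 0xa4564adb30b765⟩, ⟨41, 0x18002, 0x292c89a964b2192b⟩], 0x1004001⟩, 
  ⟨84, 0, [⟨63, 0, 153⟩, ⟨63, 4099, 0x5148a452190c30c⟩, ⟨82, 0, 0x185b30c⟩], 0x1004000⟩, 
  ⟨84, 1, [⟨67, 0x8003, 0x8a26a42cb664⟩, ⟨22, 0x3017001, 0x9b4d369986185b⟩, ⟨82, 2, 0x29258a495bb2cae9⟩], 0x11001⟩, 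
  ⟨84, 2, [⟨86, 0x1001000, 0x4b2baeb6643296dd⟩, ⟨92, 25, 0x148a269a8642d9659⟩, ⟨82, 0, 0x9148616d9659⟩], 0x101a000⟩, 
  ⟨84, 9, [⟨85, 0x1002002, 0x26a489990b6cc⟩, ⟨99, 539, 0x2adaadd90c959⟩, ⟨82, 2, 0x9b4d452165b321⟩], 0x1006000⟩, 
  ⟨84, 44, [⟨87, 2, 0x89a6d34cb6642d9⟩, ⟨43, 8195, 0xdd92cb24b2275b761⟩, ⟨82, 2, 0x28a295badd6ec4db⟩], 0x1003000⟩, 
  ⟨85, 0, [⟨64, 0, 3⟩, ⟨20, 0x2005010001, 0x5135245216cb2cc⟩, ⟨81, 0x3001, 0x899661859⟩], 0x101d001⟩, 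
  ⟨85, 1, [⟨86, 4096, 0x1b30c2d9⟩, ⟨93, 33, 0x11592c964a9990c⟩, ⟨81, 0x3000, 0x156d351592b2dd664⟩], 0x1001000⟩, 
  ⟨85, 2, [⟨72, 0x5003, 0xd36a44cb6642db⟩, ⟨61, 0x3016001, 0x451489b4cc86430c⟩, ⟨81, 0x1002002, 0x19859664⟩], 0x17001⟩, 
  ⟨85, 3, [⟨89, 0x1000001, 0x4d369a6cc3216cc⟩, ⟨90, 0x1014000, 0xaec96592b2cb75b⟩, ⟨81, 0x4002, 0x1b5136a190b664⟩], 0x101a001⟩, 
  ⟨85, 5, [⟨91, 0x100a002, 0x26a489a90b2db30b⟩, ⟨88, 0x10003, 0x145648a44d975ba65⟩, ⟨81, 1, 0x134ebaa4aebb2c⟩], 0x1010000⟩, 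
  ⟨85, 8, [⟨84, 2, 0x229136996cc2db⟩, ⟨43, 8192, 0x1452276495b7532ec⟩, ⟨81, 0x4002, 0xad569ba65759929⟩], 0x1019000⟩, 
  ⟨85, 14, [⟨68, 0x1007003, 0x26d34d430b6cb6cb⟩, ⟨74, 0x1002000, 0x6d352430c2cb321⟩, ⟨81, 4099, 0x29226d369b2cc30c⟩], 0⟩, 
  ⟨85, 44, [⟨81, 0x1002002, 0x589a6d452196532b⟩, ⟨81, 0x1002002, 0x5644eb6a192b2dd⟩, ⟨81, 0x1002002, 0x589a6d452196532b⟩], 0x1000000⟩, 
  ⟨86, 0, [⟨85, 0, 36⟩, ⟨99, 128, 0x489b4d48996cc859⟩, ⟨76, 0xa000, 0x4914564b2592c321⟩], 0x12000⟩, 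
  ⟨86, 1, [⟨66, 0x1011001, 0x48a269a85b30c864⟩, ⟨57, 0x2016000, 0x245142cb30c321⟩, ⟨76, 0x1001000, 0xd35144cb66190c⟩], 0x7000⟩, 
  ⟨86, 2, [⟨69, 0x3000, 0x451452290b65965b⟩, ⟨61, 0x1000002000, 0x2ad56ec96192b2eb⟩, ⟨76, 0x1007000, 0x2289a6d48596cb2db⟩], 0x12000⟩, 
  ⟨86, 4, [⟨76, 0x1001002, 0x9a9228a165b30c⟩, ⟨76, 0x1010003, 0x45226d369b30b2d9⟩, ⟨76, 0x1010003, 0x962922964b2530c⟩], 0x7000⟩, 
  ⟨86, 6, [⟨79, 0x1005002, 0x11486165b321⟩, ⟨41, 0x22002, 0x134dab2592c4cb2eb⟩, ⟨76, 0x7002, 0x14564b2592c321⟩], 0x12000⟩, 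
  ⟨86, 7, [⟨89, 0x1010003, 0x3b22962b25964525⟩, ⟨77, 0x1007001, 0x12575b50ca596eb⟩, ⟨76, 0x1000000, 0xdd9228a452c96432c⟩], 0x1012001⟩, 
  ⟨86, 8, [⟨77, 0x10002, 0x49644ec92ca5bae9⟩, ⟨91, 0x7003, 0x489a6d36cb30c⟩, ⟨76, 0x7002, 0x37648ab66432585d⟩], 0x12000⟩, 
  ⟨86, 9, [⟨91, 0x1013001, 0x95aaeb2d990b6ec⟩, ⟨77, 8194, 0xd592590bb2175b⟩, ⟨76, 0x1002001, 0x289a964b25929861⟩], 0x1013001⟩, 
  ⟨86, 10, [⟨77, 0x100d003, 0x36a4b1450badd6eb⟩, ⟨89, 0x1006000, 0x9a69b52190b661⟩, ⟨76, 0x1000001, 0x589bad452c95ba5d⟩], 0x1013001⟩, 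
  ⟨86, 12, [⟨72, 0x3000, 0x351592575d664aeb⟩, ⟨58, 0x1001018001, 0x9a8a44db30c859⟩, ⟨76, 0x1011003, 0x24964b2c32cb0c2e9⟩], 0x1012001⟩, 
  ⟨86, 13, [⟨88, 0x1010002, 0x256ac92c4eb764329⟩, ⟨89, 0x9002, 0x8a4b259298616eb⟩, ⟨76, 0x1006000, 0x1569a89d6eb759864⟩], 0x12000⟩, 
  ⟨86, 14, [⟨91, 0x100e000, 0xadaadd6d3321964⟩, ⟨90, 0x100e002, 0x245132cb30c2cb⟩, ⟨76, 0x1002000, 0x495a96432194b6ec⟩], 0x12000⟩, 
  ⟨86, 16, [⟨72, 0x18000, 0xac964b142e9⟩, ⟨58, 0x100000d001, 0x9b4d4913659661⟩, ⟨76, 8195, 0x49144d34d990c30b⟩], 0x1013001⟩, 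
  ⟨86, 17, [⟨90, 0x1010003, 0xa42db30c861⟩, ⟨91, 0x100c002, 0xacb158596ebae9⟩, ⟨76, 0x4002, 0x156ebad3aeb75b30b⟩], 0x1012001⟩, 
  ⟨86, 18, [⟨89, 0x1005002, 0x5228a432185b⟩, ⟨88, 0x1001000, 0x1369a8a290c859659⟩, ⟨76, 0x1003003, 0xeb75ab226eb76550c⟩], 0x1013001⟩, 
  ⟨86, 20, [⟨83, 0x12002, 0x592b75d6dd90c964⟩, ⟨93, 4097, 0x2b69b4d375496185d⟩, ⟨76, 0x7003, 0xa289b50b66190c⟩], 0x7000⟩, 
  ⟨86, 21, [⟨83, 0xa002, 0x90b65b30b⟩, ⟨93, 0x100005b, 0x564b2cb0c85baec⟩, ⟨76, 0x1002003, 0x95a96432194b6ec⟩], 0x12000⟩, 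
  ⟨86, 46, [⟨79, 0x1002002, 0x5922acb65ba5d⟩, ⟨45, 0x1021000, 0x15a8a4ada6eb6e9⟩, ⟨76, 0x10001, 0x1432190c30c⟩], 0x12000⟩, 
  ⟨86, 47, [⟨71, 0, 0x56d3ad3a5b765929⟩, ⟨56, 1, 0x4d369965b664⟩, ⟨76, 0x1000000, 0x289a6d96cb2db⟩], 0x1013001⟩, 
  ⟨86, 49, [⟨84, 0, 0x45134d365b65965b⟩, ⟨41, 0x100401b000, 0x8ac89d65d764b25⟩, ⟨76, 0x6003, 0x75b4d5864acb6ec⟩], 0x7000⟩, 
  ⟨87, 0, [⟨65, 0, 3⟩, ⟨12, 0, 0xd451489b321861⟩, ⟨28, 0, 0x6a28a44d990c30b⟩], 0x1b000⟩, 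
  ⟨87, 1, [⟨79, 0x1001000, 0x269b5226cb32165b⟩, ⟨42, 1, 0x44d489b4cc8642cb⟩, ⟨28, 0x4000027012, 0x592c95430b74b⟩], 0x19000⟩, 
  ⟨87, 2, [⟨78, 0x7001, 0xb2595a765929⟩, ⟨73, 2, 0x4d48a26cb32165b⟩, ⟨28, 0x100000201b004, 0x6a29136a430c861⟩], 0x1005000⟩, 
  ⟨87, 8, [⟨74, 0x1002002, 0xad569ba65759929⟩, ⟨73, 2, 0x69b4d450b2d990b⟩, ⟨28, 0x1000004003002, 0x52575a86192c95b⟩], 0x8000⟩, 
  ⟨87, 44, [⟨84, 2, 0x4d489a6d966185b⟩, ⟨42, 0, 0x48a42cb659864⟩, ⟨28, 0x100100500f008, 0x1a9226d45218642cb⟩], 0x101c001⟩, 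
  ⟨88, 0, [⟨66, 0, 4⟩, ⟨58, 0x100300a001, 0x9b4d48a4321861⟩, ⟨88, 0x100a002, 0x9a8a452165b321⟩], 0⟩, 
  ⟨88, 1, [⟨77, 0x100e003, 0xa4b256a590cb256eb⟩, ⟨91, 0x1002003, 0x275bb2274baeb6eb⟩, ⟨88, 0x100f003, 0x51489b4d330c2db30c⟩], 0x1a001⟩, 
  ⟨88, 2, [⟨70, 0x1007001, 0xdd76590c8616dd⟩, ⟨41, 0x21001, 0x156eb4da94c8616dd⟩, ⟨88, 0x100a002, 0x4da8a452165b321⟩], 0⟩, 
  ⟨88, 3, [⟨88, 0x1000003, 0x9228a42cb659861⟩, ⟨88, 0x1000003, 0x4da8a44cb664321⟩, ⟨88, 0x1000003, 0xa269b4d9864321⟩], 0⟩, 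
  ⟨88, 4, [⟨88, 0x1012002, 0x26d36a290b65b2cb⟩, ⟨78, 3, 0x35148a4321664⟩, ⟨88, 0x1003001, 0x34da8a452165b321⟩], 0⟩, 
  ⟨88, 6, [⟨75, 8195, 0x1489b4d450c2cb321⟩, ⟨97, 77, 0x134d350b65b321⟩, ⟨88, 0x100d003, 0x4d45244d9864321⟩], 0⟩, 
  ⟨88, 7, [⟨88, 0x1010002, 0x36a4b1450badd6eb⟩, ⟨91, 0x100e000, 0xd36a44d96642db⟩, ⟨88, 0x100c002, 0xa26d36a290c861861⟩], 0x1a001⟩, 
  ⟨88, 9, [⟨79, 0x1008003, 0x6ac964b0c85b32c⟩, ⟨36, 0x6003, 0x1592269d69b75b2eb⟩, ⟨88, 0x1003000, 0x1495bb2430b75b2ec⟩], 0⟩, 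
  ⟨88, 10, [⟨89, 0x1008002, 0x4ec8a2659964a5d⟩, ⟨91, 0x4003, 0x369b5228a16d9859⟩, ⟨88, 0x5002, 0x2b256d42db2dbb25⟩], 0⟩, 
  ⟨88, 11, [⟨91, 0, 0⟩, ⟨89, 0x3003, 0x452269b521864321⟩, ⟨88, 0x1014000, 0x5228a452165b321⟩], 0⟩, 
  ⟨88, 12, [⟨75, 4099, 0x495d6ec864adbb2b⟩, ⟨93, 4232, 0x452430c8642cb⟩, ⟨88, 0x100c002, 0xa2aec913a596d96ec⟩], 0x1a001⟩, 
  ⟨88, 14, [⟨90, 4098, 0x292289b66430b⟩, ⟨74, 4099, 0x1432165b2d9⟩, ⟨88, 0x14001, 0x495bad591494cb2c⟩], 0⟩, 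
  ⟨88, 15, [⟨91, 0x100e000, 0x1aaec9132ebaebb0c⟩, ⟨88, 0x100c002, 0x1244d34db30c85b⟩, ⟨88, 0x11003, 0x45144d485b66165b⟩], 0⟩, 
  ⟨88, 16, [⟨91, 0x1001001, 0x15a6a4b0b2dbb25⟩, ⟨77, 0x1007003, 0x245228a44d966190b⟩, ⟨88, 0x1007000, 0x9a69b4d9864321⟩], 0⟩, 
  ⟨88, 17, [⟨75, 3, 0x28642d9661⟩, ⟨97, 0x1000037, 0xa26d432165b⟩, ⟨88, 0x101a003, 0x1145226d32cc30c⟩], 0x1a001⟩, 
  ⟨88, 19, [⟨76, 0x1003003, 0x24b2c52cb0cb2b⟩, ⟨89, 0x14002, 0x52269b521864321⟩, ⟨88, 0x1001000, 0x11576489aad43256cc⟩], 0x1a001⟩, 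
  ⟨88, 20, [⟨66, 0x1007001, 0x92269a6a185b661⟩, ⟨61, 0x2013001, 0x1a86190b2d9⟩, ⟨88, 0x100c000, 0x2c8a26ab76292c2cb⟩], 0x1a001⟩, 
  ⟨88, 21, [⟨91, 8192, 0x52c96489a96275b2d9⟩, ⟨68, 0x3001, 0x1a75d914b0badd92c⟩, ⟨88, 0x1006002, 0x5148a28642d965b⟩], 0x1a001⟩, 
  ⟨88, 23, [⟨66, 0x18000, 0x6a45144eb75badd⟩, ⟨56, 0x16000, 0x1656eca642dd6dd⟩, ⟨88, 0x1007001, 0xa1add964add6ebadd⟩], 0x1a001⟩, 
  ⟨88, 24, [⟨86, 0x101b002, 0x36a4513699661864⟩, ⟨93, 4141, 0xa26d32d990b⟩, ⟨88, 0x100e002, 0x1d75d75a6ec325861⟩], 0x1a001⟩, 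
  ⟨88, 25, [⟨83, 0x1011003, 0x6d56eb75bacc⟩, ⟨92, 0x1001024, 0x28a44da66190c2db⟩, ⟨88, 0x1c002, 0x569a95b2eb2cb6ec⟩], 0x1a001⟩, 
  ⟨88, 26, [⟨81, 1, 0xa430b2d96cc⟩, ⟨91, 0x1006002, 0x48a269b52190b30c⟩, ⟨88, 0x10003, 0x4aebad45216dd965⟩], 0⟩, 
  ⟨88, 28, [⟨71, 1, 0x114b24b2c95d75a⟩, ⟨61, 0x4001000, 0x1a69b4db321664⟩, ⟨88, 0x1002001, 0x269a8a290c861859⟩], 0⟩, 
  ⟨88, 29, [⟨74, 0x3000, 0x8a430c8596cc⟩, ⟨90, 0x11001, 0x55bb2c95b52595b⟩, ⟨88, 0x11001, 0x489b2d9864321⟩], 0⟩, 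
  ⟨88, 31, [⟨79, 0x1005002, 0x6430c2db⟩, ⟨41, 0x3022001, 0x136a592cb0cb2c961⟩, ⟨88, 0x1003003, 0x115925664adbaeb764⟩], 0x1a001⟩, 
  ⟨88, 33, [⟨83, 0x8003, 0xd452289966185b⟩, ⟨97, 4231, 0x913659864321⟩, ⟨88, 0x100f002, 0x3ad496452574c965⟩], 0⟩, 
  ⟨88, 36, [⟨78, 3, 0x134dab2592c95a⟩, ⟨88, 0x1003001, 0x4da8a48a430c321⟩, ⟨88, 0x1012002, 0x14ad56ec96192b2eb⟩], 0⟩, 
  ⟨88, 38, [⟨72, 0x1010001, 0xb2cb132ebadb2dd⟩, ⟨61, 0x100300e001, 0x132db2cc30b⟩, ⟨88, 0x11001, 0x15a91369d6eb7532cb⟩], 0x1a001⟩, 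
  ⟨88, 39, [⟨91, 0x1003001, 0x1d9648a292cb2b4dd⟩, ⟨91, 0x1011001, 0x489a6da90b2d9⟩, ⟨88, 2, 0x1351369b321861⟩], 0x1a001⟩, 
  ⟨88, 46, [⟨89, 0x9002, 0x369d6ec864add⟩, ⟨76, 0x1006000, 0x4914b1450badd6eb⟩, ⟨88, 0x3002, 0x134da89b50c859861⟩], 0⟩, 
  ⟨89, 0, [⟨67, 0, 4⟩, ⟨22, 0x6001, 0x352432186165b⟩, ⟨89, 0x5000, 0x1430c85965b⟩], 0x1002002⟩, 
  ⟨89, 1, [⟨75, 0x100a002, 0x26a289b659661⟩, ⟨97, 4234, 0xd35144cb65b659⟩, ⟨89, 0x1004002, 0xd430c85965b⟩], 0x1002002⟩, 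
  ⟨89, 2, [⟨69, 0, 0x3659659⟩, ⟨58, 0x100400b000, 0xb245144cbae974b⟩, ⟨89, 2, 0x12c92c8596dd6dd⟩], 0x5003⟩, 
  ⟨89, 3, [⟨76, 0x6003, 0x28a269b2db32185b⟩, ⟨77, 8195, 0x5226d36642d9⟩, ⟨89, 0x6000, 0x1a9649645256dd⟩], 0x5003⟩, 
  ⟨89, 4, [⟨91, 0x4000, 0x9b4d34d965b659⟩, ⟨77, 0x1a003, 0x52b75badd864⟩, ⟨89, 0x1a000, 0x2c92c8596dd6dd⟩], 0x5003⟩, 
  ⟨89, 6, [⟨80, 8193, 0x12291595d764a9d⟩, ⟨58, 0x200a000, 0x4d45226cc85b2cb⟩, ⟨89, 0xb002, 0x12276495b4dd6dd⟩], 0x5003⟩, 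
  ⟨89, 7, [⟨86, 0x1003003, 0x292269a6cc8642cc⟩, ⟨92, 0x1001006, 0x75aada6d494b6eb⟩, ⟨89, 0x6003, 0xcc85965b⟩], 0x1002002⟩, 
  ⟨89, 9, [⟨91, 0xa001, 0x156ab69aada66192c⟩, ⟨88, 0x5002, 0x12c92cb2c4dd95b⟩, ⟨89, 0x1008002, 0xd330c85965b⟩], 0x1002002⟩, 
  ⟨89, 10, [⟨90, 0x100b002, 0xa269a6d96d9661⟩, ⟨77, 0x1007000, 0x76489a74c32532c⟩, ⟨89, 0x1a001, 0x27649645256dd⟩], 0x5003⟩, 
  ⟨89, 11, [⟨90, 0x10002, 0x9a91369b2d9859⟩, ⟨90, 0x1007001, 0x8a4b1450badd6eb⟩, ⟨89, 0, 0x9b30c85965b⟩], 0x1002002⟩, 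
  ⟨89, 12, [⟨72, 0xe001, 0xd35144db30b661⟩, ⟨53, 0x16000, 0xac95b4dd92c30b⟩, ⟨89, 0, 0x89a69b30b65b⟩], 0x1002002⟩, 
  ⟨89, 14, [⟨89, 0x12002, 0x1b4cb⟩, ⟨90, 0x1006001, 0x26d48a26cc3216cc⟩, ⟨89, 8192, 0x6d34d450c85965b⟩], 0x1002002⟩, 
  ⟨89, 15, [⟨90, 2, 0x148a29136596cb65b⟩, ⟨91, 2, 0xb2592c95a664⟩, ⟨89, 0x100d003, 0x6d330c85965b⟩], 0x1002002⟩, 
  ⟨89, 16, [⟨88, 0x13003, 0x26d45134d9661859⟩, ⟨91, 4096, 0x29136a452190b30c⟩, ⟨89, 0x18002, 0x36a26da6596cb⟩], 0x1002002⟩, 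
  ⟨89, 17, [⟨72, 1, 0x5964522913aecb25⟩, ⟨57, 0x1004009000, 0xa26d48a430c321⟩, ⟨89, 0xc000, 0x1a65b⟩], 0x1002002⟩, 
  ⟨89, 19, [⟨90, 0x1000003, 0x5228a290b65990b⟩, ⟨89, 8192, 0x44d49149132cc30b⟩, ⟨89, 0x1011001, 0x375aada6d494b6eb⟩], 0x5003⟩, 
  ⟨89, 20, [⟨77, 0x1013002, 0x4eb75baea759865⟩, ⟨91, 0x11003, 0x8a26d44db2d9659⟩, ⟨89, 0x1002003, 0xcb2cc864⟩], 0x1002002⟩, 
  ⟨89, 21, [⟨79, 0x1b002, 0x32190b6cb⟩, ⟨41, 0x6001, 0x492b6acadd7642dd⟩, ⟨89, 0x1008003, 0x1245649645256dd⟩], 0x5003⟩, 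
  ⟨89, 23, [⟨77, 0x10003, 0xd48a26d42cb659⟩, ⟨76, 0x1000000, 0x9a964b2592985b⟩, ⟨89, 0x15003, 0x4aec89a965864b25⟩], 0x5003⟩]

/-- base loops -/
def base7 : List BaseE := [
  ⟨89, 24, [⟨90, 0xa003, 0x2aec913adb50b6ec⟩, ⟨81, 0x4002, 0x69a91485b30b⟩, ⟨89, 0xf000, 0x2c962ada92c95d4cb⟩], 0x5003⟩, 
  ⟨89, 25, [⟨86, 0x1005002, 0x289b4db2cc864⟩, ⟨93, 4228, 0x5144d32db321864⟩, ⟨89, 2, 0x34d48a430b65b⟩], 0x1002002⟩, 
  ⟨89, 26, [⟨68, 0x1002000, 0x92269b65b664⟩, ⟨90, 0xb002, 0x8a289a90c85965b⟩, ⟨89, 0x1000001, 0x26d35649643256dd⟩], 0x5003⟩, 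
  ⟨89, 28, [⟨72, 0x18001, 0x2aeb69b32b65b75b⟩, ⟨61, 0x1002003001, 0x9148a289b30b2cc⟩, ⟨89, 0x12000, 0x430c30b⟩], 0x1002002⟩, 
  ⟨89, 29, [⟨85, 0x3001, 0xd56d56eb6d42dd⟩, ⟨99, 0x500111b, 0x145134d365b2cb661⟩, ⟨89, 8193, 0xaec89a965864b25⟩], 0x5003⟩, 
  ⟨89, 31, [⟨76, 0x1011003, 0x142cb65b30c⟩, ⟨88, 0x101a002, 0x2964b24321961764⟩, ⟨89, 0x9002, 0x9a964add75d525⟩], 0x5003⟩, 
  ⟨89, 33, [⟨91, 0x1002001, 0x2b69ab142dd75b⟩, ⟨90, 0x1006002, 0x9144d36a430c859⟩, ⟨89, 0x1000000, 0x5242cc85965b⟩], 0x1002002⟩, 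
  ⟨89, 36, [⟨77, 0x17002, 0x52c56489b4e96dd6cc⟩, ⟨90, 0x1006001, 0x10b6cb2d9⟩, ⟨89, 0x1a000, 0x12291489b32185b⟩], 0x5003⟩, 
  ⟨89, 38, [⟨66, 0x1009001, 0x16489d6a4325959⟩, ⟨58, 0x2011001, 0x2b75ba99664b0b⟩, ⟨89, 4098, 0x4b2596296592c864⟩], 0x5003⟩, 
  ⟨89, 39, [⟨83, 0x3003, 0x2289b4da90c2d96d9⟩, ⟨92, 4228, 0x5226da85b321⟩, ⟨89, 0x100b002, 0x135144cb6cc2cb⟩], 0x5003⟩, 
  ⟨89, 46, [⟨88, 0x1012002, 0x369d6ec864add⟩, ⟨76, 0x1003003, 0x9648ab66432532c⟩, ⟨89, 0x14002, 0x29134d36596d96cb⟩], 0x5003⟩, 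
  ⟨90, 0, [⟨75, 0x1005002, 0xa291450b2d965b⟩, ⟨97, 0x100000a, 0x89a6d43216cc⟩, ⟨90, 0x1011003, 0x45242d96642d9⟩], 0x1010002⟩, 
  ⟨90, 1, [⟨66, 0x100a001, 0x12b2b76592b6eb⟩, ⟨58, 0x1003015001, 0x495b4d450baeb329⟩, ⟨90, 0x1005002, 0xeb56496275bada65d⟩], 0x18003⟩, 
  ⟨90, 2, [⟨66, 0x4000, 0x144d350b6cc861⟩, ⟨56, 0x4001000, 0x1244da6d486165b⟩, ⟨90, 0x1002001, 0x2bada6d4ad96dd6cb⟩], 0x18003⟩, 
  ⟨90, 3, [⟨83, 0x7002, 0x9a6d36cc30b⟩, ⟨92, 32, 0x28a28a48596cb664⟩, ⟨90, 0x100c003, 0x35242d96642d9⟩], 0x1010002⟩, 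
  ⟨90, 4, [⟨90, 0x8003, 0xb66165b⟩, ⟨89, 0, 0x489a6996cc85b⟩, ⟨90, 0xb000, 0x8a430b6cb2d9⟩], 0x1010002⟩, 
  ⟨90, 5, [⟨72, 0x4001, 0x596455d6cb75b32c⟩, ⟨61, 0x4010001, 0x452269b521864321⟩, ⟨90, 0x1006000, 0x4d48a450b6cb2d9⟩], 0x1010002⟩, 
  ⟨90, 6, [⟨83, 0x4002, 0xec89d6eb764a65861⟩, ⟨97, 0x1001052, 0x8a575b4d99616dd⟩, ⟨90, 0x100c003, 0x159228a452cad9759⟩], 0x18003⟩, 
  ⟨90, 7, [⟨77, 0x3002, 0x28a289966185b⟩, ⟨89, 0x1a001, 0x164b2592b50c⟩, ⟨90, 0x1010000, 0x29656d3accb256eb⟩], 0x18003⟩, 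
  ⟨90, 8, [⟨71, 0, 0xd32d985b659⟩, ⟨61, 0x1000010000, 0x51592c96165974c⟩, ⟨90, 0x10000, 0x6a42d96642d9⟩], 0x1010002⟩, 
  ⟨90, 10, [⟨75, 0x101c003, 0x6d32cc32165b⟩, ⟨93, 65, 0x452430c2cb6cb⟩, ⟨90, 0x1003002, 0x142d96642d9⟩], 0x1010002⟩, 
  ⟨90, 11, [⟨89, 0x14002, 0x2290b2cc30b⟩, ⟨90, 0xb000, 0x35159256d375b759⟩, ⟨90, 0x1007001, 0x8a48a26cc2db2db⟩], 0x1010002⟩, 
  ⟨90, 12, [⟨90, 3, 0x699861659⟩, ⟨90, 0x100e001, 0x229148a190b664⟩, ⟨90, 0x100e001, 0x14522914861861⟩], 0x1010002⟩, 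
  ⟨90, 14, [⟨75, 0x100e002, 0x4b25914b2992b761⟩, ⟨97, 4213, 0x11369a8a16d9661⟩, ⟨90, 0xa002, 0x36a42d96642d9⟩], 0x1010002⟩, 
  ⟨90, 15, [⟨89, 0x1016002, 0xd489b4d96cb664⟩, ⟨91, 0x1013003, 0x2b244da914b29959⟩, ⟨90, 0x100c002, 0x228ab7643256e9⟩], 0x1010002⟩, 
  ⟨90, 16, [⟨89, 0x1004002, 0x6d432190c861⟩, ⟨77, 0x1001001, 0x22664321861⟩, ⟨90, 0x6001, 0xa28a48a18642cb⟩], 0x1010002⟩, 
  ⟨90, 17, [⟨74, 1, 0x134d44d985b2cb⟩, ⟨88, 8193, 0xa452cb2b75d6dd⟩, ⟨90, 4098, 0x51489b4cb661864⟩], 0x1010002⟩, 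
  ⟨90, 18, [⟨90, 0x6003, 0x5228996cc2db⟩, ⟨78, 8192, 0xa26d452190b2cb⟩, ⟨90, 0x1001001, 0xd96642d9⟩], 0x1010002⟩, 
  ⟨90, 19, [⟨78, 0x12002, 0x48596cb2db⟩, ⟨90, 0, 0x69a69b4cc3216cb⟩, ⟨90, 0x7000, 0x29145244d96642d9⟩], 0x1010002⟩, 
  ⟨90, 20, [⟨79, 0x1003002, 0x2276495b4dd6dd⟩, ⟨41, 0x2016002, 0x48a28996cb65b⟩, ⟨90, 0x1b002, 0x3b1591495d4dd2eb⟩], 0x18003⟩, 
  ⟨90, 22, [⟨79, 0x1012002, 0x29226d48a190b321⟩, ⟨36, 0xa000, 0xa291450b2db2cb⟩, ⟨90, 0x6000, 0x28ab7643256e9⟩], 0x1010002⟩, 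
  ⟨90, 23, [⟨88, 0x14003, 0x6a26d44db2cb659⟩, ⟨74, 0x3000, 0x245242cb30c864⟩, ⟨90, 0x11001, 0xa45226d32d9861⟩], 0x1010002⟩, 
  ⟨90, 25, [⟨91, 4096, 0xad3ada6eca5baeb⟩, ⟨89, 0x1008003, 0x4ada6a294b2cbadd⟩, ⟨90, 0x100b000, 0xa29148642d9⟩], 0x1010002⟩, 
  ⟨90, 31, [⟨76, 0x3003, 0xb244dd6e995baec⟩, ⟨91, 0x1005000, 0x9a69b51366190c30c⟩, ⟨90, 0x100e002, 0x124b2cb2289baeb2ec⟩], 0x18003⟩, 
  ⟨90, 32, [⟨89, 0x1008002, 0x159256ccad9964⟩, ⟨89, 0x1011001, 0x69d6ebacbaeb764⟩, ⟨90, 0x1006001, 0x2cb226cc2cb75d⟩], 0x18003⟩, 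
  ⟨90, 33, [⟨70, 0x1007000, 0x456292292b6ea65d⟩, ⟨41, 0x7002, 0x259659144cb75d6dd⟩, ⟨90, 0x1000003, 0x8a2b21aecb256eb⟩], 0x18003⟩, 
  ⟨90, 35, [⟨91, 0x7000, 0x29135226cb2cb6cb⟩, ⟨76, 0x4002, 0x134dab2592c95a⟩, ⟨90, 0x3003, 0x162b2589d6eb329⟩], 0x18003⟩, 
  ⟨90, 38, [⟨66, 0x101d001, 0x4da9142cb6cc⟩, ⟨61, 0x100100d001, 0x492c8a495430b75d⟩, ⟨90, 0x1002000, 0x1d75d6d352596195b⟩], 0x18003⟩, 
  ⟨90, 39, [⟨86, 0x1007003, 0x89b4da6d330c2cb⟩, ⟨93, 36, 0x12291450b2db2db⟩, ⟨90, 0x7002, 0x9b2cb661864⟩], 0x1010002⟩, 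
  ⟨90, 40, [⟨81, 0x3001, 0x15914964a6165b32c⟩, ⟨89, 0x4001, 0x6a430b65b30b⟩, ⟨90, 0x1014000, 0xa452289966185b⟩], 0x1010002⟩, 
  ⟨90, 49, [⟨89, 0x11003, 0xa289a6d332185b2d9⟩, ⟨68, 0x4002, 0x29228a26596cc864⟩, ⟨90, 0x1004002, 0x51352290b2db321⟩], 0x18003⟩, 
  ⟨91, 0, [⟨88, 0, 9945⟩, ⟨88, 0x1010002, 0x10c2db30b⟩, ⟨91, 0x100e000, 0x13b24ada6eb6eb⟩], 0x9003⟩, 
  ⟨91, 1, [⟨72, 0x4002, 0x136a4321659861⟩, ⟨57, 0xc000, 0x1244d9661859⟩, ⟨91, 0x100e002, 0x114b24b2292b6eb⟩], 0x9003⟩, 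
  ⟨91, 2, [⟨86, 0x1006000, 0xd35144d966430c⟩, ⟨92, 0x1000037, 0x51369a65b2cc864⟩, ⟨91, 0x1006001, 0x9bb24ada6eb6eb⟩], 0x9003⟩, 
  ⟨91, 3, [⟨88, 0x1000001, 0x14964525929929⟩, ⟨77, 0x100e003, 0x1d92baec8a56dd664⟩, ⟨91, 0x1002003, 0x14b24b2292b6eb⟩], 0x9003⟩, 
  ⟨91, 4, [⟨89, 0x100e000, 0xa269a6cb2d9864⟩, ⟨77, 0x101c000, 0xa451452185b661⟩, ⟨91, 0x1011003, 0x69bb24ada6eb6eb⟩], 0x9003⟩, 
  ⟨91, 5, [⟨77, 0, 0xcc321664⟩, ⟨76, 0x1002001, 0x352269b66165b⟩, ⟨91, 0x1001000, 0x2589a75badd2cb⟩], 8194⟩, 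
  ⟨91, 6, [⟨80, 0x12002, 0x28a42cb30c861⟩, ⟨58, 0x100000f000, 0x6ec92cb2275d65d⟩, ⟨91, 0xf000, 0x148a592c89bad96eb⟩], 8194⟩, 
  ⟨91, 7, [⟨86, 0x1010000, 0x291369a65b65b2cc⟩, ⟨93, 98, 0x489a9148596cb⟩, ⟨91, 0x1017001, 0x5245134cb6cb2cb⟩], 8194⟩, 
  ⟨91, 9, [⟨69, 0x1010003, 0x26d36a190c85b⟩, ⟨58, 0, 0x13b22b2590c95b664⟩, ⟨91, 0x1b000, 0x589a75badd2cb⟩], 8194⟩, 
  ⟨91, 10, [⟨72, 4098, 0x90b6cc30c⟩, ⟨53, 0xd000, 0x26a28a4321659⟩, ⟨91, 0x1b002, 0x92c5643216e96dd⟩], 0x9003⟩, 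
  ⟨91, 11, [⟨67, 4099, 0xb25914b2575495b⟩, ⟨22, 0x200b001, 0x55a6d4b2c94c965⟩, ⟨91, 0x1a003, 0x89a69b321664⟩], 8194⟩, 
  ⟨91, 13, [⟨76, 8193, 0x6d451489b321859⟩, ⟨77, 0x101a002, 0x48a291369966185b⟩, ⟨91, 0x7003, 0x564ada94cb2b6eb⟩], 0x9003⟩, 
  ⟨91, 15, [⟨72, 0x5002, 0x289a6a430b2cb⟩, ⟨61, 0x2011001, 0xa42d96cb2cb⟩, ⟨91, 0x1001003, 0x4b24aebad495d⟩], 8194⟩, 
  ⟨91, 16, [⟨83, 8192, 0x92c4da914b25929⟩, ⟨92, 98, 0x1491489b5218642cb⟩, ⟨91, 0xf000, 0x13b24b2292b6eb⟩], 0x9003⟩, 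
  ⟨91, 17, [⟨88, 0x7001, 0x1489a69a85b321859⟩, ⟨81, 1, 0xda69b30c861861⟩, ⟨91, 0x1006002, 0x6a451489b321859⟩], 8194⟩, 
  ⟨91, 19, [⟨89, 0x100c000, 0x149134d96642db⟩, ⟨90, 0x100b000, 0x1b52c8a4b2589992b⟩, ⟨91, 0x11002, 0x14b24ada6eb6eb⟩], 0x9003⟩, 
  ⟨91, 20, [⟨85, 2, 0x69d914964a64acc⟩, ⟨99, 0x3001032, 0x1134d369990b2d9⟩, ⟨91, 0x19003, 0x289aad495a92b6eb⟩], 0x9003⟩, 
  ⟨91, 22, [⟨76, 0x1006000, 0x229136642db⟩, ⟨90, 0x3003, 0x26cb30c861⟩, ⟨91, 0x100c002, 0x489b4d450b2d9664⟩], 0x9003⟩, 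
  ⟨91, 23, [⟨68, 0x1007003, 0x5134d990c85b⟩, ⟨88, 0x3002, 0x6d575b4d99616dd⟩, ⟨91, 8192, 0xdab24b2292b6eb⟩], 0x9003⟩, 
  ⟨91, 25, [⟨66, 0x1b002, 0x44d35143216d965b⟩, ⟨58, 0x1004006001, 0x24adab2c9652dd⟩, ⟨91, 0x9000, 0x2592c85bad96eb⟩], 8194⟩, 
  ⟨91, 28, [⟨77, 0x1004000, 0x1ab2592c959⟩, ⟨89, 0xd001, 0x4d34da6642cb6cc⟩, ⟨91, 0xc002, 0x275a6eb6a16dd6eb⟩], 0x9003⟩, 
  ⟨91, 29, [⟨90, 0x4000, 0x289b5148616cb2db⟩, ⟨89, 0x4000, 0x369b4d48a42d9661⟩, ⟨91, 0x1013003, 0x1491450c85b2db⟩], 8194⟩, 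
  ⟨91, 31, [⟨88, 0x1003000, 0x575b52c4cbaeb759⟩, ⟨91, 0x1003001, 0x144d34db30b2cb⟩, ⟨91, 0x1011001, 0x2bb1496292b75d90c⟩], 0x9003⟩, 
  ⟨91, 32, [⟨75, 1, 0x9a9148a1864321⟩, ⟨97, 0x1000064, 0x489b4eb75badd321⟩, ⟨91, 0x1013001, 0x369a6a190c864⟩], 8194⟩, 
  ⟨91, 34, [⟨89, 0x10001, 0x2455badd69994c⟩, ⟨88, 0x1014000, 0x24aeb6a29536cc95b⟩, ⟨91, 0, 0x1491589a75badd4cb⟩], 8194⟩, 
  ⟨91, 35, [⟨91, 0x1002003, 0x1132db2cb661⟩, ⟨88, 2, 0x76495b2dd6dd90c⟩, ⟨91, 0x1003001, 0x57644d4b2c32592b⟩], 0x9003⟩, 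
  ⟨91, 36, [⟨88, 0x1000000, 0x4d35142db30c85b⟩, ⟨89, 2, 0x36a456575d92a75b⟩, ⟨91, 0x1000003, 0x9a6a290b2d990c⟩], 8194⟩, 
  ⟨91, 39, [⟨77, 0x1014000, 0xa42cb65b30b⟩, ⟨88, 0x7000, 0x24b24add7644eb65d⟩, ⟨91, 0x1001001, 0x1ab259626eb6ec4dd⟩], 0x9003⟩, 
  ⟨91, 42, [⟨90, 0x7000, 0x28a26a432165b664⟩, ⟨76, 0x1002000, 0xb2c95b4dd90cae9⟩, ⟨91, 0x6001, 0x12c89d92c95ba9d⟩], 0x9003⟩, 
  ⟨91, 43, [⟨79, 0x9001, 0xda69a6cb2db2db⟩, ⟨41, 0x2013001, 0x6a28a432190c⟩, ⟨91, 0x1003000, 0x9148a44d990c2db⟩], 0x9003⟩, 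
  ⟨92, 0, [⟨96, 0, 0⟩, ⟨52, 0x7001, 0x59644eb2dd2dd74b⟩, ⟨38, 0x4000000, 0x30c2cb⟩], 0x1000000⟩, 
  ⟨92, 1, [⟨92, 0x100005b, 0x52cb2cb0c9596e9⟩, ⟨79, 0xe002, 0x490b65b2d9⟩, ⟨38, 0x3007002, 0xab514b2c52badd⟩], 4096⟩, 
  ⟨92, 2, [⟨97, 4146, 0x226ab65badd2dd⟩, ⟨79, 0x1007002, 0x2c55bad36642dba59⟩, ⟨38, 0x4015001, 0x48a1⟩], 0⟩, 
  ⟨92, 3, [⟨97, 0x1000015, 0x52269b661864⟩, ⟨79, 0x5002, 0x96269bb2292b6e9⟩, ⟨38, 0xd002, 0x1b30c2cb⟩], 0x1000000⟩, 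
  ⟨92, 4, [⟨93, 44, 0x26a28a190c2cb⟩, ⟨70, 0x1001001, 0x34da91369966185b⟩, ⟨38, 0x100201c001, 2209⟩], 0⟩, 
  ⟨92, 5, [⟨94, 33, 0x6d365965b661⟩, ⟨95, 33, 0x136596cb30c⟩, ⟨38, 0xf002, 0x2cc861⟩], 0⟩, 
  ⟨92, 6, [⟨96, 135, 0x96452ca6192cb2c⟩, ⟨54, 0x1002013001, 0x65965b65b⟩, ⟨38, 0x3000, 0xdb30c861⟩], 0⟩, 
  ⟨92, 7, [⟨93, 158, 0x9b4d36a430c321⟩, ⟨79, 0xa003, 0x3216cb6cc⟩, ⟨38, 0x4014002, 161⟩], 0⟩, 
  ⟨92, 9, [⟨94, 32, 0x69a9134d965990b⟩, ⟨95, 98, 0x1576592c4ebae9764⟩, ⟨38, 0x2013001, 0xd32db30c321⟩], 0x1001000⟩, 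
  ⟨92, 10, [⟨98, 0x1001004, 0x6a29134d966185b⟩, ⟨95, 143, 0x4564b226eb6cc2dd⟩, ⟨38, 0x100001f001, 0x26eb514b2c52badd⟩], 4096⟩, 
  ⟨92, 11, [⟨96, 0x1001052, 0x245144d34cc30b659⟩, ⟨54, 0x1000017001, 0x11489a6d42cb661⟩, ⟨38, 0x200c003, 0x34d489b65b2cb⟩], 4096⟩, 
  ⟨92, 13, [⟨94, 4228, 0xa485b2d9659⟩, ⟨95, 32, 0xa45144d96642cb⟩, ⟨38, 0x100000b001, 1697⟩], 0⟩, 
  ⟨92, 20, [⟨95, 0x1001006, 0x1d914ada6a192b2eb⟩, ⟨35, 0x7000, 0x24add91495bacc⟩, ⟨38, 0x1019000, 0xdb4cb⟩], 0x1000000⟩, 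
  ⟨92, 21, [⟨93, 159, 0xa29148996cc859⟩, ⟨87, 0, 0x1b4da6d4861864⟩, ⟨38, 0x100001f003, 0x1244cb30c861⟩], 0⟩, 
  ⟨92, 22, [⟨94, 36, 0x9b30b6cb30c⟩, ⟨95, 132, 0x1452b75bacb32c⟩, ⟨38, 0x1000018001, 0x1b5149132d985b⟩], 4096⟩, 
  ⟨92, 24, [⟨95, 0x1000037, 0x295d6eb664b2595b⟩, ⟨35, 0x7003, 0x292292289965b321⟩, ⟨38, 0x100400b000, 0x1244d489b65b2cb⟩], 4096⟩, 
  ⟨92, 27, [⟨94, 98, 0x1136acaebb254eb⟩, ⟨95, 36, 0x69a8a26cb321864⟩, ⟨38, 0x4011002, 0xa485b30c861⟩], 0⟩, 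
  ⟨92, 38, [⟨92, 4097, 0x36a26d48a16596cc⟩, ⟨79, 0x7002, 0x36a42d965b30b⟩, ⟨38, 0x1001009001, 0x132cb32165b⟩], 0x1000000⟩, 
  ⟨92, 42, [⟨95, 25, 0x8a592c964b0b⟩, ⟨44, 0x100001b000, 0x1452269b3216cb6cc⟩, ⟨38, 0x400b000, 0xa489a6d330c2cb⟩], 0x1000000⟩, 
  ⟨92, 46, [⟨97, 125, 0x4d48a44d98596cb⟩, ⟨62, 4099, 0x1575b52292b6ecb2c⟩, ⟨38, 0x1002010001, 0x9a8a42cb664⟩], 0x1000000⟩, 
  ⟨93, 0, [⟨97, 0x1001072, 0x145135218642d9⟩, ⟨86, 4099, 0x490b6cb2d9⟩, ⟨94, 44, 0x8a26d32d985b⟩], 0x1001000⟩, 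
  ⟨93, 1, [⟨96, 4146, 0xa29226998642cc⟩, ⟨59, 0x100300e000, 0x9ab2c89a6616dd75b⟩, ⟨94, 4127, 0x34cb30c861⟩], 0⟩, 
  ⟨93, 2, [⟨94, 0x100005b, 0x2596596192b2dd⟩, ⟨94, 0x100005b, 0xa45134db2d9661⟩, ⟨94, 0x100005b, 0x6a42d96cc321⟩], 4096⟩, 
  ⟨93, 3, [⟨95, 33, 0x4da6d32cb6cc⟩, ⟨38, 0xf002, 0x4da6d36a430c2cb⟩, ⟨94, 33, 0x1b4cb30c861⟩], 0⟩, 
  ⟨93, 4, [⟨92, 44, 0x1226d36a16d96d9⟩, ⟨75, 0x100f003, 0x1256d56cb321965⟩, ⟨94, 116, 0xd45244db2db2d9⟩], 0x1001000⟩, 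
  ⟨93, 5, [⟨96, 0x1000015, 0x9132db30c321⟩, ⟨59, 0x100000c000, 0x2d96cc2db⟩, ⟨94, 4146, 0x1490b659861⟩], 0x1000000⟩, 
  ⟨93, 6, [⟨97, 0x1001049, 0xd489a6d4861861⟩, ⟨83, 4099, 0xa44d34cb66430b⟩, ⟨94, 0x1001006, 0x1244cb659861⟩], 0x1000000⟩, 
  ⟨93, 7, [⟨98, 31, 0x158a495bb2cae9⟩, ⟨98, 21, 0x9b51489b661659⟩, ⟨94, 0x1000047, 0x1135244db2db321⟩], 0x1001000⟩, 
  ⟨93, 8, [⟨95, 32, 0x4d430c859661⟩, ⟨38, 0x100000b001, 0x9badd6eb74c⟩, ⟨94, 4228, 0x286190c861⟩], 0⟩, 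
  ⟨93, 9, [⟨97, 5, 0x55a6ec96175ba5d⟩, ⟨83, 0x100e002, 0x764b244cc94bb0c⟩, ⟨94, 0x1000037, 0xd490b659861⟩], 0x1000000⟩, 
  ⟨93, 10, [⟨92, 158, 0x369a6d4861864⟩, ⟨86, 0xa003, 0x56d4964adb2cc961⟩, ⟨94, 158, 0x9a6d32d985b⟩], 0x1001000⟩, 
  ⟨93, 18, [⟨95, 4228, 0x490b65b2cb⟩, ⟨38, 0x1000018001, 0x26d45226cb6616cb⟩, ⟨94, 36, 0x149132cb659861⟩], 0x1000000⟩, 
  ⟨93, 20, [⟨93, 0x1001006, 0x4da91430c864⟩, ⟨75, 0x100a002, 0x9b4d450b2db321⟩, ⟨94, 73, 0x2b5226ebb2caea⟩], 0x1001000⟩, 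
  ⟨93, 22, [⟨95, 98, 0x11452c92cb2575d⟩, ⟨38, 0x2013001, 0x6a48a26996cc321⟩, ⟨94, 32, 0x8a42cb6cc321⟩], 4096⟩, 
  ⟨93, 25, [⟨93, 0x1000037, 0x2913b2592c95990c⟩, ⟨75, 0x5003, 0x1144da6a18596cc⟩, ⟨94, 3, 0x451369b4cb664321⟩], 4096⟩, 
  ⟨93, 27, [⟨95, 36, 0xda85b659861⟩, ⟨38, 0x4011002, 0x28642d9859⟩, ⟨94, 98, 0xa489b2cb30c861⟩], 0⟩, 
  ⟨93, 28, [⟨92, 159, 0x45229132d990b⟩, ⟨83, 0x6003, 0x256d3764b0c2dd65b⟩, ⟨94, 25, 0xa45256dd6dd865⟩], 0⟩, 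
  ⟨93, 35, [⟨94, 4097, 0xd48a26d3321661⟩, ⟨94, 1, 0x352289b50b65990b⟩, ⟨94, 1, 0xa289a65b65965b⟩], 4096⟩, 
  ⟨93, 36, [⟨93, 25, 0x489b2cb6642d9⟩, ⟨86, 0x4002, 0x52289b4d96cc859⟩, ⟨94, 159, 0x244da6d36cc321⟩], 0x1001000⟩, 
  ⟨93, 47, [⟨96, 0x100107d, 0xada6ebadd4eb2dd⟩, ⟨59, 0x1002016000, 0x229148996d9864⟩, ⟨94, 126, 0x164b25929661864⟩], 0x1000000⟩, 
  ⟨94, 0, [⟨97, 0, 0⟩, ⟨77, 0x100b002, 0xa45244db2db2cc⟩, ⟨83, 0x1007000, 0x6a44da914861861⟩], 0x1000000⟩, 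
  ⟨94, 1, [⟨96, 4165, 0xa43218642cc⟩, ⟨61, 0x100400e000, 0x92c964b254cb⟩, ⟨83, 0x9001, 0x9156eb75bad3661⟩], 0x1000000⟩, 
  ⟨94, 2, [⟨93, 0x100005b, 0x2596596192b2dd⟩, ⟨76, 0x1002003, 0x2591495ba9ba59⟩, ⟨83, 0x7003, 0x134d45226cc2cb2cc⟩], 0x1001000⟩, 
  ⟨94, 3, [⟨92, 33, 0x4da6d32cb6cc⟩, ⟨68, 0x3000, 0x451452450b2cb664⟩, ⟨83, 0x3002, 0x1156eb75bad3661⟩], 0x1000000⟩, 
  ⟨94, 4, [⟨95, 44, 0x1226d36a16d96d9⟩, ⟨36, 0x19003, 0x6a495a75b75b754⟩, ⟨83, 0x100c000, 0x44da69b4db2cb659⟩], 4096⟩, 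
  ⟨94, 5, [⟨96, 152, 0x6d369b2cb30c2cb⟩, ⟨61, 0x17000, 0x489b4d450b6cc30b⟩, ⟨83, 0x1000001, 0x964b229296eb659⟩], 0x1001000⟩, 
  ⟨94, 6, [⟨97, 0x1001052, 0x5914964aa4b216cb⟩, ⟨90, 0x100c003, 0xa29229143216cc85b⟩, ⟨83, 0x1001001, 0x156eb75bad3661⟩], 0x1000000⟩, 
  ⟨94, 7, [⟨98, 0x100003c, 0xaec96292b6cbaeb⟩, ⟨92, 100, 0x26a26d965b2db⟩, ⟨83, 0x12002, 0x1228a269b661861⟩], 0x1000000⟩, 
  ⟨94, 8, [⟨92, 32, 0x4d430c859661⟩, ⟨90, 0x100c003, 0x9a6a28642cb664⟩, ⟨83, 0x1006000, 0x22b2baec94bad9⟩], 0⟩, 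
  ⟨94, 9, [⟨97, 0x1001087, 0x55d6d432965bb0c⟩, ⟨88, 0x100f002, 0x5142cb661859⟩, ⟨83, 0x8003, 0x5148a28596d9864⟩], 0x1000000⟩, 
  ⟨94, 10, [⟨95, 158, 0x369a6d4861864⟩, ⟨41, 0x201d002, 0x8ab75badd4cb6cc⟩, ⟨83, 0x1010003, 0x36a45226d42cb2d9⟩], 0⟩, 
  ⟨94, 18, [⟨92, 4228, 0x490b65b2cb⟩, ⟨89, 0x100b002, 0x89bb22b2590c959⟩, ⟨83, 0x1010001, 0x91369a8a165b2cc⟩], 0x1001000⟩, 
  ⟨94, 20, [⟨94, 0x1001006, 0x4da91430c864⟩, ⟨97, 4169, 0x44da69b2db321⟩, ⟨83, 4099, 0x28a26d365b321864⟩], 0⟩, 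
  ⟨94, 22, [⟨92, 98, 0x11452c92cb2575d⟩, ⟨91, 0xf000, 0x95b55b325864325⟩, ⟨83, 0x1003002, 0x24b24add7644eb65d⟩], 4096⟩, 
  ⟨94, 25, [⟨94, 0x1000037, 0x2913b2592c95990c⟩, ⟨97, 0x1000005, 0x45148a44ec964b25⟩, ⟨83, 0x100e002, 0xab4ecb2269baebb21⟩], 0⟩, 
  ⟨94, 27, [⟨92, 36, 0xda85b659861⟩, ⟨88, 0x1c002, 0x59645134cb664a65⟩, ⟨83, 0x1011003, 0x491489a6d3659661⟩], 0x1000000⟩, 
  ⟨94, 28, [⟨95, 159, 0x45229132d990b⟩, ⟨43, 8193, 0x5145216d96cc⟩, ⟨83, 0x3001, 0x44d48a290b66430c⟩], 4096⟩]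

/-- base loops -/
def base8 : List BaseE := [
  ⟨94, 35, [⟨93, 4097, 0xd48a26d3321661⟩, ⟨76, 0x7003, 0x134da6a430c2d9⟩, ⟨83, 0x1000002, 0x762b2291374b6eb⟩], 0⟩, 
  ⟨94, 36, [⟨94, 25, 0x489b2cb6642d9⟩, ⟨92, 159, 0x5226d352186430b⟩, ⟨83, 0x6003, 0xa269a6a289b65b2cc⟩], 0⟩, 
  ⟨94, 47, [⟨96, 105, 0x8a289b50c85b2cb⟩, ⟨53, 0x9001, 0x1b4da6d486165b⟩, ⟨83, 0x1000000, 0x4dab2baecaa5⟩], 0x1000000⟩, 
  ⟨95, 0, [⟨96, 0x1001072, 0x8a26a430c85b⟩, ⟨57, 0x100a001, 0x2452269b3216cb⟩, ⟨86, 0x18000, 0xa289a6616cb6cc⟩], 0⟩, 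
  ⟨95, 1, [⟨95, 0x100005b, 0x52cb2cb0c9596e9⟩, ⟨41, 0x12001, 0x14962b2296530c965⟩, ⟨86, 0x7002, 0x2b5244dd6dd865⟩], 0⟩, 
  ⟨95, 2, [⟨97, 4165, 0x12290c321661⟩, ⟨77, 0x3002, 0x24b22aec9652dd⟩, ⟨86, 0x1006001, 0x49144db2db2db⟩], 4096⟩, 
  ⟨95, 3, [⟨97, 152, 0x8a269a86190c864⟩, ⟨77, 0x1007002, 0x1a6d330c2d9659⟩, ⟨86, 0x1002001, 0x134d48a16d9659⟩], 0⟩, 
  ⟨95, 4, [⟨94, 44, 0x26a28a190c2cb⟩, ⟨97, 114, 0x4d36a450c2cb2db⟩, ⟨86, 4099, 0x9a6a16cb6cc⟩], 0⟩, 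
  ⟨95, 5, [⟨93, 33, 0x6d365965b661⟩, ⟨81, 0x3000, 0x491485b2cb30c⟩, ⟨86, 0x1010000, 0x28a489b66185b⟩], 0x1000000⟩, 
  ⟨95, 6, [⟨96, 0x1001005, 0x12269a8a430b661⟩, ⟨58, 0xc000, 0xd45144d96cb321⟩, ⟨86, 0x4002, 0x2db2db2d9⟩], 4096⟩, 
  ⟨95, 7, [⟨94, 158, 0x9b4d36a430c321⟩, ⟨92, 158, 0x9145134cb6cb30c⟩, ⟨86, 0xa003, 0x1144db2db2db⟩], 4096⟩, 
  ⟨95, 9, [⟨93, 32, 0x69a9134d965990b⟩, ⟨88, 0x1000003, 0xda65986185b⟩, ⟨86, 0x101b002, 0x1a8a489b66185b⟩], 0x1000000⟩, 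
  ⟨95, 10, [⟨98, 0x1001011, 0x49132db2d9659⟩, ⟨93, 4217, 0x52289a65b2cb6cc⟩, ⟨86, 0x1003002, 0xa26d36cc2d9⟩], 4096⟩, 
  ⟨95, 11, [⟨96, 0x1001049, 0x9a9134d990c30c⟩, ⟨58, 0, 0x28a292286430b6cc⟩, ⟨86, 0x1002002, 0x6a29136a430c861⟩], 0x1001000⟩, 
  ⟨95, 13, [⟨93, 4228, 0xa485b2d9659⟩, ⟨89, 2, 0x6eb6acb2595b325⟩, ⟨86, 0x1010000, 0x369a6a16cb6cc⟩], 0⟩, 
  ⟨95, 20, [⟨92, 0x1001006, 0x1d914ada6a192b2eb⟩, ⟨89, 0x6003, 0x10b2db2d9⟩, ⟨86, 0x1006001, 0x1b3216cb6cc⟩], 0x1000000⟩, 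
  ⟨95, 21, [⟨94, 159, 0xa29148996cc859⟩, ⟨93, 25, 0xb156eb659661929⟩, ⟨86, 0x4002, 0x1369b2cc321661⟩], 4096⟩, 
  ⟨95, 22, [⟨93, 36, 0x9b30b6cb30c⟩, ⟨90, 0x7002, 0x89a6a286432190c⟩, ⟨86, 0xa000, 0x89a6a290c2db2cc⟩], 0x1001000⟩, 
  ⟨95, 24, [⟨92, 0x1000037, 0x295d6eb664b2595b⟩, ⟨91, 0x1006001, 0x148a44d965b2db⟩, ⟨86, 0x8003, 0x85b66185b⟩], 0x1000000⟩, 
  ⟨95, 27, [⟨93, 98, 0x1136acaebb254eb⟩, ⟨91, 0x1017001, 0x5245148a18596d9⟩, ⟨86, 0x5002, 0x145148a18616cc⟩], 0⟩, 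
  ⟨95, 38, [⟨95, 4097, 0x36a26d48a16596cc⟩, ⟨41, 0x1004009001, 0x36a289b6616cc⟩, ⟨86, 0x8003, 0x8a289b4d966185b⟩], 0x1001000⟩, 
  ⟨95, 42, [⟨92, 25, 0x8a592c964b0b⟩, ⟨82, 0, 0x9b5226d3661659⟩, ⟨86, 0x7000, 0xa48a28996cc2d9⟩], 0x1000000⟩, 
  ⟨95, 46, [⟨97, 0x1001069, 0x9628a275badd85b⟩, ⟨78, 0x5002, 0x55d92c85ba5d6e9⟩, ⟨86, 0x7000, 0x48a29226d32cc30b⟩], 0⟩, 
  ⟨96, 0, [⟨92, 0, 0⟩, ⟨69, 0x8001, 0x12450c2cb321⟩, ⟨59, 0x300c000, 0xa28a452450b2cc30b⟩], 4210⟩, 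
  ⟨96, 1, [⟨97, 0x1001036, 0x4b228a2aeb75d2dd⟩, ⟨66, 0x1a000, 0x52291369990c30b⟩, ⟨59, 0x1003017001, 0xa56d369a6e992c959⟩], 4210⟩, 
  ⟨96, 2, [⟨98, 0x100101b, 0x2765965864acb759⟩, ⟨96, 4142, 0xaebad35259616e9⟩, ⟨59, 0x4013000, 0x8a452430b2cc30b⟩], 4210⟩, 
  ⟨96, 3, [⟨96, 4213, 0x229148996d990c⟩, ⟨60, 0x200a000, 0xdd6ec91332575b⟩, ⟨59, 0x100300c001, 0x14b2592bad994b2e9⟩], 0x1001072⟩, 
  ⟨96, 4, [⟨97, 0x100003b, 0x51352190c85b⟩, ⟨71, 0, 0x352c964aeb665865⟩, ⟨59, 0x1003007000, 0xa452430b2cc30b⟩], 4210⟩, 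
  ⟨96, 5, [⟨97, 158, 0x6d34da914321861⟩, ⟨72, 0xb000, 0x26ebb24b2175bae9⟩, ⟨59, 0x100a001, 0x14b2c89d6d3b25961⟩], 4210⟩, 
  ⟨96, 6, [⟨96, 55, 0x289d6a4acc95b74c⟩, ⟨51, 0x6001, 0x3ad355d6ebad374c⟩, ⟨59, 0x1000003000, 0xab69ab144dd74c2d9⟩], 0x1001072⟩, 
  ⟨96, 7, [⟨93, 126, 0x4da6a452190b2d9⟩, ⟨80, 0x1010001, 0x1244da8a430b2db⟩, ⟨59, 0x1000014000, 0x34ebaec96590c2e9⟩], 0x1001072⟩, 
  ⟨96, 8, [⟨93, 0x1001015, 0x48ac56432194b6e9⟩, ⟨66, 0x100c001, 0x114b13aecb2bacb⟩, ⟨59, 0x7001, 0x4d34da90c30b6cc⟩], 4210⟩, 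
  ⟨96, 9, [⟨95, 3, 0xac914b13acb6eb⟩, ⟨37, 0x3000, 0x6a26d36a190c861⟩, ⟨59, 0x3001001, 0x375a91369d6eb761⟩], 0x1001072⟩, 
  ⟨96, 10, [⟨96, 0x1000064, 0x8a295ba9bad96eb⟩, ⟨60, 0x400b000, 0x51489a6cc2d985b⟩, ⟨59, 0x4015001, 0x1a75b4d58a16ebacc⟩], 0x1001072⟩, 
  ⟨96, 11, [⟨96, 10, 0x91369a69b2d9861⟩, ⟨51, 0x1003001001, 0x134d351430b2cb6cc⟩, ⟨59, 0x1003004000, 0xa589a6ebaeb69d665⟩], 0x1001072⟩, 
  ⟨96, 12, [⟨97, 0x1001021, 0x69b2cc3216d9⟩, ⟨80, 0x1001001, 0x3aeb7654cc965⟩, ⟨59, 0x1009000, 0x296452ca6192cb29⟩], 4210⟩, 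
  ⟨96, 13, [⟨94, 46, 0x1491369b2cb2db⟩, ⟨96, 21, 0x369b30b6cc859⟩, ⟨59, 0x100000c000, 0x89b5242cb2cc30b⟩], 4210⟩, 
  ⟨96, 15, [⟨96, 0x100004d, 0x9d92c964ad32cc⟩, ⟨60, 0x1004006000, 0x351369b2d965b⟩, ⟨59, 0x3011001, 0x1492c89a964b2192c⟩], 0x1001072⟩, 
  ⟨96, 17, [⟨96, 133, 0x355b4d430c96532c⟩, ⟨60, 0x100300c000, 0x134d36996cc30b⟩, ⟨59, 0x1003010001, 0x12450b2cc30b⟩], 4210⟩, 
  ⟨96, 18, [⟨98, 0x100100c, 0x592590ba642eb⟩, ⟨96, 29, 0x51451366165b2db⟩, ⟨59, 0xa000, 0x34d369a6cc86165b⟩], 0x1001072⟩, 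
  ⟨96, 20, [⟨92, 0x1001088, 0xada9649652dd74c⟩, ⟨72, 0x1c001, 0x1658a42cb74b764⟩, ⟨59, 0x16001, 0x9b5242cb2cc30b⟩], 4210⟩, 
  ⟨96, 21, [⟨97, 0x100109f, 0x5148a290b6596cc⟩, ⟨66, 0x1007001, 0x11369b52190c85b⟩, ⟨59, 0x100200b001, 0x2b22aeb75d325664⟩], 0x1001072⟩, 
  ⟨96, 22, [⟨95, 0x1000049, 0x3b156eb66430b6eb⟩, ⟨37, 0xe003, 0x289b4da6cb6cc2d9⟩, ⟨59, 0x4008001, 0x45226d4add6eb762⟩], 0x1001072⟩, 
  ⟨96, 23, [⟨97, 4141, 0x5132cc861859⟩, ⟨72, 0x1b001, 0x9a6eb76485b2dd329⟩, ⟨59, 0x1014001, 0x52b75b32590c959⟩], 4210⟩, 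
  ⟨96, 24, [⟨97, 36, 0x36a45144cb6cc30c⟩, ⟨72, 0x9001, 0x369b2d985965b⟩, ⟨59, 0x100400f001, 0x4d45148616cb2db⟩], 4210⟩, 
  ⟨96, 25, [⟨96, 159, 0x9b5144cc86190c⟩, ⟨60, 0x1002012000, 0x13b13ada74c30b6e9⟩, ⟨59, 0x100000f001, 0x1d75a92c2cb75d75b⟩], 0x1001072⟩, 
  ⟨96, 27, [⟨94, 0x100109a, 0x8a26da864321⟩, ⟨96, 78, 0x26eb6a26dd92992c⟩, ⟨59, 0x4016000, 0x1d96455d6dd89bb0b⟩], 0x1001072⟩, 
  ⟨96, 32, [⟨93, 0x1001032, 0x489b4d352185b30b⟩, ⟨66, 0x1009001, 0x12286430b659⟩, ⟨59, 0x1003004001, 0x6eb75ba99664b0b⟩], 4210⟩, 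
  ⟨96, 38, [⟨97, 0x100000d, 0x1228a430b2cb30c⟩, ⟨66, 0x1014000, 0x2cb134cb75bb0c⟩, ⟨59, 0x2013001, 0x44dd6eb7596cc85d⟩], 4210⟩, 
  ⟨96, 42, [⟨95, 116, 0x43216d9664⟩, ⟨34, 0x10003, 0x6a48a289b659861⟩, ⟨59, 0x300d000, 0x45228a44d990c2d9⟩], 0x1001072⟩, 
  ⟨96, 44, [⟨92, 0x1000041, 0x276489b32c32585d⟩, ⟨72, 0xb000, 0x352291432165b⟩, ⟨59, 0x5001, 0x591489a6eb65badd⟩], 0x1001072⟩, 
  ⟨96, 46, [⟨97, 0x1001013, 0x29148a450c2cb6cc⟩, ⟨69, 0xa000, 0x5229228a190b661⟩, ⟨59, 0x16000, 0x248ab75b32590c959⟩], 4210⟩, 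
  ⟨96, 47, [⟨94, 105, 0x26d48a28642d990b⟩, ⟨96, 125, 0x9b2cc86430b⟩, ⟨59, 0x1002016000, 0x51369b4cb66430b⟩], 0x1001072⟩, 
  ⟨97, 0, [⟨94, 0, 0⟩, ⟨92, 44, 0x450b2cb30c⟩, ⟨75, 0x100f003, 0x9132cb6cc321⟩], 4210⟩, 
  ⟨97, 1, [⟨98, 45, 0xeba64aebb2c⟩, ⟨97, 0x1000054, 0x8a45242cb659661⟩, ⟨75, 0x1007002, 0x242db2d9664⟩], 0x1001072⟩, 
  ⟨97, 2, [⟨96, 0x1001036, 0x8a26d369986165b⟩, ⟨61, 0x1004003000, 0x26d44d985b65b⟩, ⟨75, 0xc001, 0x269a6d990c864⟩], 0x1001072⟩, 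
  ⟨97, 3, [⟨96, 158, 0x4da69b52186430c⟩, ⟨58, 0x1015000, 0x1b5136a190b6cb⟩, ⟨75, 0x100d002, 0x132cb6cc321⟩], 4210⟩, 
  ⟨97, 4, [⟨96, 0x100003b, 0x2289a6a18596cb⟩, ⟨56, 0x1000010001, 0x12269a89b321861⟩, ⟨75, 1, 0x135136a430c321⟩], 4210⟩, 
  ⟨97, 5, [⟨97, 122, 0x91365b321861⟩, ⟨89, 0x1004002, 0x4da89b65965b⟩, ⟨75, 0x1006000, 0x1369a6d990c864⟩], 0x1001072⟩, 
  ⟨97, 6, [⟨97, 4239, 0xadd6eb7616cc861⟩, ⟨90, 0x1011003, 0x244d49142d96d9⟩, ⟨75, 0x101c000, 0xd32cb6cc321⟩], 4210⟩, 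
  ⟨97, 7, [⟨97, 92, 0x1148a269990c2cb⟩, ⟨88, 0x10002, 0x491369a6a16cb30c⟩, ⟨75, 0x1012002, 0xa43218616d9⟩], 0x1001072⟩, 
  ⟨97, 8, [⟨93, 3, 0x29144d965b65b⟩, ⟨88, 4099, 0x9a8a450c85b2cb⟩, ⟨75, 0x1b002, 0x1a6a44db2d9664⟩], 0x1001072⟩, 
  ⟨97, 9, [⟨92, 0x1001015, 0x5629616ebb2592c⟩, ⟨77, 0x100e003, 0x5148a265b32185b⟩, ⟨75, 0x1001000, 0x12450b659661⟩], 4210⟩, 
  ⟨97, 10, [⟨92, 126, 0x1b4d48a432165b⟩, ⟨78, 0x3002, 0x6d35228996cb2d9⟩, ⟨75, 0x14001, 0x289b4db321664⟩], 0x1001072⟩, 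
  ⟨97, 11, [⟨97, 0x1000043, 0x451352290c2db2cb⟩, ⟨88, 0x101b002, 0x522962b2296185b74c⟩, ⟨75, 3, 0x269a6a430c321⟩], 4210⟩, 
  ⟨97, 12, [⟨97, 0x100005d, 0x269b52c92b6ea865⟩, ⟨91, 0x7001, 0x1a8a45216d965b⟩, ⟨75, 0x7003, 0x6d32cb6cc321⟩], 4210⟩, 
  ⟨97, 13, [⟨98, 0x1001031, 0x6ec564b2589ba5d⟩, ⟨97, 0x1000086, 0x5226ab75badd8a4⟩, ⟨75, 0x5002, 0x6a43218616d9⟩], 0x1001072⟩, 
  ⟨97, 14, [⟨97, 4226, 0x89a9144d98596cc⟩, ⟨90, 0x3003, 0x4b244d369d6eb65d⟩, ⟨75, 0x1b001, 0x91485b659661⟩], 4210⟩, 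
  ⟨97, 18, [⟨95, 46, 0x2489b2d96596d9⟩, ⟨41, 4097, 0x52b69bb2532590c⟩, ⟨75, 0x7003, 0x1b2db321664⟩], 0x1001072⟩, 
  ⟨97, 19, [⟨96, 0x1001021, 0x4d36998642db⟩, ⟨61, 0x4003000, 0x275d764b2c86174b⟩, ⟨75, 0x19000, 0x1489a6d990c864⟩], 0x1001072⟩, 
  ⟨97, 20, [⟨94, 0x1001088, 0x157644ebaeb659961⟩, ⟨93, 55, 0xa296595baeb6eb⟩, ⟨75, 0x5003, 0x36a43218616d9⟩], 0x1001072⟩, 
  ⟨97, 22, [⟨95, 0x100109a, 0x5144db30c864⟩, ⟨41, 0x100f002, 0x48a44da6996d9661⟩, ⟨75, 0x11002, 0x29149132d9664⟩], 0x1001072⟩, 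
  ⟨97, 24, [⟨97, 0x100001c, 0x9137649645256dd⟩, ⟨74, 0x3001, 0x6d32d9864321⟩, ⟨75, 0x1008000, 0x1489a69b2d9859⟩], 4210⟩, 
  ⟨97, 25, [⟨96, 36, 0x149145226d986430c⟩, ⟨58, 0x100300a000, 0x44da91432185b⟩, ⟨75, 0x1007003, 0xc2d9664⟩], 0x1001072⟩, 
  ⟨97, 26, [⟨96, 4141, 0x44d36996d9864⟩, ⟨58, 0x1004000, 0x164b2c52cb2565b⟩, ⟨75, 0x5003, 0x490b65b2cc⟩], 4210⟩, 
  ⟨97, 27, [⟨93, 0x1000049, 0x45226a44cb6642cc⟩, ⟨90, 0x100c002, 0x48a28a450b2d990b⟩, ⟨75, 0x1007000, 0x26d48a430b6cb⟩], 0x1001072⟩, 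
  ⟨97, 28, [⟨96, 0x100109f, 0x8a451489b2cb661⟩, ⟨53, 0x1002008001, 0x45649644ec85d659⟩, ⟨75, 0x8000, 0x1242cc85b65b⟩], 0x1001072⟩, 
  ⟨97, 29, [⟨92, 4146, 0x8a430b66190b⟩, ⟨77, 0x1006003, 0x26642cb661⟩, ⟨75, 0x4000, 0x2489b2cb6cc321⟩], 4210⟩, 
  ⟨97, 35, [⟨96, 0x100000d, 0x29144d592c964aa1⟩, ⟨61, 0x4000, 0x114964525929929⟩, ⟨75, 0x3001, 0x26cc859861⟩], 4210⟩, 
  ⟨97, 36, [⟨93, 116, 0xa29136cb321⟩, ⟨77, 0x1019002, 0xa58a290cb2592c⟩, ⟨75, 0, 0x164b2c52cb252db⟩], 4210⟩, 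
  ⟨97, 44, [⟨94, 0x1000041, 0x259256cca5b32c⟩, ⟨93, 4102, 0xa592b65bb25⟩, ⟨75, 0x100a002, 0x1491369b2cc864⟩], 0x1001072⟩, 
  ⟨97, 47, [⟨95, 105, 0x8a289b50c85b2cb⟩, ⟨39, 2, 0x352452269b2cc321⟩, ⟨75, 0x100d002, 0x369a6a16d985b⟩], 4210⟩, 
  ⟨97, 49, [⟨96, 0x1001013, 0x48a45228a165b661⟩, ⟨57, 0xb001, 0x44da69b4d9659864⟩, ⟨75, 0x100c000, 0x9228a4321659661⟩], 4210⟩, 
  ⟨98, 0, [⟨93, 0x1001015, 0x91490c30c861⟩, ⟨86, 0x1003002, 0x564b159626ebacc⟩, ⟨98, 0x1001000, 0x269d6a292b6eb6a5⟩], 0x100107f⟩, 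
  ⟨98, 1, [⟨94, 0x1001032, 0x28a289965990c⟩, ⟨98, 0x100101f, 0x26a26d96cc2db⟩, ⟨98, 21, 0x269a962913add6e9⟩], 0x100107f⟩, 
  ⟨98, 2, [⟨92, 4099, 0x9a6a48a430c30b⟩, ⟨83, 0x12002, 0x2269b2cc859861⟩, ⟨98, 0x1001015, 0x52b55a8659652dd⟩], 112⟩, 
  ⟨98, 4, [⟨96, 4104, 0x1b521964b2592c⟩, ⟨59, 0x4013000, 0x2291369a6cc861864⟩, ⟨98, 2, 0x91451489b2cc859⟩], 52⟩, 
  ⟨98, 8, [⟨97, 0x100005c, 0x4aebada6a4b2c85d⟩, ⟨75, 0x1003002, 0x256ebad3aeb761⟩, ⟨98, 36, 0x6d490c2d9659⟩], 112⟩, 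
  ⟨98, 9, [⟨98, 0x100101b, 0x45148a28596d965b⟩, ⟨98, 4174, 0x45134d3699861659⟩, ⟨98, 4118, 0x89b2cb30c864⟩], 45⟩, 
  ⟨98, 11, [⟨98, 0x1001013, 0x52b75bad430ca59⟩, ⟨94, 0x1000006, 0x2291430b661659⟩, ⟨98, 0x100101f, 0xc2cb6cb⟩], 143⟩, 
  ⟨98, 19, [⟨95, 4220, 0x1a6a28a42cb659⟩, ⟨38, 0x1001021002, 0x69b2d965990b⟩, ⟨98, 0x100101a, 0x26eb55a8659652dd⟩], 112⟩, 
  ⟨98, 21, [⟨97, 0x1001034, 0x6ec564ad996594c⟩, ⟨75, 0xe002, 0x44da89b66430c⟩, ⟨98, 0x1001020, 0x4d369ba64b2592c⟩], 45⟩, 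
  ⟨98, 26, [⟨96, 4225, 0xa495badd66165d⟩, ⟨59, 0xa000, 0xdd91575bae992c⟩, ⟨98, 38, 0x1351450b2cb6cb⟩], 143⟩, 
  ⟨99, 0, [⟨99, 492, 0x1b565913acb2ecb25⟩, ⟨63, 0, 0x56d59644eb2cbb2c⟩, ⟨85, 0x1002000, 0x165990b⟩], 757⟩, 
  ⟨99, 1, [⟨99, 163, 0x45226d34d990c321⟩, ⟨76, 0x3000, 0x514add6eb7616cc⟩, ⟨85, 0x3000, 0x136a291366430b664⟩], 0x10050002f5⟩, 
  ⟨99, 2, [⟨99, 0x2001081, 0x489a6d489b2cc861⟩, ⟨77, 0x1014000, 0x1a8618596cb⟩, ⟨85, 0x1002002, 0x3b2baeca65⟩], 0x10020012f5⟩, 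
  ⟨99, 3, [⟨99, 230, 0x26da90b664⟩, ⟨89, 0x1002001, 0x1369a6a190b661⟩, ⟨85, 4099, 0x245142cb321661⟩], 0x50002f5⟩, 
  ⟨99, 5, [⟨99, 0x10020014a2, 0x45145226cb65990c⟩, ⟨91, 0x100e003, 0xd965b321⟩, ⟨85, 0x1002000, 0x26cb2cc859⟩], 0x10000002f5⟩, 
  ⟨99, 8, [⟨99, 824, 0x1a65b2cc859⟩, ⟨82, 2, 0x245148a16d96cc⟩, ⟨85, 0x4002, 0x196d9861⟩], 0x10040002f5⟩, 
  ⟨99, 14, [⟨100, 160, 0xa44d36a16cc321⟩, ⟨99, 0, 0x69a6a4899661864⟩, ⟨85, 2, 0x964b2589965d65b⟩], 0x20012f5⟩, 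
  ⟨99, 44, [⟨99, 392, 0x1134da8a430c859⟩, ⟨74, 0x1002002, 0x34d35218642db⟩, ⟨85, 2, 0x4d452265b32190b⟩], 0x30002f5⟩, 
  ⟨100, 0, [⟨99, 0, 0xdb50b⟩, ⟨85, 0x4002, 0x48a269b65b30c⟩, ⟨100, 20, 0x9aad56d3acb2dbad9⟩], 0x100000112b⟩, 
  ⟨100, 5, [⟨100, 280, 0x34d369b2d96cc⟩, ⟨100, 0x2001080, 0x148a269b321861⟩, ⟨100, 49, 0x2b24b2c95d754⟩], 668⟩]

/-- part of the cover -/
def covB0 : Trie :=
  (.node (.node (.node (.node (.node (.node (.node (.leaf 0x0) (.leaf 0x30b)) (.node (.leaf 0xe6) (.leaf 0))) (.node (.node (.leaf 0x46) (.leaf 0)) (.node (.leaf 0x1e3) (.leaf 0)))) (.node (.node (.node (.leaf 0x17) (.leaf 0x3cd)) (.node (.leaf 0x124) (.leaf 0))) (.node (.node (.leaf 0x84) (.leaf 0)) (.node (.leaf 0x258) (.leaf 0))))) (.node (.node (.node (.node (.leaf 0x6) (.leaf 0x34c)) (.node (.leaf 0x110) (.leaf 0))) (.node (.node (.leaf 0x6d) (.leaf 0)) (.node (.leaf 0x21e) (.leaf 0)))) (.node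 (.node (.node (.leaf 0x27) (.leaf 0x443)) (.node (.leaf 0x164) (.leaf 0))) (.node (.node (.leaf 0xa4) (.leaf 0)) (.node (.leaf 0x2bd) (.leaf 0)))))) (.node (.node (.node (.node (.node (.leaf 0x2) (.leaf 0x32b)) (.node (.leaf 0x100) (.leaf 0))) (.node (.node (.leaf 0x5d) (.leaf 0)) (.node (.leaf 0x1fd) (.leaf 0)))) (.node (.node (.node (.leaf 0x1e) (.leaf 0x401)) (.node (.leaf 0x142) (.leaf 0))) (.node (.node (.leaf 0x91) (.leaf 0)) (.node (.leaf 0x285) (.leaf 0))))) (.node (.node (.node (.node (.leaf 0xc) (.leaf 0x37f)) (.node (.leaf 0x114) (.leaf 0))) (.node (.node (.leaf 0x7a) (.leaf 0)) (.node (.leaf 0x242) (.leaf 0)))) (.node (.node (.node (.leaf 0x33) (.leaf 0x45f)) (.node (.leaf 0x192) (.leaf 0))) (.node (.node (.leaf 0xd1) (.leaf 0)) (.node (.leaf 0x2f6) (.leaf 0))))))) (.node (.node (.node (.node (.node (.node (.leaf 0x1) (.leaf 0x31e)) (.node (.leaf 0xfc) (.leaf 0)))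 (.node (.node (.leaf 0x4d) (.leaf 0)) (.node (.leaf 0x1f2) (.leaf 0)))) (.node (.node (.node (.leaf 0x1b) (.leaf 0x3e8)) (.node (.leaf 0x130) (.leaf 0))) (.node (.node (.leaf 0x8b) (.leaf 0)) (.node (.leaf 0x27d) (.leaf 0))))) (.node (.node (.node (.node (.leaf 0xa) (.leaf 0x35c)) (.node (.leaf 0x111) (.leaf 0))) (.node (.node (.leaf 0x73) (.leaf 0)) (.node (.leaf 0x22f) (.leaf 0)))) (.node (.node (.node (.leaf 0x2c) (.leaf 0x458)) (.node (.leaf 0x173) (.leaf 0))) (.node (.node (.leaf 0xbf) (.leaf 0)) (.node (.leaf 0x2df) (.leaf 0)))))) (.node (.node (.node (.node (.node (.leaf 0x3) (.leaf 0x331)) (.node (.leaf 0x109) (.leaf 0))) (.node (.node (.leaf 0x68) (.leaf 0)) (.node (.leaf 0x207) (.leaf 0)))) (.node (.node (.node (.leaf 0x25) (.leaf 0x417)) (.node (.leaf 0x154) (.leaf 0))) (.node (.node (.leaf 0x99) (.leaf 0)) (.node (.leaf 0x2a3) (.leaf 0))))) (.node (.node (.node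 (.node (.leaf 0x10) (.leaf 0x392)) (.node (.leaf 0x115) (.leaf 0))) (.node (.node (.leaf 0x7f) (.leaf 0)) (.node (.leaf 0x252) (.leaf 0)))) (.node (.node (.node (.leaf 0x3d) (.leaf 0)) (.node (.leaf 0x1ba) (.leaf 0))) (.node (.node (.leaf 0xda) (.leaf 0)) (.node (.leaf 0x2ff) (.leaf 0))))))))

/-- part of the cover -/
def covB32 : Trie :=
  (.node (.node (.node (.node (.node (.node (.node (.leaf 0x0) (.leaf 0x311)) (.node (.leaf 0xf6) (.leaf 0))) (.node (.node (.leaf 0x4d) (.leaf 0)) (.node (.leaf 0x1f3) (.leaf 0)))) (.node (.node (.node (.leaf 0x17) (.leaf 0x3d8)) (.node (.leaf 0x125) (.leaf 0))) (.node (.node (.leaf 0x87) (.leaf 0)) (.node (.leaf 0x270) (.leaf 0))))) (.node (.node (.node (.node (.leaf 0x6) (.leaf 0x34b)) (.node (.leaf 0x110) (.leaf 0))) (.node (.node (.leaf 0x72) (.leaf 0)) (.node (.leaf 0x230) (.leaf 0)))) (.node (.node (.node (.leaf 0x29) (.leaf 0x440))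 (.node (.leaf 0x16a) (.leaf 0))) (.node (.node (.leaf 0xb2) (.leaf 0)) (.node (.leaf 0x2c0) (.leaf 0)))))) (.node (.node (.node (.node (.node (.leaf 0x3) (.leaf 0x331)) (.node (.leaf 0x106) (.leaf 0))) (.node (.node (.leaf 0x5d) (.leaf 0)) (.node (.leaf 0x202) (.leaf 0)))) (.node (.node (.node (.leaf 0x21) (.leaf 0x406)) (.node (.leaf 0x150) (.leaf 0))) (.node (.node (.leaf 0x93) (.leaf 0)) (.node (.leaf 0x28b) (.leaf 0))))) (.node (.node (.node (.node (.leaf 0xf) (.leaf 0x396)) (.node (.leaf 0x116) (.leaf 0))) (.node (.node (.leaf 0x79) (.leaf 0)) (.node (.leaf 0x23e) (.leaf 0)))) (.node (.node (.node (.leaf 0x3b) (.leaf 0x466)) (.node (.leaf 0x1aa) (.leaf 0))) (.node (.node (.leaf 0xda) (.leaf 0)) (.node (.leaf 0x2fc) (.leaf 0))))))) (.node (.node (.node (.node (.node (.node (.leaf 0x1) (.leaf 0x321)) (.node (.leaf 0xff) (.leaf 0))) (.node (.node (.leaf 0x58) (.leaf 0))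 (.node (.leaf 0x1fb) (.leaf 0)))) (.node (.node (.node (.leaf 0x1e) (.leaf 0x3f3)) (.node (.leaf 0x141) (.leaf 0))) (.node (.node (.leaf 0x8c) (.leaf 0)) (.node (.leaf 0x282) (.leaf 0))))) (.node (.node (.node (.node (.leaf 0xc) (.leaf 0x36a)) (.node (.leaf 0x113) (.leaf 0))) (.node (.node (.leaf 0x75) (.leaf 0)) (.node (.leaf 0x238) (.leaf 0)))) (.node (.node (.node (.leaf 0x33) (.leaf 0x461)) (.node (.leaf 0x182) (.leaf 0))) (.node (.node (.leaf 0xbe) (.leaf 0)) (.node (.leaf 0x2dc) (.leaf 0)))))) (.node (.node (.node (.node (.node (.leaf 0x4) (.leaf 0x345)) (.node (.leaf 0x10b) (.leaf 0))) (.node (.node (.leaf 0x6b) (.leaf 0)) (.node (.leaf 0x207) (.leaf 0)))) (.node (.node (.node (.leaf 0x24) (.leaf 0x42f)) (.node (.leaf 0x155) (.leaf 0))) (.node (.node (.leaf 0xa4) (.leaf 0)) (.node (.leaf 0x2b1) (.leaf 0))))) (.node (.node (.node (.node (.leaf 0x12) (.leaf 0x3ad)) (.node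 (.leaf 0x11b) (.leaf 0))) (.node (.node (.leaf 0x83) (.leaf 0)) (.node (.leaf 0x257) (.leaf 0)))) (.node (.node (.node (.leaf 0x3f) (.leaf 0)) (.node (.leaf 0x1cc) (.leaf 0))) (.node (.node (.leaf 0xe1) (.leaf 0)) (.node (.leaf 0x30e) (.leaf 0))))))))

/-- part of the cover -/
def covB16 : Trie :=
  (.node (.node (.node (.node (.node (.node (.node (.leaf 0x0) (.leaf 0x311)) (.node (.leaf 0xec) (.leaf 0))) (.node (.node (.leaf 0x46) (.leaf 0)) (.node (.leaf 0x1dc) (.leaf 0)))) (.node (.node (.node (.leaf 0x17) (.leaf 0x3d6)) (.node (.leaf 0x126) (.leaf 0))) (.node (.node (.leaf 0x87) (.leaf 0)) (.node (.leaf 0x261) (.leaf 0))))) (.node (.node (.node (.node (.leaf 0x6) (.leaf 0x34b)) (.node (.leaf 0x10f) (.leaf 0))) (.node (.node (.leaf 0x6f) (.leaf 0)) (.node (.leaf 0x21d) (.leaf 0)))) (.node (.node (.node (.leaf 0x27) (.leaf 0x437)) (.node (.leaf 0x166) (.leaf 0))) (.node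 (.node (.leaf 0xb4) (.leaf 0)) (.node (.leaf 0x2c4) (.leaf 0)))))) (.node (.node (.node (.node (.node (.leaf 0x2) (.leaf 0x32b)) (.node (.leaf 0x103) (.leaf 0))) (.node (.node (.leaf 0x60) (.leaf 0)) (.node (.leaf 0x202) (.leaf 0)))) (.node (.node (.node (.leaf 0x21) (.leaf 0x405)) (.node (.leaf 0x14a) (.leaf 0))) (.node (.node (.leaf 0x91) (.leaf 0)) (.node (.leaf 0x285) (.leaf 0))))) (.node (.node (.node (.node (.leaf 0xe) (.leaf 0x38a)) (.node (.leaf 0x114) (.leaf 0))) (.node (.node (.leaf 0x79) (.leaf 0)) (.node (.leaf 0x243) (.leaf 0)))) (.node (.node (.node (.leaf 0x38) (.leaf 0x465)) (.node (.leaf 0x19d) (.leaf 0))) (.node (.node (.leaf 0xd6) (.leaf 0)) (.node (.leaf 0x2ed) (.leaf 0))))))) (.node (.node (.node (.node (.node (.node (.leaf 0x1) (.leaf 0x325)) (.node (.leaf 0xfd) (.leaf 0))) (.node (.node (.leaf 0x52) (.leaf 0)) (.node (.leaf 0x1f8) (.leaf 0)))) (.node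 (.node (.node (.leaf 0x1b) (.leaf 0x3ea)) (.node (.leaf 0x136) (.leaf 0))) (.node (.node (.leaf 0x8c) (.leaf 0)) (.node (.leaf 0x282) (.leaf 0))))) (.node (.node (.node (.node (.leaf 0x9) (.leaf 0x357)) (.node (.leaf 0x111) (.leaf 0))) (.node (.node (.leaf 0x75) (.leaf 0)) (.node (.leaf 0x23a) (.leaf 0)))) (.node (.node (.node (.leaf 0x2f) (.leaf 0x453)) (.node (.leaf 0x175) (.leaf 0))) (.node (.node (.leaf 0xbf) (.leaf 0)) (.node (.leaf 0x2de) (.leaf 0)))))) (.node (.node (.node (.node (.node (.leaf 0x4) (.leaf 0x339)) (.node (.leaf 0x10a) (.leaf 0))) (.node (.node (.leaf 0x68) (.leaf 0)) (.node (.leaf 0x207) (.leaf 0)))) (.node (.node (.node (.leaf 0x25) (.leaf 0x41a)) (.node (.leaf 0x159) (.leaf 0))) (.node (.node (.leaf 0x9f) (.leaf 0)) (.node (.leaf 0x2a7) (.leaf 0))))) (.node (.node (.node (.node (.leaf 0x12) (.leaf 0x3b2)) (.node (.leaf 0x118) (.leaf 0))) (.node (.node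 (.leaf 0x7e) (.leaf 0)) (.node (.leaf 0x253) (.leaf 0)))) (.node (.node (.node (.leaf 0x3d) (.leaf 0)) (.node (.leaf 0x1c4) (.leaf 0))) (.node (.node (.leaf 0xe0) (.leaf 0)) (.node (.leaf 0x306) (.leaf 0))))))))

/-- part of the cover -/
def covB48 : Trie :=
  (.node (.node (.node (.node (.node (.node (.node (.leaf 0x0) (.leaf 0x314)) (.node (.leaf 0xf4) (.leaf 0))) (.node (.node (.leaf 0x4d) (.leaf 0)) (.node (.leaf 0x1f3) (.leaf 0)))) (.node (.node (.node (.leaf 0x1b) (.leaf 0x3e1)) (.node (.leaf 0x136) (.leaf 0))) (.node (.node (.leaf 0x87) (.leaf 0)) (.node (.leaf 0x271) (.leaf 0))))) (.node (.node (.node (.node (.leaf 0xa) (.leaf 0x34f)) (.node (.leaf 0x112) (.leaf 0))) (.node (.node (.leaf 0x73) (.leaf 0)) (.node (.leaf 0x22b) (.leaf 0)))) (.node (.node (.node (.leaf 0x2c) (.leaf 0x457)) (.node (.leaf 0x16d) (.leaf 0))) (.node (.node (.leaf 0xb6) (.leaf 0)) (.node (.leaf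 0x2c6) (.leaf 0)))))) (.node (.node (.node (.node (.node (.leaf 0x3) (.leaf 0x331)) (.node (.leaf 0x106) (.leaf 0))) (.node (.node (.leaf 0x67) (.leaf 0)) (.node (.leaf 0x203) (.leaf 0)))) (.node (.node (.node (.leaf 0x21) (.leaf 0x40d)) (.node (.leaf 0x151) (.leaf 0))) (.node (.node (.leaf 0x9e) (.leaf 0)) (.node (.leaf 0x296) (.leaf 0))))) (.node (.node (.node (.node (.leaf 0xf) (.leaf 0x395)) (.node (.leaf 0x116) (.leaf 0))) (.node (.node (.leaf 0x7e) (.leaf 0)) (.node (.leaf 0x24c) (.leaf 0)))) (.node (.node (.node (.leaf 0x3b) (.leaf 0x465)) (.node (.leaf 0x1b1) (.leaf 0))) (.node (.node (.leaf 0xda) (.leaf 0)) (.node (.leaf 0x303) (.leaf 0))))))) (.node (.node (.node (.node (.node (.node (.leaf 0x2) (.leaf 0x329)) (.node (.leaf 0x103) (.leaf 0))) (.node (.node (.leaf 0x59) (.leaf 0)) (.node (.leaf 0x1f9) (.leaf 0)))) (.node (.node (.node (.leaf 0x1e) (.leaf 0x3fb)) (.node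 (.leaf 0x143) (.leaf 0))) (.node (.node (.leaf 0x8f) (.leaf 0)) (.node (.leaf 0x280) (.leaf 0))))) (.node (.node (.node (.node (.leaf 0xc) (.leaf 0x378)) (.node (.leaf 0x113) (.leaf 0))) (.node (.node (.leaf 0x75) (.leaf 0)) (.node (.leaf 0x237) (.leaf 0)))) (.node (.node (.node (.leaf 0x33) (.leaf 0x461)) (.node (.leaf 0x187) (.leaf 0))) (.node (.node (.leaf 0xc9) (.leaf 0)) (.node (.leaf 0x2ea) (.leaf 0)))))) (.node (.node (.node (.node (.node (.leaf 0x4) (.leaf 0x33a)) (.node (.leaf 0x10b) (.leaf 0))) (.node (.node (.leaf 0x6d) (.leaf 0)) (.node (.leaf 0x217) (.leaf 0)))) (.node (.node (.node (.leaf 0x27) (.leaf 0x432)) (.node (.leaf 0x15f) (.leaf 0))) (.node (.node (.leaf 0xa3) (.leaf 0)) (.node (.leaf 0x2b3) (.leaf 0))))) (.node (.node (.node (.node (.leaf 0x14) (.leaf 0x3c5)) (.node (.leaf 0x122) (.leaf 0))) (.node (.node (.leaf 0x85) (.leaf 0)) (.node (.leaf 0x25a)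 (.leaf 0)))) (.node (.node (.node (.leaf 0x46) (.leaf 0)) (.node (.leaf 0x1d7) (.leaf 0))) (.node (.node (.leaf 0xe1) (.leaf 0)) (.node (.leaf 0x30e) (.leaf 0))))))))

/-- part of the cover -/
def covB8 : Trie :=
  (.node (.node (.node (.node (.node (.node (.node (.leaf 0x0) (.leaf 0x311)) (.node (.leaf 0xed) (.leaf 0))) (.node (.node (.leaf 0x46) (.leaf 0)) (.node (.leaf 0x1e6) (.leaf 0)))) (.node (.node (.node (.leaf 0x17) (.leaf 0x3ca)) (.node (.leaf 0x126) (.leaf 0))) (.node (.node (.leaf 0x85) (.leaf 0)) (.node (.leaf 0x25b) (.leaf 0))))) (.node (.node (.node (.node (.leaf 0x6) (.leaf 0x34b)) (.node (.leaf 0x110) (.leaf 0))) (.node (.node (.leaf 0x6d) (.leaf 0)) (.node (.leaf 0x211) (.leaf 0)))) (.node (.node (.node (.leaf 0x27) (.leaf 0x447)) (.node (.leaf 0x165) (.leaf 0))) (.node (.node (.leaf 0xad) (.leaf 0)) (.node (.leaf 0x2b8) (.leaf 0)))))) (.node (.node (.node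 (.node (.node (.leaf 0x2) (.leaf 0x32b)) (.node (.leaf 0x103) (.leaf 0))) (.node (.node (.leaf 0x61) (.leaf 0)) (.node (.leaf 0x202) (.leaf 0)))) (.node (.node (.node (.leaf 0x1f) (.leaf 0x3fd)) (.node (.leaf 0x142) (.leaf 0))) (.node (.node (.leaf 0x91) (.leaf 0)) (.node (.leaf 0x285) (.leaf 0))))) (.node (.node (.node (.node (.leaf 0xc) (.leaf 0x388)) (.node (.leaf 0x114) (.leaf 0))) (.node (.node (.leaf 0x79) (.leaf 0)) (.node (.leaf 0x244) (.leaf 0)))) (.node (.node (.node (.leaf 0x39) (.leaf 0x465)) (.node (.leaf 0x197) (.leaf 0))) (.node (.node (.leaf 0xcc) (.leaf 0)) (.node (.leaf 0x2f4) (.leaf 0))))))) (.node (.node (.node (.node (.node (.node (.leaf 0x1) (.leaf 0x31d)) (.node (.leaf 0xfd) (.leaf 0))) (.node (.node (.leaf 0x4b) (.leaf 0)) (.node (.leaf 0x1f3) (.leaf 0)))) (.node (.node (.node (.leaf 0x1b) (.leaf 0x3dd)) (.node (.leaf 0x130) (.leaf 0))) (.node (.node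 (.leaf 0x8c) (.leaf 0)) (.node (.leaf 0x280) (.leaf 0))))) (.node (.node (.node (.node (.leaf 0xa) (.leaf 0x362)) (.node (.leaf 0x111) (.leaf 0))) (.node (.node (.leaf 0x75) (.leaf 0)) (.node (.leaf 0x235) (.leaf 0)))) (.node (.node (.node (.leaf 0x2c) (.leaf 0x45a)) (.node (.leaf 0x16c) (.leaf 0))) (.node (.node (.leaf 0xc0) (.leaf 0)) (.node (.leaf 0x2e2) (.leaf 0)))))) (.node (.node (.node (.node (.node (.leaf 0x4) (.leaf 0x331)) (.node (.leaf 0x109) (.leaf 0))) (.node (.node (.leaf 0x68) (.leaf 0)) (.node (.leaf 0x209) (.leaf 0)))) (.node (.node (.node (.leaf 0x24) (.leaf 0x41f)) (.node (.leaf 0x15a) (.leaf 0))) (.node (.node (.leaf 0x9e) (.leaf 0)) (.node (.leaf 0x2a2) (.leaf 0))))) (.node (.node (.node (.node (.leaf 0x14) (.leaf 0x3ab)) (.node (.leaf 0x11b) (.leaf 0))) (.node (.node (.leaf 0x7e) (.leaf 0)) (.node (.leaf 0x252) (.leaf 0)))) (.node (.node (.node (.leaf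 0x3d) (.leaf 0)) (.node (.leaf 0x1ba) (.leaf 0))) (.node (.node (.leaf 0xdc) (.leaf 0)) (.node (.leaf 0x303) (.leaf 0))))))))

/-- part of the cover -/
def covB40 : Trie :=
  (.node (.node (.node (.node (.node (.node (.node (.leaf 0x0) (.leaf 0x311)) (.node (.leaf 0xef) (.leaf 0))) (.node (.node (.leaf 0x4d) (.leaf 0)) (.node (.leaf 0x1f2) (.leaf 0)))) (.node (.node (.node (.leaf 0x1c) (.leaf 0x3d6)) (.node (.leaf 0x12f) (.leaf 0))) (.node (.node (.leaf 0x87) (.leaf 0)) (.node (.leaf 0x26e) (.leaf 0))))) (.node (.node (.node (.node (.leaf 0x6) (.leaf 0x34c)) (.node (.leaf 0x10f) (.leaf 0))) (.node (.node (.leaf 0x73) (.leaf 0)) (.node (.leaf 0x231) (.leaf 0)))) (.node (.node (.node (.leaf 0x2e) (.leaf 0x456)) (.node (.leaf 0x171) (.leaf 0))) (.node (.node (.leaf 0xb2) (.leaf 0)) (.node (.leaf 0x2d6) (.leaf 0)))))) (.node (.node (.node (.node (.node (.leaf 0x3) (.leaf 0x334))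 (.node (.leaf 0x106) (.leaf 0))) (.node (.node (.leaf 0x5b) (.leaf 0)) (.node (.leaf 0x202) (.leaf 0)))) (.node (.node (.node (.leaf 0x21) (.leaf 0x40b)) (.node (.leaf 0x150) (.leaf 0))) (.node (.node (.leaf 0x99) (.leaf 0)) (.node (.leaf 0x28e) (.leaf 0))))) (.node (.node (.node (.node (.leaf 0xf) (.leaf 0x39d)) (.node (.leaf 0x115) (.leaf 0))) (.node (.node (.leaf 0x7b) (.leaf 0)) (.node (.leaf 0x242) (.leaf 0)))) (.node (.node (.node (.leaf 0x3a) (.leaf 0x465)) (.node (.leaf 0x196) (.leaf 0))) (.node (.node (.leaf 0xda) (.leaf 0)) (.node (.leaf 0x301) (.leaf 0))))))) (.node (.node (.node (.node (.node (.node (.leaf 0x2) (.leaf 0x329)) (.node (.leaf 0x100) (.leaf 0))) (.node (.node (.leaf 0x58) (.leaf 0)) (.node (.leaf 0x1f7) (.leaf 0)))) (.node (.node (.node (.leaf 0x1e) (.leaf 0x3f0)) (.node (.leaf 0x141) (.leaf 0))) (.node (.node (.leaf 0x8c) (.leaf 0)) (.node (.leaf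 0x280) (.leaf 0))))) (.node (.node (.node (.node (.leaf 0xc) (.leaf 0x372)) (.node (.leaf 0x114) (.leaf 0))) (.node (.node (.leaf 0x75) (.leaf 0)) (.node (.leaf 0x238) (.leaf 0)))) (.node (.node (.node (.leaf 0x35) (.leaf 0x45e)) (.node (.leaf 0x187) (.leaf 0))) (.node (.node (.leaf 0xbc) (.leaf 0)) (.node (.leaf 0x2e0) (.leaf 0)))))) (.node (.node (.node (.node (.node (.leaf 0x4) (.leaf 0x346)) (.node (.leaf 0x10b) (.leaf 0))) (.node (.node (.leaf 0x6f) (.leaf 0)) (.node (.leaf 0x20f) (.leaf 0)))) (.node (.node (.node (.leaf 0x25) (.leaf 0x430)) (.node (.leaf 0x155) (.leaf 0))) (.node (.node (.leaf 0xaa) (.leaf 0)) (.node (.leaf 0x2b4) (.leaf 0))))) (.node (.node (.node (.node (.leaf 0x12) (.leaf 0x3c1)) (.node (.leaf 0x118) (.leaf 0))) (.node (.node (.leaf 0x82) (.leaf 0)) (.node (.leaf 0x25c) (.leaf 0)))) (.node (.node (.node (.leaf 0x41) (.leaf 0)) (.node (.leaf 0x1c2)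 (.leaf 0))) (.node (.node (.leaf 0xe1) (.leaf 0)) (.node (.leaf 0x30b) (.leaf 0))))))))

/-- part of the cover -/
def covB24 : Trie :=
  (.node (.node (.node (.node (.node (.node (.node (.leaf 0x0) (.leaf 0x311)) (.node (.leaf 0xf7) (.leaf 0))) (.node (.node (.leaf 0x47) (.leaf 0)) (.node (.leaf 0x1e9) (.leaf 0)))) (.node (.node (.node (.leaf 0x16) (.leaf 0x3d1)) (.node (.leaf 0x12a) (.leaf 0))) (.node (.node (.leaf 0x87) (.leaf 0)) (.node (.leaf 0x269) (.leaf 0))))) (.node (.node (.node (.node (.leaf 0x6) (.leaf 0x34b)) (.node (.leaf 0x110) (.leaf 0))) (.node (.node (.leaf 0x73) (.leaf 0)) (.node (.leaf 0x22b) (.leaf 0)))) (.node (.node (.node (.leaf 0x27) (.leaf 0x44b)) (.node (.leaf 0x166) (.leaf 0))) (.node (.node (.leaf 0xb3) (.leaf 0)) (.node (.leaf 0x2cb) (.leaf 0)))))) (.node (.node (.node (.node (.node (.leaf 0x3) (.leaf 0x32a)) (.node (.leaf 0x105) (.leaf 0))) (.node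 (.node (.leaf 0x5f) (.leaf 0)) (.node (.leaf 0x202) (.leaf 0)))) (.node (.node (.node (.leaf 0x21) (.leaf 0x40c)) (.node (.leaf 0x148) (.leaf 0))) (.node (.node (.leaf 0x91) (.leaf 0)) (.node (.leaf 0x285) (.leaf 0))))) (.node (.node (.node (.node (.leaf 0xf) (.leaf 0x38f)) (.node (.leaf 0x115) (.leaf 0))) (.node (.node (.leaf 0x79) (.leaf 0)) (.node (.leaf 0x244) (.leaf 0)))) (.node (.node (.node (.leaf 0x3b) (.leaf 0x465)) (.node (.leaf 0x1a5) (.leaf 0))) (.node (.node (.leaf 0xd7) (.leaf 0)) (.node (.leaf 0x2ec) (.leaf 0))))))) (.node (.node (.node (.node (.node (.node (.leaf 0x1) (.leaf 0x31e)) (.node (.leaf 0xff) (.leaf 0))) (.node (.node (.leaf 0x50) (.leaf 0)) (.node (.leaf 0x1fb) (.leaf 0)))) (.node (.node (.node (.leaf 0x1d) (.leaf 0x3e4)) (.node (.leaf 0x138) (.leaf 0))) (.node (.node (.leaf 0x8c) (.leaf 0)) (.node (.leaf 0x280) (.leaf 0))))) (.node (.node (.node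 (.node (.leaf 0xa) (.leaf 0x352)) (.node (.leaf 0x112) (.leaf 0))) (.node (.node (.leaf 0x75) (.leaf 0)) (.node (.leaf 0x239) (.leaf 0)))) (.node (.node (.node (.leaf 0x33) (.leaf 0x45f)) (.node (.leaf 0x17b) (.leaf 0))) (.node (.node (.leaf 0xc0) (.leaf 0)) (.node (.leaf 0x2de) (.leaf 0)))))) (.node (.node (.node (.node (.node (.leaf 0x4) (.leaf 0x33f)) (.node (.leaf 0x10b) (.leaf 0))) (.node (.node (.leaf 0x68) (.leaf 0)) (.node (.leaf 0x207) (.leaf 0)))) (.node (.node (.node (.leaf 0x25) (.leaf 0x42c)) (.node (.leaf 0x154) (.leaf 0))) (.node (.node (.leaf 0xa3) (.leaf 0)) (.node (.leaf 0x2aa) (.leaf 0))))) (.node (.node (.node (.node (.leaf 0x12) (.leaf 0x3ac)) (.node (.leaf 0x11f) (.leaf 0))) (.node (.node (.leaf 0x7e) (.leaf 0)) (.node (.leaf 0x254) (.leaf 0)))) (.node (.node (.node (.leaf 0x3d) (.leaf 0)) (.node (.leaf 0x1ca) (.leaf 0))) (.node (.node (.leaf 0xe1) (.leaf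 0)) (.node (.leaf 0x30b) (.leaf 0))))))))

/-- part of the cover -/
def covB56 : Trie :=
  (.node (.node (.node (.node (.node (.node (.node (.leaf 0x1) (.leaf 0x317)) (.node (.leaf 0xfb) (.leaf 0))) (.node (.node (.leaf 0x4d) (.leaf 0)) (.node (.leaf 0x1f3) (.leaf 0)))) (.node (.node (.node (.leaf 0x1c) (.leaf 0x3e2)) (.node (.leaf 0x134) (.leaf 0))) (.node (.node (.leaf 0x89) (.leaf 0)) (.node (.leaf 0x268) (.leaf 0))))) (.node (.node (.node (.node (.leaf 0x9) (.leaf 0x354)) (.node (.leaf 0x112) (.leaf 0))) (.node (.node (.leaf 0x72) (.leaf 0)) (.node (.leaf 0x231) (.leaf 0)))) (.node (.node (.node (.leaf 0x2c) (.leaf 0x453)) (.node (.leaf 0x173) (.leaf 0))) (.node (.node (.leaf 0xb8) (.leaf 0)) (.node (.leaf 0x2da) (.leaf 0)))))) (.node (.node (.node (.node (.node (.leaf 0x3) (.leaf 0x334)) (.node (.leaf 0x106) (.leaf 0))) (.node (.node (.leaf 0x68) (.leaf 0)) (.node (.leaf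 0x207) (.leaf 0)))) (.node (.node (.node (.leaf 0x21) (.leaf 0x415)) (.node (.leaf 0x152) (.leaf 0))) (.node (.node (.leaf 0x99) (.leaf 0)) (.node (.leaf 0x29c) (.leaf 0))))) (.node (.node (.node (.node (.leaf 0xf) (.leaf 0x3a0)) (.node (.leaf 0x116) (.leaf 0))) (.node (.node (.leaf 0x7e) (.leaf 0)) (.node (.leaf 0x24a) (.leaf 0)))) (.node (.node (.node (.leaf 0x3d) (.leaf 0x465)) (.node (.leaf 0x1b3) (.leaf 0))) (.node (.node (.leaf 0xda) (.leaf 0)) (.node (.leaf 0x2ff) (.leaf 0))))))) (.node (.node (.node (.node (.node (.node (.leaf 0x2) (.leaf 0x32b)) (.node (.leaf 0x103) (.leaf 0))) (.node (.node (.leaf 0x5a) (.leaf 0)) (.node (.leaf 0x1fb) (.leaf 0)))) (.node (.node (.node (.leaf 0x1e) (.leaf 0x3ff)) (.node (.leaf 0x144) (.leaf 0))) (.node (.node (.leaf 0x93) (.leaf 0)) (.node (.leaf 0x285) (.leaf 0))))) (.node (.node (.node (.node (.leaf 0xc) (.leaf 0x37b)) (.node (.leaf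 0x113) (.leaf 0))) (.node (.node (.leaf 0x77) (.leaf 0)) (.node (.leaf 0x237) (.leaf 0)))) (.node (.node (.node (.leaf 0x33) (.leaf 0x461)) (.node (.leaf 0x18f) (.leaf 0))) (.node (.node (.leaf 0xd0) (.leaf 0)) (.node (.leaf 0x2f0) (.leaf 0)))))) (.node (.node (.node (.node (.node (.leaf 0x4) (.leaf 0x345)) (.node (.leaf 0x10d) (.leaf 0))) (.node (.node (.leaf 0x6d) (.leaf 0)) (.node (.leaf 0x21d) (.leaf 0)))) (.node (.node (.node (.leaf 0x27) (.leaf 0x43b)) (.node (.leaf 0x165) (.leaf 0))) (.node (.node (.leaf 0xa7) (.leaf 0)) (.node (.leaf 0x2ba) (.leaf 0))))) (.node (.node (.node (.node (.leaf 0x18) (.leaf 0x3c7)) (.node (.leaf 0x125) (.leaf 0))) (.node (.node (.leaf 0x85) (.leaf 0)) (.node (.leaf 0x256) (.leaf 0)))) (.node (.node (.node (.leaf 0x46) (.leaf 0)) (.node (.leaf 0x1df) (.leaf 0))) (.node (.node (.leaf 0xe5) (.leaf 0)) (.node (.leaf 0x30b) (.leaf 0))))))))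

/-- part of the cover -/
def covB4 : Trie :=
  (.node (.node (.node (.node (.node (.node (.node (.leaf 0x0) (.leaf 0x310)) (.node (.leaf 0xe9) (.leaf 0))) (.node (.node (.leaf 0x45) (.leaf 0)) (.node (.leaf 0x1e4) (.leaf 0)))) (.node (.node (.node (.leaf 0x17) (.leaf 0x3cb)) (.node (.leaf 0x128) (.leaf 0))) (.node (.node (.leaf 0x82) (.leaf 0)) (.node (.leaf 0x25d) (.leaf 0))))) (.node (.node (.node (.node (.leaf 0x6) (.leaf 0x34b)) (.node (.leaf 0x10f) (.leaf 0))) (.node (.node (.leaf 0x6d) (.leaf 0)) (.node (.leaf 0x21b) (.leaf 0)))) (.node (.node (.node (.leaf 0x27) (.leaf 0x444)) (.node (.leaf 0x163) (.leaf 0))) (.node (.node (.leaf 0xa4) (.leaf 0)) (.node (.leaf 0x2b9) (.leaf 0)))))) (.node (.node (.node (.node (.node (.leaf 0x2) (.leaf 0x32a)) (.node (.leaf 0x103) (.leaf 0))) (.node (.node (.leaf 0x5b) (.leaf 0)) (.node (.leaf 0x201) (.leaf 0)))) (.node (.node (.node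 (.leaf 0x1f) (.leaf 0x3fa)) (.node (.leaf 0x144) (.leaf 0))) (.node (.node (.leaf 0x91) (.leaf 0)) (.node (.leaf 0x288) (.leaf 0))))) (.node (.node (.node (.node (.leaf 0xc) (.leaf 0x36e)) (.node (.leaf 0x113) (.leaf 0))) (.node (.node (.leaf 0x79) (.leaf 0)) (.node (.leaf 0x240) (.leaf 0)))) (.node (.node (.node (.leaf 0x37) (.leaf 0x460)) (.node (.leaf 0x193) (.leaf 0))) (.node (.node (.leaf 0xc8) (.leaf 0)) (.node (.leaf 0x2f0) (.leaf 0))))))) (.node (.node (.node (.node (.node (.node (.leaf 0x1) (.leaf 0x320)) (.node (.leaf 0xfd) (.leaf 0))) (.node (.node (.leaf 0x4d) (.leaf 0)) (.node (.leaf 0x1f2) (.leaf 0)))) (.node (.node (.node (.leaf 0x1c) (.leaf 0x3e7)) (.node (.leaf 0x138) (.leaf 0))) (.node (.node (.leaf 0x8d) (.leaf 0)) (.node (.leaf 0x281) (.leaf 0))))) (.node (.node (.node (.node (.leaf 0x9) (.leaf 0x35f)) (.node (.leaf 0x111) (.leaf 0))) (.node (.node (.leaf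 0x73) (.leaf 0)) (.node (.leaf 0x22f) (.leaf 0)))) (.node (.node (.node (.leaf 0x2c) (.leaf 0x453)) (.node (.leaf 0x173) (.leaf 0))) (.node (.node (.leaf 0xbe) (.leaf 0)) (.node (.leaf 0x2e0) (.leaf 0)))))) (.node (.node (.node (.node (.node (.leaf 0x3) (.leaf 0x330)) (.node (.leaf 0x109) (.leaf 0))) (.node (.node (.leaf 0x6b) (.leaf 0)) (.node (.leaf 0x207) (.leaf 0)))) (.node (.node (.node (.leaf 0x24) (.leaf 0x41b)) (.node (.leaf 0x155) (.leaf 0))) (.node (.node (.leaf 0x9b) (.leaf 0)) (.node (.leaf 0x29b) (.leaf 0))))) (.node (.node (.node (.node (.leaf 0x12) (.leaf 0x399)) (.node (.leaf 0x117) (.leaf 0))) (.node (.node (.leaf 0x7d) (.leaf 0)) (.node (.leaf 0x24b) (.leaf 0)))) (.node (.node (.node (.leaf 0x3d) (.leaf 0)) (.node (.leaf 0x1bd) (.leaf 0))) (.node (.node (.leaf 0xda) (.leaf 0)) (.node (.leaf 0x302) (.leaf 0))))))))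

/-- part of the cover -/
def covB36 : Trie :=
  (.node (.node (.node (.node (.node (.node (.node (.leaf 0x0) (.leaf 0x312)) (.node (.leaf 0xe7) (.leaf 0))) (.node (.node (.leaf 0x4d) (.leaf 0)) (.node (.leaf 0x1f4) (.leaf 0)))) (.node (.node (.node (.leaf 0x17) (.leaf 0x3d6)) (.node (.leaf 0x126) (.leaf 0))) (.node (.node (.leaf 0x87) (.leaf 0)) (.node (.leaf 0x273) (.leaf 0))))) (.node (.node (.node (.node (.leaf 0x6) (.leaf 0x34b)) (.node (.leaf 0x10f) (.leaf 0))) (.node (.node (.leaf 0x72) (.leaf 0)) (.node (.leaf 0x230) (.leaf 0)))) (.node (.node (.node (.leaf 0x2d) (.leaf 0x453)) (.node (.leaf 0x16d) (.leaf 0))) (.node (.node (.leaf 0xb1) (.leaf 0)) (.node (.leaf 0x2ce) (.leaf 0)))))) (.node (.node (.node (.node (.node (.leaf 0x3) (.leaf 0x332)) (.node (.leaf 0x106) (.leaf 0))) (.node (.node (.leaf 0x60) (.leaf 0)) (.node (.leaf 0x202) (.leaf 0)))) (.node (.node (.node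 (.leaf 0x21) (.leaf 0x411)) (.node (.leaf 0x149) (.leaf 0))) (.node (.node (.leaf 0x95) (.leaf 0)) (.node (.leaf 0x285) (.leaf 0))))) (.node (.node (.node (.node (.leaf 0x10) (.leaf 0x399)) (.node (.leaf 0x116) (.leaf 0))) (.node (.node (.leaf 0x7a) (.leaf 0)) (.node (.leaf 0x247) (.leaf 0)))) (.node (.node (.node (.leaf 0x38) (.leaf 0x465)) (.node (.leaf 0x1ad) (.leaf 0))) (.node (.node (.leaf 0xdc) (.leaf 0)) (.node (.leaf 0x300) (.leaf 0))))))) (.node (.node (.node (.node (.node (.node (.leaf 0x2) (.leaf 0x321)) (.node (.leaf 0xfd) (.leaf 0))) (.node (.node (.leaf 0x51) (.leaf 0)) (.node (.leaf 0x1fb) (.leaf 0)))) (.node (.node (.node (.leaf 0x1e) (.leaf 0x3f7)) (.node (.leaf 0x141) (.leaf 0))) (.node (.node (.leaf 0x8e) (.leaf 0)) (.node (.leaf 0x280) (.leaf 0))))) (.node (.node (.node (.node (.leaf 0xc) (.leaf 0x36f)) (.node (.leaf 0x114) (.leaf 0))) (.node (.node (.leaf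 0x75) (.leaf 0)) (.node (.leaf 0x237) (.leaf 0)))) (.node (.node (.node (.leaf 0x33) (.leaf 0x463)) (.node (.leaf 0x17f) (.leaf 0))) (.node (.node (.leaf 0xc2) (.leaf 0)) (.node (.leaf 0x2e5) (.leaf 0)))))) (.node (.node (.node (.node (.node (.leaf 0x4) (.leaf 0x340)) (.node (.leaf 0x10b) (.leaf 0))) (.node (.node (.leaf 0x6d) (.leaf 0)) (.node (.leaf 0x20b) (.leaf 0)))) (.node (.node (.node (.leaf 0x24) (.leaf 0x422)) (.node (.leaf 0x159) (.leaf 0))) (.node (.node (.leaf 0xa9) (.leaf 0)) (.node (.leaf 0x2b4) (.leaf 0))))) (.node (.node (.node (.node (.leaf 0x12) (.leaf 0x3bd)) (.node (.leaf 0x120) (.leaf 0))) (.node (.node (.leaf 0x82) (.leaf 0)) (.node (.leaf 0x25b) (.leaf 0)))) (.node (.node (.node (.leaf 0x3f) (.leaf 0)) (.node (.leaf 0x1cf) (.leaf 0))) (.node (.node (.leaf 0xe6) (.leaf 0)) (.node (.leaf 0x309) (.leaf 0))))))))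

/-- part of the cover -/
def covB20 : Trie :=
  (.node (.node (.node (.node (.node (.node (.node (.leaf 0x0) (.leaf 0x312)) (.node (.leaf 0xf5) (.leaf 0))) (.node (.node (.leaf 0x45) (.leaf 0)) (.node (.leaf 0x1e7) (.leaf 0)))) (.node (.node (.node (.leaf 0x17) (.leaf 0x3d3)) (.node (.leaf 0x128) (.leaf 0))) (.node (.node (.leaf 0x89) (.leaf 0)) (.node (.leaf 0x265) (.leaf 0))))) (.node (.node (.node (.node (.leaf 0x6) (.leaf 0x34b)) (.node (.leaf 0x110) (.leaf 0))) (.node (.node (.leaf 0x71) (.leaf 0)) (.node (.leaf 0x227) (.leaf 0)))) (.node (.node (.node (.leaf 0x27) (.leaf 0x447)) (.node (.leaf 0x165) (.leaf 0))) (.node (.node (.leaf 0xb2) (.leaf 0)) (.node (.leaf 0x2c8) (.leaf 0)))))) (.node (.node (.node (.node (.node (.leaf 0x2) (.leaf 0x32d)) (.node (.leaf 0x103) (.leaf 0))) (.node (.node (.leaf 0x5d) (.leaf 0)) (.node (.leaf 0x201) (.leaf 0)))) (.node (.node (.node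 (.leaf 0x21) (.leaf 0x409)) (.node (.leaf 0x14d) (.leaf 0))) (.node (.node (.leaf 0x91) (.leaf 0)) (.node (.leaf 0x287) (.leaf 0))))) (.node (.node (.node (.node (.leaf 0x10) (.leaf 0x38b)) (.node (.leaf 0x116) (.leaf 0))) (.node (.node (.leaf 0x7a) (.leaf 0)) (.node (.leaf 0x243) (.leaf 0)))) (.node (.node (.node (.leaf 0x38) (.leaf 0x465)) (.node (.leaf 0x1a1) (.leaf 0))) (.node (.node (.leaf 0xd2) (.leaf 0)) (.node (.leaf 0x2ef) (.leaf 0))))))) (.node (.node (.node (.node (.node (.node (.leaf 0x1) (.leaf 0x31e)) (.node (.leaf 0xfd) (.leaf 0))) (.node (.node (.leaf 0x55) (.leaf 0)) (.node (.leaf 0x1fb) (.leaf 0)))) (.node (.node (.node (.leaf 0x1b) (.leaf 0x3e1)) (.node (.leaf 0x138) (.leaf 0))) (.node (.node (.leaf 0x8f) (.leaf 0)) (.node (.leaf 0x280) (.leaf 0))))) (.node (.node (.node (.node (.leaf 0x9) (.leaf 0x369)) (.node (.leaf 0x112) (.leaf 0))) (.node (.node (.leaf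 0x75) (.leaf 0)) (.node (.leaf 0x236) (.leaf 0)))) (.node (.node (.node (.leaf 0x32) (.leaf 0x45c)) (.node (.leaf 0x177) (.leaf 0))) (.node (.node (.leaf 0xba) (.leaf 0)) (.node (.leaf 0x2dd) (.leaf 0)))))) (.node (.node (.node (.node (.node (.leaf 0x4) (.leaf 0x33c)) (.node (.leaf 0x10b) (.leaf 0))) (.node (.node (.leaf 0x6a) (.leaf 0)) (.node (.leaf 0x207) (.leaf 0)))) (.node (.node (.node (.leaf 0x24) (.leaf 0x428)) (.node (.leaf 0x155) (.leaf 0))) (.node (.node (.leaf 0xa0) (.leaf 0)) (.node (.leaf 0x292) (.leaf 0))))) (.node (.node (.node (.node (.leaf 0x12) (.leaf 0x3af)) (.node (.leaf 0x119) (.leaf 0))) (.node (.node (.leaf 0x7e) (.leaf 0)) (.node (.leaf 0x24d) (.leaf 0)))) (.node (.node (.node (.leaf 0x3d) (.leaf 0)) (.node (.leaf 0x1c7) (.leaf 0))) (.node (.node (.leaf 0xe2) (.leaf 0)) (.node (.leaf 0x30a) (.leaf 0))))))))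

/-- part of the cover -/
def covB52 : Trie :=
  (.node (.node (.node (.node (.node (.node (.node (.leaf 0x1) (.leaf 0x311)) (.node (.leaf 0xfb) (.leaf 0))) (.node (.node (.leaf 0x49) (.leaf 0)) (.node (.leaf 0x1f2) (.leaf 0)))) (.node (.node (.node (.leaf 0x1c) (.leaf 0x3e5)) (.node (.leaf 0x134) (.leaf 0))) (.node (.node (.leaf 0x87) (.leaf 0)) (.node (.leaf 0x267) (.leaf 0))))) (.node (.node (.node (.node (.leaf 0x9) (.leaf 0x353)) (.node (.leaf 0x112) (.leaf 0))) (.node (.node (.leaf 0x72) (.leaf 0)) (.node (.leaf 0x231) (.leaf 0)))) (.node (.node (.node (.leaf 0x2d) (.leaf 0x457)) (.node (.leaf 0x16d) (.leaf 0))) (.node (.node (.leaf 0xb7) (.leaf 0)) (.node (.leaf 0x2da) (.leaf 0)))))) (.node (.node (.node (.node (.node (.leaf 0x3) (.leaf 0x332)) (.node (.leaf 0x109) (.leaf 0))) (.node (.node (.leaf 0x69) (.leaf 0)) (.node (.leaf 0x206) (.leaf 0)))) (.node (.node (.node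 (.leaf 0x21) (.leaf 0x414)) (.node (.leaf 0x14b) (.leaf 0))) (.node (.node (.leaf 0x9b) (.leaf 0)) (.node (.leaf 0x29a) (.leaf 0))))) (.node (.node (.node (.node (.leaf 0xf) (.leaf 0x3a2)) (.node (.leaf 0x115) (.leaf 0))) (.node (.node (.leaf 0x7e) (.leaf 0)) (.node (.leaf 0x24f) (.leaf 0)))) (.node (.node (.node (.leaf 0x3b) (.leaf 0x465)) (.node (.leaf 0x1b2) (.leaf 0))) (.node (.node (.leaf 0xda) (.leaf 0)) (.node (.leaf 0x305) (.leaf 0))))))) (.node (.node (.node (.node (.node (.node (.leaf 0x2) (.leaf 0x32a)) (.node (.leaf 0x103) (.leaf 0))) (.node (.node (.leaf 0x53) (.leaf 0)) (.node (.leaf 0x1fb) (.leaf 0)))) (.node (.node (.node (.leaf 0x1f) (.leaf 0x3ef)) (.node (.leaf 0x13d) (.leaf 0))) (.node (.node (.leaf 0x91) (.leaf 0)) (.node (.leaf 0x284) (.leaf 0))))) (.node (.node (.node (.node (.leaf 0xc) (.leaf 0x371)) (.node (.leaf 0x113) (.leaf 0))) (.node (.node (.leaf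 0x75) (.leaf 0)) (.node (.leaf 0x23c) (.leaf 0)))) (.node (.node (.node (.leaf 0x33) (.leaf 0x463)) (.node (.leaf 0x18a) (.leaf 0))) (.node (.node (.leaf 0xcd) (.leaf 0)) (.node (.leaf 0x2ec) (.leaf 0)))))) (.node (.node (.node (.node (.node (.leaf 0x4) (.leaf 0x33b)) (.node (.leaf 0x10d) (.leaf 0))) (.node (.node (.leaf 0x6d) (.leaf 0)) (.node (.leaf 0x21a) (.leaf 0)))) (.node (.node (.node (.leaf 0x27) (.leaf 0x437)) (.node (.leaf 0x163) (.leaf 0))) (.node (.node (.leaf 0xa9) (.leaf 0)) (.node (.leaf 0x2bb) (.leaf 0))))) (.node (.node (.node (.node (.leaf 0x16) (.leaf 0x3c4)) (.node (.leaf 0x11b) (.leaf 0))) (.node (.node (.leaf 0x82) (.leaf 0)) (.node (.leaf 0x25d) (.leaf 0)))) (.node (.node (.node (.leaf 0x46) (.leaf 0)) (.node (.leaf 0x1db) (.leaf 0))) (.node (.node (.leaf 0xe3) (.leaf 0)) (.node (.leaf 0x30c) (.leaf 0))))))))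

/-- part of the cover -/
def covB12 : Trie :=
  (.node (.node (.node (.node (.node (.node (.node (.leaf 0x0) (.leaf 0x310)) (.node (.leaf 0xf0) (.leaf 0))) (.node (.node (.leaf 0x46) (.leaf 0)) (.node (.leaf 0x1e8) (.leaf 0)))) (.node (.node (.node (.leaf 0x17) (.leaf 0x3d3)) (.node (.leaf 0x12a) (.leaf 0))) (.node (.node (.leaf 0x85) (.leaf 0)) (.node (.leaf 0x25f) (.leaf 0))))) (.node (.node (.node (.node (.leaf 0x6) (.leaf 0x34d)) (.node (.leaf 0x110) (.leaf 0))) (.node (.node (.leaf 0x6f) (.leaf 0)) (.node (.leaf 0x212) (.leaf 0)))) (.node (.node (.node (.leaf 0x27) (.leaf 0x44a)) (.node (.leaf 0x163) (.leaf 0))) (.node (.node (.leaf 0xb1) (.leaf 0)) (.node (.leaf 0x2c0) (.leaf 0)))))) (.node (.node (.node (.node (.node (.leaf 0x2) (.leaf 0x32a)) (.node (.leaf 0x103) (.leaf 0))) (.node (.node (.leaf 0x5f) (.leaf 0)) (.node (.leaf 0x202) (.leaf 0)))) (.node (.node (.node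 (.leaf 0x21) (.leaf 0x3fd)) (.node (.leaf 0x147) (.leaf 0))) (.node (.node (.leaf 0x91) (.leaf 0)) (.node (.leaf 0x287) (.leaf 0))))) (.node (.node (.node (.node (.leaf 0xc) (.leaf 0x379)) (.node (.leaf 0x113) (.leaf 0))) (.node (.node (.leaf 0x7a) (.leaf 0)) (.node (.leaf 0x240) (.leaf 0)))) (.node (.node (.node (.leaf 0x38) (.leaf 0x465)) (.node (.leaf 0x19a) (.leaf 0))) (.node (.node (.leaf 0xc7) (.leaf 0)) (.node (.leaf 0x2ee) (.leaf 0))))))) (.node (.node (.node (.node (.node (.node (.leaf 0x1) (.leaf 0x320)) (.node (.leaf 0xfd) (.leaf 0))) (.node (.node (.leaf 0x4f) (.leaf 0)) (.node (.leaf 0x1f5) (.leaf 0)))) (.node (.node (.node (.leaf 0x1c) (.leaf 0x3e8)) (.node (.leaf 0x135) (.leaf 0))) (.node (.node (.leaf 0x8c) (.leaf 0)) (.node (.leaf 0x280) (.leaf 0))))) (.node (.node (.node (.node (.leaf 0x9) (.leaf 0x365)) (.node (.leaf 0x112) (.leaf 0))) (.node (.node (.leaf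 0x75) (.leaf 0)) (.node (.leaf 0x237) (.leaf 0)))) (.node (.node (.node (.leaf 0x2d) (.leaf 0x458)) (.node (.leaf 0x171) (.leaf 0))) (.node (.node (.leaf 0xbf) (.leaf 0)) (.node (.leaf 0x2e1) (.leaf 0)))))) (.node (.node (.node (.node (.node (.leaf 0x4) (.leaf 0x336)) (.node (.leaf 0x10b) (.leaf 0))) (.node (.node (.leaf 0x6b) (.leaf 0)) (.node (.leaf 0x206) (.leaf 0)))) (.node (.node (.node (.leaf 0x24) (.leaf 0x423)) (.node (.leaf 0x157) (.leaf 0))) (.node (.node (.leaf 0x9b) (.leaf 0)) (.node (.leaf 0x2a0) (.leaf 0))))) (.node (.node (.node (.node (.leaf 0x12) (.leaf 0x3af)) (.node (.leaf 0x11d) (.leaf 0))) (.node (.node (.leaf 0x7e) (.leaf 0)) (.node (.leaf 0x24d) (.leaf 0)))) (.node (.node (.node (.leaf 0x3d) (.leaf 0)) (.node (.leaf 0x1c1) (.leaf 0))) (.node (.node (.leaf 0xdc) (.leaf 0)) (.node (.leaf 0x305) (.leaf 0))))))))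

/-- part of the cover -/
def covB44 : Trie :=
  (.node (.node (.node (.node (.node (.node (.node (.leaf 0x0) (.leaf 0x312)) (.node (.leaf 0xe7) (.leaf 0))) (.node (.node (.leaf 0x4d) (.leaf 0)) (.node (.leaf 0x1f2) (.leaf 0)))) (.node (.node (.node (.leaf 0x1b) (.leaf 0x3dd)) (.node (.leaf 0x133) (.leaf 0))) (.node (.node (.leaf 0x87) (.leaf 0)) (.node (.leaf 0x274) (.leaf 0))))) (.node (.node (.node (.node (.leaf 0x8) (.leaf 0x34b)) (.node (.leaf 0x110) (.leaf 0))) (.node (.node (.leaf 0x72) (.leaf 0)) (.node (.leaf 0x22e) (.leaf 0)))) (.node (.node (.node (.leaf 0x2c) (.leaf 0x457)) (.node (.leaf 0x172) (.leaf 0))) (.node (.node (.leaf 0xb2) (.leaf 0)) (.node (.leaf 0x2bf) (.leaf 0)))))) (.node (.node (.node (.node (.node (.leaf 0x3) (.leaf 0x32f)) (.node (.leaf 0x109) (.leaf 0))) (.node (.node (.leaf 0x5b) (.leaf 0)) (.node (.leaf 0x201) (.leaf 0)))) (.node (.node (.node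 (.leaf 0x21) (.leaf 0x40f)) (.node (.leaf 0x14b) (.leaf 0))) (.node (.node (.leaf 0x9c) (.leaf 0)) (.node (.leaf 0x292) (.leaf 0))))) (.node (.node (.node (.node (.leaf 0x10) (.leaf 0x38f)) (.node (.leaf 0x115) (.leaf 0))) (.node (.node (.leaf 0x7d) (.leaf 0)) (.node (.leaf 0x249) (.leaf 0)))) (.node (.node (.node (.leaf 0x38) (.leaf 0x466)) (.node (.leaf 0x1af) (.leaf 0))) (.node (.node (.leaf 0xda) (.leaf 0)) (.node (.leaf 0x304) (.leaf 0))))))) (.node (.node (.node (.node (.node (.node (.leaf 0x2) (.leaf 0x32a)) (.node (.leaf 0x103) (.leaf 0))) (.node (.node (.leaf 0x53) (.leaf 0)) (.node (.leaf 0x1fb) (.leaf 0)))) (.node (.node (.node (.leaf 0x1f) (.leaf 0x3f0)) (.node (.leaf 0x144) (.leaf 0))) (.node (.node (.leaf 0x8f) (.leaf 0)) (.node (.leaf 0x281) (.leaf 0))))) (.node (.node (.node (.node (.leaf 0xc) (.leaf 0x375)) (.node (.leaf 0x113) (.leaf 0))) (.node (.node (.leaf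 0x75) (.leaf 0)) (.node (.leaf 0x236) (.leaf 0)))) (.node (.node (.node (.leaf 0x32) (.leaf 0x460)) (.node (.leaf 0x18a) (.leaf 0))) (.node (.node (.leaf 0xc5) (.leaf 0)) (.node (.leaf 0x2e2) (.leaf 0)))))) (.node (.node (.node (.node (.node (.leaf 0x4) (.leaf 0x343)) (.node (.leaf 0x10e) (.leaf 0))) (.node (.node (.leaf 0x6d) (.leaf 0)) (.node (.leaf 0x213) (.leaf 0)))) (.node (.node (.node (.leaf 0x25) (.leaf 0x432)) (.node (.leaf 0x157) (.leaf 0))) (.node (.node (.leaf 0xa6) (.leaf 0)) (.node (.leaf 0x2b8) (.leaf 0))))) (.node (.node (.node (.node (.leaf 0x14) (.leaf 0x3a9)) (.node (.leaf 0x11a) (.leaf 0))) (.node (.node (.leaf 0x82) (.leaf 0)) (.node (.leaf 0x25a) (.leaf 0)))) (.node (.node (.node (.leaf 0x45) (.leaf 0)) (.node (.leaf 0x1d3) (.leaf 0))) (.node (.node (.leaf 0xe6) (.leaf 0)) (.node (.leaf 0x30c) (.leaf 0))))))))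

/-- part of the cover -/
def covB28 : Trie :=
  (.node (.node (.node (.node (.node (.node (.node (.leaf 0x0) (.leaf 0x312)) (.node (.leaf 0xe9) (.leaf 0))) (.node (.node (.leaf 0x4a) (.leaf 0)) (.node (.leaf 0x1ef) (.leaf 0)))) (.node (.node (.node (.leaf 0x1a) (.leaf 0x3d1)) (.node (.leaf 0x12c) (.leaf 0))) (.node (.node (.leaf 0x87) (.leaf 0)) (.node (.leaf 0x26d) (.leaf 0))))) (.node (.node (.node (.node (.leaf 0x6) (.leaf 0x34d)) (.node (.leaf 0x110) (.leaf 0))) (.node (.node (.leaf 0x72) (.leaf 0)) (.node (.leaf 0x22f) (.leaf 0)))) (.node (.node (.node (.leaf 0x27) (.leaf 0x43b)) (.node (.leaf 0x163) (.leaf 0))) (.node (.node (.leaf 0xb1) (.leaf 0)) (.node (.leaf 0x2ce) (.leaf 0)))))) (.node (.node (.node (.node (.node (.leaf 0x3) (.leaf 0x330)) (.node (.leaf 0x107) (.leaf 0))) (.node (.node (.leaf 0x64) (.leaf 0)) (.node (.leaf 0x201) (.leaf 0)))) (.node (.node (.node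 (.leaf 0x21) (.leaf 0x405)) (.node (.leaf 0x14b) (.leaf 0))) (.node (.node (.leaf 0x93) (.leaf 0)) (.node (.leaf 0x286) (.leaf 0))))) (.node (.node (.node (.node (.leaf 0xf) (.leaf 0x393)) (.node (.leaf 0x115) (.leaf 0))) (.node (.node (.leaf 0x79) (.leaf 0)) (.node (.leaf 0x23e) (.leaf 0)))) (.node (.node (.node (.leaf 0x38) (.leaf 0x465)) (.node (.leaf 0x19f) (.leaf 0))) (.node (.node (.leaf 0xd8) (.leaf 0)) (.node (.leaf 0x2f9) (.leaf 0))))))) (.node (.node (.node (.node (.node (.node (.leaf 0x1) (.leaf 0x327)) (.node (.leaf 0xfd) (.leaf 0))) (.node (.node (.leaf 0x53) (.leaf 0)) (.node (.leaf 0x1fb) (.leaf 0)))) (.node (.node (.node (.leaf 0x1f) (.leaf 0x3ef)) (.node (.leaf 0x13d) (.leaf 0))) (.node (.node (.leaf 0x8f) (.leaf 0)) (.node (.leaf 0x280) (.leaf 0))))) (.node (.node (.node (.node (.leaf 0xa) (.leaf 0x35c)) (.node (.leaf 0x111) (.leaf 0))) (.node (.node (.leaf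 0x75) (.leaf 0)) (.node (.leaf 0x237) (.leaf 0)))) (.node (.node (.node (.leaf 0x33) (.leaf 0x460)) (.node (.leaf 0x17c) (.leaf 0))) (.node (.node (.leaf 0xbc) (.leaf 0)) (.node (.leaf 0x2dd) (.leaf 0)))))) (.node (.node (.node (.node (.node (.leaf 0x4) (.leaf 0x342)) (.node (.leaf 0x10b) (.leaf 0))) (.node (.node (.leaf 0x6b) (.leaf 0)) (.node (.leaf 0x207) (.leaf 0)))) (.node (.node (.node (.leaf 0x24) (.leaf 0x428)) (.node (.leaf 0x155) (.leaf 0))) (.node (.node (.leaf 0xa7) (.leaf 0)) (.node (.leaf 0x2ae) (.leaf 0))))) (.node (.node (.node (.node (.leaf 0x12) (.leaf 0x3ba)) (.node (.leaf 0x119) (.leaf 0))) (.node (.node (.leaf 0x81) (.leaf 0)) (.node (.leaf 0x252) (.leaf 0)))) (.node (.node (.node (.leaf 0x3d) (.leaf 0)) (.node (.leaf 0x1b9) (.leaf 0))) (.node (.node (.leaf 0xe1) (.leaf 0)) (.node (.leaf 0x30c) (.leaf 0))))))))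

/-- part of the cover -/
def covB60 : Trie :=
  (.node (.node (.node (.node (.node (.node (.node (.leaf 0x1) (.leaf 0x318)) (.node (.leaf 0xfe) (.leaf 0))) (.node (.node (.leaf 0x4b) (.leaf 0)) (.node (.leaf 0x1f2) (.leaf 0)))) (.node (.node (.node (.leaf 0x1b) (.leaf 0x3e6)) (.node (.leaf 0x138) (.leaf 0))) (.node (.node (.leaf 0x89) (.leaf 0)) (.node (.leaf 0x273) (.leaf 0))))) (.node (.node (.node (.node (.leaf 0x9) (.leaf 0x359)) (.node (.leaf 0x112) (.leaf 0))) (.node (.node (.leaf 0x72) (.leaf 0)) (.node (.leaf 0x231) (.leaf 0)))) (.node (.node (.node (.leaf 0x2d) (.leaf 0x45a)) (.node (.leaf 0x172) (.leaf 0))) (.node (.node (.leaf 0xbb) (.leaf 0)) (.node (.leaf 0x2dc) (.leaf 0)))))) (.node (.node (.node (.node (.node (.leaf 0x3) (.leaf 0x332)) (.node (.leaf 0x108) (.leaf 0))) (.node (.node (.leaf 0x68) (.leaf 0)) (.node (.leaf 0x207) (.leaf 0)))) (.node (.node (.node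 (.leaf 0x23) (.leaf 0x416)) (.node (.leaf 0x150) (.leaf 0))) (.node (.node (.leaf 0x98) (.leaf 0)) (.node (.leaf 0x293) (.leaf 0))))) (.node (.node (.node (.node (.leaf 0x10) (.leaf 0x3a7)) (.node (.leaf 0x115) (.leaf 0))) (.node (.node (.leaf 0x7e) (.leaf 0)) (.node (.leaf 0x24d) (.leaf 0)))) (.node (.node (.node (.leaf 0x3f) (.leaf 0)) (.node (.leaf 0x1b7) (.leaf 0))) (.node (.node (.leaf 0xde) (.leaf 0)) (.node (.leaf 0x305) (.leaf 0))))))) (.node (.node (.node (.node (.node (.node (.leaf 0x2) (.leaf 0x32a)) (.node (.leaf 0x102) (.leaf 0))) (.node (.node (.leaf 0x58) (.leaf 0)) (.node (.leaf 0x1f9) (.leaf 0)))) (.node (.node (.node (.leaf 0x1e) (.leaf 0x3f4)) (.node (.leaf 0x141) (.leaf 0))) (.node (.node (.leaf 0x91) (.leaf 0)) (.node (.leaf 0x284) (.leaf 0))))) (.node (.node (.node (.node (.leaf 0xc) (.leaf 0x382)) (.node (.leaf 0x114) (.leaf 0))) (.node (.node (.leaf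 0x7a) (.leaf 0)) (.node (.leaf 0x23f) (.leaf 0)))) (.node (.node (.node (.leaf 0x33) (.leaf 0x460)) (.node (.leaf 0x190) (.leaf 0))) (.node (.node (.leaf 0xd2) (.leaf 0)) (.node (.leaf 0x2f3) (.leaf 0)))))) (.node (.node (.node (.node (.node (.leaf 0x6) (.leaf 0x348)) (.node (.leaf 0x10f) (.leaf 0))) (.node (.node (.leaf 0x6d) (.leaf 0)) (.node (.leaf 0x218) (.leaf 0)))) (.node (.node (.node (.leaf 0x27) (.leaf 0x43f)) (.node (.leaf 0x164) (.leaf 0))) (.node (.node (.leaf 0xa7) (.leaf 0)) (.node (.leaf 0x2b4) (.leaf 0))))) (.node (.node (.node (.node (.leaf 0x17) (.leaf 0x3cb)) (.node (.leaf 0x124) (.leaf 0))) (.node (.node (.leaf 0x82) (.leaf 0)) (.node (.leaf 0x25d) (.leaf 0)))) (.node (.node (.node (.leaf 0x45) (.leaf 0)) (.node (.leaf 0x1e1) (.leaf 0))) (.node (.node (.leaf 0xe6) (.leaf 0)) (.node (.leaf 0x30a) (.leaf 0))))))))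

/-- part of the cover -/
def covB2 : Trie :=
  (.node (.node (.node (.node (.node (.node (.node (.leaf 0x0) (.leaf 0x309)) (.node (.leaf 0xe7) (.leaf 0))) (.node (.node (.leaf 0x42) (.leaf 0)) (.node (.leaf 0x1db) (.leaf 0)))) (.node (.node (.node (.leaf 0x17) (.leaf 0x3d0)) (.node (.leaf 0x12a) (.leaf 0))) (.node (.node (.leaf 0x82) (.leaf 0)) (.node (.leaf 0x25b) (.leaf 0))))) (.node (.node (.node (.node (.leaf 0x6) (.leaf 0x34c)) (.node (.leaf 0x10f) (.leaf 0))) (.node (.node (.leaf 0x6d) (.leaf 0)) (.node (.leaf 0x223) (.leaf 0)))) (.node (.node (.node (.leaf 0x28) (.leaf 0x441)) (.node (.leaf 0x165) (.leaf 0))) (.node (.node (.leaf 0xab) (.leaf 0)) (.node (.leaf 0x2ad) (.leaf 0)))))) (.node (.node (.node (.node (.node (.leaf 0x2) (.leaf 0x32b)) (.node (.leaf 0x103) (.leaf 0))) (.node (.node (.leaf 0x5e) (.leaf 0)) (.node (.leaf 0x1ff) (.leaf 0)))) (.node (.node (.node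 (.leaf 0x1e) (.leaf 0x3fe)) (.node (.leaf 0x142) (.leaf 0))) (.node (.node (.leaf 0x91) (.leaf 0)) (.node (.leaf 0x28a) (.leaf 0))))) (.node (.node (.node (.node (.leaf 0xc) (.leaf 0x375)) (.node (.leaf 0x113) (.leaf 0))) (.node (.node (.leaf 0x79) (.leaf 0)) (.node (.leaf 0x244) (.leaf 0)))) (.node (.node (.node (.leaf 0x36) (.leaf 0x464)) (.node (.leaf 0x18f) (.leaf 0))) (.node (.node (.leaf 0xca) (.leaf 0)) (.node (.leaf 0x2f7) (.leaf 0))))))) (.node (.node (.node (.node (.node (.node (.leaf 0x1) (.leaf 0x31a)) (.node (.leaf 0xfb) (.leaf 0))) (.node (.node (.leaf 0x4d) (.leaf 0)) (.node (.leaf 0x1f2) (.leaf 0)))) (.node (.node (.node (.leaf 0x1c) (.leaf 0x3db)) (.node (.leaf 0x137) (.leaf 0))) (.node (.node (.leaf 0x8c) (.leaf 0)) (.node (.leaf 0x27f) (.leaf 0))))) (.node (.node (.node (.node (.leaf 0x9) (.leaf 0x353)) (.node (.leaf 0x111) (.leaf 0))) (.node (.node (.leaf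 0x72) (.leaf 0)) (.node (.leaf 0x232) (.leaf 0)))) (.node (.node (.node (.leaf 0x2c) (.leaf 0x45c)) (.node (.leaf 0x173) (.leaf 0))) (.node (.node (.leaf 0xc0) (.leaf 0)) (.node (.leaf 0x2dc) (.leaf 0)))))) (.node (.node (.node (.node (.node (.leaf 0x3) (.leaf 0x330)) (.node (.leaf 0x108) (.leaf 0))) (.node (.node (.leaf 0x68) (.leaf 0)) (.node (.leaf 0x207) (.leaf 0)))) (.node (.node (.node (.leaf 0x24) (.leaf 0x419)) (.node (.leaf 0x156) (.leaf 0))) (.node (.node (.leaf 0x9d) (.leaf 0)) (.node (.leaf 0x29f) (.leaf 0))))) (.node (.node (.node (.node (.leaf 0x11) (.leaf 0x39c)) (.node (.leaf 0x116) (.leaf 0))) (.node (.node (.leaf 0x7e) (.leaf 0)) (.node (.leaf 0x24d) (.leaf 0)))) (.node (.node (.node (.leaf 0x3d) (.leaf 0)) (.node (.leaf 0x1bb) (.leaf 0))) (.node (.node (.leaf 0xdc) (.leaf 0)) (.node (.leaf 0x304) (.leaf 0))))))))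

/-- part of the cover -/
def covB34 : Trie :=
  (.node (.node (.node (.node (.node (.node (.node (.leaf 0x0) (.leaf 0x313)) (.node (.leaf 0xe8) (.leaf 0))) (.node (.node (.leaf 0x4d) (.leaf 0)) (.node (.leaf 0x1f2) (.leaf 0)))) (.node (.node (.node (.leaf 0x16) (.leaf 0x3d9)) (.node (.leaf 0x12d) (.leaf 0))) (.node (.node (.leaf 0x8a) (.leaf 0)) (.node (.leaf 0x272) (.leaf 0))))) (.node (.node (.node (.node (.leaf 0x6) (.leaf 0x34b)) (.node (.leaf 0x110) (.leaf 0))) (.node (.node (.leaf 0x72) (.leaf 0)) (.node (.leaf 0x231) (.leaf 0)))) (.node (.node (.node (.leaf 0x2b) (.leaf 0x450)) (.node (.leaf 0x16b) (.leaf 0))) (.node (.node (.leaf 0xae) (.leaf 0)) (.node (.leaf 0x2d2) (.leaf 0)))))) (.node (.node (.node (.node (.node (.leaf 0x3) (.leaf 0x333)) (.node (.leaf 0x106) (.leaf 0))) (.node (.node (.leaf 0x5b) (.leaf 0)) (.node (.leaf 0x200) (.leaf 0)))) (.node (.node (.node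 (.leaf 0x21) (.leaf 0x40f)) (.node (.leaf 0x14b) (.leaf 0))) (.node (.node (.leaf 0x94) (.leaf 0)) (.node (.leaf 0x287) (.leaf 0))))) (.node (.node (.node (.node (.leaf 0xf) (.leaf 0x397)) (.node (.leaf 0x116) (.leaf 0))) (.node (.node (.leaf 0x79) (.leaf 0)) (.node (.leaf 0x23f) (.leaf 0)))) (.node (.node (.node (.leaf 0x38) (.leaf 0x466)) (.node (.leaf 0x19c) (.leaf 0))) (.node (.node (.leaf 0xdb) (.leaf 0)) (.node (.leaf 0x2fe) (.leaf 0))))))) (.node (.node (.node (.node (.node (.node (.leaf 0x1) (.leaf 0x326)) (.node (.leaf 0xfd) (.leaf 0))) (.node (.node (.leaf 0x53) (.leaf 0)) (.node (.leaf 0x1fa) (.leaf 0)))) (.node (.node (.node (.leaf 0x1e) (.leaf 0x3f5)) (.node (.leaf 0x143) (.leaf 0))) (.node (.node (.leaf 0x8c) (.leaf 0)) (.node (.leaf 0x280) (.leaf 0))))) (.node (.node (.node (.node (.leaf 0xd) (.leaf 0x36d)) (.node (.leaf 0x114) (.leaf 0))) (.node (.node (.leaf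 0x76) (.leaf 0)) (.node (.leaf 0x239) (.leaf 0)))) (.node (.node (.node (.leaf 0x33) (.leaf 0x45e)) (.node (.leaf 0x184) (.leaf 0))) (.node (.node (.leaf 0xc2) (.leaf 0)) (.node (.leaf 0x2e1) (.leaf 0)))))) (.node (.node (.node (.node (.node (.leaf 0x4) (.leaf 0x33e)) (.node (.leaf 0x10b) (.leaf 0))) (.node (.node (.leaf 0x6c) (.leaf 0)) (.node (.leaf 0x20a) (.leaf 0)))) (.node (.node (.node (.leaf 0x24) (.leaf 0x42f)) (.node (.leaf 0x157) (.leaf 0))) (.node (.node (.leaf 0xaa) (.leaf 0)) (.node (.leaf 0x2b3) (.leaf 0))))) (.node (.node (.node (.node (.leaf 0x12) (.leaf 0x3bd)) (.node (.leaf 0x11e) (.leaf 0))) (.node (.node (.leaf 0x84) (.leaf 0)) (.node (.leaf 0x259) (.leaf 0)))) (.node (.node (.node (.leaf 0x40) (.leaf 0)) (.node (.leaf 0x1cd) (.leaf 0))) (.node (.node (.leaf 0xe1) (.leaf 0)) (.node (.leaf 0x30c) (.leaf 0))))))))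

/-- part of the cover -/
def covB18 : Trie :=
  (.node (.node (.node (.node (.node (.node (.node (.leaf 0x0) (.leaf 0x313)) (.node (.leaf 0xef) (.leaf 0))) (.node (.node (.leaf 0x46) (.leaf 0)) (.node (.leaf 0x1e8) (.leaf 0)))) (.node (.node (.node (.leaf 0x1a) (.leaf 0x3cf)) (.node (.leaf 0x127) (.leaf 0))) (.node (.node (.leaf 0x88) (.leaf 0)) (.node (.leaf 0x263) (.leaf 0))))) (.node (.node (.node (.node (.leaf 0x6) (.leaf 0x34c)) (.node (.leaf 0x10f) (.leaf 0))) (.node (.node (.leaf 0x70) (.leaf 0)) (.node (.leaf 0x225) (.leaf 0)))) (.node (.node (.node (.leaf 0x27) (.leaf 0x442)) (.node (.leaf 0x167) (.leaf 0))) (.node (.node (.leaf 0xb2) (.leaf 0)) (.node (.leaf 0x2c6) (.leaf 0)))))) (.node (.node (.node (.node (.node (.leaf 0x2) (.leaf 0x32b)) (.node (.leaf 0x103) (.leaf 0))) (.node (.node (.leaf 0x5d) (.leaf 0)) (.node (.leaf 0x202) (.leaf 0)))) (.node (.node (.node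 (.leaf 0x21) (.leaf 0x407)) (.node (.leaf 0x14c) (.leaf 0))) (.node (.node (.leaf 0x91) (.leaf 0)) (.node (.leaf 0x28a) (.leaf 0))))) (.node (.node (.node (.node (.leaf 0xf) (.leaf 0x388)) (.node (.leaf 0x115) (.leaf 0))) (.node (.node (.leaf 0x78) (.leaf 0)) (.node (.leaf 0x23e) (.leaf 0)))) (.node (.node (.node (.leaf 0x38) (.leaf 0x465)) (.node (.leaf 0x19f) (.leaf 0))) (.node (.node (.leaf 0xd3) (.leaf 0)) (.node (.leaf 0x2ec) (.leaf 0))))))) (.node (.node (.node (.node (.node (.node (.leaf 0x1) (.leaf 0x326)) (.node (.leaf 0xfb) (.leaf 0))) (.node (.node (.leaf 0x54) (.leaf 0)) (.node (.leaf 0x1fa) (.leaf 0)))) (.node (.node (.node (.leaf 0x1b) (.leaf 0x3e6)) (.node (.leaf 0x135) (.leaf 0))) (.node (.node (.leaf 0x8c) (.leaf 0)) (.node (.leaf 0x280) (.leaf 0))))) (.node (.node (.node (.node (.leaf 0x9) (.leaf 0x350)) (.node (.leaf 0x111) (.leaf 0))) (.node (.node (.leaf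 0x75) (.leaf 0)) (.node (.leaf 0x239) (.leaf 0)))) (.node (.node (.node (.leaf 0x30) (.leaf 0x456)) (.node (.leaf 0x174) (.leaf 0))) (.node (.node (.leaf 0xbe) (.leaf 0)) (.node (.leaf 0x2de) (.leaf 0)))))) (.node (.node (.node (.node (.node (.leaf 0x4) (.leaf 0x33a)) (.node (.leaf 0x10b) (.leaf 0))) (.node (.node (.leaf 0x68) (.leaf 0)) (.node (.leaf 0x207) (.leaf 0)))) (.node (.node (.node (.leaf 0x24) (.leaf 0x427)) (.node (.leaf 0x156) (.leaf 0))) (.node (.node (.leaf 0x98) (.leaf 0)) (.node (.leaf 0x2a8) (.leaf 0))))) (.node (.node (.node (.node (.leaf 0x12) (.leaf 0x3b1)) (.node (.leaf 0x11e) (.leaf 0))) (.node (.node (.leaf 0x7e) (.leaf 0)) (.node (.leaf 0x251) (.leaf 0)))) (.node (.node (.node (.leaf 0x40) (.leaf 0)) (.node (.leaf 0x1c5) (.leaf 0))) (.node (.node (.leaf 0xe1) (.leaf 0)) (.node (.leaf 0x308) (.leaf 0))))))))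

/-- part of the cover -/
def covB50 : Trie :=
  (.node (.node (.node (.node (.node (.node (.node (.leaf 0x1) (.leaf 0x312)) (.node (.leaf 0xf2) (.leaf 0))) (.node (.node (.leaf 0x4d) (.leaf 0)) (.node (.leaf 0x1f4) (.leaf 0)))) (.node (.node (.node (.leaf 0x1c) (.leaf 0x3e3)) (.node (.leaf 0x131) (.leaf 0))) (.node (.node (.leaf 0x89) (.leaf 0)) (.node (.leaf 0x278) (.leaf 0))))) (.node (.node (.node (.node (.leaf 0x9) (.leaf 0x351)) (.node (.leaf 0x112) (.leaf 0))) (.node (.node (.leaf 0x72) (.leaf 0)) (.node (.leaf 0x232) (.leaf 0)))) (.node (.node (.node (.leaf 0x2c) (.leaf 0x453)) (.node (.leaf 0x16e) (.leaf 0))) (.node (.node (.leaf 0xb6) (.leaf 0)) (.node (.leaf 0x2d9) (.leaf 0)))))) (.node (.node (.node (.node (.node (.leaf 0x3) (.leaf 0x331)) (.node (.leaf 0x106) (.leaf 0))) (.node (.node (.leaf 0x68) (.leaf 0)) (.node (.leaf 0x204) (.leaf 0)))) (.node (.node (.node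 (.leaf 0x21) (.leaf 0x40d)) (.node (.leaf 0x14f) (.leaf 0))) (.node (.node (.leaf 0x9d) (.leaf 0)) (.node (.leaf 0x298) (.leaf 0))))) (.node (.node (.node (.node (.leaf 0xf) (.leaf 0x394)) (.node (.leaf 0x116) (.leaf 0))) (.node (.node (.leaf 0x7f) (.leaf 0)) (.node (.leaf 0x24e) (.leaf 0)))) (.node (.node (.node (.leaf 0x3a) (.leaf 0x465)) (.node (.leaf 0x19d) (.leaf 0))) (.node (.node (.leaf 0xdf) (.leaf 0)) (.node (.leaf 0x304) (.leaf 0))))))) (.node (.node (.node (.node (.node (.node (.leaf 0x2) (.leaf 0x32b)) (.node (.leaf 0x103) (.leaf 0))) (.node (.node (.leaf 0x57) (.leaf 0)) (.node (.leaf 0x1fb) (.leaf 0)))) (.node (.node (.node (.leaf 0x1e) (.leaf 0x3fc)) (.node (.leaf 0x144) (.leaf 0))) (.node (.node (.leaf 0x90) (.leaf 0)) (.node (.leaf 0x281) (.leaf 0))))) (.node (.node (.node (.node (.leaf 0xd) (.leaf 0x37a)) (.node (.leaf 0x113) (.leaf 0))) (.node (.node (.leaf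 0x76) (.leaf 0)) (.node (.leaf 0x237) (.leaf 0)))) (.node (.node (.node (.leaf 0x33) (.leaf 0x45f)) (.node (.leaf 0x185) (.leaf 0))) (.node (.node (.leaf 0xcb) (.leaf 0)) (.node (.leaf 0x2eb) (.leaf 0)))))) (.node (.node (.node (.node (.node (.leaf 0x4) (.leaf 0x33d)) (.node (.leaf 0x10b) (.leaf 0))) (.node (.node (.leaf 0x6d) (.leaf 0)) (.node (.leaf 0x219) (.leaf 0)))) (.node (.node (.node (.leaf 0x28) (.leaf 0x435)) (.node (.leaf 0x161) (.leaf 0))) (.node (.node (.leaf 0xa5) (.leaf 0)) (.node (.leaf 0x2ac) (.leaf 0))))) (.node (.node (.node (.node (.leaf 0x15) (.leaf 0x3c1)) (.node (.leaf 0x11a) (.leaf 0))) (.node (.node (.leaf 0x82) (.leaf 0)) (.node (.leaf 0x25e) (.leaf 0)))) (.node (.node (.node (.leaf 0x46) (.leaf 0)) (.node (.leaf 0x1d9) (.leaf 0))) (.node (.node (.leaf 0xe1) (.leaf 0)) (.node (.leaf 0x30b) (.leaf 0))))))))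

/-- part of the cover -/
def covB10 : Trie :=
  (.node (.node (.node (.node (.node (.node (.node (.leaf 0x0) (.leaf 0x312)) (.node (.leaf 0xee) (.leaf 0))) (.node (.node (.leaf 0x44) (.leaf 0)) (.node (.leaf 0x1d7) (.leaf 0)))) (.node (.node (.node (.leaf 0x17) (.leaf 0x3ca)) (.node (.leaf 0x12b) (.leaf 0))) (.node (.node (.leaf 0x84) (.leaf 0)) (.node (.leaf 0x25e) (.leaf 0))))) (.node (.node (.node (.node (.leaf 0x6) (.leaf 0x34b)) (.node (.leaf 0x110) (.leaf 0))) (.node (.node (.leaf 0x6d) (.leaf 0)) (.node (.leaf 0x224) (.leaf 0)))) (.node (.node (.node (.leaf 0x28) (.leaf 0x448)) (.node (.leaf 0x160) (.leaf 0))) (.node (.node (.leaf 0xaf) (.leaf 0)) (.node (.leaf 0x2be) (.leaf 0)))))) (.node (.node (.node (.node (.node (.leaf 0x2) (.leaf 0x32b)) (.node (.leaf 0x103) (.leaf 0))) (.node (.node (.leaf 0x61) (.leaf 0)) (.node (.leaf 0x202) (.leaf 0)))) (.node (.node (.node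 (.leaf 0x20) (.leaf 0x3f8)) (.node (.leaf 0x146) (.leaf 0))) (.node (.node (.leaf 0x91) (.leaf 0)) (.node (.leaf 0x287) (.leaf 0))))) (.node (.node (.node (.node (.leaf 0xd) (.leaf 0x370)) (.node (.leaf 0x114) (.leaf 0))) (.node (.node (.leaf 0x79) (.leaf 0)) (.node (.leaf 0x23e) (.leaf 0)))) (.node (.node (.node (.leaf 0x3a) (.leaf 0x465)) (.node (.leaf 0x199) (.leaf 0))) (.node (.node (.leaf 0xd5) (.leaf 0)) (.node (.leaf 0x2f8) (.leaf 0))))))) (.node (.node (.node (.node (.node (.node (.leaf 0x1) (.leaf 0x323)) (.node (.leaf 0xfd) (.leaf 0))) (.node (.node (.leaf 0x4e) (.leaf 0)) (.node (.leaf 0x1f2) (.leaf 0)))) (.node (.node (.node (.leaf 0x1c) (.leaf 0x3e0)) (.node (.leaf 0x137) (.leaf 0))) (.node (.node (.leaf 0x8c) (.leaf 0)) (.node (.leaf 0x282) (.leaf 0))))) (.node (.node (.node (.node (.leaf 0x9) (.leaf 0x364)) (.node (.leaf 0x112) (.leaf 0))) (.node (.node (.leaf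 0x76) (.leaf 0)) (.node (.leaf 0x237) (.leaf 0)))) (.node (.node (.node (.leaf 0x2c) (.leaf 0x45c)) (.node (.leaf 0x16c) (.leaf 0))) (.node (.node (.leaf 0xbf) (.leaf 0)) (.node (.leaf 0x2e0) (.leaf 0)))))) (.node (.node (.node (.node (.node (.leaf 0x4) (.leaf 0x330)) (.node (.leaf 0x10a) (.leaf 0))) (.node (.node (.leaf 0x68) (.leaf 0)) (.node (.leaf 0x207) (.leaf 0)))) (.node (.node (.node (.leaf 0x24) (.leaf 0x421)) (.node (.leaf 0x15a) (.leaf 0))) (.node (.node (.leaf 0x9b) (.leaf 0)) (.node (.leaf 0x2a6) (.leaf 0))))) (.node (.node (.node (.node (.leaf 0x12) (.leaf 0x3ad)) (.node (.leaf 0x11c) (.leaf 0))) (.node (.node (.leaf 0x7e) (.leaf 0)) (.node (.leaf 0x250) (.leaf 0)))) (.node (.node (.node (.leaf 0x40) (.leaf 0)) (.node (.leaf 0x1bf) (.leaf 0))) (.node (.node (.leaf 0xdf) (.leaf 0)) (.node (.leaf 0x302) (.leaf 0))))))))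

/-- part of the cover -/
def covB42 : Trie :=
  (.node (.node (.node (.node (.node (.node (.node (.leaf 0x0) (.leaf 0x312)) (.node (.leaf 0xf7) (.leaf 0))) (.node (.node (.leaf 0x4d) (.leaf 0)) (.node (.leaf 0x1f2) (.leaf 0)))) (.node (.node (.node (.leaf 0x1c) (.leaf 0x3db)) (.node (.leaf 0x131) (.leaf 0))) (.node (.node (.leaf 0x8a) (.leaf 0)) (.node (.leaf 0x277) (.leaf 0))))) (.node (.node (.node (.node (.leaf 0x7) (.leaf 0x34e)) (.node (.leaf 0x10f) (.leaf 0))) (.node (.node (.leaf 0x72) (.leaf 0)) (.node (.leaf 0x232) (.leaf 0)))) (.node (.node (.node (.leaf 0x2c) (.leaf 0x455)) (.node (.leaf 0x172) (.leaf 0))) (.node (.node (.leaf 0xb0) (.leaf 0)) (.node (.leaf 0x2d7) (.leaf 0)))))) (.node (.node (.node (.node (.node (.leaf 0x3) (.leaf 0x332)) (.node (.leaf 0x106) (.leaf 0))) (.node (.node (.leaf 0x5f) (.leaf 0)) (.node (.leaf 0x202) (.leaf 0)))) (.node (.node (.node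 (.leaf 0x21) (.leaf 0x40f)) (.node (.leaf 0x14e) (.leaf 0))) (.node (.node (.leaf 0x9b) (.leaf 0)) (.node (.leaf 0x290) (.leaf 0))))) (.node (.node (.node (.node (.leaf 0xf) (.leaf 0x39e)) (.node (.leaf 0x116) (.leaf 0))) (.node (.node (.leaf 0x7c) (.leaf 0)) (.node (.leaf 0x246) (.leaf 0)))) (.node (.node (.node (.leaf 0x38) (.leaf 0x465)) (.node (.leaf 0x195) (.leaf 0))) (.node (.node (.leaf 0xda) (.leaf 0)) (.node (.leaf 0x303) (.leaf 0))))))) (.node (.node (.node (.node (.node (.node (.leaf 0x2) (.leaf 0x32b)) (.node (.leaf 0x100) (.leaf 0))) (.node (.node (.leaf 0x56) (.leaf 0)) (.node (.leaf 0x1fa) (.leaf 0)))) (.node (.node (.node (.leaf 0x1e) (.leaf 0x3f6)) (.node (.leaf 0x13e) (.leaf 0))) (.node (.node (.leaf 0x8e) (.leaf 0)) (.node (.leaf 0x281) (.leaf 0))))) (.node (.node (.node (.node (.leaf 0xc) (.leaf 0x372)) (.node (.leaf 0x114) (.leaf 0))) (.node (.node (.leaf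 0x75) (.leaf 0)) (.node (.leaf 0x239) (.leaf 0)))) (.node (.node (.node (.leaf 0x33) (.leaf 0x45f)) (.node (.leaf 0x189) (.leaf 0))) (.node (.node (.leaf 0xc4) (.leaf 0)) (.node (.leaf 0x2dc) (.leaf 0)))))) (.node (.node (.node (.node (.node (.leaf 0x4) (.leaf 0x33c)) (.node (.leaf 0x10b) (.leaf 0))) (.node (.node (.leaf 0x6d) (.leaf 0)) (.node (.leaf 0x211) (.leaf 0)))) (.node (.node (.node (.leaf 0x24) (.leaf 0x431)) (.node (.leaf 0x156) (.leaf 0))) (.node (.node (.leaf 0xa5) (.leaf 0)) (.node (.leaf 0x2b7) (.leaf 0))))) (.node (.node (.node (.node (.leaf 0x12) (.leaf 0x3c3)) (.node (.leaf 0x120) (.leaf 0))) (.node (.node (.leaf 0x82) (.leaf 0)) (.node (.leaf 0x25c) (.leaf 0)))) (.node (.node (.node (.leaf 0x43) (.leaf 0)) (.node (.leaf 0x1d1) (.leaf 0))) (.node (.node (.leaf 0xe1) (.leaf 0)) (.node (.leaf 0x30b) (.leaf 0))))))))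

/-- part of the cover -/
def covB26 : Trie :=
  (.node (.node (.node (.node (.node (.node (.node (.leaf 0x0) (.leaf 0x312)) (.node (.leaf 0xea) (.leaf 0))) (.node (.node (.leaf 0x48) (.leaf 0)) (.node (.leaf 0x1ee) (.leaf 0)))) (.node (.node (.node (.leaf 0x17) (.leaf 0x3d1)) (.node (.leaf 0x12a) (.leaf 0))) (.node (.node (.leaf 0x87) (.leaf 0)) (.node (.leaf 0x26b) (.leaf 0))))) (.node (.node (.node (.node (.leaf 0x6) (.leaf 0x34c)) (.node (.leaf 0x110) (.leaf 0))) (.node (.node (.leaf 0x72) (.leaf 0)) (.node (.leaf 0x22d) (.leaf 0)))) (.node (.node (.node (.leaf 0x28) (.leaf 0x444)) (.node (.leaf 0x166) (.leaf 0))) (.node (.node (.leaf 0xb3) (.leaf 0)) (.node (.leaf 0x2c1) (.leaf 0)))))) (.node (.node (.node (.node (.node (.leaf 0x3) (.leaf 0x32e)) (.node (.leaf 0x106) (.leaf 0))) (.node (.node (.leaf 0x5d) (.leaf 0)) (.node (.leaf 0x1fe) (.leaf 0)))) (.node (.node (.node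 (.leaf 0x21) (.leaf 0x407)) (.node (.leaf 0x14e) (.leaf 0))) (.node (.node (.leaf 0x91) (.leaf 0)) (.node (.leaf 0x287) (.leaf 0))))) (.node (.node (.node (.node (.leaf 0xf) (.leaf 0x391)) (.node (.leaf 0x115) (.leaf 0))) (.node (.node (.leaf 0x79) (.leaf 0)) (.node (.leaf 0x240) (.leaf 0)))) (.node (.node (.node (.leaf 0x38) (.leaf 0x465)) (.node (.leaf 0x1a7) (.leaf 0))) (.node (.node (.leaf 0xd2) (.leaf 0)) (.node (.leaf 0x2f7) (.leaf 0))))))) (.node (.node (.node (.node (.node (.node (.leaf 0x1) (.leaf 0x31a)) (.node (.leaf 0xfb) (.leaf 0))) (.node (.node (.leaf 0x56) (.leaf 0)) (.node (.leaf 0x1fb) (.leaf 0)))) (.node (.node (.node (.leaf 0x1e) (.leaf 0x3e9)) (.node (.leaf 0x13b) (.leaf 0))) (.node (.node (.leaf 0x8c) (.leaf 0)) (.node (.leaf 0x280) (.leaf 0))))) (.node (.node (.node (.node (.leaf 0x9) (.leaf 0x35b)) (.node (.leaf 0x111) (.leaf 0))) (.node (.node (.leaf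 0x76) (.leaf 0)) (.node (.leaf 0x236) (.leaf 0)))) (.node (.node (.node (.leaf 0x35) (.leaf 0x45f)) (.node (.leaf 0x17d) (.leaf 0))) (.node (.node (.leaf 0xbe) (.leaf 0)) (.node (.leaf 0x2e5) (.leaf 0)))))) (.node (.node (.node (.node (.node (.leaf 0x4) (.leaf 0x341)) (.node (.leaf 0x10e) (.leaf 0))) (.node (.node (.leaf 0x6a) (.leaf 0)) (.node (.leaf 0x207) (.leaf 0)))) (.node (.node (.node (.leaf 0x24) (.leaf 0x420)) (.node (.leaf 0x156) (.leaf 0))) (.node (.node (.leaf 0xa5) (.leaf 0)) (.node (.leaf 0x2ac) (.leaf 0))))) (.node (.node (.node (.node (.leaf 0x12) (.leaf 0x3b9)) (.node (.leaf 0x11c) (.leaf 0))) (.node (.node (.leaf 0x80) (.leaf 0)) (.node (.leaf 0x24e) (.leaf 0)))) (.node (.node (.node (.leaf 0x3f) (.leaf 0)) (.node (.leaf 0x1bb) (.leaf 0))) (.node (.node (.leaf 0xe1) (.leaf 0)) (.node (.leaf 0x308) (.leaf 0))))))))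

/-- part of the cover -/
def covB58 : Trie :=
  (.node (.node (.node (.node (.node (.node (.node (.leaf 0x1) (.leaf 0x319)) (.node (.leaf 0xfd) (.leaf 0))) (.node (.node (.leaf 0x4d) (.leaf 0)) (.node (.leaf 0x1f2) (.leaf 0)))) (.node (.node (.node (.leaf 0x1b) (.leaf 0x3dc)) (.node (.leaf 0x136) (.leaf 0))) (.node (.node (.leaf 0x8a) (.leaf 0)) (.node (.leaf 0x26c) (.leaf 0))))) (.node (.node (.node (.node (.leaf 0x9) (.leaf 0x357)) (.node (.leaf 0x111) (.leaf 0))) (.node (.node (.leaf 0x72) (.leaf 0)) (.node (.leaf 0x22f) (.leaf 0)))) (.node (.node (.node (.leaf 0x2b) (.leaf 0x454)) (.node (.leaf 0x172) (.leaf 0))) (.node (.node (.leaf 0xb9) (.leaf 0)) (.node (.leaf 0x2d4) (.leaf 0)))))) (.node (.node (.node (.node (.node (.leaf 0x3) (.leaf 0x331)) (.node (.leaf 0x106) (.leaf 0))) (.node (.node (.leaf 0x68) (.leaf 0)) (.node (.leaf 0x209) (.leaf 0)))) (.node (.node (.node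 (.leaf 0x22) (.leaf 0x412)) (.node (.leaf 0x14c) (.leaf 0))) (.node (.node (.leaf 0x9a) (.leaf 0)) (.node (.leaf 0x29e) (.leaf 0))))) (.node (.node (.node (.node (.leaf 0xf) (.leaf 0x3a5)) (.node (.leaf 0x115) (.leaf 0))) (.node (.node (.leaf 0x7e) (.leaf 0)) (.node (.leaf 0x250) (.leaf 0)))) (.node (.node (.node (.leaf 0x3e) (.leaf 0)) (.node (.leaf 0x1b5) (.leaf 0))) (.node (.node (.leaf 0xdf) (.leaf 0)) (.node (.leaf 0x2fe) (.leaf 0))))))) (.node (.node (.node (.node (.node (.node (.leaf 0x2) (.leaf 0x32a)) (.node (.leaf 0x103) (.leaf 0))) (.node (.node (.leaf 0x54) (.leaf 0)) (.node (.leaf 0x1fa) (.leaf 0)))) (.node (.node (.node (.leaf 0x1e) (.leaf 0x3f1)) (.node (.leaf 0x141) (.leaf 0))) (.node (.node (.leaf 0x91) (.leaf 0)) (.node (.leaf 0x287) (.leaf 0))))) (.node (.node (.node (.node (.leaf 0xd) (.leaf 0x380)) (.node (.leaf 0x113) (.leaf 0))) (.node (.node (.leaf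 0x78) (.leaf 0)) (.node (.leaf 0x23d) (.leaf 0)))) (.node (.node (.node (.leaf 0x33) (.leaf 0x45e)) (.node (.leaf 0x186) (.leaf 0))) (.node (.node (.leaf 0xce) (.leaf 0)) (.node (.leaf 0x2f1) (.leaf 0)))))) (.node (.node (.node (.node (.node (.leaf 0x5) (.leaf 0x347)) (.node (.leaf 0x10e) (.leaf 0))) (.node (.node (.leaf 0x6d) (.leaf 0)) (.node (.leaf 0x21f) (.leaf 0)))) (.node (.node (.node (.leaf 0x27) (.leaf 0x43d)) (.node (.leaf 0x168) (.leaf 0))) (.node (.node (.leaf 0xaa) (.leaf 0)) (.node (.leaf 0x2b3) (.leaf 0))))) (.node (.node (.node (.node (.leaf 0x16) (.leaf 0x3c9)) (.node (.leaf 0x127) (.leaf 0))) (.node (.node (.leaf 0x82) (.leaf 0)) (.node (.leaf 0x25e) (.leaf 0)))) (.node (.node (.node (.leaf 0x46) (.leaf 0)) (.node (.leaf 0x1e0) (.leaf 0))) (.node (.node (.leaf 0xe3) (.leaf 0)) (.node (.leaf 0x30a) (.leaf 0))))))))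

/-- part of the cover -/
def covB6 : Trie :=
  (.node (.node (.node (.node (.node (.node (.node (.leaf 0x0) (.leaf 0x312)) (.node (.leaf 0xeb) (.leaf 0))) (.node (.node (.leaf 0x46) (.leaf 0)) (.node (.leaf 0x1e5) (.leaf 0)))) (.node (.node (.node (.leaf 0x17) (.leaf 0x3c9)) (.node (.leaf 0x12a) (.leaf 0))) (.node (.node (.leaf 0x84) (.leaf 0)) (.node (.leaf 0x25c) (.leaf 0))))) (.node (.node (.node (.node (.leaf 0x6) (.leaf 0x34d)) (.node (.leaf 0x10f) (.leaf 0))) (.node (.node (.leaf 0x6f) (.leaf 0)) (.node (.leaf 0x222) (.leaf 0)))) (.node (.node (.node (.leaf 0x27) (.leaf 0x446)) (.node (.leaf 0x166) (.leaf 0))) (.node (.node (.leaf 0xac) (.leaf 0)) (.node (.leaf 0x2b6) (.leaf 0)))))) (.node (.node (.node (.node (.node (.leaf 0x2) (.leaf 0x32c)) (.node (.leaf 0x100) (.leaf 0))) (.node (.node (.leaf 0x5f) (.leaf 0)) (.node (.leaf 0x202) (.leaf 0)))) (.node (.node (.node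 (.leaf 0x1e) (.leaf 0x3f5)) (.node (.leaf 0x13f) (.leaf 0))) (.node (.node (.leaf 0x94) (.leaf 0)) (.node (.leaf 0x285) (.leaf 0))))) (.node (.node (.node (.node (.leaf 0xc) (.leaf 0x387)) (.node (.leaf 0x114) (.leaf 0))) (.node (.node (.leaf 0x79) (.leaf 0)) (.node (.leaf 0x243) (.leaf 0)))) (.node (.node (.node (.leaf 0x38) (.leaf 0x45f)) (.node (.leaf 0x195) (.leaf 0))) (.node (.node (.leaf 0xc7) (.leaf 0)) (.node (.leaf 0x2f2) (.leaf 0))))))) (.node (.node (.node (.node (.node (.node (.leaf 0x1) (.leaf 0x322)) (.node (.leaf 0xfc) (.leaf 0))) (.node (.node (.leaf 0x4c) (.leaf 0)) (.node (.leaf 0x1f2) (.leaf 0)))) (.node (.node (.node (.leaf 0x1c) (.leaf 0x3eb)) (.node (.leaf 0x131) (.leaf 0))) (.node (.node (.leaf 0x8e) (.leaf 0)) (.node (.leaf 0x281) (.leaf 0))))) (.node (.node (.node (.node (.leaf 0x9) (.leaf 0x35d)) (.node (.leaf 0x111) (.leaf 0))) (.node (.node (.leaf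 0x74) (.leaf 0)) (.node (.leaf 0x233) (.leaf 0)))) (.node (.node (.node (.leaf 0x2c) (.leaf 0x455)) (.node (.leaf 0x171) (.leaf 0))) (.node (.node (.leaf 0xbe) (.leaf 0)) (.node (.leaf 0x2e2) (.leaf 0)))))) (.node (.node (.node (.node (.node (.leaf 0x3) (.leaf 0x335)) (.node (.leaf 0x108) (.leaf 0))) (.node (.node (.leaf 0x68) (.leaf 0)) (.node (.leaf 0x208) (.leaf 0)))) (.node (.node (.node (.leaf 0x24) (.leaf 0x41d)) (.node (.leaf 0x157) (.leaf 0))) (.node (.node (.leaf 0x9b) (.leaf 0)) (.node (.leaf 0x2a5) (.leaf 0))))) (.node (.node (.node (.node (.leaf 0x13) (.leaf 0x3a9)) (.node (.leaf 0x119) (.leaf 0))) (.node (.node (.leaf 0x7f) (.leaf 0)) (.node (.leaf 0x24b) (.leaf 0)))) (.node (.node (.node (.leaf 0x3d) (.leaf 0)) (.node (.leaf 0x1bd) (.leaf 0))) (.node (.node (.leaf 0xde) (.leaf 0)) (.node (.leaf 0x304) (.leaf 0))))))))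

/-- part of the cover -/
def covB38 : Trie :=
  (.node (.node (.node (.node (.node (.node (.node (.leaf 0x0) (.leaf 0x312)) (.node (.leaf 0xed) (.leaf 0))) (.node (.node (.leaf 0x4d) (.leaf 0)) (.node (.leaf 0x1f2) (.leaf 0)))) (.node (.node (.node (.leaf 0x1b) (.leaf 0x3da)) (.node (.leaf 0x127) (.leaf 0))) (.node (.node (.leaf 0x87) (.leaf 0)) (.node (.leaf 0x275) (.leaf 0))))) (.node (.node (.node (.node (.leaf 0x7) (.leaf 0x34c)) (.node (.leaf 0x10f) (.leaf 0))) (.node (.node (.leaf 0x72) (.leaf 0)) (.node (.leaf 0x230) (.leaf 0)))) (.node (.node (.node (.leaf 0x2c) (.leaf 0x455)) (.node (.leaf 0x16f) (.leaf 0))) (.node (.node (.leaf 0xb4) (.leaf 0)) (.node (.leaf 0x2d4) (.leaf 0)))))) (.node (.node (.node (.node (.node (.leaf 0x3) (.leaf 0x32f)) (.node (.leaf 0x106) (.leaf 0))) (.node (.node (.leaf 0x64) (.leaf 0)) (.node (.leaf 0x202) (.leaf 0)))) (.node (.node (.node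 (.leaf 0x22) (.leaf 0x412)) (.node (.leaf 0x149) (.leaf 0))) (.node (.node (.leaf 0x97) (.leaf 0)) (.node (.leaf 0x28c) (.leaf 0))))) (.node (.node (.node (.node (.leaf 0xf) (.leaf 0x39b)) (.node (.leaf 0x115) (.leaf 0))) (.node (.node (.leaf 0x79) (.leaf 0)) (.node (.leaf 0x248) (.leaf 0)))) (.node (.node (.node (.leaf 0x38) (.leaf 0x465)) (.node (.leaf 0x1a3) (.leaf 0))) (.node (.node (.leaf 0xda) (.leaf 0)) (.node (.leaf 0x302) (.leaf 0))))))) (.node (.node (.node (.node (.node (.node (.leaf 0x2) (.leaf 0x323)) (.node (.leaf 0x100) (.leaf 0))) (.node (.node (.leaf 0x51) (.leaf 0)) (.node (.leaf 0x1fb) (.leaf 0)))) (.node (.node (.node (.leaf 0x1e) (.leaf 0x3f9)) (.node (.leaf 0x13e) (.leaf 0))) (.node (.node (.leaf 0x8c) (.leaf 0)) (.node (.leaf 0x280) (.leaf 0))))) (.node (.node (.node (.node (.leaf 0xc) (.leaf 0x371)) (.node (.leaf 0x114) (.leaf 0))) (.node (.node (.leaf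 0x75) (.leaf 0)) (.node (.leaf 0x23b) (.leaf 0)))) (.node (.node (.node (.leaf 0x34) (.leaf 0x461)) (.node (.leaf 0x186) (.leaf 0))) (.node (.node (.leaf 0xc3) (.leaf 0)) (.node (.leaf 0x2dc) (.leaf 0)))))) (.node (.node (.node (.node (.node (.leaf 0x4) (.leaf 0x342)) (.node (.leaf 0x10e) (.leaf 0))) (.node (.node (.leaf 0x6e) (.leaf 0)) (.node (.leaf 0x20d) (.leaf 0)))) (.node (.node (.node (.leaf 0x24) (.leaf 0x430)) (.node (.leaf 0x157) (.leaf 0))) (.node (.node (.leaf 0xa7) (.leaf 0)) (.node (.leaf 0x2b5) (.leaf 0))))) (.node (.node (.node (.node (.leaf 0x14) (.leaf 0x3c0)) (.node (.leaf 0x11c) (.leaf 0))) (.node (.node (.leaf 0x82) (.leaf 0)) (.node (.leaf 0x25c) (.leaf 0)))) (.node (.node (.node (.leaf 0x40) (.leaf 0)) (.node (.leaf 0x1cd) (.leaf 0))) (.node (.node (.leaf 0xe1) (.leaf 0)) (.node (.leaf 0x309) (.leaf 0))))))))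

/-- part of the cover -/
def covB22 : Trie :=
  (.node (.node (.node (.node (.node (.node (.node (.leaf 0x0) (.leaf 0x311)) (.node (.leaf 0xf7) (.leaf 0))) (.node (.node (.leaf 0x44) (.leaf 0)) (.node (.leaf 0x1ec) (.leaf 0)))) (.node (.node (.node (.leaf 0x17) (.leaf 0x3d3)) (.node (.leaf 0x12c) (.leaf 0))) (.node (.node (.leaf 0x87) (.leaf 0)) (.node (.leaf 0x267) (.leaf 0))))) (.node (.node (.node (.node (.leaf 0x7) (.leaf 0x34b)) (.node (.leaf 0x10f) (.leaf 0))) (.node (.node (.leaf 0x72) (.leaf 0)) (.node (.leaf 0x229) (.leaf 0)))) (.node (.node (.node (.leaf 0x27) (.leaf 0x44f)) (.node (.leaf 0x165) (.leaf 0))) (.node (.node (.leaf 0xb4) (.leaf 0)) (.node (.leaf 0x2c3) (.leaf 0)))))) (.node (.node (.node (.node (.node (.leaf 0x3) (.leaf 0x32b)) (.node (.leaf 0x104) (.leaf 0))) (.node (.node (.leaf 0x5c) (.leaf 0)) (.node (.leaf 0x202) (.leaf 0)))) (.node (.node (.node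 (.leaf 0x21) (.leaf 0x409)) (.node (.leaf 0x14f) (.leaf 0))) (.node (.node (.leaf 0x93) (.leaf 0)) (.node (.leaf 0x288) (.leaf 0))))) (.node (.node (.node (.node (.leaf 0xf) (.leaf 0x38d)) (.node (.leaf 0x116) (.leaf 0))) (.node (.node (.leaf 0x79) (.leaf 0)) (.node (.leaf 0x246) (.leaf 0)))) (.node (.node (.node (.leaf 0x38) (.leaf 0x465)) (.node (.leaf 0x1a3) (.leaf 0))) (.node (.node (.leaf 0xd2) (.leaf 0)) (.node (.leaf 0x2ed) (.leaf 0))))))) (.node (.node (.node (.node (.node (.node (.leaf 0x1) (.leaf 0x316)) (.node (.leaf 0xfd) (.leaf 0))) (.node (.node (.leaf 0x57) (.leaf 0)) (.node (.leaf 0x1fb) (.leaf 0)))) (.node (.node (.node (.leaf 0x1c) (.leaf 0x3e9)) (.node (.leaf 0x135) (.leaf 0))) (.node (.node (.leaf 0x8c) (.leaf 0)) (.node (.leaf 0x281) (.leaf 0))))) (.node (.node (.node (.node (.leaf 0x9) (.leaf 0x36a)) (.node (.leaf 0x112) (.leaf 0))) (.node (.node (.leaf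 0x75) (.leaf 0)) (.node (.leaf 0x23b) (.leaf 0)))) (.node (.node (.node (.leaf 0x34) (.leaf 0x45d)) (.node (.leaf 0x179) (.leaf 0))) (.node (.node (.leaf 0xbd) (.leaf 0)) (.node (.leaf 0x2e0) (.leaf 0)))))) (.node (.node (.node (.node (.node (.leaf 0x4) (.leaf 0x33e)) (.node (.leaf 0x10b) (.leaf 0))) (.node (.node (.leaf 0x68) (.leaf 0)) (.node (.leaf 0x207) (.leaf 0)))) (.node (.node (.node (.leaf 0x24) (.leaf 0x42a)) (.node (.leaf 0x157) (.leaf 0))) (.node (.node (.leaf 0xa1) (.leaf 0)) (.node (.leaf 0x29e) (.leaf 0))))) (.node (.node (.node (.node (.leaf 0x15) (.leaf 0x3b6)) (.node (.leaf 0x118) (.leaf 0))) (.node (.node (.leaf 0x7f) (.leaf 0)) (.node (.leaf 0x24e) (.leaf 0)))) (.node (.node (.node (.leaf 0x3d) (.leaf 0)) (.node (.leaf 0x1be) (.leaf 0))) (.node (.node (.leaf 0xe3) (.leaf 0)) (.node (.leaf 0x309) (.leaf 0))))))))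

/-- part of the cover -/
def covB54 : Trie :=
  (.node (.node (.node (.node (.node (.node (.node (.leaf 0x1) (.leaf 0x315)) (.node (.leaf 0xfd) (.leaf 0))) (.node (.node (.leaf 0x4c) (.leaf 0)) (.node (.leaf 0x1f1) (.leaf 0)))) (.node (.node (.node (.leaf 0x1c) (.leaf 0x3dc)) (.node (.leaf 0x137) (.leaf 0))) (.node (.node (.leaf 0x87) (.leaf 0)) (.node (.leaf 0x27a) (.leaf 0))))) (.node (.node (.node (.node (.leaf 0x9) (.leaf 0x354)) (.node (.leaf 0x112) (.leaf 0))) (.node (.node (.leaf 0x72) (.leaf 0)) (.node (.leaf 0x22c) (.leaf 0)))) (.node (.node (.node (.leaf 0x2e) (.leaf 0x459)) (.node (.leaf 0x174) (.leaf 0))) (.node (.node (.leaf 0xb0) (.leaf 0)) (.node (.leaf 0x2d0) (.leaf 0)))))) (.node (.node (.node (.node (.node (.leaf 0x3) (.leaf 0x330)) (.node (.leaf 0x109) (.leaf 0))) (.node (.node (.leaf 0x6a) (.leaf 0)) (.node (.leaf 0x208) (.leaf 0)))) (.node (.node (.node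 (.leaf 0x22) (.leaf 0x414)) (.node (.leaf 0x14c) (.leaf 0))) (.node (.node (.leaf 0x9e) (.leaf 0)) (.node (.leaf 0x291) (.leaf 0))))) (.node (.node (.node (.node (.leaf 0xf) (.leaf 0x398)) (.node (.leaf 0x116) (.leaf 0))) (.node (.node (.leaf 0x7e) (.leaf 0)) (.node (.leaf 0x251) (.leaf 0)))) (.node (.node (.node (.leaf 0x3c) (.leaf 0x465)) (.node (.leaf 0x1af) (.leaf 0))) (.node (.node (.leaf 0xda) (.leaf 0)) (.node (.leaf 0x301) (.leaf 0))))))) (.node (.node (.node (.node (.node (.node (.leaf 0x2) (.leaf 0x32c)) (.node (.leaf 0x103) (.leaf 0))) (.node (.node (.leaf 0x54) (.leaf 0)) (.node (.leaf 0x1fb) (.leaf 0)))) (.node (.node (.node (.leaf 0x1e) (.leaf 0x3fb)) (.node (.leaf 0x13f) (.leaf 0))) (.node (.node (.leaf 0x92) (.leaf 0)) (.node (.leaf 0x286) (.leaf 0))))) (.node (.node (.node (.node (.leaf 0xc) (.leaf 0x37d)) (.node (.leaf 0x113) (.leaf 0))) (.node (.node (.leaf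 0x76) (.leaf 0)) (.node (.leaf 0x238) (.leaf 0)))) (.node (.node (.node (.leaf 0x33) (.leaf 0x460)) (.node (.leaf 0x18e) (.leaf 0))) (.node (.node (.leaf 0xcf) (.leaf 0)) (.node (.leaf 0x2ee) (.leaf 0)))))) (.node (.node (.node (.node (.node (.leaf 0x4) (.leaf 0x33a)) (.node (.leaf 0x10e) (.leaf 0))) (.node (.node (.leaf 0x70) (.leaf 0)) (.node (.leaf 0x21c) (.leaf 0)))) (.node (.node (.node (.leaf 0x27) (.leaf 0x439)) (.node (.leaf 0x165) (.leaf 0))) (.node (.node (.leaf 0xa7) (.leaf 0)) (.node (.leaf 0x2b0) (.leaf 0))))) (.node (.node (.node (.node (.leaf 0x17) (.leaf 0x3c3)) (.node (.leaf 0x123) (.leaf 0))) (.node (.node (.leaf 0x82) (.leaf 0)) (.node (.leaf 0x25d) (.leaf 0)))) (.node (.node (.node (.leaf 0x46) (.leaf 0)) (.node (.leaf 0x1dd) (.leaf 0))) (.node (.node (.leaf 0xe1) (.leaf 0)) (.node (.leaf 0x309) (.leaf 0))))))))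

/-- part of the cover -/
def covB14 : Trie :=
  (.node (.node (.node (.node (.node (.node (.node (.leaf 0x0) (.leaf 0x312)) (.node (.leaf 0xf2) (.leaf 0))) (.node (.node (.leaf 0x46) (.leaf 0)) (.node (.leaf 0x1ea) (.leaf 0)))) (.node (.node (.node (.leaf 0x17) (.leaf 0x3d5)) (.node (.leaf 0x126) (.leaf 0))) (.node (.node (.leaf 0x86) (.leaf 0)) (.node (.leaf 0x260) (.leaf 0))))) (.node (.node (.node (.node (.leaf 0x7) (.leaf 0x34b)) (.node (.leaf 0x110) (.leaf 0))) (.node (.node (.leaf 0x70) (.leaf 0)) (.node (.leaf 0x216) (.leaf 0)))) (.node (.node (.node (.leaf 0x27) (.leaf 0x44c)) (.node (.leaf 0x168) (.leaf 0))) (.node (.node (.leaf 0xb3) (.leaf 0)) (.node (.leaf 0x2c2) (.leaf 0)))))) (.node (.node (.node (.node (.node (.leaf 0x2) (.leaf 0x32b)) (.node (.leaf 0x103) (.leaf 0))) (.node (.node (.leaf 0x60) (.leaf 0)) (.node (.leaf 0x202) (.leaf 0)))) (.node (.node (.node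 (.leaf 0x22) (.leaf 0x403)) (.node (.leaf 0x149) (.leaf 0))) (.node (.node (.leaf 0x94) (.leaf 0)) (.node (.leaf 0x288) (.leaf 0))))) (.node (.node (.node (.node (.leaf 0xd) (.leaf 0x37a)) (.node (.leaf 0x113) (.leaf 0))) (.node (.node (.leaf 0x7a) (.leaf 0)) (.node (.leaf 0x246) (.leaf 0)))) (.node (.node (.node (.leaf 0x38) (.leaf 0x465)) (.node (.leaf 0x19c) (.leaf 0))) (.node (.node (.leaf 0xd1) (.leaf 0)) (.node (.leaf 0x2f5) (.leaf 0))))))) (.node (.node (.node (.node (.node (.node (.leaf 0x1) (.leaf 0x320)) (.node (.leaf 0xfd) (.leaf 0))) (.node (.node (.leaf 0x51) (.leaf 0)) (.node (.leaf 0x1f6) (.leaf 0)))) (.node (.node (.node (.leaf 0x1b) (.leaf 0x3ed)) (.node (.leaf 0x137) (.leaf 0))) (.node (.node (.leaf 0x8c) (.leaf 0)) (.node (.leaf 0x280) (.leaf 0))))) (.node (.node (.node (.node (.leaf 0x9) (.leaf 0x361)) (.node (.leaf 0x112) (.leaf 0))) (.node (.node (.leaf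 0x75) (.leaf 0)) (.node (.leaf 0x238) (.leaf 0)))) (.node (.node (.node (.leaf 0x2c) (.leaf 0x454)) (.node (.leaf 0x174) (.leaf 0))) (.node (.node (.leaf 0xbd) (.leaf 0)) (.node (.leaf 0x2e1) (.leaf 0)))))) (.node (.node (.node (.node (.node (.leaf 0x4) (.leaf 0x338)) (.node (.leaf 0x10c) (.leaf 0))) (.node (.node (.leaf 0x68) (.leaf 0)) (.node (.leaf 0x208) (.leaf 0)))) (.node (.node (.node (.leaf 0x24) (.leaf 0x419)) (.node (.leaf 0x159) (.leaf 0))) (.node (.node (.leaf 0x98) (.leaf 0)) (.node (.leaf 0x299) (.leaf 0))))) (.node (.node (.node (.node (.leaf 0x12) (.leaf 0x3ab)) (.node (.leaf 0x11a) (.leaf 0))) (.node (.node (.leaf 0x7e) (.leaf 0)) (.node (.leaf 0x24b) (.leaf 0)))) (.node (.node (.node (.leaf 0x3d) (.leaf 0)) (.node (.leaf 0x1bf) (.leaf 0))) (.node (.node (.leaf 0xdf) (.leaf 0)) (.node (.leaf 0x302) (.leaf 0))))))))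

/-- part of the cover -/
def covB46 : Trie :=
  (.node (.node (.node (.node (.node (.node (.node (.leaf 0x0) (.leaf 0x312)) (.node (.leaf 0xed) (.leaf 0))) (.node (.node (.leaf 0x4c) (.leaf 0)) (.node (.leaf 0x1f2) (.leaf 0)))) (.node (.node (.node (.leaf 0x1b) (.leaf 0x3df)) (.node (.leaf 0x135) (.leaf 0))) (.node (.node (.leaf 0x87) (.leaf 0)) (.node (.leaf 0x279) (.leaf 0))))) (.node (.node (.node (.node (.leaf 0x9) (.leaf 0x34c)) (.node (.leaf 0x111) (.leaf 0))) (.node (.node (.leaf 0x72) (.leaf 0)) (.node (.leaf 0x22c) (.leaf 0)))) (.node (.node (.node (.leaf 0x2c) (.leaf 0x458)) (.node (.leaf 0x16e) (.leaf 0))) (.node (.node (.leaf 0xb2) (.leaf 0)) (.node (.leaf 0x2d8) (.leaf 0)))))) (.node (.node (.node (.node (.node (.leaf 0x3) (.leaf 0x330)) (.node (.leaf 0x106) (.leaf 0))) (.node (.node (.leaf 0x61) (.leaf 0)) (.node (.leaf 0x200) (.leaf 0)))) (.node (.node (.node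 (.leaf 0x21) (.leaf 0x40d)) (.node (.leaf 0x149) (.leaf 0))) (.node (.node (.leaf 0x98) (.leaf 0)) (.node (.leaf 0x294) (.leaf 0))))) (.node (.node (.node (.node (.leaf 0xf) (.leaf 0x391)) (.node (.leaf 0x116) (.leaf 0))) (.node (.node (.leaf 0x7f) (.leaf 0)) (.node (.leaf 0x24b) (.leaf 0)))) (.node (.node (.node (.leaf 0x3a) (.leaf 0x466)) (.node (.leaf 0x1b0) (.leaf 0))) (.node (.node (.leaf 0xda) (.leaf 0)) (.node (.leaf 0x303) (.leaf 0))))))) (.node (.node (.node (.node (.node (.node (.leaf 0x2) (.leaf 0x32b)) (.node (.leaf 0x102) (.leaf 0))) (.node (.node (.leaf 0x51) (.leaf 0)) (.node (.leaf 0x1fb) (.leaf 0)))) (.node (.node (.node (.leaf 0x1e) (.leaf 0x3fa)) (.node (.leaf 0x13f) (.leaf 0))) (.node (.node (.leaf 0x8e) (.leaf 0)) (.node (.leaf 0x283) (.leaf 0))))) (.node (.node (.node (.node (.leaf 0xc) (.leaf 0x377)) (.node (.leaf 0x114) (.leaf 0))) (.node (.node (.leaf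 0x75) (.leaf 0)) (.node (.leaf 0x238) (.leaf 0)))) (.node (.node (.node (.leaf 0x34) (.leaf 0x460)) (.node (.leaf 0x18c) (.leaf 0))) (.node (.node (.leaf 0xc7) (.leaf 0)) (.node (.leaf 0x2e8) (.leaf 0)))))) (.node (.node (.node (.node (.node (.leaf 0x4) (.leaf 0x33b)) (.node (.leaf 0x10d) (.leaf 0))) (.node (.node (.leaf 0x6d) (.leaf 0)) (.node (.leaf 0x215) (.leaf 0)))) (.node (.node (.node (.leaf 0x26) (.leaf 0x433)) (.node (.leaf 0x15e) (.leaf 0))) (.node (.node (.leaf 0xa4) (.leaf 0)) (.node (.leaf 0x2b3) (.leaf 0))))) (.node (.node (.node (.node (.leaf 0x15) (.leaf 0x3bc)) (.node (.leaf 0x11c) (.leaf 0))) (.node (.node (.leaf 0x82) (.leaf 0)) (.node (.leaf 0x25d) (.leaf 0)))) (.node (.node (.node (.leaf 0x46) (.leaf 0)) (.node (.leaf 0x1d5) (.leaf 0))) (.node (.node (.leaf 0xe5) (.leaf 0)) (.node (.leaf 0x309) (.leaf 0))))))))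

/-- part of the cover -/
def covB30 : Trie :=
  (.node (.node (.node (.node (.node (.node (.node (.leaf 0x0) (.leaf 0x312)) (.node (.leaf 0xf8) (.leaf 0))) (.node (.node (.leaf 0x4c) (.leaf 0)) (.node (.leaf 0x1f1) (.leaf 0)))) (.node (.node (.node (.leaf 0x16) (.leaf 0x3d8)) (.node (.leaf 0x125) (.leaf 0))) (.node (.node (.leaf 0x87) (.leaf 0)) (.node (.leaf 0x26f) (.leaf 0))))) (.node (.node (.node (.node (.leaf 0x6) (.leaf 0x34b)) (.node (.leaf 0x10f) (.leaf 0))) (.node (.node (.leaf 0x72) (.leaf 0)) (.node (.leaf 0x22e) (.leaf 0)))) (.node (.node (.node (.leaf 0x28) (.leaf 0x450)) (.node (.leaf 0x167) (.leaf 0))) (.node (.node (.leaf 0xb3) (.leaf 0)) (.node (.leaf 0x2d0) (.leaf 0)))))) (.node (.node (.node (.node (.node (.leaf 0x3) (.leaf 0x330)) (.node (.leaf 0x108) (.leaf 0))) (.node (.node (.leaf 0x5c) (.leaf 0)) (.node (.leaf 0x202) (.leaf 0)))) (.node (.node (.node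 (.leaf 0x22) (.leaf 0x406)) (.node (.leaf 0x148) (.leaf 0))) (.node (.node (.leaf 0x94) (.leaf 0)) (.node (.leaf 0x286) (.leaf 0))))) (.node (.node (.node (.node (.leaf 0xf) (.leaf 0x394)) (.node (.leaf 0x116) (.leaf 0))) (.node (.node (.leaf 0x79) (.leaf 0)) (.node (.leaf 0x242) (.leaf 0)))) (.node (.node (.node (.leaf 0x38) (.leaf 0x465)) (.node (.leaf 0x1a8) (.leaf 0))) (.node (.node (.leaf 0xd9) (.leaf 0)) (.node (.leaf 0x2fa) (.leaf 0))))))) (.node (.node (.node (.node (.node (.node (.leaf 0x1) (.leaf 0x31c)) (.node (.leaf 0xfd) (.leaf 0))) (.node (.node (.leaf 0x50) (.leaf 0)) (.node (.leaf 0x1fb) (.leaf 0)))) (.node (.node (.node (.leaf 0x1e) (.leaf 0x3f1)) (.node (.leaf 0x13f) (.leaf 0))) (.node (.node (.leaf 0x8c) (.leaf 0)) (.node (.leaf 0x281) (.leaf 0))))) (.node (.node (.node (.node (.leaf 0xb) (.leaf 0x36c)) (.node (.leaf 0x112) (.leaf 0))) (.node (.node (.leaf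 0x75) (.leaf 0)) (.node (.leaf 0x238) (.leaf 0)))) (.node (.node (.node (.leaf 0x33) (.leaf 0x462)) (.node (.leaf 0x180) (.leaf 0))) (.node (.node (.leaf 0xbe) (.leaf 0)) (.node (.leaf 0x2de) (.leaf 0)))))) (.node (.node (.node (.node (.node (.leaf 0x4) (.leaf 0x344)) (.node (.leaf 0x10e) (.leaf 0))) (.node (.node (.leaf 0x6a) (.leaf 0)) (.node (.leaf 0x208) (.leaf 0)))) (.node (.node (.node (.leaf 0x24) (.leaf 0x42b)) (.node (.leaf 0x157) (.leaf 0))) (.node (.node (.leaf 0xa8) (.leaf 0)) (.node (.leaf 0x2ad) (.leaf 0))))) (.node (.node (.node (.node (.leaf 0x15) (.leaf 0x3b3)) (.node (.leaf 0x11c) (.leaf 0))) (.node (.node (.leaf 0x82) (.leaf 0)) (.node (.leaf 0x255) (.leaf 0)))) (.node (.node (.node (.leaf 0x3d) (.leaf 0)) (.node (.leaf 0x1cb) (.leaf 0))) (.node (.node (.leaf 0xe1) (.leaf 0)) (.node (.leaf 0x309) (.leaf 0))))))))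

/-- part of the cover -/
def covB62 : Trie :=
  (.node (.node (.node (.node (.node (.node (.node (.leaf 0x1) (.leaf 0x31c)) (.node (.leaf 0xfb) (.leaf 0))) (.node (.node (.leaf 0x4d) (.leaf 0)) (.node (.leaf 0x1f2) (.leaf 0)))) (.node (.node (.node (.leaf 0x1c) (.leaf 0x3e7)) (.node (.leaf 0x137) (.leaf 0))) (.node (.node (.leaf 0x8a) (.leaf 0)) (.node (.leaf 0x27b) (.leaf 0))))) (.node (.node (.node (.node (.leaf 0x9) (.leaf 0x35a)) (.node (.leaf 0x111) (.leaf 0))) (.node (.node (.leaf 0x72) (.leaf 0)) (.node (.leaf 0x230) (.leaf 0)))) (.node (.node (.node (.leaf 0x2c) (.leaf 0x45c)) (.node (.leaf 0x174) (.leaf 0))) (.node (.node (.leaf 0xbd) (.leaf 0)) (.node (.leaf 0x2de) (.leaf 0)))))) (.node (.node (.node (.node (.node (.leaf 0x3) (.leaf 0x32f)) (.node (.leaf 0x106) (.leaf 0))) (.node (.node (.leaf 0x68) (.leaf 0)) (.node (.leaf 0x207) (.leaf 0)))) (.node (.node (.node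 (.leaf 0x24) (.leaf 0x412)) (.node (.leaf 0x153) (.leaf 0))) (.node (.node (.leaf 0x97) (.leaf 0)) (.node (.leaf 0x2a1) (.leaf 0))))) (.node (.node (.node (.node (.leaf 0xf) (.leaf 0x3a3)) (.node (.leaf 0x115) (.leaf 0))) (.node (.node (.leaf 0x7f) (.leaf 0)) (.node (.leaf 0x24a) (.leaf 0)))) (.node (.node (.node (.leaf 0x3d) (.leaf 0)) (.node (.leaf 0x1b9) (.leaf 0))) (.node (.node (.leaf 0xda) (.leaf 0)) (.node (.leaf 0x304) (.leaf 0))))))) (.node (.node (.node (.node (.node (.node (.leaf 0x2) (.leaf 0x32b)) (.node (.leaf 0x100) (.leaf 0))) (.node (.node (.leaf 0x5b) (.leaf 0)) (.node (.leaf 0x1fc) (.leaf 0)))) (.node (.node (.node (.leaf 0x1e) (.leaf 0x3fc)) (.node (.leaf 0x141) (.leaf 0))) (.node (.node (.leaf 0x91) (.leaf 0)) (.node (.leaf 0x288) (.leaf 0))))) (.node (.node (.node (.node (.leaf 0xc) (.leaf 0x383)) (.node (.leaf 0x114) (.leaf 0))) (.node (.node (.leaf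 0x79) (.leaf 0)) (.node (.leaf 0x241) (.leaf 0)))) (.node (.node (.node (.leaf 0x34) (.leaf 0x45f)) (.node (.leaf 0x17d) (.leaf 0))) (.node (.node (.leaf 0xd0) (.leaf 0)) (.node (.leaf 0x2f4) (.leaf 0)))))) (.node (.node (.node (.node (.node (.leaf 0x7) (.leaf 0x34a)) (.node (.leaf 0x110) (.leaf 0))) (.node (.node (.leaf 0x70) (.leaf 0)) (.node (.leaf 0x221) (.leaf 0)))) (.node (.node (.node (.leaf 0x27) (.leaf 0x441)) (.node (.leaf 0x166) (.leaf 0))) (.node (.node (.leaf 0xa7) (.leaf 0)) (.node (.leaf 0x2ab) (.leaf 0))))) (.node (.node (.node (.node (.leaf 0x17) (.leaf 0x3cd)) (.node (.leaf 0x128) (.leaf 0))) (.node (.node (.leaf 0x82) (.leaf 0)) (.node (.leaf 0x25c) (.leaf 0)))) (.node (.node (.node (.leaf 0x46) (.leaf 0)) (.node (.leaf 0x1d5) (.leaf 0))) (.node (.node (.leaf 0xe3) (.leaf 0)) (.node (.leaf 0x30f) (.leaf 0))))))))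

/-- part of the cover -/
def covB1 : Trie :=
  (.node (.node (.node (.node (.node (.node (.node (.leaf 0x0) (.leaf 0x309)) (.node (.leaf 0xe3) (.leaf 0))) (.node (.node (.leaf 0x46) (.leaf 0)) (.node (.leaf 0x1d3) (.leaf 0)))) (.node (.node (.node (.leaf 0x17) (.leaf 0x3cf)) (.node (.leaf 0x12a) (.leaf 0))) (.node (.node (.leaf 0x82) (.leaf 0)) (.node (.leaf 0x25d) (.leaf 0))))) (.node (.node (.node (.node (.leaf 0x6) (.leaf 0x34b)) (.node (.leaf 0x10f) (.leaf 0))) (.node (.node (.leaf 0x6d) (.leaf 0)) (.node (.leaf 0x21f) (.leaf 0)))) (.node (.node (.node (.leaf 0x27) (.leaf 0x43a)) (.node (.leaf 0x166) (.leaf 0))) (.node (.node (.leaf 0xaa) (.leaf 0)) (.node (.leaf 0x2ab) (.leaf 0)))))) (.node (.node (.node (.node (.node (.leaf 0x2) (.leaf 0x32b)) (.node (.leaf 0x103) (.leaf 0))) (.node (.node (.leaf 0x5c) (.leaf 0)) (.node (.leaf 0x1fe) (.leaf 0)))) (.node (.node (.node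 (.leaf 0x1e) (.leaf 0x3f8)) (.node (.leaf 0x141) (.leaf 0))) (.node (.node (.leaf 0x91) (.leaf 0)) (.node (.leaf 0x286) (.leaf 0))))) (.node (.node (.node (.node (.leaf 0xc) (.leaf 0x385)) (.node (.leaf 0x114) (.leaf 0))) (.node (.node (.leaf 0x79) (.leaf 0)) (.node (.leaf 0x243) (.leaf 0)))) (.node (.node (.node (.leaf 0x34) (.leaf 0x45e)) (.node (.leaf 0x189) (.leaf 0))) (.node (.node (.leaf 0xd1) (.leaf 0)) (.node (.leaf 0x2f4) (.leaf 0))))))) (.node (.node (.node (.node (.node (.node (.leaf 0x1) (.leaf 0x31a)) (.node (.leaf 0xfd) (.leaf 0))) (.node (.node (.leaf 0x4d) (.leaf 0)) (.node (.leaf 0x1f1) (.leaf 0)))) (.node (.node (.node (.leaf 0x1b) (.leaf 0x3e3)) (.node (.leaf 0x136) (.leaf 0))) (.node (.node (.leaf 0x8c) (.leaf 0)) (.node (.leaf 0x27e) (.leaf 0))))) (.node (.node (.node (.node (.leaf 0xa) (.leaf 0x35d)) (.node (.leaf 0x112) (.leaf 0))) (.node (.node (.leaf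 0x72) (.leaf 0)) (.node (.leaf 0x230) (.leaf 0)))) (.node (.node (.node (.leaf 0x2c) (.leaf 0x45b)) (.node (.leaf 0x16d) (.leaf 0))) (.node (.node (.leaf 0xbe) (.leaf 0)) (.node (.leaf 0x2e0) (.leaf 0)))))) (.node (.node (.node (.node (.node (.leaf 0x3) (.leaf 0x32f)) (.node (.leaf 0x109) (.leaf 0))) (.node (.node (.leaf 0x68) (.leaf 0)) (.node (.leaf 0x207) (.leaf 0)))) (.node (.node (.node (.leaf 0x24) (.leaf 0x418)) (.node (.leaf 0x155) (.leaf 0))) (.node (.node (.leaf 0x9a) (.leaf 0)) (.node (.leaf 0x296) (.leaf 0))))) (.node (.node (.node (.node (.leaf 0xf) (.leaf 0x3a5)) (.node (.leaf 0x116) (.leaf 0))) (.node (.node (.leaf 0x7d) (.leaf 0)) (.node (.leaf 0x252) (.leaf 0)))) (.node (.node (.node (.leaf 0x3f) (.leaf 0)) (.node (.leaf 0x1b8) (.leaf 0))) (.node (.node (.leaf 0xda) (.leaf 0)) (.node (.leaf 0x304) (.leaf 0))))))))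

/-- part of the cover -/
def covB33 : Trie :=
  (.node (.node (.node (.node (.node (.node (.node (.leaf 0x0) (.leaf 0x312)) (.node (.leaf 0xf1) (.leaf 0))) (.node (.node (.leaf 0x4d) (.leaf 0)) (.node (.leaf 0x1f4) (.leaf 0)))) (.node (.node (.node (.leaf 0x17) (.leaf 0x3cd)) (.node (.leaf 0x12c) (.leaf 0))) (.node (.node (.leaf 0x87) (.leaf 0)) (.node (.leaf 0x271) (.leaf 0))))) (.node (.node (.node (.node (.leaf 0x6) (.leaf 0x34b)) (.node (.leaf 0x10f) (.leaf 0))) (.node (.node (.leaf 0x72) (.leaf 0)) (.node (.leaf 0x22f) (.leaf 0)))) (.node (.node (.node (.leaf 0x2a) (.leaf 0x451)) (.node (.leaf 0x168) (.leaf 0))) (.node (.node (.leaf 0xb2) (.leaf 0)) (.node (.leaf 0x2c8) (.leaf 0)))))) (.node (.node (.node (.node (.node (.leaf 0x3) (.leaf 0x331)) (.node (.leaf 0x106) (.leaf 0))) (.node (.node (.leaf 0x5d) (.leaf 0)) (.node (.leaf 0x202) (.leaf 0)))) (.node (.node (.node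 (.leaf 0x21) (.leaf 0x405)) (.node (.leaf 0x150) (.leaf 0))) (.node (.node (.leaf 0x94) (.leaf 0)) (.node (.leaf 0x286) (.leaf 0))))) (.node (.node (.node (.node (.leaf 0xf) (.leaf 0x38c)) (.node (.leaf 0x115) (.leaf 0))) (.node (.node (.leaf 0x78) (.leaf 0)) (.node (.leaf 0x240) (.leaf 0)))) (.node (.node (.node (.leaf 0x38) (.leaf 0x465)) (.node (.leaf 0x1ab) (.leaf 0))) (.node (.node (.leaf 0xda) (.leaf 0)) (.node (.leaf 0x2fd) (.leaf 0))))))) (.node (.node (.node (.node (.node (.node (.leaf 0x1) (.leaf 0x316)) (.node (.leaf 0xfd) (.leaf 0))) (.node (.node (.leaf 0x58) (.leaf 0)) (.node (.leaf 0x1fb) (.leaf 0)))) (.node (.node (.node (.leaf 0x1e) (.leaf 0x3f4)) (.node (.leaf 0x142) (.leaf 0))) (.node (.node (.leaf 0x8c) (.leaf 0)) (.node (.leaf 0x280) (.leaf 0))))) (.node (.node (.node (.node (.leaf 0xc) (.leaf 0x365)) (.node (.leaf 0x114) (.leaf 0))) (.node (.node (.leaf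 0x75) (.leaf 0)) (.node (.leaf 0x239) (.leaf 0)))) (.node (.node (.node (.leaf 0x33) (.leaf 0x461)) (.node (.leaf 0x183) (.leaf 0))) (.node (.node (.leaf 0xbf) (.leaf 0)) (.node (.leaf 0x2e0) (.leaf 0)))))) (.node (.node (.node (.node (.node (.leaf 0x4) (.leaf 0x346)) (.node (.leaf 0x10b) (.leaf 0))) (.node (.node (.leaf 0x6a) (.leaf 0)) (.node (.leaf 0x208) (.leaf 0)))) (.node (.node (.node (.leaf 0x24) (.leaf 0x418)) (.node (.leaf 0x155) (.leaf 0))) (.node (.node (.leaf 0xa7) (.leaf 0)) (.node (.leaf 0x2b2) (.leaf 0))))) (.node (.node (.node (.node (.leaf 0x12) (.leaf 0x3aa)) (.node (.leaf 0x11c) (.leaf 0))) (.node (.node (.leaf 0x82) (.leaf 0)) (.node (.leaf 0x258) (.leaf 0)))) (.node (.node (.node (.leaf 0x3d) (.leaf 0)) (.node (.leaf 0x1c8) (.leaf 0))) (.node (.node (.leaf 0xe1) (.leaf 0)) (.node (.leaf 0x30b) (.leaf 0))))))))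

/-- part of the cover -/
def covB17 : Trie :=
  (.node (.node (.node (.node (.node (.node (.node (.leaf 0x0) (.leaf 0x312)) (.node (.leaf 0xf4) (.leaf 0))) (.node (.node (.leaf 0x42) (.leaf 0)) (.node (.leaf 0x1dd) (.leaf 0)))) (.node (.node (.node (.leaf 0x1a) (.leaf 0x3c7)) (.node (.leaf 0x12a) (.leaf 0))) (.node (.node (.leaf 0x87) (.leaf 0)) (.node (.leaf 0x262) (.leaf 0))))) (.node (.node (.node (.node (.leaf 0x6) (.leaf 0x34c)) (.node (.leaf 0x110) (.leaf 0))) (.node (.node (.leaf 0x70) (.leaf 0)) (.node (.leaf 0x213) (.leaf 0)))) (.node (.node (.node (.leaf 0x27) (.leaf 0x44d)) (.node (.leaf 0x165) (.leaf 0))) (.node (.node (.leaf 0xb5) (.leaf 0)) (.node (.leaf 0x2c5) (.leaf 0)))))) (.node (.node (.node (.node (.node (.leaf 0x2) (.leaf 0x32b)) (.node (.leaf 0x103) (.leaf 0))) (.node (.node (.leaf 0x5f) (.leaf 0)) (.node (.leaf 0x202) (.leaf 0)))) (.node (.node (.node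 (.leaf 0x21) (.leaf 0x406)) (.node (.leaf 0x14b) (.leaf 0))) (.node (.node (.leaf 0x91) (.leaf 0)) (.node (.leaf 0x287) (.leaf 0))))) (.node (.node (.node (.node (.leaf 0xf) (.leaf 0x374)) (.node (.leaf 0x113) (.leaf 0))) (.node (.node (.leaf 0x79) (.leaf 0)) (.node (.leaf 0x23e) (.leaf 0)))) (.node (.node (.node (.leaf 0x38) (.leaf 0x465)) (.node (.leaf 0x19e) (.leaf 0))) (.node (.node (.leaf 0xc8) (.leaf 0)) (.node (.leaf 0x2ee) (.leaf 0))))))) (.node (.node (.node (.node (.node (.node (.leaf 0x1) (.leaf 0x31b)) (.node (.leaf 0xfd) (.leaf 0))) (.node (.node (.leaf 0x53) (.leaf 0)) (.node (.leaf 0x1f9) (.leaf 0)))) (.node (.node (.node (.leaf 0x1b) (.leaf 0x3ec)) (.node (.leaf 0x137) (.leaf 0))) (.node (.node (.leaf 0x8c) (.leaf 0)) (.node (.leaf 0x280) (.leaf 0))))) (.node (.node (.node (.node (.leaf 0x9) (.leaf 0x368)) (.node (.leaf 0x112) (.leaf 0))) (.node (.node (.leaf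 0x75) (.leaf 0)) (.node (.leaf 0x235) (.leaf 0)))) (.node (.node (.node (.leaf 0x2e) (.leaf 0x458)) (.node (.leaf 0x176) (.leaf 0))) (.node (.node (.leaf 0xba) (.leaf 0)) (.node (.leaf 0x2e1) (.leaf 0)))))) (.node (.node (.node (.node (.node (.leaf 0x4) (.leaf 0x338)) (.node (.leaf 0x10b) (.leaf 0))) (.node (.node (.leaf 0x68) (.leaf 0)) (.node (.leaf 0x207) (.leaf 0)))) (.node (.node (.node (.leaf 0x25) (.leaf 0x426)) (.node (.leaf 0x157) (.leaf 0))) (.node (.node (.leaf 0x9a) (.leaf 0)) (.node (.leaf 0x28d) (.leaf 0))))) (.node (.node (.node (.node (.leaf 0x12) (.leaf 0x3b3)) (.node (.leaf 0x11a) (.leaf 0))) (.node (.node (.leaf 0x7e) (.leaf 0)) (.node (.leaf 0x24d) (.leaf 0)))) (.node (.node (.node (.leaf 0x3d) (.leaf 0)) (.node (.leaf 0x1c5) (.leaf 0))) (.node (.node (.leaf 0xe1) (.leaf 0)) (.node (.leaf 0x307) (.leaf 0))))))))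

/-- part of the cover -/
def covB49 : Trie :=
  (.node (.node (.node (.node (.node (.node (.node (.leaf 0x0) (.leaf 0x312)) (.node (.leaf 0xe9) (.leaf 0))) (.node (.node (.leaf 0x49) (.leaf 0)) (.node (.leaf 0x1f3) (.leaf 0)))) (.node (.node (.node (.leaf 0x1c) (.leaf 0x3e2)) (.node (.leaf 0x136) (.leaf 0))) (.node (.node (.leaf 0x87) (.leaf 0)) (.node (.leaf 0x27a) (.leaf 0))))) (.node (.node (.node (.node (.leaf 0x9) (.leaf 0x350)) (.node (.leaf 0x111) (.leaf 0))) (.node (.node (.leaf 0x72) (.leaf 0)) (.node (.leaf 0x231) (.leaf 0)))) (.node (.node (.node (.leaf 0x2c) (.leaf 0x459)) (.node (.leaf 0x16e) (.leaf 0))) (.node (.node (.leaf 0xae) (.leaf 0)) (.node (.leaf 0x2ca) (.leaf 0)))))) (.node (.node (.node (.node (.node (.leaf 0x3) (.leaf 0x331)) (.node (.leaf 0x106) (.leaf 0))) (.node (.node (.leaf 0x68) (.leaf 0)) (.node (.leaf 0x202) (.leaf 0)))) (.node (.node (.node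 (.leaf 0x21) (.leaf 0x411)) (.node (.leaf 0x14b) (.leaf 0))) (.node (.node (.leaf 0x9b) (.leaf 0)) (.node (.leaf 0x297) (.leaf 0))))) (.node (.node (.node (.node (.leaf 0xf) (.leaf 0x39b)) (.node (.leaf 0x116) (.leaf 0))) (.node (.node (.leaf 0x7e) (.leaf 0)) (.node (.leaf 0x24d) (.leaf 0)))) (.node (.node (.node (.leaf 0x38) (.leaf 0x465)) (.node (.leaf 0x1b0) (.leaf 0))) (.node (.node (.leaf 0xda) (.leaf 0)) (.node (.leaf 0x2ff) (.leaf 0))))))) (.node (.node (.node (.node (.node (.node (.leaf 0x2) (.leaf 0x32c)) (.node (.leaf 0x103) (.leaf 0))) (.node (.node (.leaf 0x53) (.leaf 0)) (.node (.leaf 0x1fb) (.leaf 0)))) (.node (.node (.node (.leaf 0x1e) (.leaf 0x3fb)) (.node (.leaf 0x13d) (.leaf 0))) (.node (.node (.leaf 0x8e) (.leaf 0)) (.node (.leaf 0x281) (.leaf 0))))) (.node (.node (.node (.node (.leaf 0xc) (.leaf 0x379)) (.node (.leaf 0x114) (.leaf 0))) (.node (.node (.leaf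 0x75) (.leaf 0)) (.node (.leaf 0x238) (.leaf 0)))) (.node (.node (.node (.leaf 0x33) (.leaf 0x461)) (.node (.leaf 0x18d) (.leaf 0))) (.node (.node (.leaf 0xca) (.leaf 0)) (.node (.leaf 0x2e9) (.leaf 0)))))) (.node (.node (.node (.node (.node (.leaf 0x4) (.leaf 0x33f)) (.node (.leaf 0x10e) (.leaf 0))) (.node (.node (.leaf 0x6d) (.leaf 0)) (.node (.leaf 0x218) (.leaf 0)))) (.node (.node (.node (.leaf 0x27) (.leaf 0x41d)) (.node (.leaf 0x160) (.leaf 0))) (.node (.node (.leaf 0xa7) (.leaf 0)) (.node (.leaf 0x2b5) (.leaf 0))))) (.node (.node (.node (.node (.leaf 0x15) (.leaf 0x3c6)) (.node (.leaf 0x120) (.leaf 0))) (.node (.node (.leaf 0x85) (.leaf 0)) (.node (.leaf 0x25d) (.leaf 0)))) (.node (.node (.node (.leaf 0x44) (.leaf 0)) (.node (.leaf 0x1d8) (.leaf 0))) (.node (.node (.leaf 0xe1) (.leaf 0)) (.node (.leaf 0x30c) (.leaf 0))))))))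

/-- part of the cover -/
def covB9 : Trie :=
  (.node (.node (.node (.node (.node (.node (.node (.leaf 0x0) (.leaf 0x312)) (.node (.leaf 0xed) (.leaf 0))) (.node (.node (.leaf 0x46) (.leaf 0)) (.node (.leaf 0x1e7) (.leaf 0)))) (.node (.node (.node (.leaf 0x17) (.leaf 0x3d0)) (.node (.leaf 0x125) (.leaf 0))) (.node (.node (.leaf 0x82) (.leaf 0)) (.node (.leaf 0x258) (.leaf 0))))) (.node (.node (.node (.node (.leaf 0x6) (.leaf 0x34b)) (.node (.leaf 0x10f) (.leaf 0))) (.node (.node (.leaf 0x6d) (.leaf 0)) (.node (.leaf 0x220) (.leaf 0)))) (.node (.node (.node (.leaf 0x27) (.leaf 0x43d)) (.node (.leaf 0x165) (.leaf 0))) (.node (.node (.leaf 0xae) (.leaf 0)) (.node (.leaf 0x2b4) (.leaf 0)))))) (.node (.node (.node (.node (.node (.leaf 0x2) (.leaf 0x32c)) (.node (.leaf 0x103) (.leaf 0))) (.node (.node (.leaf 0x62) (.leaf 0)) (.node (.leaf 0x200) (.leaf 0)))) (.node (.node (.node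 (.leaf 0x1e) (.leaf 0x3f6)) (.node (.leaf 0x145) (.leaf 0))) (.node (.node (.leaf 0x91) (.leaf 0)) (.node (.leaf 0x285) (.leaf 0))))) (.node (.node (.node (.node (.leaf 0xc) (.leaf 0x389)) (.node (.leaf 0x113) (.leaf 0))) (.node (.node (.leaf 0x79) (.leaf 0)) (.node (.leaf 0x240) (.leaf 0)))) (.node (.node (.node (.leaf 0x38) (.leaf 0x465)) (.node (.leaf 0x198) (.leaf 0))) (.node (.node (.leaf 0xd4) (.leaf 0)) (.node (.leaf 0x2ed) (.leaf 0))))))) (.node (.node (.node (.node (.node (.node (.leaf 0x1) (.leaf 0x321)) (.node (.leaf 0xfd) (.leaf 0))) (.node (.node (.leaf 0x4c) (.leaf 0)) (.node (.leaf 0x1f4) (.leaf 0)))) (.node (.node (.node (.leaf 0x1c) (.leaf 0x3e1)) (.node (.leaf 0x137) (.leaf 0))) (.node (.node (.leaf 0x8c) (.leaf 0)) (.node (.leaf 0x280) (.leaf 0))))) (.node (.node (.node (.node (.leaf 0x9) (.leaf 0x363)) (.node (.leaf 0x111) (.leaf 0))) (.node (.node (.leaf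 0x75) (.leaf 0)) (.node (.leaf 0x236) (.leaf 0)))) (.node (.node (.node (.leaf 0x2b) (.leaf 0x45c)) (.node (.leaf 0x172) (.leaf 0))) (.node (.node (.leaf 0xbf) (.leaf 0)) (.node (.leaf 0x2e4) (.leaf 0)))))) (.node (.node (.node (.node (.node (.leaf 0x4) (.leaf 0x330)) (.node (.leaf 0x108) (.leaf 0))) (.node (.node (.leaf 0x68) (.leaf 0)) (.node (.leaf 0x206) (.leaf 0)))) (.node (.node (.node (.leaf 0x24) (.leaf 0x420)) (.node (.leaf 0x15a) (.leaf 0))) (.node (.node (.leaf 0x97) (.leaf 0)) (.node (.leaf 0x2a3) (.leaf 0))))) (.node (.node (.node (.node (.leaf 0x12) (.leaf 0x3ac)) (.node (.leaf 0x11a) (.leaf 0))) (.node (.node (.leaf 0x7e) (.leaf 0)) (.node (.leaf 0x24b) (.leaf 0)))) (.node (.node (.node (.leaf 0x3d) (.leaf 0)) (.node (.leaf 0x1b6) (.leaf 0))) (.node (.node (.leaf 0xde) (.leaf 0)) (.node (.leaf 0x2fe) (.leaf 0))))))))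

/-- part of the cover -/
def covB41 : Trie :=
  (.node (.node (.node (.node (.node (.node (.node (.leaf 0x0) (.leaf 0x312)) (.node (.leaf 0xf6) (.leaf 0))) (.node (.node (.leaf 0x4d) (.leaf 0)) (.node (.leaf 0x1f2) (.leaf 0)))) (.node (.node (.node (.leaf 0x1b) (.leaf 0x3cd)) (.node (.leaf 0x130) (.leaf 0))) (.node (.node (.leaf 0x87) (.leaf 0)) (.node (.leaf 0x272) (.leaf 0))))) (.node (.node (.node (.node (.leaf 0x7) (.leaf 0x34b)) (.node (.leaf 0x110) (.leaf 0))) (.node (.node (.leaf 0x73) (.leaf 0)) (.node (.leaf 0x230) (.leaf 0)))) (.node (.node (.node (.leaf 0x2c) (.leaf 0x454)) (.node (.leaf 0x16c) (.leaf 0))) (.node (.node (.leaf 0xb4) (.leaf 0)) (.node (.leaf 0x2c7) (.leaf 0)))))) (.node (.node (.node (.node (.node (.leaf 0x3) (.leaf 0x331)) (.node (.leaf 0x106) (.leaf 0))) (.node (.node (.leaf 0x64) (.leaf 0)) (.node (.leaf 0x1fe) (.leaf 0)))) (.node (.node (.node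 (.leaf 0x21) (.leaf 0x413)) (.node (.leaf 0x149) (.leaf 0))) (.node (.node (.leaf 0x9a) (.leaf 0)) (.node (.leaf 0x28f) (.leaf 0))))) (.node (.node (.node (.node (.leaf 0xf) (.leaf 0x393)) (.node (.leaf 0x115) (.leaf 0))) (.node (.node (.leaf 0x7a) (.leaf 0)) (.node (.leaf 0x246) (.leaf 0)))) (.node (.node (.node (.leaf 0x38) (.leaf 0x466)) (.node (.leaf 0x1ae) (.leaf 0))) (.node (.node (.leaf 0xdd) (.leaf 0)) (.node (.leaf 0x303) (.leaf 0))))))) (.node (.node (.node (.node (.node (.node (.leaf 0x2) (.leaf 0x32a)) (.node (.leaf 0x100) (.leaf 0))) (.node (.node (.leaf 0x51) (.leaf 0)) (.node (.leaf 0x1f9) (.leaf 0)))) (.node (.node (.node (.leaf 0x1e) (.leaf 0x3f4)) (.node (.leaf 0x13e) (.leaf 0))) (.node (.node (.leaf 0x8c) (.leaf 0)) (.node (.leaf 0x280) (.leaf 0))))) (.node (.node (.node (.node (.leaf 0xc) (.leaf 0x373)) (.node (.leaf 0x113) (.leaf 0))) (.node (.node (.leaf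 0x75) (.leaf 0)) (.node (.leaf 0x23b) (.leaf 0)))) (.node (.node (.node (.leaf 0x32) (.leaf 0x45f)) (.node (.leaf 0x188) (.leaf 0))) (.node (.node (.leaf 0xbd) (.leaf 0)) (.node (.leaf 0x2de) (.leaf 0)))))) (.node (.node (.node (.node (.node (.leaf 0x4) (.leaf 0x33e)) (.node (.leaf 0x10b) (.leaf 0))) (.node (.node (.leaf 0x6d) (.leaf 0)) (.node (.leaf 0x210) (.leaf 0)))) (.node (.node (.node (.leaf 0x24) (.leaf 0x41f)) (.node (.leaf 0x157) (.leaf 0))) (.node (.node (.leaf 0xa4) (.leaf 0)) (.node (.leaf 0x2b5) (.leaf 0))))) (.node (.node (.node (.node (.leaf 0x12) (.leaf 0x3c2)) (.node (.leaf 0x11c) (.leaf 0))) (.node (.node (.leaf 0x82) (.leaf 0)) (.node (.leaf 0x25b) (.leaf 0)))) (.node (.node (.node (.leaf 0x42) (.leaf 0)) (.node (.leaf 0x1d0) (.leaf 0))) (.node (.node (.leaf 0xe1) (.leaf 0)) (.node (.leaf 0x30b) (.leaf 0))))))))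

/-- part of the cover -/
def covB25 : Trie :=
  (.node (.node (.node (.node (.node (.node (.node (.leaf 0x0) (.leaf 0x311)) (.node (.leaf 0xe7) (.leaf 0))) (.node (.node (.leaf 0x46) (.leaf 0)) (.node (.leaf 0x1e2) (.leaf 0)))) (.node (.node (.node (.leaf 0x17) (.leaf 0x3c8)) (.node (.leaf 0x12c) (.leaf 0))) (.node (.node (.leaf 0x89) (.leaf 0)) (.node (.leaf 0x26a) (.leaf 0))))) (.node (.node (.node (.node (.leaf 0x6) (.leaf 0x34b)) (.node (.leaf 0x10f) (.leaf 0))) (.node (.node (.leaf 0x72) (.leaf 0)) (.node (.leaf 0x22c) (.leaf 0)))) (.node (.node (.node (.leaf 0x27) (.leaf 0x44e)) (.node (.leaf 0x160) (.leaf 0))) (.node (.node (.leaf 0xb4) (.leaf 0)) (.node (.leaf 0x2cc) (.leaf 0)))))) (.node (.node (.node (.node (.node (.leaf 0x3) (.leaf 0x32b)) (.node (.leaf 0x106) (.leaf 0))) (.node (.node (.leaf 0x5d) (.leaf 0)) (.node (.leaf 0x202) (.leaf 0)))) (.node (.node (.node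 (.leaf 0x21) (.leaf 0x40d)) (.node (.leaf 0x14b) (.leaf 0))) (.node (.node (.leaf 0x91) (.leaf 0)) (.node (.leaf 0x288) (.leaf 0))))) (.node (.node (.node (.node (.leaf 0xf) (.leaf 0x390)) (.node (.leaf 0x116) (.leaf 0))) (.node (.node (.leaf 0x79) (.leaf 0)) (.node (.leaf 0x240) (.leaf 0)))) (.node (.node (.node (.leaf 0x3b) (.leaf 0x465)) (.node (.leaf 0x1a6) (.leaf 0))) (.node (.node (.leaf 0xd4) (.leaf 0)) (.node (.leaf 0x2ef) (.leaf 0))))))) (.node (.node (.node (.node (.node (.node (.leaf 0x1) (.leaf 0x317)) (.node (.leaf 0xfd) (.leaf 0))) (.node (.node (.leaf 0x53) (.leaf 0)) (.node (.leaf 0x1fb) (.leaf 0)))) (.node (.node (.node (.leaf 0x1e) (.leaf 0x3ee)) (.node (.leaf 0x13a) (.leaf 0))) (.node (.node (.leaf 0x8c) (.leaf 0)) (.node (.leaf 0x280) (.leaf 0))))) (.node (.node (.node (.node (.leaf 0x9) (.leaf 0x35f)) (.node (.leaf 0x112) (.leaf 0))) (.node (.node (.leaf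 0x75) (.leaf 0)) (.node (.leaf 0x23b) (.leaf 0)))) (.node (.node (.node (.leaf 0x33) (.leaf 0x460)) (.node (.leaf 0x17c) (.leaf 0))) (.node (.node (.leaf 0xbf) (.leaf 0)) (.node (.leaf 0x2e5) (.leaf 0)))))) (.node (.node (.node (.node (.node (.leaf 0x4) (.leaf 0x340)) (.node (.leaf 0x10b) (.leaf 0))) (.node (.node (.leaf 0x68) (.leaf 0)) (.node (.leaf 0x207) (.leaf 0)))) (.node (.node (.node (.leaf 0x24) (.leaf 0x42d)) (.node (.leaf 0x158) (.leaf 0))) (.node (.node (.leaf 0xa4) (.leaf 0)) (.node (.leaf 0x2ab) (.leaf 0))))) (.node (.node (.node (.node (.leaf 0x12) (.leaf 0x3b8)) (.node (.leaf 0x11b) (.leaf 0))) (.node (.node (.leaf 0x7f) (.leaf 0)) (.node (.leaf 0x24b) (.leaf 0)))) (.node (.node (.node (.leaf 0x3d) (.leaf 0)) (.node (.leaf 0x1c0) (.leaf 0))) (.node (.node (.leaf 0xe1) (.leaf 0)) (.node (.leaf 0x30b) (.leaf 0))))))))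

/-- part of the cover -/
def covB57 : Trie :=
  (.node (.node (.node (.node (.node (.node (.node (.leaf 0x1) (.leaf 0x318)) (.node (.leaf 0xfd) (.leaf 0))) (.node (.node (.leaf 0x4d) (.leaf 0)) (.node (.leaf 0x1f4) (.leaf 0)))) (.node (.node (.node (.leaf 0x1b) (.leaf 0x3e0)) (.node (.leaf 0x130) (.leaf 0))) (.node (.node (.leaf 0x87) (.leaf 0)) (.node (.leaf 0x277) (.leaf 0))))) (.node (.node (.node (.node (.leaf 0x9) (.leaf 0x356)) (.node (.leaf 0x111) (.leaf 0))) (.node (.node (.leaf 0x72) (.leaf 0)) (.node (.leaf 0x231) (.leaf 0)))) (.node (.node (.node (.leaf 0x2c) (.leaf 0x45b)) (.node (.leaf 0x173) (.leaf 0))) (.node (.node (.leaf 0xb2) (.leaf 0)) (.node (.leaf 0x2db) (.leaf 0)))))) (.node (.node (.node (.node (.node (.leaf 0x3) (.leaf 0x332)) (.node (.leaf 0x106) (.leaf 0))) (.node (.node (.leaf 0x68) (.leaf 0)) (.node (.leaf 0x207) (.leaf 0)))) (.node (.node (.node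 (.leaf 0x22) (.leaf 0x40c)) (.node (.leaf 0x149) (.leaf 0))) (.node (.node (.leaf 0x99) (.leaf 0)) (.node (.leaf 0x29d) (.leaf 0))))) (.node (.node (.node (.node (.leaf 0xf) (.leaf 0x397)) (.node (.leaf 0x116) (.leaf 0))) (.node (.node (.leaf 0x7e) (.leaf 0)) (.node (.leaf 0x24d) (.leaf 0)))) (.node (.node (.node (.leaf 0x3d) (.leaf 0x465)) (.node (.leaf 0x1b4) (.leaf 0))) (.node (.node (.leaf 0xda) (.leaf 0)) (.node (.leaf 0x304) (.leaf 0))))))) (.node (.node (.node (.node (.node (.node (.leaf 0x2) (.leaf 0x32c)) (.node (.leaf 0x103) (.leaf 0))) (.node (.node (.leaf 0x51) (.leaf 0)) (.node (.leaf 0x1f9) (.leaf 0)))) (.node (.node (.node (.leaf 0x1e) (.leaf 0x3f5)) (.node (.leaf 0x141) (.leaf 0))) (.node (.node (.leaf 0x91) (.leaf 0)) (.node (.leaf 0x288) (.leaf 0))))) (.node (.node (.node (.node (.leaf 0xc) (.leaf 0x37f)) (.node (.leaf 0x114) (.leaf 0))) (.node (.node (.leaf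 0x77) (.leaf 0)) (.node (.leaf 0x239) (.leaf 0)))) (.node (.node (.node (.leaf 0x33) (.leaf 0x461)) (.node (.leaf 0x18c) (.leaf 0))) (.node (.node (.leaf 0xc7) (.leaf 0)) (.node (.leaf 0x2ec) (.leaf 0)))))) (.node (.node (.node (.node (.node (.leaf 0x4) (.leaf 0x33c)) (.node (.leaf 0x10e) (.leaf 0))) (.node (.node (.leaf 0x6d) (.leaf 0)) (.node (.leaf 0x21e) (.leaf 0)))) (.node (.node (.node (.leaf 0x27) (.leaf 0x43c)) (.node (.leaf 0x167) (.leaf 0))) (.node (.node (.leaf 0xa4) (.leaf 0)) (.node (.leaf 0x2b0) (.leaf 0))))) (.node (.node (.node (.node (.leaf 0x17) (.leaf 0x3c8)) (.node (.leaf 0x126) (.leaf 0))) (.node (.node (.leaf 0x82) (.leaf 0)) (.node (.leaf 0x258) (.leaf 0)))) (.node (.node (.node (.leaf 0x46) (.leaf 0)) (.node (.leaf 0x1de) (.leaf 0))) (.node (.node (.leaf 0xe5) (.leaf 0)) (.node (.leaf 0x309) (.leaf 0))))))))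

/-- part of the cover -/
def covB5 : Trie :=
  (.node (.node (.node (.node (.node (.node (.node (.leaf 0x0) (.leaf 0x311)) (.node (.leaf 0xea) (.leaf 0))) (.node (.node (.leaf 0x46) (.leaf 0)) (.node (.leaf 0x1e0) (.leaf 0)))) (.node (.node (.node (.leaf 0x17) (.leaf 0x3d2)) (.node (.leaf 0x124) (.leaf 0))) (.node (.node (.leaf 0x82) (.leaf 0)) (.node (.leaf 0x25c) (.leaf 0))))) (.node (.node (.node (.node (.leaf 0x6) (.leaf 0x34b)) (.node (.leaf 0x110) (.leaf 0))) (.node (.node (.leaf 0x6d) (.leaf 0)) (.node (.leaf 0x224) (.leaf 0)))) (.node (.node (.node (.leaf 0x27) (.leaf 0x445)) (.node (.leaf 0x163) (.leaf 0))) (.node (.node (.leaf 0xa5) (.leaf 0)) (.node (.leaf 0x2ac) (.leaf 0)))))) (.node (.node (.node (.node (.node (.leaf 0x2) (.leaf 0x32b)) (.node (.leaf 0x103) (.leaf 0))) (.node (.node (.leaf 0x5f) (.leaf 0)) (.node (.leaf 0x202) (.leaf 0)))) (.node (.node (.node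 (.leaf 0x1e) (.leaf 0x3f6)) (.node (.leaf 0x144) (.leaf 0))) (.node (.node (.leaf 0x91) (.leaf 0)) (.node (.leaf 0x28a) (.leaf 0))))) (.node (.node (.node (.node (.leaf 0xc) (.leaf 0x376)) (.node (.leaf 0x113) (.leaf 0))) (.node (.node (.leaf 0x79) (.leaf 0)) (.node (.leaf 0x242) (.leaf 0)))) (.node (.node (.node (.leaf 0x38) (.leaf 0x45f)) (.node (.leaf 0x194) (.leaf 0))) (.node (.node (.leaf 0xcb) (.leaf 0)) (.node (.leaf 0x2f1) (.leaf 0))))))) (.node (.node (.node (.node (.node (.node (.leaf 0x1) (.leaf 0x321)) (.node (.leaf 0xfb) (.leaf 0))) (.node (.node (.leaf 0x4b) (.leaf 0)) (.node (.leaf 0x1f1) (.leaf 0)))) (.node (.node (.node (.leaf 0x1c) (.leaf 0x3ea)) (.node (.leaf 0x137) (.leaf 0))) (.node (.node (.leaf 0x8c) (.leaf 0)) (.node (.leaf 0x280) (.leaf 0))))) (.node (.node (.node (.node (.leaf 0x9) (.leaf 0x360)) (.node (.leaf 0x111) (.leaf 0))) (.node (.node (.leaf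 0x72) (.leaf 0)) (.node (.leaf 0x232) (.leaf 0)))) (.node (.node (.node (.leaf 0x2b) (.leaf 0x45b)) (.node (.leaf 0x173) (.leaf 0))) (.node (.node (.leaf 0xbf) (.leaf 0)) (.node (.leaf 0x2e1) (.leaf 0)))))) (.node (.node (.node (.node (.node (.leaf 0x3) (.leaf 0x32f)) (.node (.leaf 0x106) (.leaf 0))) (.node (.node (.leaf 0x6b) (.leaf 0)) (.node (.leaf 0x207) (.leaf 0)))) (.node (.node (.node (.leaf 0x24) (.leaf 0x41c)) (.node (.leaf 0x158) (.leaf 0))) (.node (.node (.leaf 0x9d) (.leaf 0)) (.node (.leaf 0x2a4) (.leaf 0))))) (.node (.node (.node (.node (.leaf 0x12) (.leaf 0x3a8)) (.node (.leaf 0x118) (.leaf 0))) (.node (.node (.leaf 0x7e) (.leaf 0)) (.node (.leaf 0x24b) (.leaf 0)))) (.node (.node (.node (.leaf 0x3d) (.leaf 0)) (.node (.leaf 0x1b4) (.leaf 0))) (.node (.node (.leaf 0xda) (.leaf 0)) (.node (.leaf 0x2fe) (.leaf 0))))))))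

/-- part of the cover -/
def covB37 : Trie :=
  (.node (.node (.node (.node (.node (.node (.node (.leaf 0x0) (.leaf 0x313)) (.node (.leaf 0xf8) (.leaf 0))) (.node (.node (.leaf 0x4d) (.leaf 0)) (.node (.leaf 0x1f2) (.leaf 0)))) (.node (.node (.node (.leaf 0x16) (.leaf 0x3d6)) (.node (.leaf 0x127) (.leaf 0))) (.node (.node (.leaf 0x87) (.leaf 0)) (.node (.leaf 0x274) (.leaf 0))))) (.node (.node (.node (.node (.leaf 0x6) (.leaf 0x34b)) (.node (.leaf 0x10f) (.leaf 0))) (.node (.node (.leaf 0x72) (.leaf 0)) (.node (.leaf 0x231) (.leaf 0)))) (.node (.node (.node (.leaf 0x2e) (.leaf 0x454)) (.node (.leaf 0x16e) (.leaf 0))) (.node (.node (.leaf 0xb3) (.leaf 0)) (.node (.leaf 0x2d3) (.leaf 0)))))) (.node (.node (.node (.node (.node (.leaf 0x3) (.leaf 0x332)) (.node (.leaf 0x106) (.leaf 0))) (.node (.node (.leaf 0x5f) (.leaf 0)) (.node (.leaf 0x1fe) (.leaf 0)))) (.node (.node (.node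 (.leaf 0x21) (.leaf 0x40f)) (.node (.leaf 0x149) (.leaf 0))) (.node (.node (.leaf 0x96) (.leaf 0)) (.node (.leaf 0x288) (.leaf 0))))) (.node (.node (.node (.node (.leaf 0x10) (.leaf 0x39a)) (.node (.leaf 0x115) (.leaf 0))) (.node (.node (.leaf 0x7a) (.leaf 0)) (.node (.leaf 0x23e) (.leaf 0)))) (.node (.node (.node (.leaf 0x38) (.leaf 0x465)) (.node (.leaf 0x1a9) (.leaf 0))) (.node (.node (.leaf 0xda) (.leaf 0)) (.node (.leaf 0x301) (.leaf 0))))))) (.node (.node (.node (.node (.node (.node (.leaf 0x2) (.leaf 0x319)) (.node (.leaf 0xfd) (.leaf 0))) (.node (.node (.leaf 0x51) (.leaf 0)) (.node (.leaf 0x1f7) (.leaf 0)))) (.node (.node (.node (.leaf 0x1e) (.leaf 0x3f8)) (.node (.leaf 0x144) (.leaf 0))) (.node (.node (.leaf 0x8c) (.leaf 0)) (.node (.leaf 0x280) (.leaf 0))))) (.node (.node (.node (.node (.leaf 0xc) (.leaf 0x370)) (.node (.leaf 0x113) (.leaf 0))) (.node (.node (.leaf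 0x75) (.leaf 0)) (.node (.leaf 0x238) (.leaf 0)))) (.node (.node (.node (.leaf 0x33) (.leaf 0x460)) (.node (.leaf 0x17a) (.leaf 0))) (.node (.node (.leaf 0xbc) (.leaf 0)) (.node (.leaf 0x2e6) (.leaf 0)))))) (.node (.node (.node (.node (.node (.leaf 0x4) (.leaf 0x344)) (.node (.leaf 0x10b) (.leaf 0))) (.node (.node (.leaf 0x6d) (.leaf 0)) (.node (.leaf 0x20c) (.leaf 0)))) (.node (.node (.node (.leaf 0x24) (.leaf 0x426)) (.node (.leaf 0x158) (.leaf 0))) (.node (.node (.leaf 0xa7) (.leaf 0)) (.node (.leaf 0x2b1) (.leaf 0))))) (.node (.node (.node (.node (.leaf 0x12) (.leaf 0x3bf)) (.node (.leaf 0x11e) (.leaf 0))) (.node (.node (.leaf 0x82) (.leaf 0)) (.node (.leaf 0x25c) (.leaf 0)))) (.node (.node (.node (.leaf 0x40) (.leaf 0)) (.node (.leaf 0x1cb) (.leaf 0))) (.node (.node (.leaf 0xe6) (.leaf 0)) (.node (.leaf 0x30a) (.leaf 0))))))))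

/-- part of the cover -/
def covB21 : Trie :=
  (.node (.node (.node (.node (.node (.node (.node (.leaf 0x0) (.leaf 0x313)) (.node (.leaf 0xf6) (.leaf 0))) (.node (.node (.leaf 0x46) (.leaf 0)) (.node (.leaf 0x1ea) (.leaf 0)))) (.node (.node (.node (.leaf 0x17) (.leaf 0x3d7)) (.node (.leaf 0x12c) (.leaf 0))) (.node (.node (.leaf 0x87) (.leaf 0)) (.node (.leaf 0x266) (.leaf 0))))) (.node (.node (.node (.node (.leaf 0x6) (.leaf 0x34b)) (.node (.leaf 0x10f) (.leaf 0))) (.node (.node (.leaf 0x72) (.leaf 0)) (.node (.leaf 0x228) (.leaf 0)))) (.node (.node (.node (.leaf 0x27) (.leaf 0x44e)) (.node (.leaf 0x160) (.leaf 0))) (.node (.node (.leaf 0xb6) (.leaf 0)) (.node (.leaf 0x2c9) (.leaf 0)))))) (.node (.node (.node (.node (.node (.leaf 0x2) (.leaf 0x32b)) (.node (.leaf 0x103) (.leaf 0))) (.node (.node (.leaf 0x5d) (.leaf 0)) (.node (.leaf 0x201) (.leaf 0)))) (.node (.node (.node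 (.leaf 0x21) (.leaf 0x40a)) (.node (.leaf 0x14e) (.leaf 0))) (.node (.node (.leaf 0x91) (.leaf 0)) (.node (.leaf 0x28a) (.leaf 0))))) (.node (.node (.node (.node (.leaf 0xf) (.leaf 0x38c)) (.node (.leaf 0x115) (.leaf 0))) (.node (.node (.leaf 0x7a) (.leaf 0)) (.node (.leaf 0x240) (.leaf 0)))) (.node (.node (.node (.leaf 0x38) (.leaf 0x465)) (.node (.leaf 0x1a2) (.leaf 0))) (.node (.node (.leaf 0xc8) (.leaf 0)) (.node (.leaf 0x2f0) (.leaf 0))))))) (.node (.node (.node (.node (.node (.node (.leaf 0x1) (.leaf 0x325)) (.node (.leaf 0xfb) (.leaf 0))) (.node (.node (.leaf 0x56) (.leaf 0)) (.node (.leaf 0x1fb) (.leaf 0)))) (.node (.node (.node (.leaf 0x1c) (.leaf 0x3e9)) (.node (.leaf 0x136) (.leaf 0))) (.node (.node (.leaf 0x8f) (.leaf 0)) (.node (.leaf 0x281) (.leaf 0))))) (.node (.node (.node (.node (.leaf 0x9) (.leaf 0x369)) (.node (.leaf 0x111) (.leaf 0))) (.node (.node (.leaf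 0x75) (.leaf 0)) (.node (.leaf 0x237) (.leaf 0)))) (.node (.node (.node (.leaf 0x33) (.leaf 0x456)) (.node (.leaf 0x178) (.leaf 0))) (.node (.node (.leaf 0xbc) (.leaf 0)) (.node (.leaf 0x2de) (.leaf 0)))))) (.node (.node (.node (.node (.node (.leaf 0x4) (.leaf 0x33d)) (.node (.leaf 0x10d) (.leaf 0))) (.node (.node (.leaf 0x68) (.leaf 0)) (.node (.leaf 0x207) (.leaf 0)))) (.node (.node (.node (.leaf 0x24) (.leaf 0x429)) (.node (.leaf 0x154) (.leaf 0))) (.node (.node (.leaf 0x9a) (.leaf 0)) (.node (.leaf 0x2a9) (.leaf 0))))) (.node (.node (.node (.node (.leaf 0x12) (.leaf 0x3b5)) (.node (.leaf 0x11e) (.leaf 0))) (.node (.node (.leaf 0x7e) (.leaf 0)) (.node (.leaf 0x24d) (.leaf 0)))) (.node (.node (.node (.leaf 0x3d) (.leaf 0)) (.node (.leaf 0x1c8) (.leaf 0))) (.node (.node (.leaf 0xe1) (.leaf 0)) (.node (.leaf 0x30b) (.leaf 0))))))))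

/-- part of the cover -/
def covB53 : Trie :=
  (.node (.node (.node (.node (.node (.node (.node (.leaf 0x1) (.leaf 0x312)) (.node (.leaf 0xfc) (.leaf 0))) (.node (.node (.leaf 0x4b) (.leaf 0)) (.node (.leaf 0x1f2) (.leaf 0)))) (.node (.node (.node (.leaf 0x1b) (.leaf 0x3e4)) (.node (.leaf 0x130) (.leaf 0))) (.node (.node (.leaf 0x87) (.leaf 0)) (.node (.leaf 0x276) (.leaf 0))))) (.node (.node (.node (.node (.leaf 0x9) (.leaf 0x351)) (.node (.leaf 0x111) (.leaf 0))) (.node (.node (.leaf 0x72) (.leaf 0)) (.node (.leaf 0x230) (.leaf 0)))) (.node (.node (.node (.leaf 0x2d) (.leaf 0x456)) (.node (.leaf 0x16e) (.leaf 0))) (.node (.node (.leaf 0xb6) (.leaf 0)) (.node (.leaf 0x2d6) (.leaf 0)))))) (.node (.node (.node (.node (.node (.leaf 0x3) (.leaf 0x332)) (.node (.leaf 0x109) (.leaf 0))) (.node (.node (.leaf 0x68) (.leaf 0)) (.node (.leaf 0x207) (.leaf 0)))) (.node (.node (.node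 (.leaf 0x21) (.leaf 0x40e)) (.node (.leaf 0x14b) (.leaf 0))) (.node (.node (.leaf 0x9d) (.leaf 0)) (.node (.leaf 0x28f) (.leaf 0))))) (.node (.node (.node (.node (.leaf 0xf) (.leaf 0x3a3)) (.node (.leaf 0x116) (.leaf 0))) (.node (.node (.leaf 0x7e) (.leaf 0)) (.node (.leaf 0x250) (.leaf 0)))) (.node (.node (.node (.leaf 0x3a) (.leaf 0x465)) (.node (.leaf 0x1ab) (.leaf 0))) (.node (.node (.leaf 0xda) (.leaf 0)) (.node (.leaf 0x305) (.leaf 0))))))) (.node (.node (.node (.node (.node (.node (.leaf 0x2) (.leaf 0x32b)) (.node (.leaf 0x103) (.leaf 0))) (.node (.node (.leaf 0x53) (.leaf 0)) (.node (.leaf 0x1fb) (.leaf 0)))) (.node (.node (.node (.leaf 0x1e) (.leaf 0x3fd)) (.node (.leaf 0x141) (.leaf 0))) (.node (.node (.leaf 0x91) (.leaf 0)) (.node (.leaf 0x285) (.leaf 0))))) (.node (.node (.node (.node (.leaf 0xc) (.leaf 0x37c)) (.node (.leaf 0x114) (.leaf 0))) (.node (.node (.leaf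 0x76) (.leaf 0)) (.node (.leaf 0x237) (.leaf 0)))) (.node (.node (.node (.leaf 0x33) (.leaf 0x461)) (.node (.leaf 0x182) (.leaf 0))) (.node (.node (.leaf 0xce) (.leaf 0)) (.node (.leaf 0x2ed) (.leaf 0)))))) (.node (.node (.node (.node (.node (.leaf 0x4) (.leaf 0x342)) (.node (.leaf 0x10b) (.leaf 0))) (.node (.node (.leaf 0x6d) (.leaf 0)) (.node (.leaf 0x21b) (.leaf 0)))) (.node (.node (.node (.leaf 0x27) (.leaf 0x438)) (.node (.leaf 0x164) (.leaf 0))) (.node (.node (.leaf 0xa4) (.leaf 0)) (.node (.leaf 0x2b0) (.leaf 0))))) (.node (.node (.node (.node (.leaf 0x17) (.leaf 0x3b4)) (.node (.leaf 0x11a) (.leaf 0))) (.node (.node (.leaf 0x82) (.leaf 0)) (.node (.leaf 0x256) (.leaf 0)))) (.node (.node (.node (.leaf 0x46) (.leaf 0)) (.node (.leaf 0x1dc) (.leaf 0))) (.node (.node (.leaf 0xe1) (.leaf 0)) (.node (.leaf 0x30c) (.leaf 0))))))))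

/-- part of the cover -/
def covB13 : Trie :=
  (.node (.node (.node (.node (.node (.node (.node (.leaf 0x0) (.leaf 0x313)) (.node (.leaf 0xf1) (.leaf 0))) (.node (.node (.leaf 0x42) (.leaf 0)) (.node (.leaf 0x1e9) (.leaf 0)))) (.node (.node (.node (.leaf 0x17) (.leaf 0x3d4)) (.node (.leaf 0x12a) (.leaf 0))) (.node (.node (.leaf 0x84) (.leaf 0)) (.node (.leaf 0x25e) (.leaf 0))))) (.node (.node (.node (.node (.leaf 0x6) (.leaf 0x34b)) (.node (.leaf 0x110) (.leaf 0))) (.node (.node (.leaf 0x6d) (.leaf 0)) (.node (.leaf 0x221) (.leaf 0)))) (.node (.node (.node (.leaf 0x27) (.leaf 0x44b)) (.node (.leaf 0x166) (.leaf 0))) (.node (.node (.leaf 0xb2) (.leaf 0)) (.node (.leaf 0x2c1) (.leaf 0)))))) (.node (.node (.node (.node (.node (.leaf 0x2) (.leaf 0x32b)) (.node (.leaf 0x103) (.leaf 0))) (.node (.node (.leaf 0x64) (.leaf 0)) (.node (.leaf 0x202) (.leaf 0)))) (.node (.node (.node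 (.leaf 0x21) (.leaf 0x402)) (.node (.leaf 0x148) (.leaf 0))) (.node (.node (.leaf 0x91) (.leaf 0)) (.node (.leaf 0x288) (.leaf 0))))) (.node (.node (.node (.node (.leaf 0xd) (.leaf 0x386)) (.node (.leaf 0x113) (.leaf 0))) (.node (.node (.leaf 0x7a) (.leaf 0)) (.node (.leaf 0x23f) (.leaf 0)))) (.node (.node (.node (.leaf 0x38) (.leaf 0x466)) (.node (.leaf 0x19b) (.leaf 0))) (.node (.node (.leaf 0xd5) (.leaf 0)) (.node (.leaf 0x2f3) (.leaf 0))))))) (.node (.node (.node (.node (.node (.node (.leaf 0x1) (.leaf 0x316)) (.node (.leaf 0xfd) (.leaf 0))) (.node (.node (.leaf 0x50) (.leaf 0)) (.node (.leaf 0x1f4) (.leaf 0)))) (.node (.node (.node (.leaf 0x1c) (.leaf 0x3ec)) (.node (.leaf 0x136) (.leaf 0))) (.node (.node (.leaf 0x8c) (.leaf 0)) (.node (.leaf 0x280) (.leaf 0))))) (.node (.node (.node (.node (.leaf 0x9) (.leaf 0x366)) (.node (.leaf 0x112) (.leaf 0))) (.node (.node (.leaf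 0x75) (.leaf 0)) (.node (.leaf 0x239) (.leaf 0)))) (.node (.node (.node (.leaf 0x2e) (.leaf 0x459)) (.node (.leaf 0x172) (.leaf 0))) (.node (.node (.leaf 0xc2) (.leaf 0)) (.node (.leaf 0x2dd) (.leaf 0)))))) (.node (.node (.node (.node (.node (.leaf 0x4) (.leaf 0x337)) (.node (.leaf 0x10b) (.leaf 0))) (.node (.node (.leaf 0x68) (.leaf 0)) (.node (.leaf 0x207) (.leaf 0)))) (.node (.node (.node (.leaf 0x24) (.leaf 0x424)) (.node (.leaf 0x155) (.leaf 0))) (.node (.node (.leaf 0x97) (.leaf 0)) (.node (.leaf 0x29c) (.leaf 0))))) (.node (.node (.node (.node (.leaf 0x14) (.leaf 0x3b0)) (.node (.leaf 0x11e) (.leaf 0))) (.node (.node (.leaf 0x7e) (.leaf 0)) (.node (.leaf 0x250) (.leaf 0)))) (.node (.node (.node (.leaf 0x3d) (.leaf 0)) (.node (.leaf 0x1c2) (.leaf 0))) (.node (.node (.leaf 0xdf) (.leaf 0)) (.node (.leaf 0x301) (.leaf 0))))))))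

/-- part of the cover -/
def covB45 : Trie :=
  (.node (.node (.node (.node (.node (.node (.node (.leaf 0x0) (.leaf 0x312)) (.node (.leaf 0xf6) (.leaf 0))) (.node (.node (.leaf 0x4d) (.leaf 0)) (.node (.leaf 0x1f2) (.leaf 0)))) (.node (.node (.node (.leaf 0x1c) (.leaf 0x3de)) (.node (.leaf 0x134) (.leaf 0))) (.node (.node (.leaf 0x87) (.leaf 0)) (.node (.leaf 0x275) (.leaf 0))))) (.node (.node (.node (.node (.leaf 0x9) (.leaf 0x34c)) (.node (.leaf 0x10f) (.leaf 0))) (.node (.node (.leaf 0x72) (.leaf 0)) (.node (.leaf 0x22b) (.leaf 0)))) (.node (.node (.node (.leaf 0x2c) (.leaf 0x458)) (.node (.leaf 0x171) (.leaf 0))) (.node (.node (.leaf 0xae) (.leaf 0)) (.node (.leaf 0x2cb) (.leaf 0)))))) (.node (.node (.node (.node (.node (.leaf 0x3) (.leaf 0x330)) (.node (.leaf 0x109) (.leaf 0))) (.node (.node (.leaf 0x5f) (.leaf 0)) (.node (.leaf 0x202) (.leaf 0)))) (.node (.node (.node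 (.leaf 0x21) (.leaf 0x406)) (.node (.leaf 0x14e) (.leaf 0))) (.node (.node (.leaf 0x9d) (.leaf 0)) (.node (.leaf 0x293) (.leaf 0))))) (.node (.node (.node (.node (.leaf 0xf) (.leaf 0x3a0)) (.node (.leaf 0x115) (.leaf 0))) (.node (.node (.leaf 0x7e) (.leaf 0)) (.node (.leaf 0x24a) (.leaf 0)))) (.node (.node (.node (.leaf 0x38) (.leaf 0x465)) (.node (.leaf 0x1a8) (.leaf 0))) (.node (.node (.leaf 0xde) (.leaf 0)) (.node (.leaf 0x2ff) (.leaf 0))))))) (.node (.node (.node (.node (.node (.node (.leaf 0x2) (.leaf 0x32b)) (.node (.leaf 0x103) (.leaf 0))) (.node (.node (.leaf 0x56) (.leaf 0)) (.node (.leaf 0x1fb) (.leaf 0)))) (.node (.node (.node (.leaf 0x1f) (.leaf 0x3f0)) (.node (.leaf 0x13e) (.leaf 0))) (.node (.node (.leaf 0x8c) (.leaf 0)) (.node (.leaf 0x280) (.leaf 0))))) (.node (.node (.node (.node (.leaf 0xc) (.leaf 0x376)) (.node (.leaf 0x114) (.leaf 0))) (.node (.node (.leaf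 0x75) (.leaf 0)) (.node (.leaf 0x239) (.leaf 0)))) (.node (.node (.node (.leaf 0x33) (.leaf 0x460)) (.node (.leaf 0x18b) (.leaf 0))) (.node (.node (.leaf 0xc6) (.leaf 0)) (.node (.leaf 0x2e7) (.leaf 0)))))) (.node (.node (.node (.node (.node (.leaf 0x4) (.leaf 0x33d)) (.node (.leaf 0x10b) (.leaf 0))) (.node (.node (.leaf 0x6f) (.leaf 0)) (.node (.leaf 0x214) (.leaf 0)))) (.node (.node (.node (.leaf 0x24) (.leaf 0x42c)) (.node (.leaf 0x156) (.leaf 0))) (.node (.node (.leaf 0xa3) (.leaf 0)) (.node (.leaf 0x2b9) (.leaf 0))))) (.node (.node (.node (.node (.leaf 0x12) (.leaf 0x3c4)) (.node (.leaf 0x11a) (.leaf 0))) (.node (.node (.leaf 0x82) (.leaf 0)) (.node (.leaf 0x25c) (.leaf 0)))) (.node (.node (.node (.leaf 0x46) (.leaf 0)) (.node (.leaf 0x1d4) (.leaf 0))) (.node (.node (.leaf 0xe5) (.leaf 0)) (.node (.leaf 0x30c) (.leaf 0))))))))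

/-- part of the cover -/
def covB29 : Trie :=
  (.node (.node (.node (.node (.node (.node (.node (.leaf 0x0) (.leaf 0x312)) (.node (.leaf 0xec) (.leaf 0))) (.node (.node (.leaf 0x4b) (.leaf 0)) (.node (.leaf 0x1f0) (.leaf 0)))) (.node (.node (.node (.leaf 0x1a) (.leaf 0x3d0)) (.node (.leaf 0x126) (.leaf 0))) (.node (.node (.leaf 0x87) (.leaf 0)) (.node (.leaf 0x26e) (.leaf 0))))) (.node (.node (.node (.node (.leaf 0x6) (.leaf 0x34b)) (.node (.leaf 0x110) (.leaf 0))) (.node (.node (.leaf 0x72) (.leaf 0)) (.node (.leaf 0x230) (.leaf 0)))) (.node (.node (.node (.leaf 0x28) (.leaf 0x449)) (.node (.leaf 0x165) (.leaf 0))) (.node (.node (.leaf 0xb1) (.leaf 0)) (.node (.leaf 0x2cf) (.leaf 0)))))) (.node (.node (.node (.node (.node (.leaf 0x3) (.leaf 0x331)) (.node (.leaf 0x106) (.leaf 0))) (.node (.node (.leaf 0x61) (.leaf 0)) (.node (.leaf 0x202) (.leaf 0)))) (.node (.node (.node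 (.leaf 0x21) (.leaf 0x405)) (.node (.leaf 0x14e) (.leaf 0))) (.node (.node (.leaf 0x91) (.leaf 0)) (.node (.leaf 0x287) (.leaf 0))))) (.node (.node (.node (.node (.leaf 0xf) (.leaf 0x390)) (.node (.leaf 0x116) (.leaf 0))) (.node (.node (.leaf 0x78) (.leaf 0)) (.node (.leaf 0x243) (.leaf 0)))) (.node (.node (.node (.leaf 0x38) (.leaf 0x465)) (.node (.leaf 0x1a7) (.leaf 0))) (.node (.node (.leaf 0xd8) (.leaf 0)) (.node (.leaf 0x2fa) (.leaf 0))))))) (.node (.node (.node (.node (.node (.node (.leaf 0x1) (.leaf 0x328)) (.node (.leaf 0xfd) (.leaf 0))) (.node (.node (.leaf 0x56) (.leaf 0)) (.node (.leaf 0x1fb) (.leaf 0)))) (.node (.node (.node (.leaf 0x1e) (.leaf 0x3f0)) (.node (.leaf 0x13e) (.leaf 0))) (.node (.node (.leaf 0x8c) (.leaf 0)) (.node (.leaf 0x280) (.leaf 0))))) (.node (.node (.node (.node (.leaf 0x9) (.leaf 0x359)) (.node (.leaf 0x112) (.leaf 0))) (.node (.node (.leaf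 0x75) (.leaf 0)) (.node (.leaf 0x237) (.leaf 0)))) (.node (.node (.node (.leaf 0x33) (.leaf 0x460)) (.node (.leaf 0x17f) (.leaf 0))) (.node (.node (.leaf 0xbf) (.leaf 0)) (.node (.leaf 0x2e2) (.leaf 0)))))) (.node (.node (.node (.node (.node (.leaf 0x4) (.leaf 0x343)) (.node (.leaf 0x10b) (.leaf 0))) (.node (.node (.leaf 0x68) (.leaf 0)) (.node (.leaf 0x207) (.leaf 0)))) (.node (.node (.node (.leaf 0x24) (.leaf 0x42e)) (.node (.leaf 0x15a) (.leaf 0))) (.node (.node (.leaf 0xa4) (.leaf 0)) (.node (.leaf 0x2af) (.leaf 0))))) (.node (.node (.node (.node (.leaf 0x12) (.leaf 0x3bb)) (.node (.leaf 0x11a) (.leaf 0))) (.node (.node (.leaf 0x82) (.leaf 0)) (.node (.leaf 0x24e) (.leaf 0)))) (.node (.node (.node (.leaf 0x3d) (.leaf 0)) (.node (.leaf 0x1c6) (.leaf 0))) (.node (.node (.leaf 0xe1) (.leaf 0)) (.node (.leaf 0x30c) (.leaf 0))))))))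

/-- part of the cover -/
def covB61 : Trie :=
  (.node (.node (.node (.node (.node (.node (.node (.leaf 0x1) (.leaf 0x31b)) (.node (.leaf 0xfb) (.leaf 0))) (.node (.node (.leaf 0x4d) (.leaf 0)) (.node (.leaf 0x1f2) (.leaf 0)))) (.node (.node (.node (.leaf 0x1b) (.leaf 0x3df)) (.node (.leaf 0x138) (.leaf 0))) (.node (.node (.leaf 0x8a) (.leaf 0)) (.node (.leaf 0x269) (.leaf 0))))) (.node (.node (.node (.node (.leaf 0x9) (.leaf 0x34f)) (.node (.leaf 0x112) (.leaf 0))) (.node (.node (.leaf 0x72) (.leaf 0)) (.node (.leaf 0x230) (.leaf 0)))) (.node (.node (.node (.leaf 0x2e) (.leaf 0x45a)) (.node (.leaf 0x173) (.leaf 0))) (.node (.node (.leaf 0xbc) (.leaf 0)) (.node (.leaf 0x2dd) (.leaf 0)))))) (.node (.node (.node (.node (.node (.leaf 0x3) (.leaf 0x332)) (.node (.leaf 0x106) (.leaf 0))) (.node (.node (.leaf 0x68) (.leaf 0)) (.node (.leaf 0x207) (.leaf 0)))) (.node (.node (.node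 (.leaf 0x24) (.leaf 0x416)) (.node (.leaf 0x14c) (.leaf 0))) (.node (.node (.leaf 0x98) (.leaf 0)) (.node (.leaf 0x2a0) (.leaf 0))))) (.node (.node (.node (.node (.leaf 0xf) (.leaf 0x39e)) (.node (.leaf 0x115) (.leaf 0))) (.node (.node (.leaf 0x7e) (.leaf 0)) (.node (.leaf 0x250) (.leaf 0)))) (.node (.node (.node (.leaf 0x3d) (.leaf 0)) (.node (.leaf 0x1b8) (.leaf 0))) (.node (.node (.leaf 0xda) (.leaf 0)) (.node (.leaf 0x301) (.leaf 0))))))) (.node (.node (.node (.node (.node (.node (.leaf 0x2) (.leaf 0x32a)) (.node (.leaf 0x100) (.leaf 0))) (.node (.node (.leaf 0x54) (.leaf 0)) (.node (.leaf 0x1fa) (.leaf 0)))) (.node (.node (.node (.leaf 0x1e) (.leaf 0x3fb)) (.node (.leaf 0x144) (.leaf 0))) (.node (.node (.leaf 0x93) (.leaf 0)) (.node (.leaf 0x289) (.leaf 0))))) (.node (.node (.node (.node (.leaf 0xc) (.leaf 0x373)) (.node (.leaf 0x113) (.leaf 0))) (.node (.node (.leaf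 0x7a) (.leaf 0)) (.node (.leaf 0x240) (.leaf 0)))) (.node (.node (.node (.leaf 0x33) (.leaf 0x45e)) (.node (.leaf 0x191) (.leaf 0))) (.node (.node (.leaf 0xc5) (.leaf 0)) (.node (.leaf 0x2f1) (.leaf 0)))))) (.node (.node (.node (.node (.node (.leaf 0x6) (.leaf 0x349)) (.node (.leaf 0x110) (.leaf 0))) (.node (.node (.leaf 0x6d) (.leaf 0)) (.node (.leaf 0x21c) (.leaf 0)))) (.node (.node (.node (.leaf 0x27) (.leaf 0x440)) (.node (.leaf 0x165) (.leaf 0))) (.node (.node (.leaf 0xaa) (.leaf 0)) (.node (.leaf 0x2bc) (.leaf 0))))) (.node (.node (.node (.node (.leaf 0x17) (.leaf 0x3cc)) (.node (.leaf 0x126) (.leaf 0))) (.node (.node (.leaf 0x82) (.leaf 0)) (.node (.leaf 0x25a) (.leaf 0)))) (.node (.node (.node (.leaf 0x45) (.leaf 0)) (.node (.leaf 0x1d8) (.leaf 0))) (.node (.node (.leaf 0xe1) (.leaf 0)) (.node (.leaf 0x309) (.leaf 0))))))))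

/-- part of the cover -/
def covB3 : Trie :=
  (.node (.node (.node (.node (.node (.node (.node (.leaf 0x0) (.leaf 0x30c)) (.node (.leaf 0xe8) (.leaf 0))) (.node (.node (.leaf 0x44) (.leaf 0)) (.node (.leaf 0x1d4) (.leaf 0)))) (.node (.node (.node (.leaf 0x1a) (.leaf 0x3d1)) (.node (.leaf 0x125) (.leaf 0))) (.node (.node (.leaf 0x82) (.leaf 0)) (.node (.leaf 0x256) (.leaf 0))))) (.node (.node (.node (.node (.leaf 0x6) (.leaf 0x34b)) (.node (.leaf 0x110) (.leaf 0))) (.node (.node (.leaf 0x6d) (.leaf 0)) (.node (.leaf 0x219) (.leaf 0)))) (.node (.node (.node (.leaf 0x28) (.leaf 0x436)) (.node (.leaf 0x164) (.leaf 0))) (.node (.node (.leaf 0xa6) (.leaf 0)) (.node (.leaf 0x2ab) (.leaf 0)))))) (.node (.node (.node (.node (.node (.leaf 0x2) (.leaf 0x32b)) (.node (.leaf 0x102) (.leaf 0))) (.node (.node (.leaf 0x5f) (.leaf 0)) (.node (.leaf 0x200) (.leaf 0)))) (.node (.node (.node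 (.leaf 0x1e) (.leaf 0x400)) (.node (.leaf 0x13d) (.leaf 0))) (.node (.node (.leaf 0x91) (.leaf 0)) (.node (.leaf 0x287) (.leaf 0))))) (.node (.node (.node (.node (.leaf 0xc) (.leaf 0x386)) (.node (.leaf 0x114) (.leaf 0))) (.node (.node (.leaf 0x79) (.leaf 0)) (.node (.leaf 0x245) (.leaf 0)))) (.node (.node (.node (.leaf 0x35) (.leaf 0x45f)) (.node (.leaf 0x192) (.leaf 0))) (.node (.node (.leaf 0xc9) (.leaf 0)) (.node (.leaf 0x2f8) (.leaf 0))))))) (.node (.node (.node (.node (.node (.node (.leaf 0x1) (.leaf 0x31f)) (.node (.leaf 0xfd) (.leaf 0))) (.node (.node (.leaf 0x49) (.leaf 0)) (.node (.leaf 0x1f2) (.leaf 0)))) (.node (.node (.node (.leaf 0x1b) (.leaf 0x3e9)) (.node (.leaf 0x137) (.leaf 0))) (.node (.node (.leaf 0x8c) (.leaf 0)) (.node (.leaf 0x280) (.leaf 0))))) (.node (.node (.node (.node (.leaf 0x9) (.leaf 0x35e)) (.node (.leaf 0x112) (.leaf 0))) (.node (.node (.leaf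 0x73) (.leaf 0)) (.node (.leaf 0x22e) (.leaf 0)))) (.node (.node (.node (.leaf 0x2c) (.leaf 0x456)) (.node (.leaf 0x16c) (.leaf 0))) (.node (.node (.leaf 0xc1) (.leaf 0)) (.node (.leaf 0x2e0) (.leaf 0)))))) (.node (.node (.node (.node (.node (.leaf 0x3) (.leaf 0x331)) (.node (.leaf 0x109) (.leaf 0))) (.node (.node (.leaf 0x68) (.leaf 0)) (.node (.leaf 0x207) (.leaf 0)))) (.node (.node (.node (.leaf 0x24) (.leaf 0x41a)) (.node (.leaf 0x157) (.leaf 0))) (.node (.node (.leaf 0x98) (.leaf 0)) (.node (.leaf 0x2a1) (.leaf 0))))) (.node (.node (.node (.node (.leaf 0x12) (.leaf 0x38d)) (.node (.leaf 0x115) (.leaf 0))) (.node (.node (.leaf 0x7e) (.leaf 0)) (.node (.leaf 0x251) (.leaf 0)))) (.node (.node (.node (.leaf 0x3d) (.leaf 0)) (.node (.leaf 0x1bc) (.leaf 0))) (.node (.node (.leaf 0xda) (.leaf 0)) (.node (.leaf 0x304) (.leaf 0))))))))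

/-- part of the cover -/
def covB35 : Trie :=
  (.node (.node (.node (.node (.node (.node (.node (.leaf 0x0) (.leaf 0x312)) (.node (.leaf 0xf0) (.leaf 0))) (.node (.node (.leaf 0x4b) (.leaf 0)) (.node (.leaf 0x1f2) (.leaf 0)))) (.node (.node (.node (.leaf 0x17) (.leaf 0x3d0)) (.node (.leaf 0x12e) (.leaf 0))) (.node (.node (.leaf 0x8a) (.leaf 0)) (.node (.leaf 0x270) (.leaf 0))))) (.node (.node (.node (.node (.leaf 0x6) (.leaf 0x34b)) (.node (.leaf 0x110) (.leaf 0))) (.node (.node (.leaf 0x72) (.leaf 0)) (.node (.leaf 0x22c) (.leaf 0)))) (.node (.node (.node (.leaf 0x2c) (.leaf 0x452)) (.node (.leaf 0x16c) (.leaf 0))) (.node (.node (.leaf 0xb0) (.leaf 0)) (.node (.leaf 0x2c5) (.leaf 0)))))) (.node (.node (.node (.node (.node (.leaf 0x3) (.leaf 0x32e)) (.node (.leaf 0x105) (.leaf 0))) (.node (.node (.leaf 0x5f) (.leaf 0)) (.node (.leaf 0x202) (.leaf 0)))) (.node (.node (.node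 (.leaf 0x21) (.leaf 0x410)) (.node (.leaf 0x14f) (.leaf 0))) (.node (.node (.leaf 0x93) (.leaf 0)) (.node (.leaf 0x285) (.leaf 0))))) (.node (.node (.node (.node (.leaf 0xf) (.leaf 0x398)) (.node (.leaf 0x116) (.leaf 0))) (.node (.node (.leaf 0x79) (.leaf 0)) (.node (.leaf 0x240) (.leaf 0)))) (.node (.node (.node (.leaf 0x38) (.leaf 0x466)) (.node (.leaf 0x1ac) (.leaf 0))) (.node (.node (.leaf 0xda) (.leaf 0)) (.node (.leaf 0x2ff) (.leaf 0))))))) (.node (.node (.node (.node (.node (.node (.leaf 0x1) (.leaf 0x317)) (.node (.leaf 0xfd) (.leaf 0))) (.node (.node (.leaf 0x57) (.leaf 0)) (.node (.leaf 0x1fa) (.leaf 0)))) (.node (.node (.node (.leaf 0x1e) (.leaf 0x3f6)) (.node (.leaf 0x144) (.leaf 0))) (.node (.node (.leaf 0x8c) (.leaf 0)) (.node (.leaf 0x282) (.leaf 0))))) (.node (.node (.node (.node (.leaf 0xc) (.leaf 0x36e)) (.node (.leaf 0x113) (.leaf 0))) (.node (.node (.leaf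 0x75) (.leaf 0)) (.node (.leaf 0x239) (.leaf 0)))) (.node (.node (.node (.leaf 0x33) (.leaf 0x45f)) (.node (.leaf 0x185) (.leaf 0))) (.node (.node (.leaf 0xba) (.leaf 0)) (.node (.leaf 0x2e0) (.leaf 0)))))) (.node (.node (.node (.node (.node (.leaf 0x4) (.leaf 0x33f)) (.node (.leaf 0x10b) (.leaf 0))) (.node (.node (.leaf 0x6d) (.leaf 0)) (.node (.leaf 0x209) (.leaf 0)))) (.node (.node (.node (.leaf 0x24) (.leaf 0x42a)) (.node (.leaf 0x154) (.leaf 0))) (.node (.node (.leaf 0xa7) (.leaf 0)) (.node (.leaf 0x2af) (.leaf 0))))) (.node (.node (.node (.node (.leaf 0x12) (.leaf 0x3be)) (.node (.leaf 0x120) (.leaf 0))) (.node (.node (.leaf 0x82) (.leaf 0)) (.node (.leaf 0x25a) (.leaf 0)))) (.node (.node (.node (.leaf 0x3d) (.leaf 0)) (.node (.leaf 0x1ce) (.leaf 0))) (.node (.node (.leaf 0xe1) (.leaf 0)) (.node (.leaf 0x30e) (.leaf 0))))))))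

/-- part of the cover -/
def covB19 : Trie :=
  (.node (.node (.node (.node (.node (.node (.node (.leaf 0x0) (.leaf 0x312)) (.node (.leaf 0xeb) (.leaf 0))) (.node (.node (.leaf 0x44) (.leaf 0)) (.node (.leaf 0x1e4) (.leaf 0)))) (.node (.node (.node (.leaf 0x17) (.leaf 0x3d7)) (.node (.leaf 0x12a) (.leaf 0))) (.node (.node (.leaf 0x87) (.leaf 0)) (.node (.leaf 0x264) (.leaf 0))))) (.node (.node (.node (.node (.leaf 0x6) (.leaf 0x34c)) (.node (.leaf 0x10f) (.leaf 0))) (.node (.node (.leaf 0x6f) (.leaf 0)) (.node (.leaf 0x226) (.leaf 0)))) (.node (.node (.node (.leaf 0x27) (.leaf 0x44a)) (.node (.leaf 0x168) (.leaf 0))) (.node (.node (.leaf 0xb3) (.leaf 0)) (.node (.leaf 0x2c7) (.leaf 0)))))) (.node (.node (.node (.node (.node (.leaf 0x2) (.leaf 0x32a)) (.node (.leaf 0x102) (.leaf 0))) (.node (.node (.leaf 0x60) (.leaf 0)) (.node (.leaf 0x202) (.leaf 0)))) (.node (.node (.node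 (.leaf 0x21) (.leaf 0x408)) (.node (.leaf 0x14b) (.leaf 0))) (.node (.node (.leaf 0x91) (.leaf 0)) (.node (.leaf 0x288) (.leaf 0))))) (.node (.node (.node (.node (.leaf 0xf) (.leaf 0x383)) (.node (.leaf 0x116) (.leaf 0))) (.node (.node (.leaf 0x79) (.leaf 0)) (.node (.leaf 0x23e) (.leaf 0)))) (.node (.node (.node (.leaf 0x38) (.leaf 0x465)) (.node (.leaf 0x1a0) (.leaf 0))) (.node (.node (.leaf 0xd0) (.leaf 0)) (.node (.leaf 0x2f1) (.leaf 0))))))) (.node (.node (.node (.node (.node (.node (.leaf 0x1) (.leaf 0x31b)) (.node (.leaf 0xfd) (.leaf 0))) (.node (.node (.leaf 0x53) (.leaf 0)) (.node (.leaf 0x1fb) (.leaf 0)))) (.node (.node (.node (.leaf 0x1c) (.leaf 0x3e2)) (.node (.leaf 0x136) (.leaf 0))) (.node (.node (.leaf 0x8c) (.leaf 0)) (.node (.leaf 0x282) (.leaf 0))))) (.node (.node (.node (.node (.leaf 0x9) (.leaf 0x358)) (.node (.leaf 0x111) (.leaf 0))) (.node (.node (.leaf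 0x75) (.leaf 0)) (.node (.leaf 0x239) (.leaf 0)))) (.node (.node (.node (.leaf 0x31) (.leaf 0x457)) (.node (.leaf 0x171) (.leaf 0))) (.node (.node (.leaf 0xbe) (.leaf 0)) (.node (.leaf 0x2de) (.leaf 0)))))) (.node (.node (.node (.node (.node (.leaf 0x4) (.leaf 0x33b)) (.node (.leaf 0x10b) (.leaf 0))) (.node (.node (.leaf 0x68) (.leaf 0)) (.node (.leaf 0x207) (.leaf 0)))) (.node (.node (.node (.leaf 0x24) (.leaf 0x425)) (.node (.leaf 0x15c) (.leaf 0))) (.node (.node (.leaf 0x99) (.leaf 0)) (.node (.leaf 0x28e) (.leaf 0))))) (.node (.node (.node (.node (.leaf 0x12) (.leaf 0x3b4)) (.node (.leaf 0x11c) (.leaf 0))) (.node (.node (.leaf 0x7d) (.leaf 0)) (.node (.leaf 0x24a) (.leaf 0)))) (.node (.node (.node (.leaf 0x3d) (.leaf 0)) (.node (.leaf 0x1c6) (.leaf 0))) (.node (.node (.leaf 0xe1) (.leaf 0)) (.node (.leaf 0x309) (.leaf 0))))))))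

/-- part of the cover -/
def covB51 : Trie :=
  (.node (.node (.node (.node (.node (.node (.node (.leaf 0x1) (.leaf 0x311)) (.node (.leaf 0xfa) (.leaf 0))) (.node (.node (.leaf 0x4d) (.leaf 0)) (.node (.leaf 0x1f1) (.leaf 0)))) (.node (.node (.node (.leaf 0x1b) (.leaf 0x3e4)) (.node (.leaf 0x135) (.leaf 0))) (.node (.node (.leaf 0x87) (.leaf 0)) (.node (.leaf 0x279) (.leaf 0))))) (.node (.node (.node (.node (.leaf 0x9) (.leaf 0x352)) (.node (.leaf 0x111) (.leaf 0))) (.node (.node (.leaf 0x72) (.leaf 0)) (.node (.leaf 0x22e) (.leaf 0)))) (.node (.node (.node (.leaf 0x2c) (.leaf 0x459)) (.node (.leaf 0x173) (.leaf 0))) (.node (.node (.leaf 0xb0) (.leaf 0)) (.node (.leaf 0x2d9) (.leaf 0)))))) (.node (.node (.node (.node (.node (.leaf 0x3) (.leaf 0x332)) (.node (.leaf 0x106) (.leaf 0))) (.node (.node (.leaf 0x68) (.leaf 0)) (.node (.leaf 0x205) (.leaf 0)))) (.node (.node (.node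 (.leaf 0x21) (.leaf 0x40c)) (.node (.leaf 0x148) (.leaf 0))) (.node (.node (.leaf 0x9b) (.leaf 0)) (.node (.leaf 0x299) (.leaf 0))))) (.node (.node (.node (.node (.leaf 0xf) (.leaf 0x3a1)) (.node (.leaf 0x116) (.leaf 0))) (.node (.node (.leaf 0x7e) (.leaf 0)) (.node (.leaf 0x24d) (.leaf 0)))) (.node (.node (.node (.leaf 0x3b) (.leaf 0x465)) (.node (.leaf 0x1a4) (.leaf 0))) (.node (.node (.leaf 0xdf) (.leaf 0)) (.node (.leaf 0x303) (.leaf 0))))))) (.node (.node (.node (.node (.node (.node (.leaf 0x2) (.leaf 0x32b)) (.node (.leaf 0x100) (.leaf 0))) (.node (.node (.leaf 0x50) (.leaf 0)) (.node (.leaf 0x1f7) (.leaf 0)))) (.node (.node (.node (.leaf 0x1e) (.leaf 0x3f7)) (.node (.leaf 0x144) (.leaf 0))) (.node (.node (.leaf 0x91) (.leaf 0)) (.node (.leaf 0x280) (.leaf 0))))) (.node (.node (.node (.node (.leaf 0xd) (.leaf 0x37b)) (.node (.leaf 0x114) (.leaf 0))) (.node (.node (.leaf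 0x75) (.leaf 0)) (.node (.leaf 0x236) (.leaf 0)))) (.node (.node (.node (.leaf 0x33) (.leaf 0x460)) (.node (.leaf 0x180) (.leaf 0))) (.node (.node (.leaf 0xcc) (.leaf 0)) (.node (.leaf 0x2ea) (.leaf 0)))))) (.node (.node (.node (.node (.node (.leaf 0x4) (.leaf 0x33e)) (.node (.leaf 0x10b) (.leaf 0))) (.node (.node (.leaf 0x6d) (.leaf 0)) (.node (.leaf 0x217) (.leaf 0)))) (.node (.node (.node (.leaf 0x27) (.leaf 0x436)) (.node (.leaf 0x162) (.leaf 0))) (.node (.node (.leaf 0xa6) (.leaf 0)) (.node (.leaf 0x2b5) (.leaf 0))))) (.node (.node (.node (.node (.leaf 0x14) (.leaf 0x3c0)) (.node (.leaf 0x11b) (.leaf 0))) (.node (.node (.leaf 0x82) (.leaf 0)) (.node (.leaf 0x25e) (.leaf 0)))) (.node (.node (.node (.leaf 0x46) (.leaf 0)) (.node (.leaf 0x1da) (.leaf 0))) (.node (.node (.leaf 0xe1) (.leaf 0)) (.node (.leaf 0x30e) (.leaf 0))))))))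

/-- part of the cover -/
def covB11 : Trie :=
  (.node (.node (.node (.node (.node (.node (.node (.leaf 0x0) (.leaf 0x312)) (.node (.leaf 0xef) (.leaf 0))) (.node (.node (.leaf 0x46) (.leaf 0)) (.node (.leaf 0x1df) (.leaf 0)))) (.node (.node (.node (.leaf 0x17) (.leaf 0x3c9)) (.node (.leaf 0x127) (.leaf 0))) (.node (.node (.leaf 0x85) (.leaf 0)) (.node (.leaf 0x25c) (.leaf 0))))) (.node (.node (.node (.node (.leaf 0x6) (.leaf 0x34c)) (.node (.leaf 0x10f) (.leaf 0))) (.node (.node (.leaf 0x6d) (.leaf 0)) (.node (.leaf 0x215) (.leaf 0)))) (.node (.node (.node (.leaf 0x27) (.leaf 0x449)) (.node (.leaf 0x167) (.leaf 0))) (.node (.node (.leaf 0xb0) (.leaf 0)) (.node (.leaf 0x2bf) (.leaf 0)))))) (.node (.node (.node (.node (.node (.leaf 0x2) (.leaf 0x32b)) (.node (.leaf 0x100) (.leaf 0))) (.node (.node (.leaf 0x63) (.leaf 0)) (.node (.leaf 0x202) (.leaf 0)))) (.node (.node (.node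 (.leaf 0x21) (.leaf 0x402)) (.node (.leaf 0x143) (.leaf 0))) (.node (.node (.leaf 0x91) (.leaf 0)) (.node (.leaf 0x287) (.leaf 0))))) (.node (.node (.node (.node (.leaf 0xc) (.leaf 0x37d)) (.node (.leaf 0x114) (.leaf 0))) (.node (.node (.leaf 0x79) (.leaf 0)) (.node (.leaf 0x244) (.leaf 0)))) (.node (.node (.node (.leaf 0x38) (.leaf 0x465)) (.node (.leaf 0x197) (.leaf 0))) (.node (.node (.leaf 0xcc) (.leaf 0)) (.node (.leaf 0x2f0) (.leaf 0))))))) (.node (.node (.node (.node (.node (.node (.leaf 0x1) (.leaf 0x324)) (.node (.leaf 0xfb) (.leaf 0))) (.node (.node (.leaf 0x4d) (.leaf 0)) (.node (.leaf 0x1f3) (.leaf 0)))) (.node (.node (.node (.leaf 0x1b) (.leaf 0x3e7)) (.node (.leaf 0x131) (.leaf 0))) (.node (.node (.leaf 0x8e) (.leaf 0)) (.node (.leaf 0x27f) (.leaf 0))))) (.node (.node (.node (.node (.leaf 0x9) (.leaf 0x355)) (.node (.leaf 0x111) (.leaf 0))) (.node (.node (.leaf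 0x75) (.leaf 0)) (.node (.leaf 0x238) (.leaf 0)))) (.node (.node (.node (.leaf 0x2c) (.leaf 0x455)) (.node (.leaf 0x172) (.leaf 0))) (.node (.node (.leaf 0xc0) (.leaf 0)) (.node (.leaf 0x2e5) (.leaf 0)))))) (.node (.node (.node (.node (.node (.leaf 0x4) (.leaf 0x332)) (.node (.leaf 0x10b) (.leaf 0))) (.node (.node (.leaf 0x68) (.leaf 0)) (.node (.leaf 0x207) (.leaf 0)))) (.node (.node (.node (.leaf 0x24) (.leaf 0x422)) (.node (.leaf 0x15b) (.leaf 0))) (.node (.node (.leaf 0x9e) (.leaf 0)) (.node (.leaf 0x2a4) (.leaf 0))))) (.node (.node (.node (.node (.leaf 0x12) (.leaf 0x3ae)) (.node (.leaf 0x119) (.leaf 0))) (.node (.node (.leaf 0x7e) (.leaf 0)) (.node (.leaf 0x24d) (.leaf 0)))) (.node (.node (.node (.leaf 0x40) (.leaf 0)) (.node (.leaf 0x1c0) (.leaf 0))) (.node (.node (.leaf 0xda) (.leaf 0)) (.node (.leaf 0x303) (.leaf 0))))))))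

/-- part of the cover -/
def covB43 : Trie :=
  (.node (.node (.node (.node (.node (.node (.node (.leaf 0x0) (.leaf 0x311)) (.node (.leaf 0xf9) (.leaf 0))) (.node (.node (.leaf 0x4d) (.leaf 0)) (.node (.leaf 0x1f2) (.leaf 0)))) (.node (.node (.node (.leaf 0x1b) (.leaf 0x3dc)) (.node (.leaf 0x132) (.leaf 0))) (.node (.node (.leaf 0x87) (.leaf 0)) (.node (.leaf 0x278) (.leaf 0))))) (.node (.node (.node (.node (.leaf 0x6) (.leaf 0x34c)) (.node (.leaf 0x110) (.leaf 0))) (.node (.node (.leaf 0x72) (.leaf 0)) (.node (.leaf 0x232) (.leaf 0)))) (.node (.node (.node (.leaf 0x2c) (.leaf 0x454)) (.node (.leaf 0x172) (.leaf 0))) (.node (.node (.leaf 0xb3) (.leaf 0)) (.node (.leaf 0x2d7) (.leaf 0)))))) (.node (.node (.node (.node (.node (.leaf 0x3) (.leaf 0x334)) (.node (.leaf 0x106) (.leaf 0))) (.node (.node (.leaf 0x5d) (.leaf 0)) (.node (.leaf 0x200) (.leaf 0)))) (.node (.node (.node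 (.leaf 0x21) (.leaf 0x413)) (.node (.leaf 0x14b) (.leaf 0))) (.node (.node (.leaf 0x98) (.leaf 0)) (.node (.leaf 0x291) (.leaf 0))))) (.node (.node (.node (.node (.leaf 0xf) (.leaf 0x39f)) (.node (.leaf 0x115) (.leaf 0))) (.node (.node (.leaf 0x7c) (.leaf 0)) (.node (.leaf 0x242) (.leaf 0)))) (.node (.node (.node (.leaf 0x38) (.leaf 0x465)) (.node (.leaf 0x1a0) (.leaf 0))) (.node (.node (.leaf 0xda) (.leaf 0)) (.node (.leaf 0x302) (.leaf 0))))))) (.node (.node (.node (.node (.node (.node (.leaf 0x2) (.leaf 0x32b)) (.node (.leaf 0x102) (.leaf 0))) (.node (.node (.leaf 0x53) (.leaf 0)) (.node (.leaf 0x1fb) (.leaf 0)))) (.node (.node (.node (.leaf 0x1e) (.leaf 0x3f4)) (.node (.leaf 0x141) (.leaf 0))) (.node (.node (.leaf 0x8c) (.leaf 0)) (.node (.leaf 0x280) (.leaf 0))))) (.node (.node (.node (.node (.leaf 0xc) (.leaf 0x374)) (.node (.leaf 0x113) (.leaf 0))) (.node (.node (.leaf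 0x75) (.leaf 0)) (.node (.leaf 0x239) (.leaf 0)))) (.node (.node (.node (.leaf 0x33) (.leaf 0x45f)) (.node (.leaf 0x179) (.leaf 0))) (.node (.node (.leaf 0xbe) (.leaf 0)) (.node (.leaf 0x2e0) (.leaf 0)))))) (.node (.node (.node (.node (.node (.leaf 0x4) (.leaf 0x341)) (.node (.leaf 0x10e) (.leaf 0))) (.node (.node (.leaf 0x6d) (.leaf 0)) (.node (.leaf 0x212) (.leaf 0)))) (.node (.node (.node (.leaf 0x25) (.leaf 0x421)) (.node (.leaf 0x155) (.leaf 0))) (.node (.node (.leaf 0xa5) (.leaf 0)) (.node (.leaf 0x2ad) (.leaf 0))))) (.node (.node (.node (.node (.leaf 0x12) (.leaf 0x3b2)) (.node (.leaf 0x118) (.leaf 0))) (.node (.node (.leaf 0x82) (.leaf 0)) (.node (.leaf 0x25d) (.leaf 0)))) (.node (.node (.node (.leaf 0x44) (.leaf 0)) (.node (.leaf 0x1d2) (.leaf 0))) (.node (.node (.leaf 0xe1) (.leaf 0)) (.node (.leaf 0x30c) (.leaf 0))))))))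

/-- part of the cover -/
def covB27 : Trie :=
  (.node (.node (.node (.node (.node (.node (.node (.leaf 0x0) (.leaf 0x312)) (.node (.leaf 0xe9) (.leaf 0))) (.node (.node (.leaf 0x49) (.leaf 0)) (.node (.leaf 0x1ed) (.leaf 0)))) (.node (.node (.node (.leaf 0x17) (.leaf 0x3d5)) (.node (.leaf 0x126) (.leaf 0))) (.node (.node (.leaf 0x87) (.leaf 0)) (.node (.leaf 0x26c) (.leaf 0))))) (.node (.node (.node (.node (.leaf 0x6) (.leaf 0x34b)) (.node (.leaf 0x110) (.leaf 0))) (.node (.node (.leaf 0x72) (.leaf 0)) (.node (.leaf 0x22e) (.leaf 0)))) (.node (.node (.node (.leaf 0x27) (.leaf 0x443)) (.node (.leaf 0x167) (.leaf 0))) (.node (.node (.leaf 0xb6) (.leaf 0)) (.node (.leaf 0x2cd) (.leaf 0)))))) (.node (.node (.node (.node (.node (.leaf 0x3) (.leaf 0x32f)) (.node (.leaf 0x106) (.leaf 0))) (.node (.node (.leaf 0x64) (.leaf 0)) (.node (.leaf 0x200) (.leaf 0)))) (.node (.node (.node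 (.leaf 0x21) (.leaf 0x40e)) (.node (.leaf 0x149) (.leaf 0))) (.node (.node (.leaf 0x91) (.leaf 0)) (.node (.leaf 0x285) (.leaf 0))))) (.node (.node (.node (.node (.leaf 0xf) (.leaf 0x392)) (.node (.leaf 0x116) (.leaf 0))) (.node (.node (.leaf 0x79) (.leaf 0)) (.node (.leaf 0x244) (.leaf 0)))) (.node (.node (.node (.leaf 0x38) (.leaf 0x466)) (.node (.leaf 0x1a6) (.leaf 0))) (.node (.node (.leaf 0xcc) (.leaf 0)) (.node (.leaf 0x2ee) (.leaf 0))))))) (.node (.node (.node (.node (.node (.node (.leaf 0x1) (.leaf 0x317)) (.node (.leaf 0xfc) (.leaf 0))) (.node (.node (.leaf 0x51) (.leaf 0)) (.node (.leaf 0x1fb) (.leaf 0)))) (.node (.node (.node (.leaf 0x1e) (.leaf 0x3ee)) (.node (.leaf 0x13c) (.leaf 0))) (.node (.node (.leaf 0x8c) (.leaf 0)) (.node (.leaf 0x280) (.leaf 0))))) (.node (.node (.node (.node (.leaf 0xa) (.leaf 0x368)) (.node (.leaf 0x111) (.leaf 0))) (.node (.node (.leaf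 0x76) (.leaf 0)) (.node (.leaf 0x237) (.leaf 0)))) (.node (.node (.node (.leaf 0x33) (.leaf 0x461)) (.node (.leaf 0x17e) (.leaf 0))) (.node (.node (.leaf 0xc0) (.leaf 0)) (.node (.leaf 0x2e2) (.leaf 0)))))) (.node (.node (.node (.node (.node (.leaf 0x4) (.leaf 0x33f)) (.node (.leaf 0x10b) (.leaf 0))) (.node (.node (.leaf 0x68) (.leaf 0)) (.node (.leaf 0x206) (.leaf 0)))) (.node (.node (.node (.leaf 0x24) (.leaf 0x42e)) (.node (.leaf 0x158) (.leaf 0))) (.node (.node (.leaf 0xa6) (.leaf 0)) (.node (.leaf 0x2ad) (.leaf 0))))) (.node (.node (.node (.node (.leaf 0x12) (.leaf 0x3ae)) (.node (.leaf 0x11a) (.leaf 0))) (.node (.node (.leaf 0x7f) (.leaf 0)) (.node (.leaf 0x252) (.leaf 0)))) (.node (.node (.node (.leaf 0x3d) (.leaf 0)) (.node (.leaf 0x1c9) (.leaf 0))) (.node (.node (.leaf 0xe4) (.leaf 0)) (.node (.leaf 0x30d) (.leaf 0))))))))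

/-- part of the cover -/
def covB59 : Trie :=
  (.node (.node (.node (.node (.node (.node (.node (.leaf 0x1) (.leaf 0x31a)) (.node (.leaf 0xfd) (.leaf 0))) (.node (.node (.leaf 0x4d) (.leaf 0)) (.node (.leaf 0x1f2) (.leaf 0)))) (.node (.node (.node (.leaf 0x1c) (.leaf 0x3dc)) (.node (.leaf 0x134) (.leaf 0))) (.node (.node (.leaf 0x87) (.leaf 0)) (.node (.leaf 0x26a) (.leaf 0))))) (.node (.node (.node (.node (.leaf 0x9) (.leaf 0x358)) (.node (.leaf 0x112) (.leaf 0))) (.node (.node (.leaf 0x72) (.leaf 0)) (.node (.leaf 0x22b) (.leaf 0)))) (.node (.node (.node (.leaf 0x2c) (.leaf 0x45a)) (.node (.leaf 0x16d) (.leaf 0))) (.node (.node (.leaf 0xba) (.leaf 0)) (.node (.leaf 0x2c4) (.leaf 0)))))) (.node (.node (.node (.node (.node (.leaf 0x3) (.leaf 0x334)) (.node (.leaf 0x106) (.leaf 0))) (.node (.node (.leaf 0x6a) (.leaf 0)) (.node (.leaf 0x207) (.leaf 0)))) (.node (.node (.node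 (.leaf 0x21) (.leaf 0x412)) (.node (.leaf 0x150) (.leaf 0))) (.node (.node (.leaf 0x97) (.leaf 0)) (.node (.leaf 0x29f) (.leaf 0))))) (.node (.node (.node (.node (.leaf 0xf) (.leaf 0x3a6)) (.node (.leaf 0x115) (.leaf 0))) (.node (.node (.leaf 0x7e) (.leaf 0)) (.node (.leaf 0x24b) (.leaf 0)))) (.node (.node (.node (.leaf 0x3d) (.leaf 0)) (.node (.leaf 0x1b6) (.leaf 0))) (.node (.node (.leaf 0xde) (.leaf 0)) (.node (.leaf 0x304) (.leaf 0))))))) (.node (.node (.node (.node (.node (.node (.leaf 0x2) (.leaf 0x32b)) (.node (.leaf 0x103) (.leaf 0))) (.node (.node (.leaf 0x58) (.leaf 0)) (.node (.leaf 0x1fb) (.leaf 0)))) (.node (.node (.node (.leaf 0x1e) (.leaf 0x3f5)) (.node (.leaf 0x142) (.leaf 0))) (.node (.node (.leaf 0x91) (.leaf 0)) (.node (.leaf 0x287) (.leaf 0))))) (.node (.node (.node (.node (.leaf 0xc) (.leaf 0x381)) (.node (.leaf 0x113) (.leaf 0))) (.node (.node (.leaf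 0x79) (.leaf 0)) (.node (.leaf 0x23e) (.leaf 0)))) (.node (.node (.node (.leaf 0x32) (.leaf 0x461)) (.node (.leaf 0x17e) (.leaf 0))) (.node (.node (.leaf 0xd1) (.leaf 0)) (.node (.leaf 0x2f2) (.leaf 0)))))) (.node (.node (.node (.node (.node (.leaf 0x6) (.leaf 0x348)) (.node (.leaf 0x10d) (.leaf 0))) (.node (.node (.leaf 0x6d) (.leaf 0)) (.node (.leaf 0x220) (.leaf 0)))) (.node (.node (.node (.leaf 0x27) (.leaf 0x43e)) (.node (.leaf 0x166) (.leaf 0))) (.node (.node (.leaf 0xa3) (.leaf 0)) (.node (.leaf 0x2bc) (.leaf 0))))) (.node (.node (.node (.node (.leaf 0x17) (.leaf 0x3ca)) (.node (.leaf 0x126) (.leaf 0))) (.node (.node (.leaf 0x82) (.leaf 0)) (.node (.leaf 0x25d) (.leaf 0)))) (.node (.node (.node (.leaf 0x46) (.leaf 0)) (.node (.leaf 0x1da) (.leaf 0))) (.node (.node (.leaf 0xe5) (.leaf 0)) (.node (.leaf 0x30b) (.leaf 0))))))))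

/-- part of the cover -/
def covB7 : Trie :=
  (.node (.node (.node (.node (.node (.node (.node (.leaf 0x0) (.leaf 0x312)) (.node (.leaf 0xec) (.leaf 0))) (.node (.node (.leaf 0x46) (.leaf 0)) (.node (.leaf 0x1d6) (.leaf 0)))) (.node (.node (.node (.leaf 0x17) (.leaf 0x3c9)) (.node (.leaf 0x128) (.leaf 0))) (.node (.node (.leaf 0x82) (.leaf 0)) (.node (.leaf 0x256) (.leaf 0))))) (.node (.node (.node (.node (.leaf 0x6) (.leaf 0x34a)) (.node (.leaf 0x110) (.leaf 0))) (.node (.node (.leaf 0x6d) (.leaf 0)) (.node (.leaf 0x223) (.leaf 0)))) (.node (.node (.node (.leaf 0x27) (.leaf 0x446)) (.node (.leaf 0x160) (.leaf 0))) (.node (.node (.leaf 0xa6) (.leaf 0)) (.node (.leaf 0x2ae) (.leaf 0)))))) (.node (.node (.node (.node (.node (.leaf 0x2) (.leaf 0x32b)) (.node (.leaf 0x103) (.leaf 0))) (.node (.node (.leaf 0x60) (.leaf 0)) (.node (.leaf 0x202) (.leaf 0)))) (.node (.node (.node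 (.leaf 0x1f) (.leaf 0x3fd)) (.node (.leaf 0x143) (.leaf 0))) (.node (.node (.leaf 0x94) (.leaf 0)) (.node (.leaf 0x286) (.leaf 0))))) (.node (.node (.node (.node (.leaf 0xc) (.leaf 0x387)) (.node (.leaf 0x113) (.leaf 0))) (.node (.node (.leaf 0x79) (.leaf 0)) (.node (.leaf 0x23f) (.leaf 0)))) (.node (.node (.node (.leaf 0x38) (.leaf 0x461)) (.node (.leaf 0x196) (.leaf 0))) (.node (.node (.leaf 0xd3) (.leaf 0)) (.node (.leaf 0x2f6) (.leaf 0))))))) (.node (.node (.node (.node (.node (.node (.leaf 0x1) (.leaf 0x320)) (.node (.leaf 0xfb) (.leaf 0))) (.node (.node (.leaf 0x4d) (.leaf 0)) (.node (.leaf 0x1f2) (.leaf 0)))) (.node (.node (.node (.leaf 0x1c) (.leaf 0x3e1)) (.node (.leaf 0x137) (.leaf 0))) (.node (.node (.leaf 0x8c) (.leaf 0)) (.node (.leaf 0x280) (.leaf 0))))) (.node (.node (.node (.node (.leaf 0x9) (.leaf 0x361)) (.node (.leaf 0x112) (.leaf 0))) (.node (.node (.leaf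 0x75) (.leaf 0)) (.node (.leaf 0x234) (.leaf 0)))) (.node (.node (.node (.leaf 0x2c) (.leaf 0x45b)) (.node (.leaf 0x173) (.leaf 0))) (.node (.node (.leaf 0xc2) (.leaf 0)) (.node (.leaf 0x2e3) (.leaf 0)))))) (.node (.node (.node (.node (.node (.leaf 0x3) (.leaf 0x330)) (.node (.leaf 0x109) (.leaf 0))) (.node (.node (.leaf 0x68) (.leaf 0)) (.node (.leaf 0x208) (.leaf 0)))) (.node (.node (.node (.leaf 0x24) (.leaf 0x41e)) (.node (.leaf 0x159) (.leaf 0))) (.node (.node (.leaf 0x98) (.leaf 0)) (.node (.leaf 0x29a) (.leaf 0))))) (.node (.node (.node (.node (.leaf 0x12) (.leaf 0x3aa)) (.node (.leaf 0x11a) (.leaf 0))) (.node (.node (.leaf 0x7f) (.leaf 0)) (.node (.leaf 0x251) (.leaf 0)))) (.node (.node (.node (.leaf 0x3d) (.leaf 0)) (.node (.leaf 0x1be) (.leaf 0))) (.node (.node (.leaf 0xde) (.leaf 0)) (.node (.leaf 0x303) (.leaf 0))))))))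

/-- part of the cover -/
def covB39 : Trie :=
  (.node (.node (.node (.node (.node (.node (.node (.leaf 0x0) (.leaf 0x312)) (.node (.leaf 0xee) (.leaf 0))) (.node (.node (.leaf 0x4d) (.leaf 0)) (.node (.leaf 0x1f2) (.leaf 0)))) (.node (.node (.node (.leaf 0x1c) (.leaf 0x3da)) (.node (.leaf 0x126) (.leaf 0))) (.node (.node (.leaf 0x87) (.leaf 0)) (.node (.leaf 0x276) (.leaf 0))))) (.node (.node (.node (.node (.leaf 0x6) (.leaf 0x34b)) (.node (.leaf 0x10f) (.leaf 0))) (.node (.node (.leaf 0x72) (.leaf 0)) (.node (.leaf 0x22c) (.leaf 0)))) (.node (.node (.node (.leaf 0x2c) (.leaf 0x455)) (.node (.leaf 0x170) (.leaf 0))) (.node (.node (.leaf 0xb3) (.leaf 0)) (.node (.leaf 0x2d5) (.leaf 0)))))) (.node (.node (.node (.node (.node (.leaf 0x3) (.leaf 0x330)) (.node (.leaf 0x109) (.leaf 0))) (.node (.node (.leaf 0x65) (.leaf 0)) (.node (.leaf 0x202) (.leaf 0)))) (.node (.node (.node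 (.leaf 0x21) (.leaf 0x403)) (.node (.leaf 0x14f) (.leaf 0))) (.node (.node (.leaf 0x98) (.leaf 0)) (.node (.leaf 0x28d) (.leaf 0))))) (.node (.node (.node (.node (.leaf 0xf) (.leaf 0x39c)) (.node (.leaf 0x116) (.leaf 0))) (.node (.node (.leaf 0x7a) (.leaf 0)) (.node (.leaf 0x23f) (.leaf 0)))) (.node (.node (.node (.leaf 0x38) (.leaf 0x465)) (.node (.leaf 0x198) (.leaf 0))) (.node (.node (.leaf 0xda) (.leaf 0)) (.node (.leaf 0x303) (.leaf 0))))))) (.node (.node (.node (.node (.node (.node (.leaf 0x2) (.leaf 0x322)) (.node (.leaf 0x101) (.leaf 0))) (.node (.node (.leaf 0x57) (.leaf 0)) (.node (.leaf 0x1fb) (.leaf 0)))) (.node (.node (.node (.leaf 0x1e) (.leaf 0x3f8)) (.node (.leaf 0x144) (.leaf 0))) (.node (.node (.leaf 0x8c) (.leaf 0)) (.node (.leaf 0x280) (.leaf 0))))) (.node (.node (.node (.node (.leaf 0xc) (.leaf 0x36f)) (.node (.leaf 0x113) (.leaf 0))) (.node (.node (.leaf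 0x75) (.leaf 0)) (.node (.leaf 0x239) (.leaf 0)))) (.node (.node (.node (.leaf 0x34) (.leaf 0x463)) (.node (.leaf 0x184) (.leaf 0))) (.node (.node (.leaf 0xc2) (.leaf 0)) (.node (.leaf 0x2e5) (.leaf 0)))))) (.node (.node (.node (.node (.node (.leaf 0x4) (.leaf 0x33b)) (.node (.leaf 0x10b) (.leaf 0))) (.node (.node (.leaf 0x6d) (.leaf 0)) (.node (.leaf 0x20e) (.leaf 0)))) (.node (.node (.node (.leaf 0x24) (.leaf 0x424)) (.node (.leaf 0x15d) (.leaf 0))) (.node (.node (.leaf 0xa9) (.leaf 0)) (.node (.leaf 0x2b6) (.leaf 0))))) (.node (.node (.node (.node (.leaf 0x12) (.leaf 0x3be)) (.node (.leaf 0x120) (.leaf 0))) (.node (.node (.leaf 0x84) (.leaf 0)) (.node (.leaf 0x258) (.leaf 0)))) (.node (.node (.node (.leaf 0x3f) (.leaf 0)) (.node (.leaf 0x1cf) (.leaf 0))) (.node (.node (.leaf 0xe1) (.leaf 0)) (.node (.leaf 0x309) (.leaf 0))))))))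

/-- part of the cover -/
def covB23 : Trie :=
  (.node (.node (.node (.node (.node (.node (.node (.leaf 0x0) (.leaf 0x312)) (.node (.leaf 0xef) (.leaf 0))) (.node (.node (.leaf 0x45) (.leaf 0)) (.node (.leaf 0x1ed) (.leaf 0)))) (.node (.node (.node (.leaf 0x17) (.leaf 0x3ca)) (.node (.leaf 0x128) (.leaf 0))) (.node (.node (.leaf 0x87) (.leaf 0)) (.node (.leaf 0x268) (.leaf 0))))) (.node (.node (.node (.node (.leaf 0x6) (.leaf 0x34b)) (.node (.leaf 0x10f) (.leaf 0))) (.node (.node (.leaf 0x72) (.leaf 0)) (.node (.leaf 0x22a) (.leaf 0)))) (.node (.node (.node (.leaf 0x27) (.leaf 0x43e)) (.node (.leaf 0x168) (.leaf 0))) (.node (.node (.leaf 0xb3) (.leaf 0)) (.node (.leaf 0x2ca) (.leaf 0)))))) (.node (.node (.node (.node (.node (.leaf 0x3) (.leaf 0x32a)) (.node (.leaf 0x104) (.leaf 0))) (.node (.node (.leaf 0x5d) (.leaf 0)) (.node (.leaf 0x1fe) (.leaf 0)))) (.node (.node (.node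 (.leaf 0x21) (.leaf 0x40b)) (.node (.leaf 0x14c) (.leaf 0))) (.node (.node (.leaf 0x91) (.leaf 0)) (.node (.leaf 0x288) (.leaf 0))))) (.node (.node (.node (.node (.leaf 0xf) (.leaf 0x38e)) (.node (.leaf 0x115) (.leaf 0))) (.node (.node (.leaf 0x79) (.leaf 0)) (.node (.leaf 0x23e) (.leaf 0)))) (.node (.node (.node (.leaf 0x38) (.leaf 0x466)) (.node (.leaf 0x1a4) (.leaf 0))) (.node (.node (.leaf 0xd0) (.leaf 0)) (.node (.leaf 0x2f4) (.leaf 0))))))) (.node (.node (.node (.node (.node (.node (.leaf 0x1) (.leaf 0x31e)) (.node (.leaf 0xfd) (.leaf 0))) (.node (.node (.leaf 0x54) (.leaf 0)) (.node (.leaf 0x1f9) (.leaf 0)))) (.node (.node (.node (.leaf 0x1b) (.leaf 0x3e2)) (.node (.leaf 0x139) (.leaf 0))) (.node (.node (.leaf 0x8c) (.leaf 0)) (.node (.leaf 0x281) (.leaf 0))))) (.node (.node (.node (.node (.leaf 0x9) (.leaf 0x36b)) (.node (.leaf 0x111) (.leaf 0))) (.node (.node (.leaf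 0x75) (.leaf 0)) (.node (.leaf 0x238) (.leaf 0)))) (.node (.node (.node (.leaf 0x35) (.leaf 0x45e)) (.node (.leaf 0x17a) (.leaf 0))) (.node (.node (.leaf 0xbf) (.leaf 0)) (.node (.leaf 0x2de) (.leaf 0)))))) (.node (.node (.node (.node (.node (.leaf 0x4) (.leaf 0x33a)) (.node (.leaf 0x10b) (.leaf 0))) (.node (.node (.leaf 0x68) (.leaf 0)) (.node (.leaf 0x206) (.leaf 0)))) (.node (.node (.node (.leaf 0x24) (.leaf 0x42b)) (.node (.leaf 0x158) (.leaf 0))) (.node (.node (.leaf 0xa2) (.leaf 0)) (.node (.leaf 0x297) (.leaf 0))))) (.node (.node (.node (.node (.leaf 0x15) (.leaf 0x3b7)) (.node (.leaf 0x11c) (.leaf 0))) (.node (.node (.leaf 0x7f) (.leaf 0)) (.node (.leaf 0x24a) (.leaf 0)))) (.node (.node (.node (.leaf 0x3d) (.leaf 0)) (.node (.leaf 0x1c9) (.leaf 0))) (.node (.node (.leaf 0xe1) (.leaf 0)) (.node (.leaf 0x30c) (.leaf 0))))))))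

/-- part of the cover -/
def covB55 : Trie :=
  (.node (.node (.node (.node (.node (.node (.node (.leaf 0x1) (.leaf 0x316)) (.node (.leaf 0xfd) (.leaf 0))) (.node (.node (.leaf 0x4d) (.leaf 0)) (.node (.leaf 0x1f2) (.leaf 0)))) (.node (.node (.node (.leaf 0x1c) (.leaf 0x3e0)) (.node (.leaf 0x134) (.leaf 0))) (.node (.node (.leaf 0x87) (.leaf 0)) (.node (.leaf 0x26b) (.leaf 0))))) (.node (.node (.node (.node (.leaf 0x9) (.leaf 0x355)) (.node (.leaf 0x111) (.leaf 0))) (.node (.node (.leaf 0x72) (.leaf 0)) (.node (.leaf 0x231) (.leaf 0)))) (.node (.node (.node (.leaf 0x2b) (.leaf 0x45a)) (.node (.leaf 0x174) (.leaf 0))) (.node (.node (.leaf 0xb1) (.leaf 0)) (.node (.leaf 0x2cd) (.leaf 0)))))) (.node (.node (.node (.node (.node (.leaf 0x3) (.leaf 0x331)) (.node (.leaf 0x106) (.leaf 0))) (.node (.node (.leaf 0x68) (.leaf 0)) (.node (.leaf 0x209) (.leaf 0)))) (.node (.node (.node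 (.leaf 0x21) (.leaf 0x409)) (.node (.leaf 0x148) (.leaf 0))) (.node (.node (.leaf 0x98) (.leaf 0)) (.node (.leaf 0x29b) (.leaf 0))))) (.node (.node (.node (.node (.leaf 0xf) (.leaf 0x3a4)) (.node (.leaf 0x115) (.leaf 0))) (.node (.node (.leaf 0x7e) (.leaf 0)) (.node (.leaf 0x24e) (.leaf 0)))) (.node (.node (.node (.leaf 0x3d) (.leaf 0x466)) (.node (.leaf 0x19a) (.leaf 0))) (.node (.node (.leaf 0xda) (.leaf 0)) (.node (.leaf 0x2fe) (.leaf 0))))))) (.node (.node (.node (.node (.node (.node (.leaf 0x2) (.leaf 0x32b)) (.node (.leaf 0x100) (.leaf 0))) (.node (.node (.leaf 0x50) (.leaf 0)) (.node (.leaf 0x1f7) (.leaf 0)))) (.node (.node (.node (.leaf 0x1e) (.leaf 0x3fe)) (.node (.leaf 0x143) (.leaf 0))) (.node (.node (.leaf 0x91) (.leaf 0)) (.node (.leaf 0x287) (.leaf 0))))) (.node (.node (.node (.node (.leaf 0xc) (.leaf 0x37e)) (.node (.leaf 0x113) (.leaf 0))) (.node (.node (.leaf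 0x75) (.leaf 0)) (.node (.leaf 0x237) (.leaf 0)))) (.node (.node (.node (.leaf 0x32) (.leaf 0x463)) (.node (.leaf 0x18e) (.leaf 0))) (.node (.node (.leaf 0xcb) (.leaf 0)) (.node (.leaf 0x2ef) (.leaf 0)))))) (.node (.node (.node (.node (.node (.leaf 0x4) (.leaf 0x33d)) (.node (.leaf 0x10e) (.leaf 0))) (.node (.node (.leaf 0x70) (.leaf 0)) (.node (.leaf 0x21a) (.leaf 0)))) (.node (.node (.node (.leaf 0x27) (.leaf 0x43a)) (.node (.leaf 0x166) (.leaf 0))) (.node (.node (.leaf 0xa9) (.leaf 0)) (.node (.leaf 0x2ac) (.leaf 0))))) (.node (.node (.node (.node (.leaf 0x17) (.leaf 0x3b5)) (.node (.leaf 0x124) (.leaf 0))) (.node (.node (.leaf 0x82) (.leaf 0)) (.node (.leaf 0x25a) (.leaf 0)))) (.node (.node (.node (.leaf 0x46) (.leaf 0)) (.node (.leaf 0x1de) (.leaf 0))) (.node (.node (.leaf 0xe1) (.leaf 0)) (.node (.leaf 0x30c) (.leaf 0))))))))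

/-- part of the cover -/
def covB15 : Trie :=
  (.node (.node (.node (.node (.node (.node (.node (.leaf 0x0) (.leaf 0x312)) (.node (.leaf 0xf3) (.leaf 0))) (.node (.node (.leaf 0x46) (.leaf 0)) (.node (.leaf 0x1eb) (.leaf 0)))) (.node (.node (.node (.leaf 0x17) (.leaf 0x3d3)) (.node (.leaf 0x124) (.leaf 0))) (.node (.node (.leaf 0x87) (.leaf 0)) (.node (.leaf 0x25b) (.leaf 0))))) (.node (.node (.node (.node (.leaf 0x7) (.leaf 0x34d)) (.node (.leaf 0x10f) (.leaf 0))) (.node (.node (.leaf 0x6d) (.leaf 0)) (.node (.leaf 0x214) (.leaf 0)))) (.node (.node (.node (.leaf 0x27) (.leaf 0x44d)) (.node (.leaf 0x166) (.leaf 0))) (.node (.node (.leaf 0xb2) (.leaf 0)) (.node (.leaf 0x2c3) (.leaf 0)))))) (.node (.node (.node (.node (.node (.leaf 0x2) (.leaf 0x32a)) (.node (.leaf 0x100) (.leaf 0))) (.node (.node (.leaf 0x5c) (.leaf 0)) (.node (.leaf 0x202) (.leaf 0)))) (.node (.node (.node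 (.leaf 0x21) (.leaf 0x404)) (.node (.leaf 0x149) (.leaf 0))) (.node (.node (.leaf 0x91) (.leaf 0)) (.node (.leaf 0x288) (.leaf 0))))) (.node (.node (.node (.node (.leaf 0xc) (.leaf 0x377)) (.node (.leaf 0x114) (.leaf 0))) (.node (.node (.leaf 0x78) (.leaf 0)) (.node (.leaf 0x246) (.leaf 0)))) (.node (.node (.node (.leaf 0x3a) (.leaf 0x465)) (.node (.leaf 0x19b) (.leaf 0))) (.node (.node (.leaf 0xcb) (.leaf 0)) (.node (.leaf 0x2ef) (.leaf 0))))))) (.node (.node (.node (.node (.node (.node (.leaf 0x1) (.leaf 0x31b)) (.node (.leaf 0xfb) (.leaf 0))) (.node (.node (.leaf 0x51) (.leaf 0)) (.node (.leaf 0x1f7) (.leaf 0)))) (.node (.node (.node (.leaf 0x1b) (.leaf 0x3e4)) (.node (.leaf 0x131) (.leaf 0))) (.node (.node (.leaf 0x8c) (.leaf 0)) (.node (.leaf 0x281) (.leaf 0))))) (.node (.node (.node (.node (.leaf 0x9) (.leaf 0x367)) (.node (.leaf 0x112) (.leaf 0))) (.node (.node (.leaf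 0x75) (.leaf 0)) (.node (.leaf 0x238) (.leaf 0)))) (.node (.node (.node (.leaf 0x2d) (.leaf 0x457)) (.node (.leaf 0x172) (.leaf 0))) (.node (.node (.leaf 0xbd) (.leaf 0)) (.node (.leaf 0x2e0) (.leaf 0)))))) (.node (.node (.node (.node (.node (.leaf 0x4) (.leaf 0x337)) (.node (.leaf 0x10b) (.leaf 0))) (.node (.node (.leaf 0x68) (.leaf 0)) (.node (.leaf 0x209) (.leaf 0)))) (.node (.node (.node (.leaf 0x24) (.leaf 0x425)) (.node (.leaf 0x155) (.leaf 0))) (.node (.node (.leaf 0x9e) (.leaf 0)) (.node (.leaf 0x2a5) (.leaf 0))))) (.node (.node (.node (.node (.leaf 0x12) (.leaf 0x3b1)) (.node (.leaf 0x119) (.leaf 0))) (.node (.node (.leaf 0x7d) (.leaf 0)) (.node (.leaf 0x24b) (.leaf 0)))) (.node (.node (.node (.leaf 0x3d) (.leaf 0)) (.node (.leaf 0x1c3) (.leaf 0))) (.node (.node (.leaf 0xdc) (.leaf 0)) (.node (.leaf 0x305) (.leaf 0))))))))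

/-- part of the cover -/
def covB47 : Trie :=
  (.node (.node (.node (.node (.node (.node (.node (.leaf 0x0) (.leaf 0x311)) (.node (.leaf 0xec) (.leaf 0))) (.node (.node (.leaf 0x4c) (.leaf 0)) (.node (.leaf 0x1f2) (.leaf 0)))) (.node (.node (.node (.leaf 0x1c) (.leaf 0x3e0)) (.node (.leaf 0x136) (.leaf 0))) (.node (.node (.leaf 0x87) (.leaf 0)) (.node (.leaf 0x26f) (.leaf 0))))) (.node (.node (.node (.node (.leaf 0x9) (.leaf 0x34b)) (.node (.leaf 0x112) (.leaf 0))) (.node (.node (.leaf 0x72) (.leaf 0)) (.node (.leaf 0x231) (.leaf 0)))) (.node (.node (.node (.leaf 0x2c) (.leaf 0x459)) (.node (.leaf 0x172) (.leaf 0))) (.node (.node (.leaf 0xb3) (.leaf 0)) (.node (.leaf 0x2d2) (.leaf 0)))))) (.node (.node (.node (.node (.node (.leaf 0x3) (.leaf 0x330)) (.node (.leaf 0x106) (.leaf 0))) (.node (.node (.leaf 0x66) (.leaf 0)) (.node (.leaf 0x201) (.leaf 0)))) (.node (.node (.node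 (.leaf 0x21) (.leaf 0x404)) (.node (.leaf 0x149) (.leaf 0))) (.node (.node (.leaf 0x9b) (.leaf 0)) (.node (.leaf 0x295) (.leaf 0))))) (.node (.node (.node (.node (.leaf 0xf) (.leaf 0x396)) (.node (.leaf 0x115) (.leaf 0))) (.node (.node (.leaf 0x7f) (.leaf 0)) (.node (.leaf 0x24b) (.leaf 0)))) (.node (.node (.node (.leaf 0x38) (.leaf 0x465)) (.node (.leaf 0x1ad) (.leaf 0))) (.node (.node (.leaf 0xda) (.leaf 0)) (.node (.leaf 0x304) (.leaf 0))))))) (.node (.node (.node (.node (.node (.node (.leaf 0x2) (.leaf 0x32b)) (.node (.leaf 0x103) (.leaf 0))) (.node (.node (.leaf 0x51) (.leaf 0)) (.node (.leaf 0x1fb) (.leaf 0)))) (.node (.node (.node (.leaf 0x1e) (.leaf 0x3f3)) (.node (.leaf 0x13f) (.leaf 0))) (.node (.node (.leaf 0x8f) (.leaf 0)) (.node (.leaf 0x281) (.leaf 0))))) (.node (.node (.node (.node (.leaf 0xc) (.leaf 0x36d)) (.node (.leaf 0x114) (.leaf 0))) (.node (.node (.leaf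 0x75) (.leaf 0)) (.node (.leaf 0x236) (.leaf 0)))) (.node (.node (.node (.leaf 0x35) (.leaf 0x461)) (.node (.leaf 0x18b) (.leaf 0))) (.node (.node (.leaf 0xc8) (.leaf 0)) (.node (.leaf 0x2e9) (.leaf 0)))))) (.node (.node (.node (.node (.node (.leaf 0x4) (.leaf 0x33c)) (.node (.leaf 0x10e) (.leaf 0))) (.node (.node (.leaf 0x6d) (.leaf 0)) (.node (.leaf 0x216) (.leaf 0)))) (.node (.node (.node (.leaf 0x27) (.leaf 0x434)) (.node (.leaf 0x159) (.leaf 0))) (.node (.node (.leaf 0xa4) (.leaf 0)) (.node (.leaf 0x2ba) (.leaf 0))))) (.node (.node (.node (.node (.leaf 0x12) (.leaf 0x3b8)) (.node (.leaf 0x121) (.leaf 0))) (.node (.node (.leaf 0x82) (.leaf 0)) (.node (.leaf 0x25c) (.leaf 0)))) (.node (.node (.node (.leaf 0x46) (.leaf 0)) (.node (.leaf 0x1d6) (.leaf 0))) (.node (.node (.leaf 0xe1) (.leaf 0)) (.node (.leaf 0x30b) (.leaf 0))))))))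

/-- part of the cover -/
def covB31 : Trie :=
  (.node (.node (.node (.node (.node (.node (.node (.leaf 0x0) (.leaf 0x312)) (.node (.leaf 0xf7) (.leaf 0))) (.node (.node (.leaf 0x4d) (.leaf 0)) (.node (.leaf 0x1f2) (.leaf 0)))) (.node (.node (.node (.leaf 0x1a) (.leaf 0x3d2)) (.node (.leaf 0x12a) (.leaf 0))) (.node (.node (.leaf 0x87) (.leaf 0)) (.node (.leaf 0x26d) (.leaf 0))))) (.node (.node (.node (.node (.leaf 0x6) (.leaf 0x34d)) (.node (.leaf 0x110) (.leaf 0))) (.node (.node (.leaf 0x72) (.leaf 0)) (.node (.leaf 0x230) (.leaf 0)))) (.node (.node (.node (.leaf 0x27) (.leaf 0x43c)) (.node (.leaf 0x169) (.leaf 0))) (.node (.node (.leaf 0xae) (.leaf 0)) (.node (.leaf 0x2d1) (.leaf 0)))))) (.node (.node (.node (.node (.node (.leaf 0x3) (.leaf 0x332)) (.node (.leaf 0x106) (.leaf 0))) (.node (.node (.leaf 0x61) (.leaf 0)) (.node (.leaf 0x202) (.leaf 0)))) (.node (.node (.node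 (.leaf 0x22) (.leaf 0x40c)) (.node (.leaf 0x14f) (.leaf 0))) (.node (.node (.leaf 0x91) (.leaf 0)) (.node (.leaf 0x285) (.leaf 0))))) (.node (.node (.node (.node (.leaf 0xf) (.leaf 0x395)) (.node (.leaf 0x115) (.leaf 0))) (.node (.node (.leaf 0x79) (.leaf 0)) (.node (.leaf 0x240) (.leaf 0)))) (.node (.node (.node (.leaf 0x38) (.leaf 0x465)) (.node (.leaf 0x1a9) (.leaf 0))) (.node (.node (.leaf 0xda) (.leaf 0)) (.node (.leaf 0x2fb) (.leaf 0))))))) (.node (.node (.node (.node (.node (.node (.leaf 0x1) (.leaf 0x327)) (.node (.leaf 0xfc) (.leaf 0))) (.node (.node (.leaf 0x57) (.leaf 0)) (.node (.leaf 0x1fb) (.leaf 0)))) (.node (.node (.node (.leaf 0x1e) (.leaf 0x3f2)) (.node (.leaf 0x140) (.leaf 0))) (.node (.node (.leaf 0x8c) (.leaf 0)) (.node (.leaf 0x280) (.leaf 0))))) (.node (.node (.node (.node (.leaf 0xc) (.leaf 0x356)) (.node (.leaf 0x111) (.leaf 0))) (.node (.node (.leaf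 0x75) (.leaf 0)) (.node (.leaf 0x238) (.leaf 0)))) (.node (.node (.node (.leaf 0x33) (.leaf 0x45d)) (.node (.leaf 0x181) (.leaf 0))) (.node (.node (.leaf 0xba) (.leaf 0)) (.node (.leaf 0x2de) (.leaf 0)))))) (.node (.node (.node (.node (.node (.leaf 0x4) (.leaf 0x342)) (.node (.leaf 0x10e) (.leaf 0))) (.node (.node (.leaf 0x6b) (.leaf 0)) (.node (.leaf 0x209) (.leaf 0)))) (.node (.node (.node (.leaf 0x24) (.leaf 0x427)) (.node (.leaf 0x15a) (.leaf 0))) (.node (.node (.leaf 0xa9) (.leaf 0)) (.node (.leaf 0x2b0) (.leaf 0))))) (.node (.node (.node (.node (.leaf 0x12) (.leaf 0x3bc)) (.node (.leaf 0x11c) (.leaf 0))) (.node (.node (.leaf 0x82) (.leaf 0)) (.node (.leaf 0x256) (.leaf 0)))) (.node (.node (.node (.leaf 0x3d) (.leaf 0)) (.node (.leaf 0x1c3) (.leaf 0))) (.node (.node (.leaf 0xe5) (.leaf 0)) (.node (.leaf 0x30a) (.leaf 0))))))))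

/-- part of the cover -/
def covB63 : Trie :=
  (.node (.node (.node (.node (.node (.node (.node (.leaf 0x1) (.leaf 0x31d)) (.node (.leaf 0xfd) (.leaf 0))) (.node (.node (.leaf 0x49) (.leaf 0)) (.node (.leaf 0x1f2) (.leaf 0)))) (.node (.node (.node (.leaf 0x1b) (.leaf 0x3e7)) (.node (.leaf 0x136) (.leaf 0))) (.node (.node (.leaf 0x89) (.leaf 0)) (.node (.leaf 0x27c) (.leaf 0))))) (.node (.node (.node (.node (.leaf 0x9) (.leaf 0x35b)) (.node (.leaf 0x112) (.leaf 0))) (.node (.node (.leaf 0x72) (.leaf 0)) (.node (.leaf 0x22b) (.leaf 0)))) (.node (.node (.node (.leaf 0x2c) (.leaf 0x45b)) (.node (.leaf 0x173) (.leaf 0))) (.node (.node (.leaf 0xbe) (.leaf 0)) (.node (.leaf 0x2dd) (.leaf 0)))))) (.node (.node (.node (.node (.node (.leaf 0x3) (.leaf 0x332)) (.node (.leaf 0x106) (.leaf 0))) (.node (.node (.leaf 0x68) (.leaf 0)) (.node (.leaf 0x207) (.leaf 0)))) (.node (.node (.node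 (.leaf 0x24) (.leaf 0x409)) (.node (.leaf 0x154) (.leaf 0))) (.node (.node (.leaf 0x9b) (.leaf 0)) (.node (.leaf 0x2a2) (.leaf 0))))) (.node (.node (.node (.node (.leaf 0x10) (.leaf 0x38b)) (.node (.leaf 0x116) (.leaf 0))) (.node (.node (.leaf 0x7f) (.leaf 0)) (.node (.leaf 0x251) (.leaf 0)))) (.node (.node (.node (.leaf 0x3d) (.leaf 0)) (.node (.leaf 0x1b5) (.leaf 0))) (.node (.node (.leaf 0xda) (.leaf 0)) (.node (.leaf 0x303) (.leaf 0))))))) (.node (.node (.node (.node (.node (.node (.leaf 0x2) (.leaf 0x32b)) (.node (.leaf 0x103) (.leaf 0))) (.node (.node (.leaf 0x5c) (.leaf 0)) (.node (.leaf 0x1fb) (.leaf 0)))) (.node (.node (.node (.leaf 0x1e) (.leaf 0x400)) (.node (.leaf 0x13d) (.leaf 0))) (.node (.node (.leaf 0x91) (.leaf 0)) (.node (.leaf 0x288) (.leaf 0))))) (.node (.node (.node (.node (.leaf 0xc) (.leaf 0x384)) (.node (.leaf 0x114) (.leaf 0))) (.node (.node (.leaf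 0x79) (.leaf 0)) (.node (.leaf 0x23e) (.leaf 0)))) (.node (.node (.node (.leaf 0x35) (.leaf 0x460)) (.node (.leaf 0x190) (.leaf 0))) (.node (.node (.leaf 0xcf) (.leaf 0)) (.node (.leaf 0x2f5) (.leaf 0)))))) (.node (.node (.node (.node (.node (.leaf 0x6) (.leaf 0x34b)) (.node (.leaf 0x10f) (.leaf 0))) (.node (.node (.leaf 0x6d) (.leaf 0)) (.node (.leaf 0x222) (.leaf 0)))) (.node (.node (.node (.leaf 0x27) (.leaf 0x442)) (.node (.leaf 0x164) (.leaf 0))) (.node (.node (.leaf 0xa3) (.leaf 0)) (.node (.leaf 0x2b2) (.leaf 0))))) (.node (.node (.node (.node (.leaf 0x19) (.leaf 0x3ce)) (.node (.leaf 0x129) (.leaf 0))) (.node (.node (.leaf 0x82) (.leaf 0)) (.node (.leaf 0x25d) (.leaf 0)))) (.node (.node (.node (.leaf 0x42) (.leaf 0)) (.node (.leaf 0x1e2) (.leaf 0))) (.node (.node (.leaf 0xe6) (.leaf 0)) (.node (.leaf 0x30a) (.leaf 0))))))))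

/-- the cover -/
def covB : Trie :=
  (.node (.node (.node (.node (.node (.node covB0 covB32) (.node covB16 covB48)) (.node (.node covB8 covB40) (.node covB24 covB56))) (.node (.node (.node covB4 covB36) (.node covB20 covB52)) (.node (.node covB12 covB44) (.node covB28 covB60)))) (.node (.node (.node (.node covB2 covB34) (.node covB18 covB50)) (.node (.node covB10 covB42) (.node covB26 covB58))) (.node (.node (.node covB6 covB38) (.node covB22 covB54)) (.node (.node covB14 covB46) (.node covB30 covB62))))) (.node (.node (.node (.node (.node covB1 covB33) (.node covB17 covB49)) (.node (.node covB9 covB41) (.node covB25 covB57))) (.node (.node (.node covB5 covB37) (.node covB21 covB53)) (.node (.node covB13 covB45) (.node covB29 covB61)))) (.node (.node (.node (.node covB3 covB35) (.node covB19 covB51)) (.node (.node covB11 covB43) (.node covB27 covB59))) (.node (.node (.node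 covB7 covB39) (.node covB23 covB55)) (.node (.node covB15 covB47) (.node covB31 covB63))))))

/-- part of the cover -/
def covV0 : Trie :=
  (.node (.node (.node (.node (.node (.node (.node (.leaf 0x0) (.leaf 0x1a001)) (.node (.leaf 0x16000) (.leaf 0))) (.node (.node (.leaf 0x1002000018000) (.leaf 0)) (.node (.leaf 0x0) (.leaf 0)))) (.node (.node (.node (.leaf 0x6) (.leaf 0x1001000)) (.node (.leaf 0x1000000) (.leaf 0))) (.node (.node (.leaf 0x2021000) (.leaf 0)) (.node (.leaf 0x13000) (.leaf 0))))) (.node (.node (.node (.node (.leaf 0x1004016000) (.leaf 0x0)) (.node (.leaf 0x1003002000) (.leaf 0))) (.node (.node (.leaf 0x3026000) (.leaf 0)) (.node (.leaf 0x1000000) (.leaf 0)))) (.node (.node (.node (.leaf 0x3012000) (.leaf 0x0)) (.node (.leaf 0x4000000) (.leaf 0))) (.node (.node (.leaf 0x1003008000) (.leaf 0)) (.node (.leaf 0x0) (.leaf 0)))))) (.node (.node (.node (.node (.node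 (.leaf 0x200501e022) (.leaf 0x13000)) (.node (.leaf 0x1004015000) (.leaf 0))) (.node (.node (.leaf 0x0) (.leaf 0)) (.node (.leaf 0x0) (.leaf 0)))) (.node (.node (.node (.leaf 0x100400401d000) (.leaf 0x0)) (.node (.leaf 0x1001000000) (.leaf 0))) (.node (.node (.leaf 0x18000) (.leaf 0)) (.node (.leaf 0x1004000) (.leaf 0))))) (.node (.node (.node (.node (.leaf 0x100001f) (.leaf 0x18001)) (.node (.leaf 0x3013000) (.leaf 0))) (.node (.node (.leaf 0x1000004007005) (.leaf 0)) (.node (.leaf 0x0) (.leaf 0)))) (.node (.node (.node (.leaf 0x1004004000000) (.leaf 0x1005000000)) (.node (.leaf 0x0) (.leaf 0))) (.node (.node (.leaf 0x1000010003) (.leaf 0)) (.node (.leaf 0x0) (.leaf 0))))))) (.node (.node (.node (.node (.node (.node (.leaf 0x200501e02d) (.leaf 0x0)) (.node (.leaf 0x1003003003) (.leaf 0))) (.node (.node (.leaf 0x4002000000) (.leaf 0)) (.node (.leaf 0x1a000) (.leaf 0)))) (.node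 (.node (.node (.leaf 0x2000007000) (.leaf 0x0)) (.node (.leaf 0x100b000) (.leaf 0))) (.node (.node (.leaf 0x0) (.leaf 0)) (.node (.leaf 0x0) (.leaf 0))))) (.node (.node (.node (.node (.leaf 0x200501e000) (.leaf 0x0)) (.node (.leaf 0xb000) (.leaf 0))) (.node (.node (.leaf 0x100200201f000) (.leaf 0)) (.node (.leaf 0x101d000) (.leaf 0)))) (.node (.node (.node (.leaf 0x3000000000) (.leaf 0x1083)) (.node (.leaf 0x100300d000) (.leaf 0))) (.node (.node (.leaf 0x0) (.leaf 0)) (.node (.leaf 0x0) (.leaf 0)))))) (.node (.node (.node (.node (.node (.leaf 0x1004001008006) (.leaf 0x1a001)) (.node (.leaf 0x1001022000) (.leaf 0))) (.node (.node (.leaf 0x3003021000) (.leaf 0)) (.node (.leaf 0x1017000) (.leaf 0)))) (.node (.node (.node (.leaf 0x0) (.leaf 0x0)) (.node (.leaf 0x200a000) (.leaf 0))) (.node (.node (.leaf 0x1001000000) (.leaf 0)) (.node (.leaf 0x0) (.leaf 0))))) (.node (.node (.node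 (.node (.leaf 0x1001005008006) (.leaf 0x1c001)) (.node (.leaf 0x3003000) (.leaf 0))) (.node (.node (.leaf 0x1003005007005) (.leaf 0)) (.node (.leaf 0x0) (.leaf 0)))) (.node (.node (.node (.leaf 0x3020000) (.leaf 0)) (.node (.leaf 0x0) (.leaf 0))) (.node (.node (.leaf 0x100201a000) (.leaf 0)) (.node (.leaf 0x100d000) (.leaf 0))))))))

/-- part of the cover -/
def covV32 : Trie :=
  (.node (.node (.node (.node (.node (.node (.node (.leaf 0x100100401800c000) (.leaf 0x11001)) (.node (.leaf 0x1000023003) (.leaf 0))) (.node (.node (.leaf 0x4000000) (.leaf 0)) (.node (.leaf 0x0) (.leaf 0)))) (.node (.node (.node (.leaf 0x100100200a027) (.leaf 0x1000000)) (.node (.leaf 0x2000000) (.leaf 0))) (.node (.node (.leaf 0x1003000000) (.leaf 0)) (.node (.leaf 0x0) (.leaf 0))))) (.node (.node (.node (.node (.leaf 0x3000014000) (.leaf 0x9001)) (.node (.leaf 0x400b000) (.leaf 0))) (.node (.node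 (.leaf 0x4005028000) (.leaf 0)) (.node (.leaf 0x12000) (.leaf 0)))) (.node (.node (.node (.leaf 0x0) (.leaf 0x1000000)) (.node (.leaf 0x0) (.leaf 0))) (.node (.node (.leaf 0x201f000) (.leaf 0)) (.node (.leaf 0x1006000) (.leaf 0)))))) (.node (.node (.node (.node (.node (.leaf 0x101b019) (.leaf 0x1b001)) (.node (.leaf 0x100100e003) (.leaf 0))) (.node (.node (.leaf 0x3002000) (.leaf 0)) (.node (.leaf 0x1b000) (.leaf 0)))) (.node (.node (.node (.leaf 0x100400201f000) (.leaf 0x1000)) (.node (.leaf 0x0) (.leaf 0))) (.node (.node (.leaf 0xa000) (.leaf 0)) (.node (.leaf 0x0) (.leaf 0))))) (.node (.node (.node (.node (.leaf 0x1004005010027) (.leaf 0x0)) (.node (.leaf 0x1001009000) (.leaf 0))) (.node (.node (.leaf 0x1004001007005) (.leaf 0)) (.node (.leaf 0x1011000) (.leaf 0)))) (.node (.node (.node (.leaf 0x400001e000) (.leaf 0x1003001229)) (.node (.leaf 0x0) (.leaf 0))) (.node (.node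 (.leaf 0x1011000) (.leaf 0)) (.node (.leaf 0x0) (.leaf 0))))))) (.node (.node (.node (.node (.node (.node (.leaf 0x1000002023020) (.leaf 0x1004001)) (.node (.leaf 0x101d003) (.leaf 0))) (.node (.node (.leaf 0x0) (.leaf 0)) (.node (.leaf 0x1011000) (.leaf 0)))) (.node (.node (.node (.leaf 0x2004014000) (.leaf 0x0)) (.node (.leaf 0x0) (.leaf 0))) (.node (.node (.leaf 0x100401f000) (.leaf 0)) (.node (.leaf 0x101d000) (.leaf 0))))) (.node (.node (.node (.node (.leaf 0x100000200c02c) (.leaf 0x1a001)) (.node (.leaf 0x0) (.leaf 0))) (.node (.node (.leaf 0x5019000) (.leaf 0)) (.node (.leaf 0x11001) (.leaf 0)))) (.node (.node (.node (.leaf 0x3012000) (.leaf 0x1005000000)) (.node (.leaf 0x0) (.leaf 0))) (.node (.node (.leaf 0x1002000000) (.leaf 0)) (.node (.leaf 0x19000) (.leaf 0)))))) (.node (.node (.node (.node (.node (.leaf 0x4005004026) (.leaf 0x0)) (.node (.leaf 0x100401e003) (.leaf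 0))) (.node (.node (.leaf 0x1004002013000) (.leaf 0)) (.node (.leaf 0x19000) (.leaf 0)))) (.node (.node (.node (.leaf 0x1002000) (.leaf 0x0)) (.node (.leaf 0x400f000) (.leaf 0))) (.node (.node (.leaf 0x301f000) (.leaf 0)) (.node (.leaf 0x0) (.leaf 0))))) (.node (.node (.node (.node (.leaf 0x2005013000) (.leaf 0x1b001)) (.node (.leaf 0x1000000) (.leaf 0))) (.node (.node (.leaf 0x0) (.leaf 0)) (.node (.leaf 0x0) (.leaf 0)))) (.node (.node (.node (.leaf 0x1001003019000) (.leaf 0)) (.node (.leaf 0x0) (.leaf 0))) (.node (.node (.leaf 0x1000001000) (.leaf 0)) (.node (.leaf 0x0) (.leaf 0))))))))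

/-- part of the cover -/
def covV16 : Trie :=
  (.node (.node (.node (.node (.node (.node (.node (.leaf 0x300001c008000) (.leaf 0x1012000)) (.node (.leaf 0x2015000) (.leaf 0))) (.node (.node (.leaf 0x1002002010000) (.leaf 0)) (.node (.leaf 0x100b000) (.leaf 0)))) (.node (.node (.node (.leaf 0x1001005011027) (.leaf 0x0)) (.node (.leaf 0x1004000000) (.leaf 0))) (.node (.node (.leaf 0x1003001000) (.leaf 0)) (.node (.leaf 0x0) (.leaf 0))))) (.node (.node (.node (.node (.leaf 0x2025000) (.leaf 0xe000)) (.node (.leaf 0x2009000) (.leaf 0))) (.node (.node (.leaf 0x100000101f000) (.leaf 0)) (.node (.leaf 0x1000000) (.leaf 0)))) (.node (.node (.node (.leaf 0x5022000) (.leaf 0x1000000)) (.node (.leaf 0x1003000000) (.leaf 0))) (.node (.node (.leaf 0x0) (.leaf 0)) (.node (.leaf 0x0) (.leaf 0)))))) (.node (.node (.node (.node (.node (.leaf 0x100000301c009) (.leaf 0x1011001)) (.node (.leaf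 0x1001013003) (.leaf 0))) (.node (.node (.leaf 0x3002003000) (.leaf 0)) (.node (.leaf 0x1018000) (.leaf 0)))) (.node (.node (.node (.leaf 0x1002001025000) (.leaf 0x0)) (.node (.leaf 0x0) (.leaf 0))) (.node (.node (.leaf 0x100101c000) (.leaf 0)) (.node (.leaf 0x1011001) (.leaf 0))))) (.node (.node (.node (.node (.leaf 0x0) (.leaf 0x0)) (.node (.leaf 0x1000008000) (.leaf 0))) (.node (.node (.leaf 0x1000000000000) (.leaf 0)) (.node (.leaf 0x1019000) (.leaf 0)))) (.node (.node (.node (.leaf 0x1004002002000) (.leaf 0x100000028d)) (.node (.leaf 0x0) (.leaf 0))) (.node (.node (.leaf 0x0) (.leaf 0)) (.node (.leaf 0x1d001) (.leaf 0))))))) (.node (.node (.node (.node (.node (.node (.leaf 0x300501700a) (.leaf 0x0)) (.node (.leaf 0x1002013000) (.leaf 0))) (.node (.node (.leaf 0x0) (.leaf 0)) (.node (.leaf 0x0) (.leaf 0)))) (.node (.node (.node (.leaf 0x2000020030) (.leaf 0x1000000)) (.node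 (.leaf 0x1000000000) (.leaf 0))) (.node (.node (.leaf 0x1002022000) (.leaf 0)) (.node (.leaf 0x11000) (.leaf 0))))) (.node (.node (.node (.node (.leaf 0x1001005025000) (.leaf 0x1a001)) (.node (.leaf 0x2004000) (.leaf 0))) (.node (.node (.leaf 0x1003004005000) (.leaf 0)) (.node (.leaf 0x0) (.leaf 0)))) (.node (.node (.node (.leaf 0x0) (.leaf 0x104b)) (.node (.leaf 0x0) (.leaf 0))) (.node (.node (.leaf 0x1002000000) (.leaf 0)) (.node (.leaf 0x3000) (.leaf 0)))))) (.node (.node (.node (.node (.node (.leaf 0x21019) (.leaf 0x0)) (.node (.leaf 0x2001003) (.leaf 0))) (.node (.node (.leaf 0x3002021000) (.leaf 0)) (.node (.leaf 0x17000) (.leaf 0)))) (.node (.node (.node (.leaf 0x3012000) (.leaf 0x1000000)) (.node (.leaf 0x1004018000) (.leaf 0))) (.node (.node (.leaf 0x0) (.leaf 0)) (.node (.leaf 0x0) (.leaf 0))))) (.node (.node (.node (.node (.leaf 0x1000005018000) (.leaf 0x0)) (.node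 (.leaf 0x1002000000) (.leaf 0))) (.node (.node (.leaf 0x4003005) (.leaf 0)) (.node (.leaf 0x0) (.leaf 0)))) (.node (.node (.node (.leaf 0x1004000001000) (.leaf 0)) (.node (.leaf 0x0) (.leaf 0))) (.node (.node (.leaf 0x0) (.leaf 0)) (.node (.leaf 0x0) (.leaf 0))))))))

/-- part of the cover -/
def covV48 : Trie :=
  (.node (.node (.node (.node (.node (.node (.node (.leaf 0x100400101600d000) (.leaf 0x0)) (.node (.leaf 0x1000023003) (.leaf 0))) (.node (.node (.leaf 0x1001002000000) (.leaf 0)) (.node (.leaf 0x18000) (.leaf 0)))) (.node (.node (.node (.leaf 0x201902a) (.leaf 0x0)) (.node (.leaf 0x1004015000) (.leaf 0))) (.node (.node (.leaf 0x300a000) (.leaf 0)) (.node (.leaf 0x1000000) (.leaf 0))))) (.node (.node (.node (.node (.leaf 0x0) (.leaf 0x0)) (.node (.leaf 0x3009000) (.leaf 0))) (.node (.node (.leaf 0x1004018000) (.leaf 0)) (.node (.leaf 0x1d000) (.leaf 0)))) (.node (.node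 (.node (.leaf 0x1003003000000) (.leaf 0x100001d)) (.node (.leaf 0x1003017000) (.leaf 0))) (.node (.node (.leaf 0x301f000) (.leaf 0)) (.node (.leaf 0x1006000) (.leaf 0)))))) (.node (.node (.node (.node (.node (.leaf 0x1000000000010) (.leaf 0x1d001)) (.node (.leaf 0x100201f000) (.leaf 0))) (.node (.node (.leaf 0x0) (.leaf 0)) (.node (.leaf 0x0) (.leaf 0)))) (.node (.node (.node (.leaf 0x400301b000) (.leaf 0x1000)) (.node (.leaf 0x0) (.leaf 0))) (.node (.node (.leaf 0x0) (.leaf 0)) (.node (.leaf 0x0) (.leaf 0))))) (.node (.node (.node (.node (.leaf 0x1001000000) (.leaf 0x1c001)) (.node (.leaf 0x1002009000) (.leaf 0))) (.node (.node (.leaf 0x1001005003000) (.leaf 0)) (.node (.leaf 0x0) (.leaf 0)))) (.node (.node (.node (.leaf 0x100300300c000) (.leaf 0x100000016e)) (.node (.leaf 0x0) (.leaf 0))) (.node (.node (.leaf 0x100200c000) (.leaf 0)) (.node (.leaf 0x101b000) (.leaf 0)))))))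 (.node (.node (.node (.node (.node (.node (.leaf 0x100202400e) (.leaf 0x1006001)) (.node (.leaf 0x2001003) (.leaf 0))) (.node (.node (.leaf 0x0) (.leaf 0)) (.node (.leaf 0x1008000) (.leaf 0)))) (.node (.node (.node (.leaf 0x4003028000) (.leaf 0x0)) (.node (.leaf 0x1001000000) (.leaf 0))) (.node (.node (.leaf 0x1004018000) (.leaf 0)) (.node (.leaf 0xa001) (.leaf 0))))) (.node (.node (.node (.node (.leaf 0x6) (.leaf 0x0)) (.node (.leaf 0x1004004000) (.leaf 0))) (.node (.node (.leaf 0x3004011000) (.leaf 0)) (.node (.leaf 0x1000) (.leaf 0)))) (.node (.node (.node (.leaf 0x1003002012000) (.leaf 0x1004001000)) (.node (.leaf 0x1003000000) (.leaf 0))) (.node (.node (.leaf 0x0) (.leaf 0)) (.node (.leaf 0x0) (.leaf 0)))))) (.node (.node (.node (.node (.node (.leaf 0x21010) (.leaf 0x1000000)) (.node (.leaf 0x1000005003) (.leaf 0))) (.node (.node (.leaf 0x4000007000) (.leaf 0)) (.node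 (.leaf 0x0) (.leaf 0)))) (.node (.node (.node (.leaf 0x1002023000) (.leaf 0x1000000)) (.node (.leaf 0x0) (.leaf 0))) (.node (.node (.leaf 0x1003009000) (.leaf 0)) (.node (.leaf 0x13000) (.leaf 0))))) (.node (.node (.node (.node (.leaf 0x3004022000) (.leaf 0x0)) (.node (.leaf 0x0) (.leaf 0))) (.node (.node (.leaf 0x0) (.leaf 0)) (.node (.leaf 0x101d000) (.leaf 0)))) (.node (.node (.node (.leaf 0x1003000000) (.leaf 0)) (.node (.leaf 0x0) (.leaf 0))) (.node (.node (.leaf 0x100301c000) (.leaf 0)) (.node (.leaf 0x1019000) (.leaf 0))))))))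

/-- part of the cover -/
def covV8 : Trie :=
  (.node (.node (.node (.node (.node (.node (.node (.leaf 0x300501701c000) (.leaf 0x100b001)) (.node (.leaf 0x0) (.leaf 0))) (.node (.node (.leaf 0x4003012000) (.leaf 0)) (.node (.leaf 0x0) (.leaf 0)))) (.node (.node (.node (.leaf 0x4002025027) (.leaf 0x1000000)) (.node (.leaf 0x1003000000) (.leaf 0))) (.node (.node (.leaf 0x400b000) (.leaf 0)) (.node (.leaf 0x7000) (.leaf 0))))) (.node (.node (.node (.node (.leaf 0x100200400d000) (.leaf 0x12001)) (.node (.leaf 0x2017000) (.leaf 0))) (.node (.node (.leaf 0x1002004022000) (.leaf 0)) (.node (.leaf 0x1000000) (.leaf 0)))) (.node (.node (.node (.leaf 0x4020000) (.leaf 0x0)) (.node (.leaf 0x1001000000) (.leaf 0))) (.node (.node (.leaf 0x0) (.leaf 0)) (.node (.leaf 0x17001) (.leaf 0)))))) (.node (.node (.node (.node (.node (.leaf 0x100200201e01b) (.leaf 0x5001)) (.node (.leaf 0x1002009003)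 (.leaf 0))) (.node (.node (.leaf 0x0) (.leaf 0)) (.node (.leaf 0x4000) (.leaf 0)))) (.node (.node (.node (.leaf 0x1002003029000) (.leaf 0x1000)) (.node (.leaf 0x3000000) (.leaf 0))) (.node (.node (.leaf 0x100f000) (.leaf 0)) (.node (.leaf 0x18001) (.leaf 0))))) (.node (.node (.node (.node (.leaf 0x400100200d) (.leaf 0x0)) (.node (.leaf 0x4011000) (.leaf 0))) (.node (.node (.leaf 0x1000000007005) (.leaf 0)) (.node (.leaf 0xd000) (.leaf 0)))) (.node (.node (.node (.leaf 0x0) (.leaf 0x0)) (.node (.leaf 0x0) (.leaf 0))) (.node (.node (.leaf 0x1000010003) (.leaf 0)) (.node (.leaf 0x1d001) (.leaf 0))))))) (.node (.node (.node (.node (.node (.node (.leaf 0x1003005001016) (.leaf 0x13000)) (.node (.leaf 0x400a000) (.leaf 0))) (.node (.node (.leaf 0x3004000000) (.leaf 0)) (.node (.leaf 0x16000) (.leaf 0)))) (.node (.node (.node (.leaf 0x100400201f025) (.leaf 0x1000000)) (.node (.leaf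 0x1004015000) (.leaf 0))) (.node (.node (.leaf 0x4004000) (.leaf 0)) (.node (.leaf 0x100a001) (.leaf 0))))) (.node (.node (.node (.node (.leaf 0x1002002017000) (.leaf 0x0)) (.node (.leaf 0x1004001000) (.leaf 0))) (.node (.node (.leaf 0x1000005019000) (.leaf 0)) (.node (.leaf 0x0) (.leaf 0)))) (.node (.node (.node (.leaf 0x1000000) (.leaf 0x104b)) (.node (.leaf 0x3017000) (.leaf 0))) (.node (.node (.leaf 0x2000000) (.leaf 0)) (.node (.leaf 0x15000) (.leaf 0)))))) (.node (.node (.node (.node (.node (.leaf 0x0) (.leaf 0x101b001)) (.node (.leaf 0x2017003) (.leaf 0))) (.node (.node (.leaf 0x1002005028000) (.leaf 0)) (.node (.leaf 0x8000) (.leaf 0)))) (.node (.node (.node (.leaf 0x200201e000) (.leaf 0x0)) (.node (.leaf 0x0) (.leaf 0))) (.node (.node (.leaf 0x1001000000) (.leaf 0)) (.node (.leaf 0x1000000) (.leaf 0))))) (.node (.node (.node (.node (.leaf 0x0) (.leaf 0x0)) (.node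 (.leaf 0x0) (.leaf 0))) (.node (.node (.leaf 0x1004000007000) (.leaf 0)) (.node (.leaf 0x1002000) (.leaf 0)))) (.node (.node (.node (.leaf 0x300500e000) (.leaf 0)) (.node (.leaf 0x100300d000) (.leaf 0))) (.node (.node (.leaf 0x1003000000) (.leaf 0)) (.node (.leaf 0x14000) (.leaf 0))))))))

/-- part of the cover -/
def covV40 : Trie :=
  (.node (.node (.node (.node (.node (.node (.node (.leaf 0x100400402202d000) (.leaf 0x1003000)) (.node (.leaf 0x1000023003) (.leaf 0))) (.node (.node (.leaf 0x2000000000) (.leaf 0)) (.node (.leaf 0x101a000) (.leaf 0)))) (.node (.node (.node (.leaf 0x300102601d) (.leaf 0x1001000)) (.node (.leaf 0x0) (.leaf 0))) (.node (.node (.leaf 0x3001000) (.leaf 0)) (.node (.leaf 0x1000000) (.leaf 0))))) (.node (.node (.node (.node (.leaf 0x1003003028000) (.leaf 0x1a000)) (.node (.leaf 0x1001013000) (.leaf 0))) (.node (.node (.leaf 0x4004000000) (.leaf 0))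 (.node (.leaf 0x1d000) (.leaf 0)))) (.node (.node (.node (.leaf 0x2000000000) (.leaf 0x0)) (.node (.leaf 0x0) (.leaf 0))) (.node (.node (.leaf 0x1004017000) (.leaf 0)) (.node (.leaf 0x0) (.leaf 0)))))) (.node (.node (.node (.node (.node (.leaf 0x400501b02d) (.leaf 0x0)) (.node (.leaf 0x1000016000) (.leaf 0))) (.node (.node (.leaf 0x1002004028000) (.leaf 0)) (.node (.leaf 0x1016000) (.leaf 0)))) (.node (.node (.node (.leaf 0x3002014000) (.leaf 0x1000000)) (.node (.leaf 0x100b000) (.leaf 0))) (.node (.node (.leaf 0x0) (.leaf 0)) (.node (.leaf 0x0) (.leaf 0))))) (.node (.node (.node (.node (.leaf 0x1001000019027) (.leaf 0x0)) (.node (.leaf 0x1001005000) (.leaf 0))) (.node (.node (.leaf 0x0) (.leaf 0)) (.node (.leaf 0x1019000) (.leaf 0)))) (.node (.node (.node (.leaf 0x100200a000) (.leaf 0x1002000128)) (.node (.leaf 0x1000000) (.leaf 0))) (.node (.node (.leaf 0x100001b000) (.leaf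 0)) (.node (.leaf 0x15000) (.leaf 0))))))) (.node (.node (.node (.node (.node (.node (.leaf 0x21022) (.leaf 0x0)) (.node (.leaf 0x1008000) (.leaf 0))) (.node (.node (.leaf 0x1002000000000) (.leaf 0)) (.node (.leaf 0x1007000) (.leaf 0)))) (.node (.node (.node (.leaf 0x4002028000) (.leaf 0x1001000)) (.node (.leaf 0x2000000) (.leaf 0))) (.node (.node (.leaf 0x100101a000) (.leaf 0)) (.node (.leaf 0x3001) (.leaf 0))))) (.node (.node (.node (.node (.leaf 0x100200100c008) (.leaf 0x0)) (.node (.leaf 0x1001000) (.leaf 0))) (.node (.node (.leaf 0x100000200a000) (.leaf 0)) (.node (.leaf 0x18001) (.leaf 0)))) (.node (.node (.node (.leaf 0x3002010000) (.leaf 0x1004000000)) (.node (.leaf 0x0) (.leaf 0))) (.node (.node (.leaf 0x1001000000) (.leaf 0)) (.node (.leaf 0x3000) (.leaf 0)))))) (.node (.node (.node (.node (.node (.leaf 0x100400001c01b) (.leaf 0x1000000)) (.node (.leaf 0x100400f003)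 (.leaf 0))) (.node (.node (.leaf 0x0) (.leaf 0)) (.node (.leaf 0x0) (.leaf 0)))) (.node (.node (.node (.leaf 0x3002027000) (.leaf 0x1000000)) (.node (.leaf 0x200a000) (.leaf 0))) (.node (.node (.leaf 0x301f000) (.leaf 0)) (.node (.leaf 0x13000) (.leaf 0))))) (.node (.node (.node (.node (.leaf 0x400101b000) (.leaf 0x0)) (.node (.leaf 0x2000000) (.leaf 0))) (.node (.node (.leaf 0x1004014000) (.leaf 0)) (.node (.leaf 0x1007000) (.leaf 0)))) (.node (.node (.node (.leaf 0x0) (.leaf 0)) (.node (.leaf 0x100300d000) (.leaf 0))) (.node (.node (.leaf 0x1001019000) (.leaf 0)) (.node (.leaf 0x17001) (.leaf 0))))))))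

/-- part of the cover -/
def covV24 : Trie :=
  (.node (.node (.node (.node (.node (.node (.node (.leaf 0x3002009007000) (.leaf 0x1a001)) (.node (.leaf 0x2015000) (.leaf 0))) (.node (.node (.leaf 0x0) (.leaf 0)) (.node (.leaf 0x100b000) (.leaf 0)))) (.node (.node (.node (.leaf 0x300001b006) (.leaf 0x1001000)) (.node (.leaf 0x1001000000) (.leaf 0))) (.node (.node (.leaf 0x1002016000) (.leaf 0)) (.node (.leaf 0x0) (.leaf 0))))) (.node (.node (.node (.node (.leaf 0x1003005005000) (.leaf 0xd000)) (.node (.leaf 0x1000001000) (.leaf 0))) (.node (.node (.leaf 0x0) (.leaf 0)) (.node (.leaf 0x0) (.leaf 0)))) (.node (.node (.node (.leaf 0x1000003025000) (.leaf 0x1000000)) (.node (.leaf 0x1000000000) (.leaf 0))) (.node (.node (.leaf 0x1001009000) (.leaf 0)) (.node (.leaf 0x0) (.leaf 0)))))) (.node (.node (.node (.node (.node (.leaf 0x10) (.leaf 0x1018001)) (.node (.leaf 0x0) (.leaf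 0))) (.node (.node (.leaf 0x1002003002000) (.leaf 0)) (.node (.leaf 0x1012000) (.leaf 0)))) (.node (.node (.node (.leaf 0x3004014000) (.leaf 0x0)) (.node (.leaf 0x100b000) (.leaf 0))) (.node (.node (.leaf 0x100300b000) (.leaf 0)) (.node (.leaf 0x1010000) (.leaf 0))))) (.node (.node (.node (.node (.leaf 0x1002018027) (.leaf 0x0)) (.node (.leaf 0x2005000) (.leaf 0))) (.node (.node (.leaf 0x1004000000000) (.leaf 0)) (.node (.leaf 0x1011000) (.leaf 0)))) (.node (.node (.node (.leaf 0x0) (.leaf 0x10030003a5)) (.node (.leaf 0x0) (.leaf 0))) (.node (.node (.leaf 0x0) (.leaf 0)) (.node (.leaf 0x1d001) (.leaf 0))))))) (.node (.node (.node (.node (.node (.node (.leaf 0x1004005025018) (.leaf 0x17001)) (.node (.leaf 0x0) (.leaf 0))) (.node (.node (.leaf 0x1002000000000) (.leaf 0)) (.node (.leaf 0x101d000) (.leaf 0)))) (.node (.node (.node (.leaf 0x0) (.leaf 0x1000)) (.node (.leaf 0x1003017000)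 (.leaf 0))) (.node (.node (.leaf 0x101e000) (.leaf 0)) (.node (.leaf 0x17000) (.leaf 0))))) (.node (.node (.node (.node (.leaf 0x1000005019000) (.leaf 0x1a001)) (.node (.leaf 0x1009000) (.leaf 0))) (.node (.node (.leaf 0x4004000000) (.leaf 0)) (.node (.leaf 0x1000000) (.leaf 0)))) (.node (.node (.node (.leaf 0x3005015000) (.leaf 0x0)) (.node (.leaf 0x0) (.leaf 0))) (.node (.node (.leaf 0x3000000) (.leaf 0)) (.node (.leaf 0x1009000) (.leaf 0)))))) (.node (.node (.node (.node (.node (.leaf 0x100400000d007) (.leaf 0x0)) (.node (.leaf 0x17003) (.leaf 0))) (.node (.node (.leaf 0x3004021000) (.leaf 0)) (.node (.leaf 0x1014000) (.leaf 0)))) (.node (.node (.node (.leaf 0x300401f000) (.leaf 0x0)) (.node (.leaf 0x400f000) (.leaf 0))) (.node (.node (.leaf 0x0) (.leaf 0)) (.node (.leaf 0x0) (.leaf 0))))) (.node (.node (.node (.node (.leaf 0x1004002008000) (.leaf 0x1b001)) (.node (.leaf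 0x0) (.leaf 0))) (.node (.node (.leaf 0x1003007005) (.leaf 0)) (.node (.leaf 0x0) (.leaf 0)))) (.node (.node (.node (.leaf 0x100401c000) (.leaf 0)) (.node (.leaf 0x0) (.leaf 0))) (.node (.node (.leaf 0x2021000) (.leaf 0)) (.node (.leaf 0x101a001) (.leaf 0))))))))

/-- part of the cover -/
def covV56 : Trie :=
  (.node (.node (.node (.node (.node (.node (.node (.leaf 0x6) (.leaf 0x0)) (.node (.leaf 0x1000003) (.leaf 0))) (.node (.node (.leaf 0x1004005000000) (.leaf 0)) (.node (.leaf 0xe000) (.leaf 0)))) (.node (.node (.node (.leaf 0x200101a00a) (.leaf 0x1001000)) (.node (.leaf 0x100300d000) (.leaf 0))) (.node (.node (.leaf 0x100200c000) (.leaf 0)) (.node (.leaf 0x1000000) (.leaf 0))))) (.node (.node (.node (.node (.leaf 0x1003003007000) (.leaf 0x1a001)) (.node (.leaf 0x100000d000) (.leaf 0))) (.node (.node (.leaf 0x1000018000) (.leaf 0)) (.node (.leaf 0x1013000) (.leaf 0))))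 (.node (.node (.node (.leaf 0x1000000000000) (.leaf 0x1083)) (.node (.leaf 0x100b000) (.leaf 0))) (.node (.node (.leaf 0x0) (.leaf 0)) (.node (.leaf 0x1006000) (.leaf 0)))))) (.node (.node (.node (.node (.node (.leaf 0x100400001802b) (.leaf 0x1019000)) (.node (.leaf 0x21003) (.leaf 0))) (.node (.node (.leaf 0x3023000) (.leaf 0)) (.node (.leaf 0x15000) (.leaf 0)))) (.node (.node (.node (.leaf 0x4003029000) (.leaf 0x0)) (.node (.leaf 0x0) (.leaf 0))) (.node (.node (.leaf 0x2000000) (.leaf 0)) (.node (.leaf 0x0) (.leaf 0))))) (.node (.node (.node (.node (.leaf 0x300000201b) (.leaf 0x1c001)) (.node (.leaf 0x1001012000) (.leaf 0))) (.node (.node (.leaf 0x1003003000005) (.leaf 0)) (.node (.leaf 0x1002000) (.leaf 0)))) (.node (.node (.node (.leaf 0x4000002000) (.leaf 0x100030a)) (.node (.leaf 0x0) (.leaf 0))) (.node (.node (.leaf 0x1003017000) (.leaf 0)) (.node (.leaf 0x1017000)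 (.leaf 0))))))) (.node (.node (.node (.node (.node (.node (.leaf 0x4003025022) (.leaf 0x7001)) (.node (.leaf 0x100d003) (.leaf 0))) (.node (.node (.leaf 0x0) (.leaf 0)) (.node (.leaf 0x1a000) (.leaf 0)))) (.node (.node (.node (.leaf 0x5015000) (.leaf 0x0)) (.node (.leaf 0x1003000000) (.leaf 0))) (.node (.node (.leaf 0x0) (.leaf 0)) (.node (.leaf 0x101b001) (.leaf 0))))) (.node (.node (.node (.node (.leaf 0x300302702c) (.leaf 0x18001)) (.node (.leaf 0x1012000) (.leaf 0))) (.node (.node (.leaf 0x0) (.leaf 0)) (.node (.leaf 0x1018001) (.leaf 0)))) (.node (.node (.node (.leaf 0x1003000010000) (.leaf 0x1003000000)) (.node (.leaf 0x0) (.leaf 0))) (.node (.node (.leaf 0x0) (.leaf 0)) (.node (.leaf 0x0) (.leaf 0)))))) (.node (.node (.node (.node (.node (.leaf 0x4005021022) (.leaf 0x101d001)) (.node (.leaf 0x1002004003) (.leaf 0))) (.node (.node (.leaf 0x400200b000) (.leaf 0)) (.node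 (.leaf 0x0) (.leaf 0)))) (.node (.node (.node (.leaf 0x100200400b000) (.leaf 0x0)) (.node (.leaf 0x2000000) (.leaf 0))) (.node (.node (.leaf 0x1003008000) (.leaf 0)) (.node (.leaf 0x17001) (.leaf 0))))) (.node (.node (.node (.node (.leaf 0x0) (.leaf 0x0)) (.node (.leaf 0x0) (.leaf 0))) (.node (.node (.leaf 0x200f000) (.leaf 0)) (.node (.leaf 0x1012000) (.leaf 0)))) (.node (.node (.node (.leaf 0x1004005012000) (.leaf 0)) (.node (.leaf 0x0) (.leaf 0))) (.node (.node (.leaf 0x1003014000) (.leaf 0)) (.node (.leaf 0x101d001) (.leaf 0))))))))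

/-- part of the cover -/
def covV4 : Trie :=
  (.node (.node (.node (.node (.node (.node (.node (.leaf 0x100500500d000) (.leaf 0x0)) (.node (.leaf 0x0) (.leaf 0))) (.node (.node (.leaf 0x3012000) (.leaf 0)) (.node (.leaf 0x0) (.leaf 0)))) (.node (.node (.node (.leaf 0x300000f006) (.leaf 0x1001000)) (.node (.leaf 0x1000000) (.leaf 0))) (.node (.node (.leaf 0xa000) (.leaf 0)) (.node (.leaf 0x1013000) (.leaf 0))))) (.node (.node (.node (.node (.leaf 0x1003026000) (.leaf 0x100a001)) (.node (.leaf 0x1000014000) (.leaf 0))) (.node (.node (.leaf 0x1002000025000) (.leaf 0)) (.node (.leaf 0x1000000) (.leaf 0)))) (.node (.node (.node (.leaf 0x4002002000) (.leaf 0x0)) (.node (.leaf 0x1002000000) (.leaf 0))) (.node (.node (.leaf 0x1000000) (.leaf 0)) (.node (.leaf 0x13000) (.leaf 0)))))) (.node (.node (.node (.node (.node (.leaf 0x200501e006) (.leaf 0x11001)) (.node (.leaf 0x200e003)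 (.leaf 0))) (.node (.node (.leaf 0x4028000) (.leaf 0)) (.node (.leaf 0x0) (.leaf 0)))) (.node (.node (.node (.leaf 0x1004003004000) (.leaf 0x1000000)) (.node (.leaf 0x1002000000) (.leaf 0))) (.node (.node (.leaf 0x1001008000) (.leaf 0)) (.node (.leaf 0x1017001) (.leaf 0))))) (.node (.node (.node (.node (.leaf 0x100000401100f) (.leaf 0x18001)) (.node (.leaf 0x2018000) (.leaf 0))) (.node (.node (.leaf 0x1001005007005) (.leaf 0)) (.node (.leaf 0x1011000) (.leaf 0)))) (.node (.node (.node (.leaf 0x0) (.leaf 0x1005001000)) (.node (.leaf 0x0) (.leaf 0))) (.node (.node (.leaf 0x1000000000) (.leaf 0)) (.node (.leaf 0x101d001) (.leaf 0))))))) (.node (.node (.node (.node (.node (.node (.leaf 0x200501e010) (.leaf 0x0)) (.node (.leaf 0x101c000) (.leaf 0))) (.node (.node (.leaf 0x1001004000000) (.leaf 0)) (.node (.leaf 0x6000) (.leaf 0)))) (.node (.node (.node (.leaf 0x3002024017) (.leaf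 0x1000)) (.node (.leaf 0x100300d000) (.leaf 0))) (.node (.node (.leaf 0x0) (.leaf 0)) (.node (.leaf 0x0) (.leaf 0))))) (.node (.node (.node (.node (.leaf 0x400101a000) (.leaf 0x0)) (.node (.leaf 0x1002016000) (.leaf 0))) (.node (.node (.leaf 0x4002015000) (.leaf 0)) (.node (.leaf 0x7000) (.leaf 0)))) (.node (.node (.node (.leaf 0x1001004000000) (.leaf 0x1011)) (.node (.leaf 0x1003017000) (.leaf 0))) (.node (.node (.leaf 0x1004000000) (.leaf 0)) (.node (.leaf 0x1012000) (.leaf 0)))))) (.node (.node (.node (.node (.node (.leaf 0x200101a021) (.leaf 0x10000)) (.node (.leaf 0x301f003) (.leaf 0))) (.node (.node (.leaf 0x0) (.leaf 0)) (.node (.leaf 0x16000) (.leaf 0)))) (.node (.node (.node (.leaf 0x1016000) (.leaf 0x0)) (.node (.leaf 0x100400a000) (.leaf 0))) (.node (.node (.leaf 0x2000000) (.leaf 0)) (.node (.leaf 0x1000000) (.leaf 0))))) (.node (.node (.node (.node (.leaf 0x3001025000)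 (.leaf 0x1c001)) (.node (.leaf 0x0) (.leaf 0))) (.node (.node (.leaf 0x1003005007000) (.leaf 0)) (.node (.leaf 0x1006000) (.leaf 0)))) (.node (.node (.node (.leaf 0x1001004022000) (.leaf 0)) (.node (.leaf 0x0) (.leaf 0))) (.node (.node (.leaf 0x1003000000) (.leaf 0)) (.node (.leaf 0x14000) (.leaf 0))))))))

/-- part of the cover -/
def covV36 : Trie :=
  (.node (.node (.node (.node (.node (.node (.node (.leaf 0x100200300402f000) (.leaf 0x5001)) (.node (.leaf 0x300d003) (.leaf 0))) (.node (.node (.leaf 0x1002003000000) (.leaf 0)) (.node (.leaf 0xd000) (.leaf 0)))) (.node (.node (.node (.leaf 0x3005012027) (.leaf 0x1000)) (.node (.leaf 0x1000000000) (.leaf 0))) (.node (.node (.leaf 0x1010000) (.leaf 0)) (.node (.leaf 0x0) (.leaf 0))))) (.node (.node (.node (.node (.leaf 0x1003002020000) (.leaf 0x3001)) (.node (.leaf 0x100100a000) (.leaf 0))) (.node (.node (.leaf 0x4004013000)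 (.leaf 0)) (.node (.leaf 0x101d000) (.leaf 0)))) (.node (.node (.node (.leaf 0x0) (.leaf 0x0)) (.node (.leaf 0x0) (.leaf 0))) (.node (.node (.leaf 0x1001008000) (.leaf 0)) (.node (.leaf 0x1006000) (.leaf 0)))))) (.node (.node (.node (.node (.node (.leaf 0x400501b010) (.leaf 0x10000)) (.node (.leaf 0x1013000) (.leaf 0))) (.node (.node (.leaf 0x3002000) (.leaf 0)) (.node (.leaf 0x1013000) (.leaf 0)))) (.node (.node (.node (.leaf 0x1003003021000) (.leaf 0x0)) (.node (.leaf 0x3017000) (.leaf 0))) (.node (.node (.leaf 0x0) (.leaf 0)) (.node (.leaf 0x101a001) (.leaf 0))))) (.node (.node (.node (.node (.leaf 0x4003025006) (.leaf 0x0)) (.node (.leaf 0x1003000000) (.leaf 0))) (.node (.node (.leaf 0x4001000000) (.leaf 0)) (.node (.leaf 0x0) (.leaf 0)))) (.node (.node (.node (.leaf 0x100501d000) (.leaf 0x40010dd)) (.node (.leaf 0x0) (.leaf 0))) (.node (.node (.leaf 0x0) (.leaf 0)) (.node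 (.leaf 0x0) (.leaf 0))))))) (.node (.node (.node (.node (.node (.node (.leaf 0x0) (.leaf 0x17001)) (.node (.leaf 0x100100d000) (.leaf 0))) (.node (.node (.leaf 0x1003000000000) (.leaf 0)) (.node (.leaf 0x1001000) (.leaf 0)))) (.node (.node (.node (.leaf 0x1003005020000) (.leaf 0x0)) (.node (.leaf 0x1000000) (.leaf 0))) (.node (.node (.leaf 0x1001010000) (.leaf 0)) (.node (.leaf 0x9001) (.leaf 0))))) (.node (.node (.node (.node (.leaf 0x300300e) (.leaf 0x0)) (.node (.leaf 0x1004008000) (.leaf 0))) (.node (.node (.leaf 0x3004010000) (.leaf 0)) (.node (.leaf 0x11001) (.leaf 0)))) (.node (.node (.node (.leaf 0x1000004010000) (.leaf 0x0)) (.node (.leaf 0x1003000000) (.leaf 0))) (.node (.node (.leaf 0x1004000000) (.leaf 0)) (.node (.leaf 0x101b000) (.leaf 0)))))) (.node (.node (.node (.node (.node (.leaf 0x400201f022) (.leaf 0x1000000)) (.node (.leaf 0x3010003) (.leaf 0))) (.node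 (.node (.leaf 0x3004029000) (.leaf 0)) (.node (.leaf 0x0) (.leaf 0)))) (.node (.node (.node (.leaf 0x1004004022000) (.leaf 0x1000000)) (.node (.leaf 0x200a000) (.leaf 0))) (.node (.node (.leaf 0x1003008000) (.leaf 0)) (.node (.leaf 0x0) (.leaf 0))))) (.node (.node (.node (.node (.leaf 0x4002008000) (.leaf 0x1b001)) (.node (.leaf 0x1004000000) (.leaf 0))) (.node (.node (.leaf 0x3018000) (.leaf 0)) (.node (.leaf 0x0) (.leaf 0)))) (.node (.node (.node (.leaf 0x1000005011000) (.leaf 0)) (.node (.leaf 0x0) (.leaf 0))) (.node (.node (.leaf 0x0) (.leaf 0)) (.node (.leaf 0xe000) (.leaf 0))))))))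

/-- part of the cover -/
def covV20 : Trie :=
  (.node (.node (.node (.node (.node (.node (.node (.leaf 0x100300000500d000) (.leaf 0x7001)) (.node (.leaf 0x0) (.leaf 0))) (.node (.node (.leaf 0x1002005015000) (.leaf 0)) (.node (.leaf 0x100b000) (.leaf 0)))) (.node (.node (.node (.leaf 0x2001003006) (.leaf 0x1000000)) (.node (.leaf 0x1003000000) (.leaf 0))) (.node (.node (.leaf 0x0) (.leaf 0)) (.node (.leaf 0x0) (.leaf 0))))) (.node (.node (.node (.node (.leaf 0x3001012000) (.leaf 0x17000)) (.node (.leaf 0x1003013000) (.leaf 0))) (.node (.node (.leaf 0x0) (.leaf 0)) (.node (.leaf 0x0) (.leaf 0)))) (.node (.node (.node (.leaf 0x100400201a000) (.leaf 0x1000000)) (.node (.leaf 0x1000000000) (.leaf 0))) (.node (.node (.leaf 0x1001008000) (.leaf 0)) (.node (.leaf 0x0) (.leaf 0)))))) (.node (.node (.node (.node (.node (.leaf 0x2003022022) (.leaf 0x0)) (.node (.leaf 0x100401f000)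 (.leaf 0))) (.node (.node (.leaf 0x100301e000) (.leaf 0)) (.node (.leaf 0x1012000) (.leaf 0)))) (.node (.node (.node (.leaf 0x100200400c000) (.leaf 0x0)) (.node (.leaf 0x0) (.leaf 0))) (.node (.node (.leaf 0x3000) (.leaf 0)) (.node (.leaf 0x1001000) (.leaf 0))))) (.node (.node (.node (.node (.leaf 0x0) (.leaf 0x0)) (.node (.leaf 0x100000e000) (.leaf 0))) (.node (.node (.leaf 0x2005000000) (.leaf 0)) (.node (.leaf 0x1c000) (.leaf 0)))) (.node (.node (.node (.leaf 0x1003001016000) (.leaf 0x400037a)) (.node (.leaf 0x0) (.leaf 0))) (.node (.node (.leaf 0x1000000000) (.leaf 0)) (.node (.leaf 0x101d001) (.leaf 0))))))) (.node (.node (.node (.node (.node (.node (.leaf 0x4001023016) (.leaf 0x13000)) (.node (.leaf 0x4018003) (.leaf 0))) (.node (.node (.leaf 0x0) (.leaf 0)) (.node (.leaf 0x1005000) (.leaf 0)))) (.node (.node (.node (.leaf 0x100200301b020) (.leaf 0x1000000)) (.node (.leaf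 0x100100b000) (.leaf 0))) (.node (.node (.leaf 0x0) (.leaf 0)) (.node (.leaf 0xe000) (.leaf 0))))) (.node (.node (.node (.node (.leaf 0x4005018000) (.leaf 0x0)) (.node (.leaf 0x400f000) (.leaf 0))) (.node (.node (.leaf 0x2001010000) (.leaf 0)) (.node (.leaf 0x1b001) (.leaf 0)))) (.node (.node (.node (.leaf 0x0) (.leaf 0x1011)) (.node (.leaf 0x0) (.leaf 0))) (.node (.node (.leaf 0x1002000000) (.leaf 0)) (.node (.leaf 0x15000) (.leaf 0)))))) (.node (.node (.node (.node (.node (.leaf 0x3) (.leaf 0x0)) (.node (.leaf 0x1004017000) (.leaf 0))) (.node (.node (.leaf 0x1001002013000) (.leaf 0)) (.node (.leaf 0x100e000) (.leaf 0)))) (.node (.node (.node (.leaf 0x1004003009000) (.leaf 0x0)) (.node (.leaf 0x1001001000) (.leaf 0))) (.node (.node (.leaf 0x0) (.leaf 0)) (.node (.leaf 0x1000000) (.leaf 0))))) (.node (.node (.node (.node (.leaf 0x1000003016000) (.leaf 0x1b001)) (.node (.leaf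 0x4000000) (.leaf 0))) (.node (.node (.leaf 0x1000005003005) (.leaf 0)) (.node (.leaf 0x100b000) (.leaf 0)))) (.node (.node (.node (.leaf 0x1000003023000) (.leaf 0)) (.node (.leaf 0x0) (.leaf 0))) (.node (.node (.leaf 0x0) (.leaf 0)) (.node (.leaf 0x0) (.leaf 0))))))))

/-- part of the cover -/
def covV52 : Trie :=
  (.node (.node (.node (.node (.node (.node (.node (.leaf 0x101b02d) (.leaf 0x1018001)) (.node (.leaf 0x0) (.leaf 0))) (.node (.node (.leaf 0x5000000) (.leaf 0)) (.node (.leaf 0x1d000) (.leaf 0)))) (.node (.node (.node (.leaf 0x100200401100c) (.leaf 0x0)) (.node (.leaf 0x3017000) (.leaf 0))) (.node (.node (.leaf 0x3011000) (.leaf 0)) (.node (.leaf 0x1000000) (.leaf 0))))) (.node (.node (.node (.node (.leaf 0x100100201b000) (.leaf 0x0)) (.node (.leaf 0x300b000) (.leaf 0))) (.node (.node (.leaf 0x1004005003000) (.leaf 0)) (.node (.leaf 0x1007000) (.leaf 0)))) (.node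 (.node (.node (.leaf 0x2004000000) (.leaf 0x104b)) (.node (.leaf 0x100300d000) (.leaf 0))) (.node (.node (.leaf 0x0) (.leaf 0)) (.node (.leaf 0x0) (.leaf 0)))))) (.node (.node (.node (.node (.node (.leaf 0x1002002021005) (.leaf 0x1d001)) (.node (.leaf 0x1001002003) (.leaf 0))) (.node (.node (.leaf 0x0) (.leaf 0)) (.node (.leaf 0x0) (.leaf 0)))) (.node (.node (.node (.leaf 0x400200e000) (.leaf 0x0)) (.node (.leaf 0x1003017000) (.leaf 0))) (.node (.node (.leaf 0x1004000000) (.leaf 0)) (.node (.leaf 0x0) (.leaf 0))))) (.node (.node (.node (.node (.leaf 0x1001001028029) (.leaf 0x0)) (.node (.leaf 0x1002002000) (.leaf 0))) (.node (.node (.leaf 0x100100400f000) (.leaf 0)) (.node (.leaf 0x0) (.leaf 0)))) (.node (.node (.node (.leaf 0x13000) (.leaf 0x1198)) (.node (.leaf 0x0) (.leaf 0))) (.node (.node (.leaf 0x100001a000) (.leaf 0)) (.node (.leaf 0x0) (.leaf 0))))))) (.node (.node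 (.node (.node (.node (.node (.leaf 0x1002005026002) (.leaf 0x1012000)) (.node (.leaf 0x201a000) (.leaf 0))) (.node (.node (.leaf 0x1004000000000) (.leaf 0)) (.node (.leaf 0x101b000) (.leaf 0)))) (.node (.node (.node (.leaf 0x1002003002000) (.leaf 0x1001000)) (.node (.leaf 0x1002000000) (.leaf 0))) (.node (.node (.leaf 0x1012000) (.leaf 0)) (.node (.leaf 0x0) (.leaf 0))))) (.node (.node (.node (.node (.leaf 0x2004025013) (.leaf 0x18001)) (.node (.leaf 0x3009000) (.leaf 0))) (.node (.node (.leaf 0x1000002015000) (.leaf 0)) (.node (.leaf 0x0) (.leaf 0)))) (.node (.node (.node (.leaf 0x1001002000000) (.leaf 0x1000000000)) (.node (.leaf 0x1003000000) (.leaf 0))) (.node (.node (.leaf 0x0) (.leaf 0)) (.node (.leaf 0x0) (.leaf 0)))))) (.node (.node (.node (.node (.node (.leaf 0x1004004026009) (.leaf 0x1000000)) (.node (.leaf 0x4007000) (.leaf 0))) (.node (.node (.leaf 0x300100f000)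 (.leaf 0)) (.node (.leaf 0x0) (.leaf 0)))) (.node (.node (.node (.leaf 0x100400100e000) (.leaf 0x0)) (.node (.leaf 0x0) (.leaf 0))) (.node (.node (.leaf 0x1001009000) (.leaf 0)) (.node (.leaf 0x0) (.leaf 0))))) (.node (.node (.node (.node (.leaf 0x0) (.leaf 0x1b001)) (.node (.leaf 0x2000000) (.leaf 0))) (.node (.node (.leaf 0x1004011000) (.leaf 0)) (.node (.leaf 0x1007000) (.leaf 0)))) (.node (.node (.node (.leaf 0x2001018000) (.leaf 0)) (.node (.leaf 0x0) (.leaf 0))) (.node (.node (.leaf 0x1001004000) (.leaf 0)) (.node (.leaf 0x1004000) (.leaf 0))))))))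

/-- part of the cover -/
def covV12 : Trie :=
  (.node (.node (.node (.node (.node (.node (.node (.leaf 0x100300401e01a000) (.leaf 0x1006001)) (.node (.leaf 0x0) (.leaf 0))) (.node (.node (.leaf 0x4005010000) (.leaf 0)) (.node (.leaf 0x0) (.leaf 0)))) (.node (.node (.node (.leaf 0x1000003008025) (.leaf 0x0)) (.node (.leaf 0x4000000) (.leaf 0))) (.node (.node (.leaf 0x100100e000) (.leaf 0)) (.node (.leaf 0x0) (.leaf 0))))) (.node (.node (.node (.node (.leaf 0x200501e000) (.leaf 0x11000)) (.node (.leaf 0x1002013000) (.leaf 0))) (.node (.node (.leaf 0x1004003002000) (.leaf 0)) (.node (.leaf 0x1000000) (.leaf 0)))) (.node (.node (.node (.leaf 0x1004019000) (.leaf 0x0)) (.node (.leaf 0x1003000000) (.leaf 0))) (.node (.node (.leaf 0x0) (.leaf 0)) (.node (.leaf 0x0) (.leaf 0)))))) (.node (.node (.node (.node (.node (.leaf 0x100200101602d) (.leaf 0x1003000)) (.node (.leaf 0x3017000)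 (.leaf 0))) (.node (.node (.leaf 0x1002004028000) (.leaf 0)) (.node (.leaf 0xc000) (.leaf 0)))) (.node (.node (.node (.leaf 0x3003021000) (.leaf 0x1001000)) (.node (.leaf 0x0) (.leaf 0))) (.node (.node (.leaf 0x300f000) (.leaf 0)) (.node (.leaf 0x1004000) (.leaf 0))))) (.node (.node (.node (.node (.leaf 0x100400201c028) (.leaf 0x18001)) (.node (.leaf 0x2013000) (.leaf 0))) (.node (.node (.leaf 0x1002002000000) (.leaf 0)) (.node (.leaf 0x1006000) (.leaf 0)))) (.node (.node (.node (.leaf 0x100100300f000) (.leaf 0x130a)) (.node (.leaf 0x0) (.leaf 0))) (.node (.node (.leaf 0x10003) (.leaf 0)) (.node (.leaf 0x1d001) (.leaf 0))))))) (.node (.node (.node (.node (.node (.node (.leaf 0x100100000d02d) (.leaf 0x13000)) (.node (.leaf 0x3016000) (.leaf 0))) (.node (.node (.leaf 0x0) (.leaf 0)) (.node (.leaf 0x0) (.leaf 0)))) (.node (.node (.node (.leaf 0x1003012017) (.leaf 0x1000000))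 (.node (.leaf 0x1000000000) (.leaf 0))) (.node (.node (.leaf 0x400b000) (.leaf 0)) (.node (.leaf 0x12001) (.leaf 0))))) (.node (.node (.node (.node (.leaf 0x1002005006000) (.leaf 0x0)) (.node (.leaf 0x1002006000) (.leaf 0))) (.node (.node (.leaf 0x100000101b000) (.leaf 0)) (.node (.leaf 0x101b001) (.leaf 0)))) (.node (.node (.node (.leaf 0x1003002000000) (.leaf 0x100001d)) (.node (.leaf 0x3017000) (.leaf 0))) (.node (.node (.leaf 0x1003000000) (.leaf 0)) (.node (.leaf 0x101b000) (.leaf 0)))))) (.node (.node (.node (.node (.node (.leaf 0x101b022) (.leaf 0x0)) (.node (.leaf 0x8003) (.leaf 0))) (.node (.node (.leaf 0x100200101f000) (.leaf 0)) (.node (.leaf 0x1d000) (.leaf 0)))) (.node (.node (.node (.leaf 0x2029000) (.leaf 0x0)) (.node (.leaf 0x1004018000) (.leaf 0))) (.node (.node (.leaf 0x4000000) (.leaf 0)) (.node (.leaf 0x1000000) (.leaf 0))))) (.node (.node (.node (.node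 (.leaf 0x1001004012000) (.leaf 0x0)) (.node (.leaf 0x0) (.leaf 0))) (.node (.node (.leaf 0x1003005007005) (.leaf 0)) (.node (.leaf 0x1c000) (.leaf 0)))) (.node (.node (.node (.leaf 0x100100401c000) (.leaf 0)) (.node (.leaf 0x0) (.leaf 0))) (.node (.node (.leaf 0x100a000) (.leaf 0)) (.node (.leaf 0x101b000) (.leaf 0))))))))

/-- part of the cover -/
def covV44 : Trie :=
  (.node (.node (.node (.node (.node (.node (.node (.leaf 0x300100902a000) (.leaf 0x1011001)) (.node (.leaf 0x2015000) (.leaf 0))) (.node (.node (.leaf 0x1000000000) (.leaf 0)) (.node (.leaf 0x5000) (.leaf 0)))) (.node (.node (.node (.leaf 0x300401e02a) (.leaf 0x0)) (.node (.leaf 0x0) (.leaf 0))) (.node (.node (.leaf 0x100400e000) (.leaf 0)) (.node (.leaf 0x1000000) (.leaf 0))))) (.node (.node (.node (.node (.leaf 0x0) (.leaf 0xa001)) (.node (.leaf 0x1002002000) (.leaf 0))) (.node (.node (.leaf 0x1003003013000)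 (.leaf 0)) (.node (.leaf 0x1013000) (.leaf 0)))) (.node (.node (.node (.leaf 0x1001005000000) (.leaf 0x0)) (.node (.leaf 0x100b000) (.leaf 0))) (.node (.node (.leaf 0x1003008000) (.leaf 0)) (.node (.leaf 0x1006000) (.leaf 0)))))) (.node (.node (.node (.node (.node (.leaf 0x100400502502b) (.leaf 0x1000)) (.node (.leaf 0x100200b003) (.leaf 0))) (.node (.node (.leaf 0x100301e000) (.leaf 0)) (.node (.leaf 0x1003000) (.leaf 0)))) (.node (.node (.node (.leaf 0x1002001000) (.leaf 0x1001000)) (.node (.leaf 0x100100b000) (.leaf 0))) (.node (.node (.leaf 0x0) (.leaf 0)) (.node (.leaf 0x0) (.leaf 0))))) (.node (.node (.node (.node (.leaf 0x100001000d) (.leaf 0x1c001)) (.node (.leaf 0x1003017000) (.leaf 0))) (.node (.node (.leaf 0x0) (.leaf 0)) (.node (.leaf 0x0) (.leaf 0)))) (.node (.node (.node (.leaf 0x1001005021000) (.leaf 0x10040003a4)) (.node (.leaf 0x0) (.leaf 0))) (.node (.node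 (.leaf 0x1001012000) (.leaf 0)) (.node (.leaf 0x0) (.leaf 0))))))) (.node (.node (.node (.node (.node (.node (.leaf 0x1000000000001) (.leaf 0x100b001)) (.node (.leaf 0x0) (.leaf 0))) (.node (.node (.leaf 0x3000000000) (.leaf 0)) (.node (.leaf 0x100d000) (.leaf 0)))) (.node (.node (.node (.leaf 0x1003001000000) (.leaf 0x1000)) (.node (.leaf 0x1001000000) (.leaf 0))) (.node (.node (.leaf 0x1004014000) (.leaf 0)) (.node (.leaf 0x1a000) (.leaf 0))))) (.node (.node (.node (.node (.leaf 0x1003000021) (.leaf 0x0)) (.node (.leaf 0x1001017000) (.leaf 0))) (.node (.node (.leaf 0x1004004020000) (.leaf 0)) (.node (.leaf 0x10000) (.leaf 0)))) (.node (.node (.node (.leaf 0x1001012000) (.leaf 0x1004001000)) (.node (.leaf 0x0) (.leaf 0))) (.node (.node (.leaf 0x0) (.leaf 0)) (.node (.leaf 0x19000) (.leaf 0)))))) (.node (.node (.node (.node (.node (.leaf 0x1004001008006) (.leaf 0x101d001))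 (.node (.leaf 0x3008000) (.leaf 0))) (.node (.node (.leaf 0x1000004000) (.leaf 0)) (.node (.leaf 0x0) (.leaf 0)))) (.node (.node (.node (.leaf 0x1002003028000) (.leaf 0x0)) (.node (.leaf 0x200a000) (.leaf 0))) (.node (.node (.leaf 0x301f000) (.leaf 0)) (.node (.leaf 0x0) (.leaf 0))))) (.node (.node (.node (.node (.leaf 0x1002002005000) (.leaf 0x1b001)) (.node (.leaf 0x2000000) (.leaf 0))) (.node (.node (.leaf 0x1003003000) (.leaf 0)) (.node (.leaf 0x1007000) (.leaf 0)))) (.node (.node (.node (.leaf 0x0) (.leaf 0)) (.node (.leaf 0x0) (.leaf 0))) (.node (.node (.leaf 0x1004012000) (.leaf 0)) (.node (.leaf 0x101a001) (.leaf 0))))))))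

/-- part of the cover -/
def covV28 : Trie :=
  (.node (.node (.node (.node (.node (.node (.node (.leaf 0x202400d000) (.leaf 0x13000)) (.node (.leaf 0x1000023003) (.leaf 0))) (.node (.node (.leaf 0x0) (.leaf 0)) (.node (.leaf 0x0) (.leaf 0)))) (.node (.node (.node (.leaf 0x1003005028027) (.leaf 0x1000000)) (.node (.leaf 0x3000000) (.leaf 0))) (.node (.node (.leaf 0x1018000) (.leaf 0)) (.node (.leaf 0x0) (.leaf 0))))) (.node (.node (.node (.node (.leaf 0x1004004018000) (.leaf 0x101d000)) (.node (.leaf 0x3004000) (.leaf 0))) (.node (.node (.leaf 0x4001010000) (.leaf 0)) (.node (.leaf 0x0) (.leaf 0)))) (.node (.node (.node (.leaf 0x100400300a000) (.leaf 0x1000000)) (.node (.leaf 0x2000000) (.leaf 0))) (.node (.node (.leaf 0x201f000) (.leaf 0)) (.node (.leaf 0x0) (.leaf 0)))))) (.node (.node (.node (.node (.node (.leaf 0x100300201c01b) (.leaf 0x0)) (.node (.leaf 0x0) (.leaf 0)))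 (.node (.node (.leaf 0x1002000000000) (.leaf 0)) (.node (.leaf 0x1017000) (.leaf 0)))) (.node (.node (.node (.leaf 0x1003001000000) (.leaf 0x1000000)) (.node (.leaf 0x1000000000) (.leaf 0))) (.node (.node (.leaf 0x400d000) (.leaf 0)) (.node (.leaf 0x11001) (.leaf 0))))) (.node (.node (.node (.node (.leaf 0x1003022025) (.leaf 0x0)) (.node (.leaf 0x100200b000) (.leaf 0))) (.node (.node (.leaf 0x1002000000) (.leaf 0)) (.node (.leaf 0x100b000) (.leaf 0)))) (.node (.node (.node (.leaf 0x4001002000) (.leaf 0x30002cb)) (.node (.leaf 0x1000000) (.leaf 0))) (.node (.node (.leaf 0x0) (.leaf 0)) (.node (.leaf 0x0) (.leaf 0))))))) (.node (.node (.node (.node (.node (.node (.leaf 0x100200201e01b) (.leaf 0x0)) (.node (.leaf 0x1001011003) (.leaf 0))) (.node (.node (.leaf 0x4000000000) (.leaf 0)) (.node (.leaf 0xd000) (.leaf 0)))) (.node (.node (.node (.leaf 0x0) (.leaf 0x0)) (.node (.leaf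 0x0) (.leaf 0))) (.node (.node (.leaf 0x2001000) (.leaf 0)) (.node (.leaf 0xd000) (.leaf 0))))) (.node (.node (.node (.node (.leaf 0x100501d000) (.leaf 0x1a001)) (.node (.leaf 0x300e000) (.leaf 0))) (.node (.node (.leaf 0x3000006000) (.leaf 0)) (.node (.leaf 0x18001) (.leaf 0)))) (.node (.node (.node (.leaf 0x3002010000) (.leaf 0x3001000)) (.node (.leaf 0x1003000000) (.leaf 0))) (.node (.node (.leaf 0x1004000000) (.leaf 0)) (.node (.leaf 0x100d000) (.leaf 0)))))) (.node (.node (.node (.node (.node (.leaf 0x400501b022) (.leaf 0x0)) (.node (.leaf 0x101d003) (.leaf 0))) (.node (.node (.leaf 0x1001005020000) (.leaf 0)) (.node (.leaf 0x1013000) (.leaf 0)))) (.node (.node (.node (.leaf 0x4005018000) (.leaf 0x1000000)) (.node (.leaf 0x1004018000) (.leaf 0))) (.node (.node (.leaf 0x0) (.leaf 0)) (.node (.leaf 0x0) (.leaf 0))))) (.node (.node (.node (.node (.leaf 0x1004004009000) (.leaf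 0x0)) (.node (.leaf 0x1003000000) (.leaf 0))) (.node (.node (.leaf 0x0) (.leaf 0)) (.node (.leaf 0x1019000) (.leaf 0)))) (.node (.node (.node (.leaf 0x1003016000) (.leaf 0)) (.node (.leaf 0x100300d000) (.leaf 0))) (.node (.node (.leaf 0x100301f000) (.leaf 0)) (.node (.leaf 0x1010000) (.leaf 0))))))))

/-- part of the cover -/
def covV60 : Trie :=
  (.node (.node (.node (.node (.node (.node (.node (.leaf 0x3005017001) (.leaf 0x17001)) (.node (.leaf 0x0) (.leaf 0))) (.node (.node (.leaf 0x1004002000000) (.leaf 0)) (.node (.leaf 0x1c000) (.leaf 0)))) (.node (.node (.node (.leaf 0x4005002021) (.leaf 0x0)) (.node (.leaf 0x0) (.leaf 0))) (.node (.node (.leaf 0x100101a000) (.leaf 0)) (.node (.leaf 0x1000000) (.leaf 0))))) (.node (.node (.node (.node (.leaf 0x2005003000) (.leaf 0x0)) (.node (.leaf 0x2006000) (.leaf 0))) (.node (.node (.leaf 0x300501e000) (.leaf 0)) (.node (.leaf 0x12000)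 (.leaf 0)))) (.node (.node (.node (.leaf 0x3005000000) (.leaf 0x1083)) (.node (.leaf 0x1004015000) (.leaf 0))) (.node (.node (.leaf 0x0) (.leaf 0)) (.node (.leaf 0x0) (.leaf 0)))))) (.node (.node (.node (.node (.node (.leaf 0x11) (.leaf 0x4000)) (.node (.leaf 0x4007000) (.leaf 0))) (.node (.node (.leaf 0x100300001c000) (.leaf 0)) (.node (.leaf 0x8000) (.leaf 0)))) (.node (.node (.node (.leaf 0x0) (.leaf 0x0)) (.node (.leaf 0x1000000000) (.leaf 0))) (.node (.node (.leaf 0x1000000000) (.leaf 0)) (.node (.leaf 0x1000000) (.leaf 0))))) (.node (.node (.node (.node (.leaf 0x100402700d) (.leaf 0x0)) (.node (.leaf 0x1001016000) (.leaf 0))) (.node (.node (.leaf 0x100100400f005) (.leaf 0)) (.node (.leaf 0x1019000) (.leaf 0)))) (.node (.node (.node (.leaf 0x0) (.leaf 0)) (.node (.leaf 0x0) (.leaf 0))) (.node (.node (.leaf 0x100101d000) (.leaf 0)) (.node (.leaf 0x1012000) (.leaf 0)))))))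 (.node (.node (.node (.node (.node (.node (.leaf 0xc) (.leaf 0x1a001)) (.node (.leaf 0x1002009003) (.leaf 0))) (.node (.node (.leaf 0x4000000000) (.leaf 0)) (.node (.leaf 0x1013000) (.leaf 0)))) (.node (.node (.node (.leaf 0x1002000) (.leaf 0x1001000)) (.node (.leaf 0x3000000) (.leaf 0))) (.node (.node (.leaf 0x200c000) (.leaf 0)) (.node (.leaf 0x101b001) (.leaf 0))))) (.node (.node (.node (.node (.leaf 0x100300101c00e) (.leaf 0x0)) (.node (.leaf 0x1003012000) (.leaf 0))) (.node (.node (.leaf 0x0) (.leaf 0)) (.node (.leaf 0x0) (.leaf 0)))) (.node (.node (.node (.leaf 0x4005010000) (.leaf 0x1002001000)) (.node (.leaf 0x0) (.leaf 0))) (.node (.node (.leaf 0x0) (.leaf 0)) (.node (.leaf 0x0) (.leaf 0)))))) (.node (.node (.node (.node (.node (.leaf 0x1002002013000) (.leaf 0x101d001)) (.node (.leaf 0x0) (.leaf 0))) (.node (.node (.leaf 0x3005029000) (.leaf 0)) (.node (.leaf 0x1000000)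 (.leaf 0)))) (.node (.node (.node (.leaf 0x1001014000) (.leaf 0x0)) (.node (.leaf 0x1001000000) (.leaf 0))) (.node (.node (.leaf 0x301f000) (.leaf 0)) (.node (.leaf 0x17001) (.leaf 0))))) (.node (.node (.node (.node (.leaf 0x1002000024006) (.leaf 0x0)) (.node (.leaf 0x1004000000) (.leaf 0))) (.node (.node (.leaf 0x1003017000) (.leaf 0)) (.node (.leaf 0x12000) (.leaf 0)))) (.node (.node (.node (.leaf 0x1002000018000) (.leaf 0)) (.node (.leaf 0x0) (.leaf 0))) (.node (.node (.leaf 0x100401f000) (.leaf 0)) (.node (.leaf 0x17001) (.leaf 0))))))))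

/-- part of the cover -/
def covV2 : Trie :=
  (.node (.node (.node (.node (.node (.node (.node (.leaf 0x1000002016031000) (.leaf 0x101a001)) (.node (.leaf 0x0) (.leaf 0))) (.node (.node (.leaf 0x15000) (.leaf 0)) (.node (.leaf 0x100b000) (.leaf 0)))) (.node (.node (.node (.leaf 0x1002005029) (.leaf 0x0)) (.node (.leaf 0x3000000) (.leaf 0))) (.node (.node (.leaf 0x100300b000) (.leaf 0)) (.node (.leaf 0x1000000) (.leaf 0))))) (.node (.node (.node (.node (.leaf 0x100300100d000) (.leaf 0x101b001)) (.node (.leaf 0x2005000) (.leaf 0))) (.node (.node (.leaf 0x1004005012000) (.leaf 0)) (.node (.leaf 0x0) (.leaf 0)))) (.node (.node (.node (.leaf 0x1003001000000) (.leaf 0x1000000)) (.node (.leaf 0x1003000000) (.leaf 0))) (.node (.node (.leaf 0x0) (.leaf 0)) (.node (.leaf 0x1004001) (.leaf 0)))))) (.node (.node (.node (.node (.node (.leaf 0x1002002021005) (.leaf 0x1d000)) (.node (.leaf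 0x100201c003) (.leaf 0))) (.node (.node (.leaf 0x0) (.leaf 0)) (.node (.leaf 0x0) (.leaf 0)))) (.node (.node (.node (.leaf 0x1000003025000) (.leaf 0x1000000)) (.node (.leaf 0x1004000000) (.leaf 0))) (.node (.node (.leaf 0x1003003000) (.leaf 0)) (.node (.leaf 0x0) (.leaf 0))))) (.node (.node (.node (.node (.leaf 0x1000000012020) (.leaf 0x18001)) (.node (.leaf 0x2004000) (.leaf 0))) (.node (.node (.leaf 0x1001003000000) (.leaf 0)) (.node (.leaf 0x0) (.leaf 0)))) (.node (.node (.node (.leaf 0x0) (.leaf 0x0)) (.node (.leaf 0x1003000000) (.leaf 0))) (.node (.node (.leaf 0x1000010003) (.leaf 0)) (.node (.leaf 0x0) (.leaf 0))))))) (.node (.node (.node (.node (.node (.node (.leaf 0x100400000d007) (.leaf 0x13000)) (.node (.leaf 0x9000) (.leaf 0))) (.node (.node (.leaf 0x3000000) (.leaf 0)) (.node (.leaf 0x1014000) (.leaf 0)))) (.node (.node (.node (.leaf 0x200401402f) (.leaf 0x1001000))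 (.node (.leaf 0x1004015000) (.leaf 0))) (.node (.node (.leaf 0x1003001000) (.leaf 0)) (.node (.leaf 0x0) (.leaf 0))))) (.node (.node (.node (.node (.leaf 0x1003005017000) (.leaf 0x1a001)) (.node (.leaf 0x3009000) (.leaf 0))) (.node (.node (.leaf 0x1004002009000) (.leaf 0)) (.node (.leaf 0x1013000) (.leaf 0)))) (.node (.node (.node (.leaf 0x2002000000) (.leaf 0x1083)) (.node (.leaf 0x1000000000) (.leaf 0))) (.node (.node (.leaf 0x0) (.leaf 0)) (.node (.leaf 0x15000) (.leaf 0)))))) (.node (.node (.node (.node (.node (.leaf 0x100000301c009) (.leaf 0x1000)) (.node (.leaf 0x2017003) (.leaf 0))) (.node (.node (.leaf 0x3002026000) (.leaf 0)) (.node (.leaf 0x5000) (.leaf 0)))) (.node (.node (.node (.leaf 0x1002001025000) (.leaf 0x0)) (.node (.leaf 0x0) (.leaf 0))) (.node (.node (.leaf 0x1004000000) (.leaf 0)) (.node (.leaf 0x1000000) (.leaf 0))))) (.node (.node (.node (.node (.leaf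 0x0) (.leaf 0x1c001)) (.node (.leaf 0x1002002000) (.leaf 0))) (.node (.node (.leaf 0x1003005007000) (.leaf 0)) (.node (.leaf 0x1d000) (.leaf 0)))) (.node (.node (.node (.leaf 0x100300300c000) (.leaf 0)) (.node (.leaf 0x0) (.leaf 0))) (.node (.node (.leaf 0x1003004000) (.leaf 0)) (.node (.leaf 0x101b000) (.leaf 0))))))))

/-- part of the cover -/
def covV34 : Trie :=
  (.node (.node (.node (.node (.node (.node (.node (.leaf 0x100200300e02e000) (.leaf 0x1013001)) (.node (.leaf 0x2015000) (.leaf 0))) (.node (.node (.leaf 0x3001000000) (.leaf 0)) (.node (.leaf 0x15000) (.leaf 0)))) (.node (.node (.node (.leaf 0x1003003019025) (.leaf 0x0)) (.node (.leaf 0x0) (.leaf 0))) (.node (.node (.leaf 0x0) (.leaf 0)) (.node (.leaf 0x0) (.leaf 0))))) (.node (.node (.node (.node (.leaf 0x21000) (.leaf 0x1010000)) (.node (.leaf 0x1001012000) (.leaf 0))) (.node (.node (.leaf 0x1000002010000)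 (.leaf 0)) (.node (.leaf 0x0) (.leaf 0)))) (.node (.node (.node (.leaf 0x0) (.leaf 0x1000000)) (.node (.leaf 0x0) (.leaf 0))) (.node (.node (.leaf 0x1000017000) (.leaf 0)) (.node (.leaf 0x0) (.leaf 0)))))) (.node (.node (.node (.node (.node (.leaf 0x100202400e) (.leaf 0x0)) (.node (.leaf 0x1000019000) (.leaf 0))) (.node (.node (.leaf 0x100300301e000) (.leaf 0)) (.node (.leaf 0x1008000) (.leaf 0)))) (.node (.node (.node (.leaf 0x1004003009000) (.leaf 0x0)) (.node (.leaf 0x4015000) (.leaf 0))) (.node (.node (.leaf 0x100100e000) (.leaf 0)) (.node (.leaf 0x1a001) (.leaf 0))))) (.node (.node (.node (.node (.leaf 0x3000012006) (.leaf 0x0)) (.node (.leaf 0x1002013000) (.leaf 0))) (.node (.node (.leaf 0x2003007005) (.leaf 0)) (.node (.leaf 0x14000) (.leaf 0)))) (.node (.node (.node (.leaf 0x1004000002000) (.leaf 0x1004000138)) (.node (.leaf 0x1000000) (.leaf 0))) (.node (.node (.leaf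 0x0) (.leaf 0)) (.node (.leaf 0x0) (.leaf 0))))))) (.node (.node (.node (.node (.node (.node (.leaf 0x4005021022) (.leaf 0x1004001)) (.node (.leaf 0x400c003) (.leaf 0))) (.node (.node (.leaf 0x1000000000000) (.leaf 0)) (.node (.leaf 0x1012000) (.leaf 0)))) (.node (.node (.node (.leaf 0x100200400b000) (.leaf 0x0)) (.node (.leaf 0x0) (.leaf 0))) (.node (.node (.leaf 0x300a000) (.leaf 0)) (.node (.leaf 0x1015001) (.leaf 0))))) (.node (.node (.node (.node (.leaf 0x0) (.leaf 0x0)) (.node (.leaf 0x3009000) (.leaf 0))) (.node (.node (.leaf 0x1004001006000) (.leaf 0)) (.node (.leaf 0x1d001) (.leaf 0)))) (.node (.node (.node (.leaf 0x1001001018000) (.leaf 0x3001000)) (.node (.leaf 0x0) (.leaf 0))) (.node (.node (.leaf 0x3000000) (.leaf 0)) (.node (.leaf 0x100d000) (.leaf 0)))))) (.node (.node (.node (.node (.node (.leaf 0x100100000d02d) (.leaf 0x101d001)) (.node (.leaf 0x400a000) (.leaf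 0))) (.node (.node (.leaf 0x0) (.leaf 0)) (.node (.leaf 0x0) (.leaf 0)))) (.node (.node (.node (.leaf 0x400301b000) (.leaf 0x1000000)) (.node (.leaf 0x100400a000) (.leaf 0))) (.node (.node (.leaf 0x0) (.leaf 0)) (.node (.leaf 0x0) (.leaf 0))))) (.node (.node (.node (.node (.leaf 0x1001000000) (.leaf 0x0)) (.node (.leaf 0x2000000) (.leaf 0))) (.node (.node (.leaf 0x0) (.leaf 0)) (.node (.leaf 0x0) (.leaf 0)))) (.node (.node (.node (.leaf 0x1004002002000) (.leaf 0)) (.node (.leaf 0x0) (.leaf 0))) (.node (.node (.leaf 0x400d000) (.leaf 0)) (.node (.leaf 0x1017001) (.leaf 0))))))))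

/-- part of the cover -/
def covV18 : Trie :=
  (.node (.node (.node (.node (.node (.node (.node (.leaf 0x100300301602d000) (.leaf 0x1015000)) (.node (.leaf 0x300d003) (.leaf 0))) (.node (.node (.leaf 0x1001000012000) (.leaf 0)) (.node (.leaf 0x100b000) (.leaf 0)))) (.node (.node (.node (.leaf 0x1002005000027) (.leaf 0x1000000)) (.node (.leaf 0x4000000) (.leaf 0))) (.node (.node (.leaf 0x0) (.leaf 0)) (.node (.leaf 0x0) (.leaf 0))))) (.node (.node (.node (.node (.leaf 0x100300501d000) (.leaf 0x14001)) (.node (.leaf 0x1001005000) (.leaf 0))) (.node (.node (.leaf 0x1000004012000) (.leaf 0)) (.node (.leaf 0x0) (.leaf 0)))) (.node (.node (.node (.leaf 0x1002000) (.leaf 0x1000000)) (.node (.leaf 0x1000000) (.leaf 0))) (.node (.node (.leaf 0x1001009000) (.leaf 0)) (.node (.leaf 0x0) (.leaf 0)))))) (.node (.node (.node (.node (.node (.leaf 0x200101a021) (.leaf 0x17001)) (.node (.leaf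 0x100100c003) (.leaf 0))) (.node (.node (.leaf 0x1000002003000) (.leaf 0)) (.node (.leaf 0x1011000) (.leaf 0)))) (.node (.node (.node (.leaf 0x1016000) (.leaf 0x0)) (.node (.leaf 0x0) (.leaf 0))) (.node (.node (.leaf 0x1003017000) (.leaf 0)) (.node (.leaf 0x1019000) (.leaf 0))))) (.node (.node (.node (.node (.leaf 0x5002025) (.leaf 0x18001)) (.node (.leaf 0x0) (.leaf 0))) (.node (.node (.leaf 0x1000000000000) (.leaf 0)) (.node (.leaf 0x14000) (.leaf 0)))) (.node (.node (.node (.leaf 0x1000001008000) (.leaf 0x100500129c)) (.node (.leaf 0x0) (.leaf 0))) (.node (.node (.leaf 0x1000010003) (.leaf 0)) (.node (.leaf 0x1000000) (.leaf 0))))))) (.node (.node (.node (.node (.node (.node (.leaf 0x100400001c01b) (.leaf 0x0)) (.node (.leaf 0x1003010000) (.leaf 0))) (.node (.node (.leaf 0x0) (.leaf 0)) (.node (.leaf 0x0) (.leaf 0)))) (.node (.node (.node (.leaf 0x1003004006030) (.leaf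 0x1000000)) (.node (.leaf 0x100100b000) (.leaf 0))) (.node (.node (.leaf 0x1003000000) (.leaf 0)) (.node (.leaf 0x10001) (.leaf 0))))) (.node (.node (.node (.node (.leaf 0x300200b000) (.leaf 0x1a001)) (.node (.leaf 0x2018000) (.leaf 0))) (.node (.node (.leaf 0x1003005029000) (.leaf 0)) (.node (.leaf 0x10000) (.leaf 0)))) (.node (.node (.node (.leaf 0x0) (.leaf 0x100001d)) (.node (.leaf 0x1003017000) (.leaf 0))) (.node (.node (.leaf 0x2000000) (.leaf 0)) (.node (.leaf 0x101b000) (.leaf 0)))))) (.node (.node (.node (.node (.node (.leaf 0x3005017001) (.leaf 0x0)) (.node (.leaf 0x23000) (.leaf 0))) (.node (.node (.leaf 0x100001a000) (.leaf 0)) (.node (.leaf 0x1c000) (.leaf 0)))) (.node (.node (.node (.leaf 0x100400201f000) (.leaf 0x0)) (.node (.leaf 0x1004018000) (.leaf 0))) (.node (.node (.leaf 0x1000000) (.leaf 0)) (.node (.leaf 0x0) (.leaf 0))))) (.node (.node (.node (.node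 (.leaf 0x100100501f000) (.leaf 0x1b001)) (.node (.leaf 0x1002000000) (.leaf 0))) (.node (.node (.leaf 0x100400101a005) (.leaf 0)) (.node (.leaf 0x100b000) (.leaf 0)))) (.node (.node (.node (.leaf 0x100400500f000) (.leaf 0)) (.node (.leaf 0x100300d000) (.leaf 0))) (.node (.node (.leaf 0x2005000) (.leaf 0)) (.node (.leaf 0x0) (.leaf 0))))))))

/-- part of the cover -/
def covV50 : Trie :=
  (.node (.node (.node (.node (.node (.node (.node (.leaf 0x0) (.leaf 0x2001)) (.node (.leaf 0x300d003) (.leaf 0))) (.node (.node (.leaf 0x1000005000000) (.leaf 0)) (.node (.leaf 0x8000) (.leaf 0)))) (.node (.node (.node (.leaf 0x1003002024017) (.leaf 0x0)) (.node (.leaf 0x300d000) (.leaf 0))) (.node (.node (.leaf 0x1001010000) (.leaf 0)) (.node (.leaf 0x1000000) (.leaf 0))))) (.node (.node (.node (.node (.leaf 0x1002001020000) (.leaf 0x0)) (.node (.leaf 0x1004008000) (.leaf 0))) (.node (.node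 (.leaf 0x1004004004000) (.leaf 0)) (.node (.leaf 0x1012000) (.leaf 0)))) (.node (.node (.node (.leaf 0x1003002000000) (.leaf 0x100001d)) (.node (.leaf 0x1003017000) (.leaf 0))) (.node (.node (.leaf 0x1001009000) (.leaf 0)) (.node (.leaf 0x0) (.leaf 0)))))) (.node (.node (.node (.node (.node (.leaf 0x200501e022) (.leaf 0x11001)) (.node (.leaf 0x400d000) (.leaf 0))) (.node (.node (.leaf 0x1003002008000) (.leaf 0)) (.node (.leaf 0x0) (.leaf 0)))) (.node (.node (.node (.leaf 0x1004004022000) (.leaf 0x1000000)) (.node (.leaf 0x1003017000) (.leaf 0))) (.node (.node (.leaf 0x1001000000) (.leaf 0)) (.node (.leaf 0x0) (.leaf 0))))) (.node (.node (.node (.node (.leaf 0x1001004011027) (.leaf 0x1c001)) (.node (.leaf 0x3004000) (.leaf 0))) (.node (.node (.leaf 0x100000300f005) (.leaf 0)) (.node (.leaf 0x0) (.leaf 0)))) (.node (.node (.node (.leaf 0x1001005021000) (.leaf 0x1001000341))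 (.node (.leaf 0x1000000) (.leaf 0))) (.node (.node (.leaf 0x0) (.leaf 0)) (.node (.leaf 0x1017000) (.leaf 0))))))) (.node (.node (.node (.node (.node (.node (.leaf 0x400501b010) (.leaf 0x1008001)) (.node (.leaf 0x1004001003) (.leaf 0))) (.node (.node (.leaf 0x1004000000000) (.leaf 0)) (.node (.leaf 0x1013000) (.leaf 0)))) (.node (.node (.node (.leaf 0x4020000) (.leaf 0x0)) (.node (.leaf 0x4000000) (.leaf 0))) (.node (.node (.leaf 0x0) (.leaf 0)) (.node (.leaf 0x100d001) (.leaf 0))))) (.node (.node (.node (.node (.leaf 0x2005000021) (.leaf 0x0)) (.node (.leaf 0xb000) (.leaf 0))) (.node (.node (.leaf 0x2000014000) (.leaf 0)) (.node (.leaf 0x10000) (.leaf 0)))) (.node (.node (.node (.leaf 0x1003003018000) (.leaf 0x1001000)) (.node (.leaf 0x1003000000) (.leaf 0))) (.node (.node (.leaf 0x0) (.leaf 0)) (.node (.leaf 0x0) (.leaf 0)))))) (.node (.node (.node (.node (.node (.leaf 0x100200201e01b)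 (.leaf 0x101d001)) (.node (.leaf 0x400e003) (.leaf 0))) (.node (.node (.leaf 0x1004002019000) (.leaf 0)) (.node (.leaf 0x0) (.leaf 0)))) (.node (.node (.node (.leaf 0x0) (.leaf 0x0)) (.node (.leaf 0x0) (.leaf 0))) (.node (.node (.leaf 0x1003008000) (.leaf 0)) (.node (.leaf 0x1004001) (.leaf 0))))) (.node (.node (.node (.node (.leaf 0x1000001015000) (.leaf 0x1b001)) (.node (.leaf 0x1000000000) (.leaf 0))) (.node (.node (.leaf 0x100f000) (.leaf 0)) (.node (.leaf 0x0) (.leaf 0)))) (.node (.node (.node (.leaf 0x3004012000) (.leaf 0)) (.node (.leaf 0x0) (.leaf 0))) (.node (.node (.leaf 0x4019000) (.leaf 0)) (.node (.leaf 0x1001000) (.leaf 0))))))))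

/-- part of the cover -/
def covV10 : Trie :=
  (.node (.node (.node (.node (.node (.node (.node (.leaf 0x100200400c014000) (.leaf 0x1004001)) (.node (.leaf 0x0) (.leaf 0))) (.node (.node (.leaf 0x1004010000) (.leaf 0)) (.node (.leaf 0x100b000) (.leaf 0)))) (.node (.node (.node (.leaf 0x100400501f029) (.leaf 0x1000)) (.node (.leaf 0x0) (.leaf 0))) (.node (.node (.leaf 0xa000) (.leaf 0)) (.node (.leaf 0x1013000) (.leaf 0))))) (.node (.node (.node (.node (.leaf 0x100300301d000) (.leaf 0x1b001)) (.node (.leaf 0x1001009000) (.leaf 0))) (.node (.node (.leaf 0x100000101f000) (.leaf 0)) (.node (.leaf 0x1000000) (.leaf 0)))) (.node (.node (.node (.leaf 0x1002003002000) (.leaf 0x0)) (.node (.leaf 0x3000000) (.leaf 0))) (.node (.node (.leaf 0x0) (.leaf 0)) (.node (.leaf 0x0) (.leaf 0)))))) (.node (.node (.node (.node (.node (.leaf 0x11) (.leaf 0x1006001)) (.node (.leaf 0x2015000) (.leaf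 0))) (.node (.node (.leaf 0x4028000) (.leaf 0)) (.node (.leaf 0x101d000) (.leaf 0)))) (.node (.node (.node (.leaf 0x0) (.leaf 0x1000)) (.node (.leaf 0x0) (.leaf 0))) (.node (.node (.leaf 0x1004011000) (.leaf 0)) (.node (.leaf 0x17001) (.leaf 0))))) (.node (.node (.node (.node (.leaf 0x100200402902b) (.leaf 0x18001)) (.node (.leaf 0x1009000) (.leaf 0))) (.node (.node (.leaf 0x1005007005) (.leaf 0)) (.node (.leaf 0x1002000) (.leaf 0)))) (.node (.node (.node (.leaf 0x0) (.leaf 0x40013a4)) (.node (.leaf 0x0) (.leaf 0))) (.node (.node (.leaf 0x0) (.leaf 0)) (.node (.leaf 0x1000000) (.leaf 0))))))) (.node (.node (.node (.node (.node (.node (.leaf 0x4005004026) (.leaf 0x0)) (.node (.leaf 0x1001022000) (.leaf 0))) (.node (.node (.leaf 0x0) (.leaf 0)) (.node (.leaf 0x19000) (.leaf 0)))) (.node (.node (.node (.leaf 0x300301602c) (.leaf 0x1001000)) (.node (.leaf 0x100100b000) (.leaf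 0))) (.node (.node (.leaf 0x1002016000) (.leaf 0)) (.node (.leaf 0x0) (.leaf 0))))) (.node (.node (.node (.node (.leaf 0x100400200d000) (.leaf 0x0)) (.node (.leaf 0x1003012000) (.leaf 0))) (.node (.node (.leaf 0x0) (.leaf 0)) (.node (.leaf 0x0) (.leaf 0)))) (.node (.node (.node (.leaf 0x3004000000) (.leaf 0x100001d)) (.node (.leaf 0x100100b000) (.leaf 0))) (.node (.node (.leaf 0x1004000000) (.leaf 0)) (.node (.leaf 0x14000) (.leaf 0)))))) (.node (.node (.node (.node (.node (.leaf 0x101b02d) (.leaf 0x1018001)) (.node (.leaf 0x0) (.leaf 0))) (.node (.node (.leaf 0x1004000001000) (.leaf 0)) (.node (.leaf 0x1d000) (.leaf 0)))) (.node (.node (.node (.leaf 0x3004014000) (.leaf 0x0)) (.node (.leaf 0x400f000) (.leaf 0))) (.node (.node (.leaf 0x3000000) (.leaf 0)) (.node (.leaf 0x0) (.leaf 0))))) (.node (.node (.node (.node (.leaf 0x4003010000) (.leaf 0x0)) (.node (.leaf 0x0) (.leaf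 0))) (.node (.node (.leaf 0x401a000) (.leaf 0)) (.node (.leaf 0x14000) (.leaf 0)))) (.node (.node (.node (.leaf 0x0) (.leaf 0)) (.node (.leaf 0x0) (.leaf 0))) (.node (.node (.leaf 0x1003017000) (.leaf 0)) (.node (.leaf 0x1009000) (.leaf 0))))))))

/-- part of the cover -/
def covV42 : Trie :=
  (.node (.node (.node (.node (.node (.node (.node (.leaf 0x100000402700c000) (.leaf 0xc001)) (.node (.leaf 0x1000023003) (.leaf 0))) (.node (.node (.leaf 0x2005000000) (.leaf 0)) (.node (.leaf 0x1017000) (.leaf 0)))) (.node (.node (.node (.leaf 0x200401100c) (.leaf 0x0)) (.node (.leaf 0x0) (.leaf 0))) (.node (.node (.leaf 0x2001000) (.leaf 0)) (.node (.leaf 0x0) (.leaf 0))))) (.node (.node (.node (.node (.leaf 0x3004003000) (.leaf 0x0)) (.node (.leaf 0x3003000) (.leaf 0))) (.node (.node (.leaf 0x1000001018000) (.leaf 0)) (.node (.leaf 0x0) (.leaf 0)))) (.node (.node (.node (.leaf 0x4003000000)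 (.leaf 0x1011)) (.node (.leaf 0x0) (.leaf 0))) (.node (.node (.leaf 0x1001009000) (.leaf 0)) (.node (.leaf 0x0) (.leaf 0)))))) (.node (.node (.node (.node (.node (.leaf 0x4003025022) (.leaf 0x1000000)) (.node (.leaf 0x100201c000) (.leaf 0))) (.node (.node (.leaf 0x1000002003000) (.leaf 0)) (.node (.leaf 0x1a000) (.leaf 0)))) (.node (.node (.node (.leaf 0x4005018000) (.leaf 0x1000000)) (.node (.leaf 0x100300d000) (.leaf 0))) (.node (.node (.leaf 0x0) (.leaf 0)) (.node (.leaf 0x0) (.leaf 0))))) (.node (.node (.node (.node (.leaf 0x100100400a025) (.leaf 0x0)) (.node (.leaf 0x1003013000) (.leaf 0))) (.node (.node (.leaf 0x0) (.leaf 0)) (.node (.leaf 0x1019000) (.leaf 0)))) (.node (.node (.node (.leaf 0x3004013000) (.leaf 0x10010011c6)) (.node (.leaf 0x1000000) (.leaf 0))) (.node (.node (.leaf 0x100101f000) (.leaf 0)) (.node (.leaf 0x100d000) (.leaf 0))))))) (.node (.node (.node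 (.node (.node (.node (.leaf 0x100300201c01b) (.leaf 0x0)) (.node (.leaf 0x8003) (.leaf 0))) (.node (.node (.leaf 0x1001000000000) (.leaf 0)) (.node (.leaf 0x1017000) (.leaf 0)))) (.node (.node (.node (.leaf 0x3012000) (.leaf 0x1001000)) (.node (.leaf 0x1000000) (.leaf 0))) (.node (.node (.leaf 0x100200c000) (.leaf 0)) (.node (.leaf 0x7000) (.leaf 0))))) (.node (.node (.node (.node (.leaf 0x1004005023003) (.leaf 0x18001)) (.node (.leaf 0x100000d000) (.leaf 0))) (.node (.node (.leaf 0x1000018000) (.leaf 0)) (.node (.leaf 0x4000) (.leaf 0)))) (.node (.node (.node (.leaf 0x1001012000) (.leaf 0x2001000)) (.node (.leaf 0x0) (.leaf 0))) (.node (.node (.leaf 0x0) (.leaf 0)) (.node (.leaf 0x101b000) (.leaf 0)))))) (.node (.node (.node (.node (.node (.leaf 0x4001023016) (.leaf 0x1d001)) (.node (.leaf 0x1001022000) (.leaf 0))) (.node (.node (.leaf 0x4001016000) (.leaf 0)) (.node (.leaf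 0x0) (.leaf 0)))) (.node (.node (.node (.leaf 0x4003029000) (.leaf 0x0)) (.node (.leaf 0x200a000) (.leaf 0))) (.node (.node (.leaf 0x201f000) (.leaf 0)) (.node (.leaf 0x0) (.leaf 0))))) (.node (.node (.node (.node (.leaf 0x3004022000) (.leaf 0x0)) (.node (.leaf 0x4000000) (.leaf 0))) (.node (.node (.leaf 0x18000) (.leaf 0)) (.node (.leaf 0x1d000) (.leaf 0)))) (.node (.node (.node (.leaf 0x0) (.leaf 0)) (.node (.leaf 0x0) (.leaf 0))) (.node (.node (.leaf 0x100401f000) (.leaf 0)) (.node (.leaf 0x1004000) (.leaf 0))))))))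

/-- part of the cover -/
def covV26 : Trie :=
  (.node (.node (.node (.node (.node (.node (.node (.leaf 0x1001005020031000) (.leaf 0x1012001)) (.node (.leaf 0x1000023003) (.leaf 0))) (.node (.node (.leaf 0x0) (.leaf 0)) (.node (.leaf 0x0) (.leaf 0)))) (.node (.node (.node (.leaf 0x1001002011000) (.leaf 0x1000)) (.node (.leaf 0x1003000000) (.leaf 0))) (.node (.node (.leaf 0x400b000) (.leaf 0)) (.node (.leaf 0x0) (.leaf 0))))) (.node (.node (.node (.node (.leaf 0x1002000015000) (.leaf 0x13001)) (.node (.leaf 0x1002009000) (.leaf 0))) (.node (.node (.leaf 0x1003001011000) (.leaf 0)) (.node (.leaf 0x0) (.leaf 0)))) (.node (.node (.node (.leaf 0x1004003004000) (.leaf 0x1000000)) (.node (.leaf 0x1001000000) (.leaf 0))) (.node (.node (.leaf 0x1001008000) (.leaf 0)) (.node (.leaf 0x1006000) (.leaf 0)))))) (.node (.node (.node (.node (.node (.leaf 0x21022) (.leaf 0x0)) (.node (.leaf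 0x100100c003) (.leaf 0))) (.node (.node (.leaf 0x3002003000) (.leaf 0)) (.node (.leaf 0x1007000) (.leaf 0)))) (.node (.node (.node (.leaf 0x2029000) (.leaf 0x1001000)) (.node (.leaf 0x1003017000) (.leaf 0))) (.node (.node (.leaf 0xa000) (.leaf 0)) (.node (.leaf 0x101d001) (.leaf 0))))) (.node (.node (.node (.node (.leaf 0x100401600d) (.leaf 0x0)) (.node (.leaf 0x1000014000) (.leaf 0))) (.node (.node (.leaf 0x1002004007005) (.leaf 0)) (.node (.leaf 0x14000) (.leaf 0)))) (.node (.node (.node (.leaf 0x1001005022000) (.leaf 0x10000014bc)) (.node (.leaf 0x0) (.leaf 0))) (.node (.node (.leaf 0x1000010003) (.leaf 0)) (.node (.leaf 0x101d001) (.leaf 0))))))) (.node (.node (.node (.node (.node (.node (.leaf 0x21010) (.leaf 0x1004001)) (.node (.leaf 0x100401b003) (.leaf 0))) (.node (.node (.leaf 0x1004000000000) (.leaf 0)) (.node (.leaf 0xc000) (.leaf 0)))) (.node (.node (.node (.leaf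 0x1002023000) (.leaf 0x1001000)) (.node (.leaf 0x0) (.leaf 0))) (.node (.node (.leaf 0x3001000) (.leaf 0)) (.node (.leaf 0x6001) (.leaf 0))))) (.node (.node (.node (.node (.leaf 0x1001004003000) (.leaf 0x1a001)) (.node (.leaf 0x2013000) (.leaf 0))) (.node (.node (.leaf 0x1001001007000) (.leaf 0)) (.node (.leaf 0x1000) (.leaf 0)))) (.node (.node (.node (.leaf 0x4001010000) (.leaf 0x1005001000)) (.node (.leaf 0x0) (.leaf 0))) (.node (.node (.leaf 0x4000000) (.leaf 0)) (.node (.leaf 0x1012000) (.leaf 0)))))) (.node (.node (.node (.node (.node (.leaf 0x200501e010) (.leaf 0x0)) (.node (.leaf 0x0) (.leaf 0))) (.node (.node (.leaf 0x4002027000) (.leaf 0)) (.node (.leaf 0x6000) (.leaf 0)))) (.node (.node (.node (.leaf 0x3002014000) (.leaf 0x1000000)) (.node (.leaf 0x2018000) (.leaf 0))) (.node (.node (.leaf 0x0) (.leaf 0)) (.node (.leaf 0x0) (.leaf 0))))) (.node (.node (.node (.node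 (.leaf 0x2000024000) (.leaf 0x0)) (.node (.leaf 0x1000000) (.leaf 0))) (.node (.node (.leaf 0x0) (.leaf 0)) (.node (.leaf 0x1019000) (.leaf 0)))) (.node (.node (.node (.leaf 0x400201f000) (.leaf 0)) (.node (.leaf 0x100300d000) (.leaf 0))) (.node (.node (.leaf 0x100100d000) (.leaf 0)) (.node (.leaf 0x101b001) (.leaf 0))))))))

/-- part of the cover -/
def covV58 : Trie :=
  (.node (.node (.node (.node (.node (.node (.node (.leaf 0x21019) (.leaf 0x0)) (.node (.leaf 0x1003012000) (.leaf 0))) (.node (.node (.leaf 0x1004001000000) (.leaf 0)) (.node (.leaf 0x17000) (.leaf 0)))) (.node (.node (.node (.leaf 0x1002005022017) (.leaf 0x1000)) (.node (.leaf 0x1003017000) (.leaf 0))) (.node (.node (.leaf 0x1004014000) (.leaf 0)) (.node (.leaf 0x1000000) (.leaf 0))))) (.node (.node (.node (.node (.leaf 0x100d000) (.leaf 0x0)) (.node (.leaf 0x1001017000) (.leaf 0))) (.node (.node (.leaf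 0x1003003026000) (.leaf 0)) (.node (.leaf 0x1000000) (.leaf 0)))) (.node (.node (.node (.leaf 0x1000000000000) (.leaf 0x104b)) (.node (.leaf 0x1003017000) (.leaf 0))) (.node (.node (.leaf 0x0) (.leaf 0)) (.node (.leaf 0x1006000) (.leaf 0)))))) (.node (.node (.node (.node (.node (.leaf 0x100200201e01b) (.leaf 0x18001)) (.node (.leaf 0x1c003) (.leaf 0))) (.node (.node (.leaf 0x3004024000) (.leaf 0)) (.node (.leaf 0xd000) (.leaf 0)))) (.node (.node (.node (.leaf 0x1002003028000) (.leaf 0x1000)) (.node (.leaf 0x1000000000) (.leaf 0))) (.node (.node (.leaf 0x3000000) (.leaf 0)) (.node (.leaf 0x0) (.leaf 0))))) (.node (.node (.node (.node (.leaf 0x1003001011029) (.leaf 0x0)) (.node (.leaf 0x100100a000) (.leaf 0))) (.node (.node (.leaf 0x3003003005) (.leaf 0)) (.node (.leaf 0x100b000) (.leaf 0)))) (.node (.node (.node (.leaf 0x0) (.leaf 0)) (.node (.leaf 0x0) (.leaf 0))) (.node (.node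 (.leaf 0x2010000) (.leaf 0)) (.node (.leaf 0x1017000) (.leaf 0))))))) (.node (.node (.node (.node (.node (.node (.leaf 0x100400502502b) (.leaf 0x1017000)) (.node (.leaf 0x1000019003) (.leaf 0))) (.node (.node (.leaf 0x4000000000) (.leaf 0)) (.node (.leaf 0x1003000) (.leaf 0)))) (.node (.node (.node (.leaf 0x5022000) (.leaf 0x1000000)) (.node (.leaf 0x4000000) (.leaf 0))) (.node (.node (.leaf 0x3018000) (.leaf 0)) (.node (.leaf 0x101a001) (.leaf 0))))) (.node (.node (.node (.node (.leaf 0x400200102a) (.leaf 0x0)) (.node (.leaf 0x1004001000) (.leaf 0))) (.node (.node (.leaf 0x0) (.leaf 0)) (.node (.leaf 0x0) (.leaf 0)))) (.node (.node (.node (.leaf 0x3001015000) (.leaf 0x1005000000)) (.node (.leaf 0x1003000000) (.leaf 0))) (.node (.node (.leaf 0x10003) (.leaf 0)) (.node (.leaf 0x0) (.leaf 0)))))) (.node (.node (.node (.node (.node (.leaf 0x0) (.leaf 0x0)) (.node (.leaf 0x100301b003)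 (.leaf 0))) (.node (.node (.leaf 0x2000018000) (.leaf 0)) (.node (.leaf 0x0) (.leaf 0)))) (.node (.node (.node (.leaf 0x1003005020000) (.leaf 0x0)) (.node (.leaf 0x0) (.leaf 0))) (.node (.node (.leaf 0x1003008000) (.leaf 0)) (.node (.leaf 0x17001) (.leaf 0))))) (.node (.node (.node (.node (.leaf 0x6) (.leaf 0x0)) (.node (.leaf 0x0) (.leaf 0))) (.node (.node (.leaf 0x100101c000) (.leaf 0)) (.node (.leaf 0x12000) (.leaf 0)))) (.node (.node (.node (.leaf 0x1000001012000) (.leaf 0)) (.node (.leaf 0x0) (.leaf 0))) (.node (.node (.leaf 0x1001008000) (.leaf 0)) (.node (.leaf 0x11001) (.leaf 0))))))))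

/-- part of the cover -/
def covV6 : Trie :=
  (.node (.node (.node (.node (.node (.node (.node (.leaf 0x300001402f000) (.leaf 0x0)) (.node (.leaf 0x0) (.leaf 0))) (.node (.node (.leaf 0x1004000010000) (.leaf 0)) (.node (.leaf 0x0) (.leaf 0)))) (.node (.node (.node (.leaf 0x1004005003000) (.leaf 0x1000000)) (.node (.leaf 0x1000000000) (.leaf 0))) (.node (.node (.leaf 0x400d000) (.leaf 0)) (.node (.leaf 0x1000000) (.leaf 0))))) (.node (.node (.node (.node (.leaf 0x1000002012000) (.leaf 0x0)) (.node (.leaf 0x100200b000) (.leaf 0))) (.node (.node (.leaf 0x100100000b000) (.leaf 0)) (.node (.leaf 0x1000000) (.leaf 0)))) (.node (.node (.node (.leaf 0x4003028000) (.leaf 0x0)) (.node (.leaf 0x1002000000) (.leaf 0))) (.node (.node (.leaf 0x0) (.leaf 0)) (.node (.leaf 0x17001) (.leaf 0)))))) (.node (.node (.node (.node (.node (.leaf 0x100400001802b) (.leaf 0x1013001)) (.node (.leaf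 0x100f003) (.leaf 0))) (.node (.node (.leaf 0x1002000000000) (.leaf 0)) (.node (.leaf 0x1005000) (.leaf 0)))) (.node (.node (.node (.leaf 0x100400300a000) (.leaf 0x1000000)) (.node (.leaf 0x1004000000) (.leaf 0))) (.node (.node (.leaf 0x0) (.leaf 0)) (.node (.leaf 0xe000) (.leaf 0))))) (.node (.node (.node (.node (.leaf 0x200501e006) (.leaf 0x0)) (.node (.leaf 0x400f000) (.leaf 0))) (.node (.node (.leaf 0x1001007005) (.leaf 0)) (.node (.leaf 0x1d000) (.leaf 0)))) (.node (.node (.node (.leaf 0x300500c000) (.leaf 0x1000)) (.node (.leaf 0x0) (.leaf 0))) (.node (.node (.leaf 0x1000000000) (.leaf 0)) (.node (.leaf 0x1000000) (.leaf 0))))))) (.node (.node (.node (.node (.node (.node (.leaf 0x400501b022) (.leaf 0x0)) (.node (.leaf 0x3016000) (.leaf 0))) (.node (.node (.leaf 0x1004000000) (.leaf 0)) (.node (.leaf 0x1013000) (.leaf 0)))) (.node (.node (.node (.leaf 0x100400300501c)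 (.leaf 0x0)) (.node (.leaf 0x4015000) (.leaf 0))) (.node (.node (.leaf 0x0) (.leaf 0)) (.node (.leaf 0x101b001) (.leaf 0))))) (.node (.node (.node (.node (.leaf 0x2003029000) (.leaf 0x1a001)) (.node (.leaf 0x1012000) (.leaf 0))) (.node (.node (.leaf 0x0) (.leaf 0)) (.node (.leaf 0x0) (.leaf 0)))) (.node (.node (.node (.leaf 0x1003005000000) (.leaf 0x1083)) (.node (.leaf 0x1000000000) (.leaf 0))) (.node (.node (.leaf 0x1003000000) (.leaf 0)) (.node (.leaf 0x0) (.leaf 0)))))) (.node (.node (.node (.node (.node (.leaf 0x2003022022) (.leaf 0x0)) (.node (.leaf 0x100300f003) (.leaf 0))) (.node (.node (.leaf 0x1001005001000) (.leaf 0)) (.node (.leaf 0x18000) (.leaf 0)))) (.node (.node (.node (.leaf 0x100200400c000) (.leaf 0x0)) (.node (.leaf 0x1003000000) (.leaf 0))) (.node (.node (.leaf 0x1001000000) (.leaf 0)) (.node (.leaf 0x0) (.leaf 0))))) (.node (.node (.node (.node (.leaf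 0x0) (.leaf 0x0)) (.node (.leaf 0x0) (.leaf 0))) (.node (.node (.leaf 0x1004005000000) (.leaf 0)) (.node (.leaf 0x1d000) (.leaf 0)))) (.node (.node (.node (.leaf 0x2002024000) (.leaf 0)) (.node (.leaf 0x100300d000) (.leaf 0))) (.node (.node (.leaf 0x1002002000) (.leaf 0)) (.node (.leaf 0x100d000) (.leaf 0))))))))

/-- part of the cover -/
def covV38 : Trie :=
  (.node (.node (.node (.node (.node (.node (.node (.leaf 0x100400300e010000) (.leaf 0x1006001)) (.node (.leaf 0x2015000) (.leaf 0))) (.node (.node (.leaf 0x1004003000000) (.leaf 0)) (.node (.leaf 0x8000) (.leaf 0)))) (.node (.node (.node (.leaf 0x0) (.leaf 0x0)) (.node (.leaf 0x2000000) (.leaf 0))) (.node (.node (.leaf 0x101e000) (.leaf 0)) (.node (.leaf 0x0) (.leaf 0))))) (.node (.node (.node (.node (.leaf 0x100300300c000) (.leaf 0x7000)) (.node (.leaf 0x1001016000) (.leaf 0))) (.node (.node (.leaf 0x1001001007000)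 (.leaf 0)) (.node (.leaf 0x1013000) (.leaf 0)))) (.node (.node (.node (.leaf 0x1000004000000) (.leaf 0x0)) (.node (.leaf 0x0) (.leaf 0))) (.node (.node (.leaf 0x301f000) (.leaf 0)) (.node (.leaf 0x0) (.leaf 0)))))) (.node (.node (.node (.node (.node (.leaf 0x1002005026002) (.leaf 0x1b001)) (.node (.leaf 0x23000) (.leaf 0))) (.node (.node (.leaf 0x100301e000) (.leaf 0)) (.node (.leaf 0x101b000) (.leaf 0)))) (.node (.node (.node (.leaf 0x300401f000) (.leaf 0x0)) (.node (.leaf 0x4015000) (.leaf 0))) (.node (.node (.leaf 0x0) (.leaf 0)) (.node (.leaf 0x0) (.leaf 0))))) (.node (.node (.node (.node (.leaf 0x1004002008000) (.leaf 0x0)) (.node (.leaf 0x2009000) (.leaf 0))) (.node (.node (.leaf 0x1002003007005) (.leaf 0)) (.node (.leaf 0x0) (.leaf 0)))) (.node (.node (.node (.leaf 0x1003001018000) (.leaf 0x3001138)) (.node (.leaf 0x1000000) (.leaf 0))) (.node (.node (.leaf 0x1001010000)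 (.leaf 0)) (.node (.leaf 0x0) (.leaf 0))))))) (.node (.node (.node (.node (.node (.node (.leaf 0x10) (.leaf 0x17001)) (.node (.leaf 0x0) (.leaf 0))) (.node (.node (.leaf 0x1000000000000) (.leaf 0)) (.node (.leaf 0x1012000) (.leaf 0)))) (.node (.node (.node (.leaf 0x1001014000) (.leaf 0x0)) (.node (.leaf 0x1004000000) (.leaf 0))) (.node (.node (.leaf 0x3011000) (.leaf 0)) (.node (.leaf 0x1010000) (.leaf 0))))) (.node (.node (.node (.node (.leaf 0x1004003025013) (.leaf 0x0)) (.node (.leaf 0x300b000) (.leaf 0))) (.node (.node (.leaf 0x100300501a000) (.leaf 0)) (.node (.leaf 0x1019000) (.leaf 0)))) (.node (.node (.node (.leaf 0x2000012000) (.leaf 0x2000000)) (.node (.leaf 0x0) (.leaf 0))) (.node (.node (.leaf 0x0) (.leaf 0)) (.node (.leaf 0x14000) (.leaf 0)))))) (.node (.node (.node (.node (.node (.leaf 0x300501700a) (.leaf 0x1d001)) (.node (.leaf 0x100100c003) (.leaf 0))) (.node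 (.node (.leaf 0x0) (.leaf 0)) (.node (.leaf 0x0) (.leaf 0)))) (.node (.node (.node (.leaf 0x400200e000) (.leaf 0x0)) (.node (.leaf 0x1001001000) (.leaf 0))) (.node (.node (.leaf 0x1001009000) (.leaf 0)) (.node (.leaf 0x0) (.leaf 0))))) (.node (.node (.node (.node (.leaf 0x3005017000) (.leaf 0x0)) (.node (.leaf 0x1004000000) (.leaf 0))) (.node (.node (.leaf 0x200c000) (.leaf 0)) (.node (.leaf 0x13000) (.leaf 0)))) (.node (.node (.node (.leaf 0x3004015000) (.leaf 0)) (.node (.leaf 0x100300d000) (.leaf 0))) (.node (.node (.leaf 0x1003007000) (.leaf 0)) (.node (.leaf 0x18001) (.leaf 0))))))))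

/-- part of the cover -/
def covV22 : Trie :=
  (.node (.node (.node (.node (.node (.node (.node (.leaf 0x400201702e000) (.leaf 0x1017000)) (.node (.leaf 0x0) (.leaf 0))) (.node (.node (.leaf 0x4005010000) (.leaf 0)) (.node (.leaf 0x0) (.leaf 0)))) (.node (.node (.node (.leaf 0x100400400b006) (.leaf 0x1001000)) (.node (.leaf 0x1002000000) (.leaf 0))) (.node (.node (.leaf 0x4004000) (.leaf 0)) (.node (.leaf 0x0) (.leaf 0))))) (.node (.node (.node (.node (.leaf 0x1001003025000) (.leaf 0x6001)) (.node (.leaf 0x1003017000) (.leaf 0))) (.node (.node (.leaf 0x1002003022000) (.leaf 0)) (.node (.leaf 0x0) (.leaf 0)))) (.node (.node (.node (.leaf 0x100400401d000) (.leaf 0x0)) (.node (.leaf 0x4000000) (.leaf 0))) (.node (.node (.leaf 0x201f000) (.leaf 0)) (.node (.leaf 0x1006000) (.leaf 0)))))) (.node (.node (.node (.node (.node (.leaf 0x0) (.leaf 0x2001)) (.node (.leaf 0x0) (.leaf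 0))) (.node (.node (.leaf 0x4028000) (.leaf 0)) (.node (.leaf 0x1001000) (.leaf 0)))) (.node (.node (.node (.leaf 0x200201e000) (.leaf 0x1001000)) (.node (.leaf 0x0) (.leaf 0))) (.node (.node (.leaf 0x2021000) (.leaf 0)) (.node (.leaf 0x1004000) (.leaf 0))))) (.node (.node (.node (.node (.leaf 0x1003002002029) (.leaf 0x0)) (.node (.leaf 0x1003002000) (.leaf 0))) (.node (.node (.leaf 0x1000000) (.leaf 0)) (.node (.leaf 0x1c000) (.leaf 0)))) (.node (.node (.node (.leaf 0x1002008000) (.leaf 0x1002000059)) (.node (.leaf 0x0) (.leaf 0))) (.node (.node (.leaf 0x10003) (.leaf 0)) (.node (.leaf 0x1000000) (.leaf 0))))))) (.node (.node (.node (.node (.node (.node (.leaf 0x1004001008006) (.leaf 0x13000)) (.node (.leaf 0x1004003) (.leaf 0))) (.node (.node (.leaf 0x0) (.leaf 0)) (.node (.leaf 0x4000) (.leaf 0)))) (.node (.node (.node (.leaf 0x100400201f025) (.leaf 0x1000)) (.node (.leaf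 0x300d000) (.leaf 0))) (.node (.node (.leaf 0x1010000) (.leaf 0)) (.node (.leaf 0x14001) (.leaf 0))))) (.node (.node (.node (.node (.leaf 0x1003000016000) (.leaf 0x0)) (.node (.leaf 0x4011000) (.leaf 0))) (.node (.node (.leaf 0x1001015000) (.leaf 0)) (.node (.leaf 0x0) (.leaf 0)))) (.node (.node (.node (.leaf 0x0) (.leaf 0x0)) (.node (.leaf 0x0) (.leaf 0))) (.node (.node (.leaf 0x1003000000) (.leaf 0)) (.node (.leaf 0x1017000) (.leaf 0)))))) (.node (.node (.node (.node (.node (.leaf 0x200501e02d) (.leaf 0x0)) (.node (.leaf 0x2001003) (.leaf 0))) (.node (.node (.leaf 0x400101a000) (.leaf 0)) (.node (.leaf 0x1a000) (.leaf 0)))) (.node (.node (.node (.leaf 0x1003003021000) (.leaf 0x0)) (.node (.leaf 0x400f000) (.leaf 0))) (.node (.node (.leaf 0x0) (.leaf 0)) (.node (.leaf 0x1000000) (.leaf 0))))) (.node (.node (.node (.node (.leaf 0x0) (.leaf 0x0)) (.node (.leaf 0x1003000000)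 (.leaf 0))) (.node (.node (.leaf 0x200200f000) (.leaf 0)) (.node (.leaf 0x100b000) (.leaf 0)))) (.node (.node (.node (.leaf 0x2003000000) (.leaf 0)) (.node (.leaf 0x100300d000) (.leaf 0))) (.node (.node (.leaf 0x0) (.leaf 0)) (.node (.leaf 0x101b001) (.leaf 0))))))))

/-- part of the cover -/
def covV54 : Trie :=
  (.node (.node (.node (.node (.node (.node (.node (.leaf 0x101b022) (.leaf 0x0)) (.node (.leaf 0x0) (.leaf 0))) (.node (.node (.leaf 0x1003001000000) (.leaf 0)) (.node (.leaf 0x1d000) (.leaf 0)))) (.node (.node (.node (.leaf 0x100300101f01c) (.leaf 0x1001000)) (.node (.leaf 0x0) (.leaf 0))) (.node (.node (.leaf 0x100101a000) (.leaf 0)) (.node (.leaf 0x1000000) (.leaf 0))))) (.node (.node (.node (.node (.leaf 0x3005010000) (.leaf 0x0)) (.node (.leaf 0x1001000) (.leaf 0))) (.node (.node (.leaf 0x400200b000) (.leaf 0)) (.node (.leaf 0x12000) (.leaf 0)))) (.node (.node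 (.node (.leaf 0x4003000000) (.leaf 0x100001d)) (.node (.leaf 0x0) (.leaf 0))) (.node (.node (.leaf 0x1003008000) (.leaf 0)) (.node (.leaf 0x1006000) (.leaf 0)))))) (.node (.node (.node (.node (.node (.leaf 0x200501e006) (.leaf 0x11001)) (.node (.leaf 0x1004017000) (.leaf 0))) (.node (.node (.leaf 0x0) (.leaf 0)) (.node (.leaf 0x0) (.leaf 0)))) (.node (.node (.node (.leaf 0x3002027000) (.leaf 0x1000000)) (.node (.leaf 0x1003017000) (.leaf 0))) (.node (.node (.leaf 0x3000000) (.leaf 0)) (.node (.leaf 0x1000000) (.leaf 0))))) (.node (.node (.node (.node (.leaf 0x100200000600d) (.leaf 0x1c001)) (.node (.leaf 0x400b000) (.leaf 0))) (.node (.node (.leaf 0x300301a005) (.leaf 0)) (.node (.leaf 0x0) (.leaf 0)))) (.node (.node (.node (.leaf 0x0) (.leaf 0x100131e)) (.node (.leaf 0x1000000) (.leaf 0))) (.node (.node (.leaf 0x100201b000) (.leaf 0)) (.node (.leaf 0x101b000) (.leaf 0)))))))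 (.node (.node (.node (.node (.node (.node (.leaf 0x400501b02d) (.leaf 0x1015000)) (.node (.leaf 0x3018003) (.leaf 0))) (.node (.node (.leaf 0x1004000000000) (.leaf 0)) (.node (.leaf 0x1016000) (.leaf 0)))) (.node (.node (.node (.leaf 0x1004019000) (.leaf 0x1000)) (.node (.leaf 0x1000000) (.leaf 0))) (.node (.node (.leaf 0x0) (.leaf 0)) (.node (.leaf 0x0) (.leaf 0))))) (.node (.node (.node (.node (.leaf 0x5004027) (.leaf 0x0)) (.node (.leaf 0x1002016000) (.leaf 0))) (.node (.node (.leaf 0x2003013000) (.leaf 0)) (.node (.leaf 0x101b001) (.leaf 0)))) (.node (.node (.node (.leaf 0x1001000012000) (.leaf 0x2001000)) (.node (.leaf 0x0) (.leaf 0))) (.node (.node (.leaf 0x0) (.leaf 0)) (.node (.leaf 0x0) (.leaf 0)))))) (.node (.node (.node (.node (.node (.leaf 0x1000002023020) (.leaf 0x1d001)) (.node (.leaf 0x1000010003) (.leaf 0))) (.node (.node (.leaf 0x0) (.leaf 0)) (.node (.leaf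 0x0) (.leaf 0)))) (.node (.node (.node (.leaf 0x2004014000) (.leaf 0x0)) (.node (.leaf 0x0) (.leaf 0))) (.node (.node (.leaf 0x201f000) (.leaf 0)) (.node (.leaf 0x1004001) (.leaf 0))))) (.node (.node (.node (.node (.leaf 0x1004010025) (.leaf 0x1b001)) (.node (.leaf 0x0) (.leaf 0))) (.node (.node (.leaf 0x300f000) (.leaf 0)) (.node (.leaf 0x1000000) (.leaf 0)))) (.node (.node (.node (.leaf 0x4001010000) (.leaf 0)) (.node (.leaf 0x0) (.leaf 0))) (.node (.node (.leaf 0x1001008000) (.leaf 0)) (.node (.leaf 0x1010000) (.leaf 0))))))))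

/-- part of the cover -/
def covV14 : Trie :=
  (.node (.node (.node (.node (.node (.node (.node (.leaf 0x5027031000) (.leaf 0x1008001)) (.node (.leaf 0x0) (.leaf 0))) (.node (.node (.leaf 0x1004002012000) (.leaf 0)) (.node (.leaf 0x0) (.leaf 0)))) (.node (.node (.node (.leaf 0x4004010006) (.leaf 0x0)) (.node (.leaf 0x1002000000) (.leaf 0))) (.node (.node (.leaf 0x0) (.leaf 0)) (.node (.leaf 0x0) (.leaf 0))))) (.node (.node (.node (.node (.leaf 0x2004000000) (.leaf 0x10001)) (.node (.leaf 0x1003000000) (.leaf 0))) (.node (.node (.leaf 0xb000) (.leaf 0)) (.node (.leaf 0x1000000) (.leaf 0)))) (.node (.node (.node (.leaf 0x5015000) (.leaf 0x0)) (.node (.leaf 0x1000000) (.leaf 0))) (.node (.node (.leaf 0x0) (.leaf 0)) (.node (.leaf 0x0) (.leaf 0)))))) (.node (.node (.node (.node (.node (.leaf 0x1004001008006) (.leaf 0xc001)) (.node (.leaf 0x1001000) (.leaf 0))) (.node (.node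 (.leaf 0x100301e000) (.leaf 0)) (.node (.leaf 0xd000) (.leaf 0)))) (.node (.node (.node (.leaf 0x0) (.leaf 0x0)) (.node (.leaf 0x0) (.leaf 0))) (.node (.node (.leaf 0x200f000) (.leaf 0)) (.node (.leaf 0x101a001) (.leaf 0))))) (.node (.node (.node (.node (.leaf 0x4002026028) (.leaf 0x18001)) (.node (.leaf 0x300e000) (.leaf 0))) (.node (.node (.leaf 0x1002004007005) (.leaf 0)) (.node (.leaf 0x0) (.leaf 0)))) (.node (.node (.node (.leaf 0x1001003016000) (.leaf 0x28b)) (.node (.leaf 0x0) (.leaf 0))) (.node (.node (.leaf 0x1000000000) (.leaf 0)) (.node (.leaf 0x101d001) (.leaf 0))))))) (.node (.node (.node (.node (.node (.node (.leaf 0x400201f022) (.leaf 0x1004001)) (.node (.leaf 0x100201c000) (.leaf 0))) (.node (.node (.leaf 0x0) (.leaf 0)) (.node (.leaf 0x0) (.leaf 0)))) (.node (.node (.node (.leaf 0x1002004004030) (.leaf 0x0)) (.node (.leaf 0x300d000) (.leaf 0))) (.node (.node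 (.leaf 0x1018000) (.leaf 0)) (.node (.leaf 0x1b001) (.leaf 0))))) (.node (.node (.node (.node (.leaf 0x2002009000) (.leaf 0x1a001)) (.node (.leaf 0x3013000) (.leaf 0))) (.node (.node (.leaf 0x100000101c000) (.leaf 0)) (.node (.leaf 0x1b001) (.leaf 0)))) (.node (.node (.node (.leaf 0x1004004000000) (.leaf 0x100001d)) (.node (.leaf 0x100100b000) (.leaf 0))) (.node (.node (.leaf 0x2000000) (.leaf 0)) (.node (.leaf 0x1009000) (.leaf 0)))))) (.node (.node (.node (.node (.node (.leaf 0x6) (.leaf 0x0)) (.node (.leaf 0x0) (.leaf 0))) (.node (.node (.leaf 0x1002005027000) (.leaf 0)) (.node (.leaf 0xe000) (.leaf 0)))) (.node (.node (.node (.leaf 0x1003001000000) (.leaf 0x1000000)) (.node (.leaf 0x1003000000) (.leaf 0))) (.node (.node (.leaf 0x1001000000) (.leaf 0)) (.node (.leaf 0x1000000) (.leaf 0))))) (.node (.node (.node (.node (.leaf 0x1003001010000) (.leaf 0x1b001)) (.node (.leaf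 0x3000000) (.leaf 0))) (.node (.node (.leaf 0x1003007000) (.leaf 0)) (.node (.leaf 0xd000) (.leaf 0)))) (.node (.node (.node (.leaf 0x1004005017000) (.leaf 0)) (.node (.leaf 0x100300d000) (.leaf 0))) (.node (.node (.leaf 0x4003000) (.leaf 0)) (.node (.leaf 0x19000) (.leaf 0))))))))

/-- part of the cover -/
def covV46 : Trie :=
  (.node (.node (.node (.node (.node (.node (.node (.leaf 0x100000500200a000) (.leaf 0x17001)) (.node (.leaf 0x300d003) (.leaf 0))) (.node (.node (.leaf 0x1000005000000) (.leaf 0)) (.node (.leaf 0x16000) (.leaf 0)))) (.node (.node (.node (.leaf 0x1000001010012) (.leaf 0x0)) (.node (.leaf 0x0) (.leaf 0))) (.node (.node (.leaf 0x100401f000) (.leaf 0)) (.node (.leaf 0x0) (.leaf 0))))) (.node (.node (.node (.node (.leaf 0x1002003029000) (.leaf 0x100d001)) (.node (.leaf 0x0) (.leaf 0))) (.node (.node (.leaf 0x4000028000) (.leaf 0)) (.node (.leaf 0x1d000)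 (.leaf 0)))) (.node (.node (.node (.leaf 0x1003001000000) (.leaf 0x104b)) (.node (.leaf 0x100b000) (.leaf 0))) (.node (.node (.leaf 0x1000017000) (.leaf 0)) (.node (.leaf 0x0) (.leaf 0)))))) (.node (.node (.node (.node (.node (.leaf 0xc) (.leaf 0x18001)) (.node (.leaf 0x1000009003) (.leaf 0))) (.node (.node (.leaf 0x100300301e000) (.leaf 0)) (.node (.leaf 0x1013000) (.leaf 0)))) (.node (.node (.node (.leaf 0x1002000) (.leaf 0x1001000)) (.node (.leaf 0x300d000) (.leaf 0))) (.node (.node (.leaf 0x3000000) (.leaf 0)) (.node (.leaf 0x0) (.leaf 0))))) (.node (.node (.node (.node (.leaf 0x400300f025) (.leaf 0x1c001)) (.node (.leaf 0x1000001000) (.leaf 0))) (.node (.node (.leaf 0x0) (.leaf 0)) (.node (.leaf 0x0) (.leaf 0)))) (.node (.node (.node (.leaf 0x4005018000) (.leaf 0x100200128b)) (.node (.leaf 0x0) (.leaf 0))) (.node (.node (.leaf 0x1000023000) (.leaf 0)) (.node (.leaf 0x1009000)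 (.leaf 0))))))) (.node (.node (.node (.node (.node (.node (.leaf 0x101b019) (.leaf 0x1004001)) (.node (.leaf 0x3021000) (.leaf 0))) (.node (.node (.leaf 0x2000000000) (.leaf 0)) (.node (.leaf 0x1b000) (.leaf 0)))) (.node (.node (.node (.leaf 0x4002002000) (.leaf 0x0)) (.node (.leaf 0x1002000000) (.leaf 0))) (.node (.node (.leaf 0x100101a000) (.leaf 0)) (.node (.leaf 0x0) (.leaf 0))))) (.node (.node (.node (.node (.leaf 0x400000c008) (.leaf 0x0)) (.node (.leaf 0x2006000) (.leaf 0))) (.node (.node (.leaf 0x100100500b000) (.leaf 0)) (.node (.leaf 0x1a001) (.leaf 0)))) (.node (.node (.node (.leaf 0x1002005000000) (.leaf 0x1001000)) (.node (.leaf 0x0) (.leaf 0))) (.node (.node (.leaf 0x0) (.leaf 0)) (.node (.leaf 0x0) (.leaf 0)))))) (.node (.node (.node (.node (.node (.leaf 0x1004005025018) (.leaf 0x1d001)) (.node (.leaf 0x3010003) (.leaf 0))) (.node (.node (.leaf 0x13000) (.leaf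 0)) (.node (.leaf 0x0) (.leaf 0)))) (.node (.node (.node (.leaf 0x0) (.leaf 0x0)) (.node (.leaf 0x0) (.leaf 0))) (.node (.node (.leaf 0x1003009000) (.leaf 0)) (.node (.leaf 0x1004001) (.leaf 0))))) (.node (.node (.node (.node (.leaf 0x1000002025000) (.leaf 0x1b001)) (.node (.leaf 0x1003000000) (.leaf 0))) (.node (.node (.leaf 0x1001008000) (.leaf 0)) (.node (.leaf 0x101d000) (.leaf 0)))) (.node (.node (.node (.leaf 0x1000005018000) (.leaf 0)) (.node (.leaf 0x0) (.leaf 0))) (.node (.node (.leaf 0x100301d000) (.leaf 0)) (.node (.leaf 0x1011001) (.leaf 0))))))))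

/-- part of the cover -/
def covV30 : Trie :=
  (.node (.node (.node (.node (.node (.node (.node (.leaf 0x1001000028029000) (.leaf 0x1d000)) (.node (.leaf 0x0) (.leaf 0))) (.node (.node (.leaf 0x0) (.leaf 0)) (.node (.leaf 0x0) (.leaf 0)))) (.node (.node (.node (.leaf 0x1001002011006) (.leaf 0x0)) (.node (.leaf 0x3000000) (.leaf 0))) (.node (.node (.leaf 0x1002022000) (.leaf 0)) (.node (.leaf 0x0) (.leaf 0))))) (.node (.node (.node (.node (.leaf 0x1001005025000) (.leaf 0x1015001)) (.node (.leaf 0x1002002000) (.leaf 0))) (.node (.node (.leaf 0x1002000017000) (.leaf 0)) (.node (.leaf 0x1007000) (.leaf 0)))) (.node (.node (.node (.leaf 0x1002003029000) (.leaf 0x0)) (.node (.leaf 0x1002000000) (.leaf 0))) (.node (.node (.leaf 0x1000017000) (.leaf 0)) (.node (.leaf 0x0) (.leaf 0)))))) (.node (.node (.node (.node (.node (.leaf 0x1000000000001) (.leaf 0x101b001)) (.node (.leaf 0x0)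 (.leaf 0))) (.node (.node (.leaf 0x3002000) (.leaf 0)) (.node (.leaf 0x100d000) (.leaf 0)))) (.node (.node (.node (.leaf 0x3012000) (.leaf 0x1000000)) (.node (.leaf 0x3017000) (.leaf 0))) (.node (.node (.leaf 0x400b000) (.leaf 0)) (.node (.leaf 0x17001) (.leaf 0))))) (.node (.node (.node (.node (.leaf 0x1000005018000) (.leaf 0x0)) (.node (.leaf 0x2017000) (.leaf 0))) (.node (.node (.leaf 0x3005007005) (.leaf 0)) (.node (.leaf 0xd000) (.leaf 0)))) (.node (.node (.node (.leaf 0x1001003010000) (.leaf 0x10011a5)) (.node (.leaf 0x0) (.leaf 0))) (.node (.node (.leaf 0x0) (.leaf 0)) (.node (.leaf 0x101d001) (.leaf 0))))))) (.node (.node (.node (.node (.node (.node (.leaf 0x1004004026009) (.leaf 0x1004001)) (.node (.leaf 0x1005000) (.leaf 0))) (.node (.node (.leaf 0x1003000000000) (.leaf 0)) (.node (.leaf 0x1018000) (.leaf 0)))) (.node (.node (.node (.leaf 0x100400100e000) (.leaf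 0x0)) (.node (.leaf 0x0) (.leaf 0))) (.node (.node (.leaf 0x100400e000) (.leaf 0)) (.node (.leaf 0x13001) (.leaf 0))))) (.node (.node (.node (.node (.leaf 0x0) (.leaf 0x0)) (.node (.leaf 0x1000008000) (.leaf 0))) (.node (.node (.leaf 0x3003024000) (.leaf 0)) (.node (.leaf 0x1d001) (.leaf 0)))) (.node (.node (.node (.leaf 0x1003005012000) (.leaf 0x0)) (.node (.leaf 0x0) (.leaf 0))) (.node (.node (.leaf 0x1001000000) (.leaf 0)) (.node (.leaf 0x100d000) (.leaf 0)))))) (.node (.node (.node (.node (.node (.leaf 0x1003005001016) (.leaf 0x0)) (.node (.leaf 0x4002003) (.leaf 0))) (.node (.node (.leaf 0x3004021000) (.leaf 0)) (.node (.leaf 0x16000) (.leaf 0)))) (.node (.node (.node (.leaf 0x1002001000) (.leaf 0x1000000)) (.node (.leaf 0x300f000) (.leaf 0))) (.node (.node (.leaf 0x0) (.leaf 0)) (.node (.leaf 0x17001) (.leaf 0))))) (.node (.node (.node (.node (.leaf 0x2002023000) (.leaf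 0x1b001)) (.node (.leaf 0x2000000) (.leaf 0))) (.node (.node (.leaf 0x1012000) (.leaf 0)) (.node (.leaf 0x0) (.leaf 0)))) (.node (.node (.node (.leaf 0x1000005011000) (.leaf 0)) (.node (.leaf 0x0) (.leaf 0))) (.node (.node (.leaf 0x21000) (.leaf 0)) (.node (.leaf 0x1004000) (.leaf 0))))))))

/-- part of the cover -/
def covV62 : Trie :=
  (.node (.node (.node (.node (.node (.node (.node (.leaf 0x3) (.leaf 0x0)) (.node (.leaf 0x1003006003) (.leaf 0))) (.node (.node (.leaf 0x3004000000) (.leaf 0)) (.node (.leaf 0x100e000) (.leaf 0)))) (.node (.node (.node (.leaf 0x100400201d02d) (.leaf 0x0)) (.node (.leaf 0x3017000) (.leaf 0))) (.node (.node (.leaf 0x1004018000) (.leaf 0)) (.node (.leaf 0x0) (.leaf 0))))) (.node (.node (.node (.node (.leaf 0x2004000000) (.leaf 0x0)) (.node (.leaf 0x1004004000) (.leaf 0))) (.node (.node (.leaf 0x200001b000) (.leaf 0)) (.node (.leaf 0x1000000)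 (.leaf 0)))) (.node (.node (.node (.leaf 0x2000000) (.leaf 0x0)) (.node (.leaf 0x300d000) (.leaf 0))) (.node (.node (.leaf 0x0) (.leaf 0)) (.node (.leaf 0x0) (.leaf 0)))))) (.node (.node (.node (.node (.node (.leaf 0x100200101602d) (.leaf 0x10000)) (.node (.leaf 0x301a003) (.leaf 0))) (.node (.node (.leaf 0x3000021000) (.leaf 0)) (.node (.leaf 0x101a000) (.leaf 0)))) (.node (.node (.node (.leaf 0x3003021000) (.leaf 0x1001000)) (.node (.leaf 0x0) (.leaf 0))) (.node (.node (.leaf 0x1000000000) (.leaf 0)) (.node (.leaf 0x0) (.leaf 0))))) (.node (.node (.node (.node (.leaf 0x5010029) (.leaf 0x1c001)) (.node (.leaf 0x1001013000) (.leaf 0))) (.node (.node (.leaf 0x1002003007000) (.leaf 0)) (.node (.leaf 0x1006000) (.leaf 0)))) (.node (.node (.node (.leaf 0x100300500c000) (.leaf 0)) (.node (.leaf 0x0) (.leaf 0))) (.node (.node (.leaf 0x100000e000) (.leaf 0)) (.node (.leaf 0x15000)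 (.leaf 0))))))) (.node (.node (.node (.node (.node (.node (.leaf 0x1000000000010) (.leaf 0x1012001)) (.node (.leaf 0x100301c003) (.leaf 0))) (.node (.node (.leaf 0x0) (.leaf 0)) (.node (.leaf 0x0) (.leaf 0)))) (.node (.node (.node (.leaf 0x100400201a000) (.leaf 0x1000000)) (.node (.leaf 0x1000000000) (.leaf 0))) (.node (.node (.leaf 0x1004014000) (.leaf 0)) (.node (.leaf 0x1010000) (.leaf 0))))) (.node (.node (.node (.node (.leaf 0x400300c008) (.leaf 0x0)) (.node (.leaf 0x1002006000) (.leaf 0))) (.node (.node (.leaf 0x1000002000000) (.leaf 0)) (.node (.leaf 0x0) (.leaf 0)))) (.node (.node (.node (.leaf 0x1000004010000) (.leaf 0x1004000000)) (.node (.leaf 0x1003000000) (.leaf 0))) (.node (.node (.leaf 0x1000000000) (.leaf 0)) (.node (.leaf 0x0) (.leaf 0)))))) (.node (.node (.node (.node (.node (.leaf 0x0) (.leaf 0x0)) (.node (.leaf 0x100000e000) (.leaf 0))) (.node (.node (.leaf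 0x1003022000) (.leaf 0)) (.node (.leaf 0x0) (.leaf 0)))) (.node (.node (.node (.leaf 0x4002028000) (.leaf 0x0)) (.node (.leaf 0x4000000) (.leaf 0))) (.node (.node (.leaf 0x1004017000) (.leaf 0)) (.node (.leaf 0x13000) (.leaf 0))))) (.node (.node (.node (.node (.leaf 0x2001003000) (.leaf 0x0)) (.node (.leaf 0x0) (.leaf 0))) (.node (.node (.leaf 0x3000) (.leaf 0)) (.node (.leaf 0x1012000) (.leaf 0)))) (.node (.node (.node (.leaf 0x2002000000) (.leaf 0)) (.node (.leaf 0x100b000) (.leaf 0))) (.node (.node (.leaf 0x100301a000) (.leaf 0)) (.node (.leaf 0x0) (.leaf 0))))))))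

/-- part of the cover -/
def covV1 : Trie :=
  (.node (.node (.node (.node (.node (.node (.node (.leaf 0x2d000) (.leaf 0x1017001)) (.node (.leaf 0x1003011000) (.leaf 0))) (.node (.node (.leaf 0x1001012000) (.leaf 0)) (.node (.leaf 0x100b000) (.leaf 0)))) (.node (.node (.node (.leaf 0x100200401c029) (.leaf 0x0)) (.node (.leaf 0x0) (.leaf 0))) (.node (.node (.leaf 0x100400c000) (.leaf 0)) (.node (.leaf 0x1012000) (.leaf 0))))) (.node (.node (.node (.node (.leaf 0x3001003000) (.leaf 0x15000)) (.node (.leaf 0x1003011000) (.leaf 0))) (.node (.node (.leaf 0x100400500d000) (.leaf 0)) (.node (.leaf 0x1000000) (.leaf 0)))) (.node (.node (.node (.leaf 0x2005025000) (.leaf 0x1000000)) (.node (.leaf 0x3000000) (.leaf 0))) (.node (.node (.leaf 0x1000017000) (.leaf 0)) (.node (.leaf 0x1004001) (.leaf 0)))))) (.node (.node (.node (.node (.node (.leaf 0x4001023016) (.leaf 0x1b000)) (.node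 (.leaf 0x1003002000) (.leaf 0))) (.node (.node (.leaf 0x100300301e000) (.leaf 0)) (.node (.leaf 0x0) (.leaf 0)))) (.node (.node (.node (.leaf 0x100400500e000) (.leaf 0x1000000)) (.node (.leaf 0x1001000000) (.leaf 0))) (.node (.node (.leaf 0x100301e000) (.leaf 0)) (.node (.leaf 0x100e000) (.leaf 0))))) (.node (.node (.node (.node (.leaf 0x2005020028) (.leaf 0x0)) (.node (.leaf 0x4006000) (.leaf 0))) (.node (.node (.leaf 0x1001001007005) (.leaf 0)) (.node (.leaf 0x0) (.leaf 0)))) (.node (.node (.node (.leaf 0x3001015000) (.leaf 0x1000)) (.node (.leaf 0x1003000000) (.leaf 0))) (.node (.node (.leaf 0x10003) (.leaf 0)) (.node (.leaf 0x1000000) (.leaf 0))))))) (.node (.node (.node (.node (.node (.node (.leaf 0x1002005026002) (.leaf 0x17001)) (.node (.leaf 0x1003021000) (.leaf 0))) (.node (.node (.leaf 0x1000000) (.leaf 0)) (.node (.leaf 0x15000) (.leaf 0)))) (.node (.node (.node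 (.leaf 0x100200400602b) (.leaf 0x1000000)) (.node (.leaf 0x3017000) (.leaf 0))) (.node (.node (.leaf 0x0) (.leaf 0)) (.node (.leaf 0x0) (.leaf 0))))) (.node (.node (.node (.node (.leaf 0x400501b000) (.leaf 0x0)) (.node (.leaf 0x400c000) (.leaf 0))) (.node (.node (.leaf 0x1001004001000) (.leaf 0)) (.node (.leaf 0x1007000) (.leaf 0)))) (.node (.node (.node (.leaf 0x1004005000000) (.leaf 0x100001d)) (.node (.leaf 0x1004015000) (.leaf 0))) (.node (.node (.leaf 0x3000000) (.leaf 0)) (.node (.leaf 0x0) (.leaf 0)))))) (.node (.node (.node (.node (.node (.leaf 0x1502b) (.leaf 0x1d001)) (.node (.leaf 0x101f000) (.leaf 0))) (.node (.node (.leaf 0x1000005013000) (.leaf 0)) (.node (.leaf 0x1015000) (.leaf 0)))) (.node (.node (.node (.leaf 0x1004000021000) (.leaf 0x0)) (.node (.leaf 0x0) (.leaf 0))) (.node (.node (.leaf 0x1004000000) (.leaf 0)) (.node (.leaf 0x1000000) (.leaf 0))))) (.node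 (.node (.node (.node (.leaf 0x4005023029) (.leaf 0x1c001)) (.node (.leaf 0x1000002000) (.leaf 0))) (.node (.node (.leaf 0x1000005003000) (.leaf 0)) (.node (.leaf 0x1d000) (.leaf 0)))) (.node (.node (.node (.leaf 0x100100401b000) (.leaf 0)) (.node (.leaf 0x100300d000) (.leaf 0))) (.node (.node (.leaf 0x1002002000) (.leaf 0)) (.node (.leaf 0x1012000) (.leaf 0))))))))

/-- part of the cover -/
def covV33 : Trie :=
  (.node (.node (.node (.node (.node (.node (.node (.leaf 0x100000400100f000) (.leaf 0x1001)) (.node (.leaf 0x1000023003) (.leaf 0))) (.node (.node (.leaf 0x1001001000000) (.leaf 0)) (.node (.leaf 0x0) (.leaf 0)))) (.node (.node (.node (.leaf 0x200000d) (.leaf 0x1000)) (.node (.leaf 0x1004000000) (.leaf 0))) (.node (.node (.leaf 0x4012000) (.leaf 0)) (.node (.leaf 0x0) (.leaf 0))))) (.node (.node (.node (.node (.leaf 0x1000005026000) (.leaf 0x100d000)) (.node (.leaf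 0x2006000) (.leaf 0))) (.node (.node (.leaf 0x1022000) (.leaf 0)) (.node (.leaf 0x1d000) (.leaf 0)))) (.node (.node (.node (.leaf 0x0) (.leaf 0x0)) (.node (.leaf 0x3000000) (.leaf 0))) (.node (.node (.leaf 0x1003009000) (.leaf 0)) (.node (.leaf 0x1006000) (.leaf 0)))))) (.node (.node (.node (.node (.node (.leaf 0x6) (.leaf 0x1010000)) (.node (.leaf 0x4002003) (.leaf 0))) (.node (.node (.leaf 0x1002003002000) (.leaf 0)) (.node (.leaf 0x17000) (.leaf 0)))) (.node (.node (.node (.leaf 0x1000001022000) (.leaf 0x1001000)) (.node (.leaf 0x4015000) (.leaf 0))) (.node (.node (.leaf 0x100100d000) (.leaf 0)) (.node (.leaf 0x1000000) (.leaf 0))))) (.node (.node (.node (.node (.leaf 0x1002011006) (.leaf 0x1c001)) (.node (.leaf 0x1004004000) (.leaf 0))) (.node (.node (.leaf 0x1001000000000) (.leaf 0)) (.node (.leaf 0x100b000) (.leaf 0)))) (.node (.node (.node (.leaf 0x1002003011000) (.leaf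 0x10030010a0)) (.node (.leaf 0x0) (.leaf 0))) (.node (.node (.leaf 0x100a000) (.leaf 0)) (.node (.leaf 0x0) (.leaf 0))))))) (.node (.node (.node (.node (.node (.node (.leaf 0x100200501e022) (.leaf 0x17001)) (.node (.leaf 0x1004017000) (.leaf 0))) (.node (.node (.leaf 0x1000000000000) (.leaf 0)) (.node (.leaf 0x101a000) (.leaf 0)))) (.node (.node (.node (.leaf 0x5013000) (.leaf 0x0)) (.node (.leaf 0x0) (.leaf 0))) (.node (.node (.leaf 0x400e000) (.leaf 0)) (.node (.leaf 0x5001) (.leaf 0))))) (.node (.node (.node (.node (.leaf 0x1000005024018) (.leaf 0x1a001)) (.node (.leaf 0x0) (.leaf 0))) (.node (.node (.leaf 0x300500e000) (.leaf 0)) (.node (.leaf 0x1004000) (.leaf 0)))) (.node (.node (.node (.leaf 0x2002015000) (.leaf 0x1000001000)) (.node (.leaf 0x0) (.leaf 0))) (.node (.node (.leaf 0x1001000000) (.leaf 0)) (.node (.leaf 0x100d000) (.leaf 0)))))) (.node (.node (.node (.node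 (.node (.leaf 0xc) (.leaf 0x0)) (.node (.leaf 0x1004006003) (.leaf 0))) (.node (.node (.leaf 0x300101b000) (.leaf 0)) (.node (.leaf 0x6000) (.leaf 0)))) (.node (.node (.node (.leaf 0x4005029000) (.leaf 0x1000000)) (.node (.leaf 0x300f000) (.leaf 0))) (.node (.node (.leaf 0x1003009000) (.leaf 0)) (.node (.leaf 0x0) (.leaf 0))))) (.node (.node (.node (.node (.leaf 0x1001003018000) (.leaf 0x1b001)) (.node (.leaf 0x1001000000) (.leaf 0))) (.node (.node (.leaf 0x1001003000) (.leaf 0)) (.node (.leaf 0x0) (.leaf 0)))) (.node (.node (.node (.leaf 0x4004001000) (.leaf 0)) (.node (.leaf 0x100300d000) (.leaf 0))) (.node (.node (.leaf 0x4002000) (.leaf 0)) (.node (.leaf 0x1018001) (.leaf 0))))))))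

/-- part of the cover -/
def covV17 : Trie :=
  (.node (.node (.node (.node (.node (.node (.node (.leaf 0x300300702d000) (.leaf 0x1001000)) (.node (.leaf 0x0) (.leaf 0))) (.node (.node (.leaf 0x1000004010000) (.leaf 0)) (.node (.leaf 0x100b000) (.leaf 0)))) (.node (.node (.node (.leaf 0x4004009006) (.leaf 0x1001000)) (.node (.leaf 0x1000000) (.leaf 0))) (.node (.node (.leaf 0x1002000) (.leaf 0)) (.node (.leaf 0x0) (.leaf 0))))) (.node (.node (.node (.node (.leaf 0x1000000008000) (.leaf 0x12000)) (.node (.leaf 0x6000) (.leaf 0))) (.node (.node (.leaf 0x1002002025000) (.leaf 0)) (.node (.leaf 0x1000000) (.leaf 0)))) (.node (.node (.node (.leaf 0x1000000021000) (.leaf 0x1000000)) (.node (.leaf 0x1004000000) (.leaf 0))) (.node (.node (.leaf 0x0) (.leaf 0)) (.node (.leaf 0x0) (.leaf 0)))))) (.node (.node (.node (.node (.node (.leaf 0x2001006016) (.leaf 0x14000)) (.node (.leaf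 0x1004010000) (.leaf 0))) (.node (.node (.leaf 0x4028000) (.leaf 0)) (.node (.leaf 0x1017000) (.leaf 0)))) (.node (.node (.node (.leaf 0x4004008000) (.leaf 0x0)) (.node (.leaf 0x0) (.leaf 0))) (.node (.node (.leaf 0x4015000) (.leaf 0)) (.node (.leaf 0x4000) (.leaf 0))))) (.node (.node (.node (.node (.leaf 0x0) (.leaf 0x18001)) (.node (.leaf 0x400e000) (.leaf 0))) (.node (.node (.leaf 0x1002005007005) (.leaf 0)) (.node (.leaf 0x1d000) (.leaf 0)))) (.node (.node (.node (.leaf 0x1000000011000) (.leaf 0x300031e)) (.node (.leaf 0x0) (.leaf 0))) (.node (.node (.leaf 0x10003) (.leaf 0)) (.node (.leaf 0x101d001) (.leaf 0))))))) (.node (.node (.node (.node (.node (.node (.leaf 0x200501e006) (.leaf 0x1004001)) (.node (.leaf 0x100301e003) (.leaf 0))) (.node (.node (.leaf 0x0) (.leaf 0)) (.node (.leaf 0x0) (.leaf 0)))) (.node (.node (.node (.leaf 0x100100201202b) (.leaf 0x1000)) (.node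 (.leaf 0x4015000) (.leaf 0))) (.node (.node (.leaf 0x100301c000) (.leaf 0)) (.node (.leaf 0x7001) (.leaf 0))))) (.node (.node (.node (.node (.leaf 0x4003003000) (.leaf 0x0)) (.node (.leaf 0x3000) (.leaf 0))) (.node (.node (.leaf 0x3002007000) (.leaf 0)) (.node (.leaf 0x18001) (.leaf 0)))) (.node (.node (.node (.leaf 0x1003004000000) (.leaf 0x1011)) (.node (.leaf 0x0) (.leaf 0))) (.node (.node (.leaf 0x1000000000) (.leaf 0)) (.node (.leaf 0x14000) (.leaf 0)))))) (.node (.node (.node (.node (.node (.leaf 0x1002005026004) (.leaf 0x101d001)) (.node (.leaf 0x100000f000) (.leaf 0))) (.node (.node (.leaf 0x4003016000) (.leaf 0)) (.node (.leaf 0x7000) (.leaf 0)))) (.node (.node (.node (.leaf 0x1005016000) (.leaf 0x0)) (.node (.leaf 0x2018000) (.leaf 0))) (.node (.node (.leaf 0x1002000000) (.leaf 0)) (.node (.leaf 0x1000000) (.leaf 0))))) (.node (.node (.node (.node (.leaf 0x3003020000)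 (.leaf 0x0)) (.node (.leaf 0x1002000000) (.leaf 0))) (.node (.node (.leaf 0x200101a000) (.leaf 0)) (.node (.leaf 0xd000) (.leaf 0)))) (.node (.node (.node (.leaf 0x300500d000) (.leaf 0)) (.node (.leaf 0x0) (.leaf 0))) (.node (.node (.leaf 0x0) (.leaf 0)) (.node (.leaf 0x0) (.leaf 0))))))))

/-- part of the cover -/
def covV49 : Trie :=
  (.node (.node (.node (.node (.node (.node (.node (.leaf 0x4001021013000) (.leaf 0x1000000)) (.node (.leaf 0x300d003) (.leaf 0))) (.node (.node (.leaf 0x1001003000000) (.leaf 0)) (.node (.leaf 0x101b000) (.leaf 0)))) (.node (.node (.node (.leaf 0x1003003008017) (.leaf 0x0)) (.node (.leaf 0x100b000) (.leaf 0))) (.node (.node (.leaf 0x2001000) (.leaf 0)) (.node (.leaf 0x0) (.leaf 0))))) (.node (.node (.node (.node (.leaf 0x2004029000) (.leaf 0x0)) (.node (.leaf 0x100400c000) (.leaf 0))) (.node (.node (.leaf 0x1000002013000) (.leaf 0)) (.node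 (.leaf 0x13000) (.leaf 0)))) (.node (.node (.node (.leaf 0x2000000000) (.leaf 0x1011)) (.node (.leaf 0x100300d000) (.leaf 0))) (.node (.node (.leaf 0x1001009000) (.leaf 0)) (.node (.leaf 0x1006000) (.leaf 0)))))) (.node (.node (.node (.node (.node (.leaf 0x1003005001016) (.leaf 0x1000)) (.node (.leaf 0x100100a000) (.leaf 0))) (.node (.node (.leaf 0x0) (.leaf 0)) (.node (.leaf 0x1000000) (.leaf 0)))) (.node (.node (.node (.leaf 0x1005028000) (.leaf 0x1001000)) (.node (.leaf 0x300d000) (.leaf 0))) (.node (.node (.leaf 0x1002000000) (.leaf 0)) (.node (.leaf 0x0) (.leaf 0))))) (.node (.node (.node (.node (.leaf 0x200001700d) (.leaf 0x1c001)) (.node (.leaf 0x1003012000) (.leaf 0))) (.node (.node (.leaf 0x200101a005) (.leaf 0)) (.node (.leaf 0x0) (.leaf 0)))) (.node (.node (.node (.leaf 0x14000) (.leaf 0x3001084)) (.node (.leaf 0x1000000) (.leaf 0))) (.node (.node (.leaf 0x100400a000)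 (.leaf 0)) (.node (.leaf 0x15000) (.leaf 0))))))) (.node (.node (.node (.node (.node (.node (.leaf 0x200501e010) (.leaf 0x0)) (.node (.leaf 0x1004020000) (.leaf 0))) (.node (.node (.leaf 0x2000000000) (.leaf 0)) (.node (.leaf 0x101c000) (.leaf 0)))) (.node (.node (.node (.leaf 0x100200500d000) (.leaf 0x1000000)) (.node (.leaf 0x3000000) (.leaf 0))) (.node (.node (.leaf 0x100100c000) (.leaf 0)) (.node (.leaf 0x6001) (.leaf 0))))) (.node (.node (.node (.node (.leaf 0x400200601f) (.leaf 0x0)) (.node (.leaf 0x1003010000) (.leaf 0))) (.node (.node (.leaf 0x3002027000) (.leaf 0)) (.node (.leaf 0xe000) (.leaf 0)))) (.node (.node (.node (.leaf 0x1003004015000) (.leaf 0x3000000)) (.node (.leaf 0x0) (.leaf 0))) (.node (.node (.leaf 0x0) (.leaf 0)) (.node (.leaf 0x1d001) (.leaf 0)))))) (.node (.node (.node (.node (.node (.leaf 0x100300400200e) (.leaf 0x1d001)) (.node (.leaf 0x1003010000)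 (.leaf 0))) (.node (.node (.leaf 0x400501e000) (.leaf 0)) (.node (.leaf 0x0) (.leaf 0)))) (.node (.node (.node (.leaf 0x2002021000) (.leaf 0x1000000)) (.node (.leaf 0x0) (.leaf 0))) (.node (.node (.leaf 0x1001008000) (.leaf 0)) (.node (.leaf 0x13000) (.leaf 0))))) (.node (.node (.node (.node (.leaf 0x3001009000) (.leaf 0x0)) (.node (.leaf 0x1001000000) (.leaf 0))) (.node (.node (.leaf 0x100d000) (.leaf 0)) (.node (.leaf 0x1d000) (.leaf 0)))) (.node (.node (.node (.leaf 0x4004018000) (.leaf 0)) (.node (.leaf 0x0) (.leaf 0))) (.node (.node (.leaf 0x1000015000) (.leaf 0)) (.node (.leaf 0x18001) (.leaf 0))))))))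

/-- part of the cover -/
def covV9 : Trie :=
  (.node (.node (.node (.node (.node (.node (.node (.leaf 0x2001006026000) (.leaf 0x1014001)) (.node (.leaf 0x1000023003) (.leaf 0))) (.node (.node (.leaf 0x1003002012000) (.leaf 0)) (.node (.leaf 0x0) (.leaf 0)))) (.node (.node (.node (.leaf 0x4004008027) (.leaf 0x1001000)) (.node (.leaf 0x4000000) (.leaf 0))) (.node (.node (.leaf 0x100401d000) (.leaf 0)) (.node (.leaf 0x12000) (.leaf 0))))) (.node (.node (.node (.node (.leaf 0x400200b000) (.leaf 0x1004001)) (.node (.leaf 0xe000) (.leaf 0))) (.node (.node (.leaf 0x1003004007000) (.leaf 0)) (.node (.leaf 0x1000000) (.leaf 0)))) (.node (.node (.node (.leaf 0x1002005008000) (.leaf 0x1000000)) (.node (.leaf 0x3000000) (.leaf 0))) (.node (.node (.leaf 0x0) (.leaf 0)) (.node (.leaf 0x1004001) (.leaf 0)))))) (.node (.node (.node (.node (.node (.leaf 0x1004004026002) (.leaf 0x9000)) (.node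 (.leaf 0x10003) (.leaf 0))) (.node (.node (.leaf 0x0) (.leaf 0)) (.node (.leaf 0x2000) (.leaf 0)))) (.node (.node (.node (.leaf 0x400000a000) (.leaf 0x1000000)) (.node (.leaf 0x0) (.leaf 0))) (.node (.node (.leaf 0x1022000) (.leaf 0)) (.node (.leaf 0x1d001) (.leaf 0))))) (.node (.node (.node (.node (.leaf 0x300002200c) (.leaf 0x0)) (.node (.leaf 0x2006000) (.leaf 0))) (.node (.node (.leaf 0x1002000000000) (.leaf 0)) (.node (.leaf 0x1019000) (.leaf 0)))) (.node (.node (.node (.leaf 0x300300c000) (.leaf 0x100000135a)) (.node (.leaf 0x0) (.leaf 0))) (.node (.node (.leaf 0x0) (.leaf 0)) (.node (.leaf 0x101d001) (.leaf 0))))))) (.node (.node (.node (.node (.node (.node (.leaf 0x200001802e) (.leaf 0x13000)) (.node (.leaf 0x3010003) (.leaf 0))) (.node (.node (.leaf 0x1000000) (.leaf 0)) (.node (.leaf 0x1007000) (.leaf 0)))) (.node (.node (.node (.leaf 0x2001020011) (.leaf 0x1001000))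 (.node (.leaf 0x100300d000) (.leaf 0))) (.node (.node (.leaf 0x100001c000) (.leaf 0)) (.node (.leaf 0x1008001) (.leaf 0))))) (.node (.node (.node (.node (.leaf 0x1005026000) (.leaf 0x0)) (.node (.leaf 0x1000002000) (.leaf 0))) (.node (.node (.leaf 0x19000) (.leaf 0)) (.node (.leaf 0x0) (.leaf 0)))) (.node (.node (.node (.leaf 0x1000000000) (.leaf 0x104b)) (.node (.leaf 0x100100b000) (.leaf 0))) (.node (.node (.leaf 0x1000000) (.leaf 0)) (.node (.leaf 0x0) (.leaf 0)))))) (.node (.node (.node (.node (.node (.leaf 0x10) (.leaf 0x17001)) (.node (.leaf 0x1000020003) (.leaf 0))) (.node (.node (.leaf 0x100100501e000) (.leaf 0)) (.node (.leaf 0x1003000) (.leaf 0)))) (.node (.node (.node (.leaf 0x100000301b000) (.leaf 0x0)) (.node (.leaf 0x2018000) (.leaf 0))) (.node (.node (.leaf 0x1003000000) (.leaf 0)) (.node (.leaf 0x1000000) (.leaf 0))))) (.node (.node (.node (.node (.leaf 0x4003025000)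 (.leaf 0x0)) (.node (.leaf 0x1000000) (.leaf 0))) (.node (.node (.leaf 0x400001a005) (.leaf 0)) (.node (.leaf 0x100b000) (.leaf 0)))) (.node (.node (.node (.leaf 0x1001013000) (.leaf 0)) (.node (.leaf 0x100300d000) (.leaf 0))) (.node (.node (.leaf 0x100a000) (.leaf 0)) (.node (.leaf 0x1009000) (.leaf 0))))))))

/-- part of the cover -/
def covV41 : Trie :=
  (.node (.node (.node (.node (.node (.node (.node (.leaf 0x200201900e000) (.leaf 0x1013001)) (.node (.leaf 0x2015000) (.leaf 0))) (.node (.node (.leaf 0x1003003000000) (.leaf 0)) (.node (.leaf 0x1006000) (.leaf 0)))) (.node (.node (.node (.leaf 0x100300400402b) (.leaf 0x1000000)) (.node (.leaf 0x0) (.leaf 0))) (.node (.node (.leaf 0x4016000) (.leaf 0)) (.node (.leaf 0x1000000) (.leaf 0))))) (.node (.node (.node (.node (.leaf 0x4022000) (.leaf 0x101a001)) (.node (.leaf 0x1002004000) (.leaf 0))) (.node (.node (.leaf 0x1002002025000)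 (.leaf 0)) (.node (.leaf 0x13000) (.leaf 0)))) (.node (.node (.node (.leaf 0x3001000000) (.leaf 0x1083)) (.node (.leaf 0x100b000) (.leaf 0))) (.node (.node (.leaf 0x1001008000) (.leaf 0)) (.node (.leaf 0x1006000) (.leaf 0)))))) (.node (.node (.node (.node (.node (.leaf 0x3) (.leaf 0x1017001)) (.node (.leaf 0x2012003) (.leaf 0))) (.node (.node (.leaf 0x100300301e000) (.leaf 0)) (.node (.leaf 0x16000) (.leaf 0)))) (.node (.node (.node (.leaf 0x1002025000) (.leaf 0x0)) (.node (.leaf 0x1003017000) (.leaf 0))) (.node (.node (.leaf 0x0) (.leaf 0)) (.node (.leaf 0x0) (.leaf 0))))) (.node (.node (.node (.node (.leaf 0x300401f00d) (.leaf 0x1c001)) (.node (.leaf 0xa000) (.leaf 0))) (.node (.node (.leaf 0x1001003007005) (.leaf 0)) (.node (.leaf 0x14000) (.leaf 0)))) (.node (.node (.node (.leaf 0x1004021000) (.leaf 0x10020003e8)) (.node (.leaf 0x0) (.leaf 0))) (.node (.node (.leaf 0x0)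 (.leaf 0)) (.node (.leaf 0x19000) (.leaf 0))))))) (.node (.node (.node (.node (.node (.node (.leaf 0xa) (.leaf 0x0)) (.node (.leaf 0x1001016003) (.leaf 0))) (.node (.node (.leaf 0x1004000000000) (.leaf 0)) (.node (.leaf 0x1000) (.leaf 0)))) (.node (.node (.node (.leaf 0x1005016000) (.leaf 0x1000)) (.node (.leaf 0x1002000000) (.leaf 0))) (.node (.node (.leaf 0x201a000) (.leaf 0)) (.node (.leaf 0x101d001) (.leaf 0))))) (.node (.node (.node (.node (.leaf 0x1000002) (.leaf 0x0)) (.node (.leaf 0x1003014000) (.leaf 0))) (.node (.node (.leaf 0x1003002022000) (.leaf 0)) (.node (.leaf 0x1004000) (.leaf 0)))) (.node (.node (.node (.leaf 0x1002005015000) (.leaf 0x5000000)) (.node (.leaf 0x0) (.leaf 0))) (.node (.node (.leaf 0x1004000000) (.leaf 0)) (.node (.leaf 0x19000) (.leaf 0)))))) (.node (.node (.node (.node (.node (.leaf 0x1002002021005) (.leaf 0x1d001)) (.node (.leaf 0x101c000)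 (.leaf 0))) (.node (.node (.leaf 0x5007000) (.leaf 0)) (.node (.leaf 0x0) (.leaf 0)))) (.node (.node (.node (.leaf 0x1004002018000) (.leaf 0x1000000)) (.node (.leaf 0x1000001000) (.leaf 0))) (.node (.node (.leaf 0x1001008000) (.leaf 0)) (.node (.leaf 0x17001) (.leaf 0))))) (.node (.node (.node (.node (.leaf 0x2004018000) (.leaf 0x0)) (.node (.leaf 0x1002000000) (.leaf 0))) (.node (.node (.leaf 0x1002005000) (.leaf 0)) (.node (.leaf 0x1007000) (.leaf 0)))) (.node (.node (.node (.leaf 0x0) (.leaf 0)) (.node (.leaf 0x0) (.leaf 0))) (.node (.node (.leaf 0x4008000) (.leaf 0)) (.node (.leaf 0xe000) (.leaf 0))))))))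

/-- part of the cover -/
def covV25 : Trie :=
  (.node (.node (.node (.node (.node (.node (.node (.leaf 0x1000003029016000) (.leaf 0x101c001)) (.node (.leaf 0x1000023003) (.leaf 0))) (.node (.node (.leaf 0x1003004000000) (.leaf 0)) (.node (.leaf 0x100b000) (.leaf 0)))) (.node (.node (.node (.leaf 0x13029) (.leaf 0x1000000)) (.node (.leaf 0x1001000000) (.leaf 0))) (.node (.node (.leaf 0x3007000) (.leaf 0)) (.node (.leaf 0x0) (.leaf 0))))) (.node (.node (.node (.node (.leaf 0x201f000) (.leaf 0xe001)) (.node (.leaf 0x4006000) (.leaf 0))) (.node (.node (.leaf 0x1002000026000) (.leaf 0)) (.node (.leaf 0x0) (.leaf 0)))) (.node (.node (.node (.leaf 0x4000028000) (.leaf 0x1000000)) (.node (.leaf 0x1001000000) (.leaf 0))) (.node (.node (.leaf 0x1003009000) (.leaf 0)) (.node (.leaf 0x0) (.leaf 0)))))) (.node (.node (.node (.node (.node (.leaf 0x1003005001005) (.leaf 0x100d001)) (.node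 (.leaf 0x0) (.leaf 0))) (.node (.node (.leaf 0x4028000) (.leaf 0)) (.node (.leaf 0x1d000) (.leaf 0)))) (.node (.node (.node (.leaf 0x300301b000) (.leaf 0x0)) (.node (.leaf 0x3017000) (.leaf 0))) (.node (.node (.leaf 0x1010000) (.leaf 0)) (.node (.leaf 0x1018001) (.leaf 0))))) (.node (.node (.node (.node (.leaf 0x1004002028000) (.leaf 0x0)) (.node (.leaf 0x1003005000) (.leaf 0))) (.node (.node (.leaf 0x1005000000) (.leaf 0)) (.node (.leaf 0x1c000) (.leaf 0)))) (.node (.node (.node (.leaf 0x1002028000) (.leaf 0x100046b)) (.node (.leaf 0x0) (.leaf 0))) (.node (.node (.leaf 0x10003) (.leaf 0)) (.node (.leaf 0x1000000) (.leaf 0))))))) (.node (.node (.node (.node (.node (.node (.leaf 0x100200101602d) (.leaf 0x13000)) (.node (.leaf 0x3008000) (.leaf 0))) (.node (.node (.leaf 0x1003000000000) (.leaf 0)) (.node (.leaf 0x15000) (.leaf 0)))) (.node (.node (.node (.leaf 0x0) (.leaf 0x0))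 (.node (.leaf 0x0) (.leaf 0))) (.node (.node (.leaf 0x200a000) (.leaf 0)) (.node (.leaf 0xf001) (.leaf 0))))) (.node (.node (.node (.node (.leaf 0x3004006000) (.leaf 0x1a001)) (.node (.leaf 0x13000) (.leaf 0))) (.node (.node (.leaf 0x2003009000) (.leaf 0)) (.node (.leaf 0x10000) (.leaf 0)))) (.node (.node (.node (.leaf 0x1002001015000) (.leaf 0x0)) (.node (.leaf 0x0) (.leaf 0))) (.node (.node (.leaf 0x3000000) (.leaf 0)) (.node (.leaf 0x3000) (.leaf 0)))))) (.node (.node (.node (.node (.node (.leaf 0x400501b010) (.leaf 0x0)) (.node (.leaf 0x100b003) (.leaf 0))) (.node (.node (.leaf 0x100200000a000) (.leaf 0)) (.node (.leaf 0x1009000) (.leaf 0)))) (.node (.node (.node (.leaf 0x100200000b000) (.leaf 0x0)) (.node (.leaf 0x300f000) (.leaf 0))) (.node (.node (.leaf 0x0) (.leaf 0)) (.node (.leaf 0x0) (.leaf 0))))) (.node (.node (.node (.node (.leaf 0x2001029000) (.leaf 0x0)) (.node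 (.leaf 0x4000000) (.leaf 0))) (.node (.node (.leaf 0x1000002003000) (.leaf 0)) (.node (.leaf 0x1019000) (.leaf 0)))) (.node (.node (.node (.leaf 0x100400500f000) (.leaf 0)) (.node (.leaf 0x100300d000) (.leaf 0))) (.node (.node (.leaf 0x1001013000) (.leaf 0)) (.node (.leaf 0x1017001) (.leaf 0))))))))

/-- part of the cover -/
def covV57 : Trie :=
  (.node (.node (.node (.node (.node (.node (.node (.leaf 0x101b019) (.leaf 0x0)) (.node (.leaf 0x2009000) (.leaf 0))) (.node (.node (.leaf 0x3000000000) (.leaf 0)) (.node (.leaf 0xb000) (.leaf 0)))) (.node (.node (.node (.leaf 0x402501c) (.leaf 0x1000000)) (.node (.leaf 0x1003017000) (.leaf 0))) (.node (.node (.leaf 0x100100f000) (.leaf 0)) (.node (.leaf 0x1000000) (.leaf 0))))) (.node (.node (.node (.node (.leaf 0x100000200b000) (.leaf 0x0)) (.node (.leaf 0x1003006000) (.leaf 0))) (.node (.node (.leaf 0x1004005011000) (.leaf 0))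 (.node (.leaf 0x7000) (.leaf 0)))) (.node (.node (.node (.leaf 0x1004002000000) (.leaf 0x0)) (.node (.leaf 0x1004015000) (.leaf 0))) (.node (.node (.leaf 0x1000000) (.leaf 0)) (.node (.leaf 0x0) (.leaf 0)))))) (.node (.node (.node (.node (.node (.leaf 0x200300f018) (.leaf 0x1001000)) (.node (.leaf 0x1004001000) (.leaf 0))) (.node (.node (.leaf 0x1000002000) (.leaf 0)) (.node (.leaf 0xb000) (.leaf 0)))) (.node (.node (.node (.leaf 0x1005011000) (.leaf 0x1000000)) (.node (.leaf 0x1000000000) (.leaf 0))) (.node (.node (.leaf 0x1002000000) (.leaf 0)) (.node (.leaf 0x0) (.leaf 0))))) (.node (.node (.node (.node (.leaf 0x100400101a025) (.leaf 0x1c001)) (.node (.leaf 0x100400d000) (.leaf 0))) (.node (.node (.leaf 0x400301a005) (.leaf 0)) (.node (.leaf 0x1006000) (.leaf 0)))) (.node (.node (.node (.leaf 0x1003018000) (.leaf 0x4001138)) (.node (.leaf 0x0) (.leaf 0))) (.node (.node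 (.leaf 0x2014000) (.leaf 0)) (.node (.leaf 0x1009000) (.leaf 0))))))) (.node (.node (.node (.node (.node (.node (.leaf 0x400201f022) (.leaf 0x1007000)) (.node (.leaf 0x201f000) (.leaf 0))) (.node (.node (.leaf 0x4000000000) (.leaf 0)) (.node (.leaf 0x7000) (.leaf 0)))) (.node (.node (.node (.leaf 0x1001003011000) (.leaf 0x1000)) (.node (.leaf 0x1002000000) (.leaf 0))) (.node (.node (.leaf 0x201b000) (.leaf 0)) (.node (.leaf 0x0) (.leaf 0))))) (.node (.node (.node (.node (.leaf 0x300500b020) (.leaf 0x0)) (.node (.leaf 0x1003000000) (.leaf 0))) (.node (.node (.leaf 0x1002000007005) (.leaf 0)) (.node (.leaf 0x1019000) (.leaf 0)))) (.node (.node (.node (.leaf 0x1002018000) (.leaf 0x1001001000)) (.node (.leaf 0x1003000000) (.leaf 0))) (.node (.node (.leaf 0x1000010003) (.leaf 0)) (.node (.leaf 0x101d001) (.leaf 0)))))) (.node (.node (.node (.node (.node (.leaf 0x200101a021) (.leaf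 0x1000000)) (.node (.leaf 0x1000020003) (.leaf 0))) (.node (.node (.leaf 0x1003001027000) (.leaf 0)) (.node (.leaf 0x0) (.leaf 0)))) (.node (.node (.node (.leaf 0x3000015000) (.leaf 0x0)) (.node (.leaf 0x0) (.leaf 0))) (.node (.node (.leaf 0x1000017000) (.leaf 0)) (.node (.leaf 0x13000) (.leaf 0))))) (.node (.node (.node (.node (.leaf 0x100000001c006) (.leaf 0x0)) (.node (.leaf 0x0) (.leaf 0))) (.node (.node (.leaf 0x3003000) (.leaf 0)) (.node (.leaf 0x1d000) (.leaf 0)))) (.node (.node (.node (.leaf 0x3012000) (.leaf 0)) (.node (.leaf 0x100b000) (.leaf 0))) (.node (.node (.leaf 0x100301c000) (.leaf 0)) (.node (.leaf 0x100e000) (.leaf 0))))))))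

/-- part of the cover -/
def covV5 : Trie :=
  (.node (.node (.node (.node (.node (.node (.node (.leaf 0x301d00f000) (.leaf 0x0)) (.node (.leaf 0x0) (.leaf 0))) (.node (.node (.leaf 0x1001002000000) (.leaf 0)) (.node (.leaf 0x100b000) (.leaf 0)))) (.node (.node (.node (.leaf 0x100300001600d) (.leaf 0x0)) (.node (.leaf 0x4000000) (.leaf 0))) (.node (.node (.leaf 0x1000016000) (.leaf 0)) (.node (.leaf 0x7000) (.leaf 0))))) (.node (.node (.node (.node (.leaf 0x3004015000) (.leaf 0x1008001)) (.node (.leaf 0x3009000) (.leaf 0))) (.node (.node (.leaf 0x1003022000) (.leaf 0)) (.node (.leaf 0x0) (.leaf 0)))) (.node (.node (.node (.leaf 0x200201c000) (.leaf 0x0)) (.node (.leaf 0x3000000) (.leaf 0))) (.node (.node (.leaf 0x1000000) (.leaf 0)) (.node (.leaf 0x17001) (.leaf 0)))))) (.node (.node (.node (.node (.node (.leaf 0x300501700a) (.leaf 0x1001)) (.node (.leaf 0x1003004003) (.leaf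 0))) (.node (.node (.leaf 0x100301e000) (.leaf 0)) (.node (.leaf 0x0) (.leaf 0)))) (.node (.node (.node (.leaf 0x1003002017000) (.leaf 0x1000)) (.node (.leaf 0x1000000000) (.leaf 0))) (.node (.node (.leaf 0x1002012000) (.leaf 0)) (.node (.leaf 0x1010000) (.leaf 0))))) (.node (.node (.node (.node (.leaf 0x401e016) (.leaf 0x18001)) (.node (.leaf 0x100100e000) (.leaf 0))) (.node (.node (.leaf 0x1001002007005) (.leaf 0)) (.node (.leaf 0x1c000) (.leaf 0)))) (.node (.node (.node (.leaf 0x0) (.leaf 0x5001000)) (.node (.leaf 0x0) (.leaf 0))) (.node (.node (.leaf 0x1000010003) (.leaf 0)) (.node (.leaf 0x101d001) (.leaf 0))))))) (.node (.node (.node (.node (.node (.node (.leaf 0x100202400e) (.leaf 0x0)) (.node (.leaf 0x1004010000) (.leaf 0))) (.node (.node (.leaf 0x2003000000) (.leaf 0)) (.node (.leaf 0x1011000) (.leaf 0)))) (.node (.node (.node (.leaf 0x100400400e02d) (.leaf 0x0))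 (.node (.leaf 0x1003017000) (.leaf 0))) (.node (.node (.leaf 0x4022000) (.leaf 0)) (.node (.leaf 0x15000) (.leaf 0))))) (.node (.node (.node (.node (.leaf 0xf000) (.leaf 0x0)) (.node (.leaf 0x1001004000) (.leaf 0))) (.node (.node (.leaf 0x5009000) (.leaf 0)) (.node (.leaf 0x7000) (.leaf 0)))) (.node (.node (.node (.leaf 0x1000004000000) (.leaf 0x104b)) (.node (.leaf 0x300d000) (.leaf 0))) (.node (.node (.leaf 0x1000000000) (.leaf 0)) (.node (.leaf 0x0) (.leaf 0)))))) (.node (.node (.node (.node (.node (.leaf 0x1004003010022) (.leaf 0x1018001)) (.node (.leaf 0x3004000) (.leaf 0))) (.node (.node (.leaf 0x1000004003000) (.leaf 0)) (.node (.leaf 0xc000) (.leaf 0)))) (.node (.node (.node (.leaf 0x400500f000) (.leaf 0x0)) (.node (.leaf 0x0) (.leaf 0))) (.node (.node (.leaf 0x4000000) (.leaf 0)) (.node (.leaf 0x0) (.leaf 0))))) (.node (.node (.node (.node (.leaf 0x1000002006000)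 (.leaf 0x0)) (.node (.leaf 0x0) (.leaf 0))) (.node (.node (.leaf 0x1004005000000) (.leaf 0)) (.node (.leaf 0x14000) (.leaf 0)))) (.node (.node (.node (.leaf 0x1000004025000) (.leaf 0)) (.node (.leaf 0x100300d000) (.leaf 0))) (.node (.node (.leaf 0x3013000) (.leaf 0)) (.node (.leaf 0x19000) (.leaf 0))))))))

/-- part of the cover -/
def covV37 : Trie :=
  (.node (.node (.node (.node (.node (.node (.node (.leaf 0x1000003016008000) (.leaf 0x9000)) (.node (.leaf 0x2015000) (.leaf 0))) (.node (.node (.leaf 0x1000004000000) (.leaf 0)) (.node (.leaf 0x4000) (.leaf 0)))) (.node (.node (.node (.leaf 0x400102900d) (.leaf 0x1000000)) (.node (.leaf 0x3000000) (.leaf 0))) (.node (.node (.leaf 0x100400c000) (.leaf 0)) (.node (.leaf 0x0) (.leaf 0))))) (.node (.node (.node (.node (.leaf 0x100000401d000) (.leaf 0x101d001)) (.node (.leaf 0x100100b000) (.leaf 0))) (.node (.node (.leaf 0x100000301c000)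 (.leaf 0)) (.node (.leaf 0x1000000) (.leaf 0)))) (.node (.node (.node (.leaf 0x0) (.leaf 0x0)) (.node (.leaf 0x0) (.leaf 0))) (.node (.node (.leaf 0x1004017000) (.leaf 0)) (.node (.leaf 0x0) (.leaf 0)))))) (.node (.node (.node (.node (.node (.leaf 0x100400000d007) (.leaf 0x101a001)) (.node (.leaf 0x1004017000) (.leaf 0))) (.node (.node (.leaf 0x100300301e000) (.leaf 0)) (.node (.leaf 0x1b000) (.leaf 0)))) (.node (.node (.node (.leaf 0x300500d000) (.leaf 0x1000)) (.node (.leaf 0x100300d000) (.leaf 0))) (.node (.node (.leaf 0x0) (.leaf 0)) (.node (.leaf 0x1019000) (.leaf 0))))) (.node (.node (.node (.node (.leaf 0x4003010006) (.leaf 0x0)) (.node (.leaf 0x15000) (.leaf 0))) (.node (.node (.leaf 0x1002001007005) (.leaf 0)) (.node (.leaf 0x1019000) (.leaf 0)))) (.node (.node (.node (.leaf 0x400101e000) (.leaf 0x10040011dc)) (.node (.leaf 0x1000000) (.leaf 0))) (.node (.node (.leaf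 0x1001019000) (.leaf 0)) (.node (.leaf 0x0) (.leaf 0))))))) (.node (.node (.node (.node (.node (.node (.leaf 0x101b02d) (.leaf 0x1004001)) (.node (.leaf 0x1000023003) (.leaf 0))) (.node (.node (.leaf 0x1001000000000) (.leaf 0)) (.node (.leaf 0x100a000) (.leaf 0)))) (.node (.node (.node (.leaf 0x1002001023000) (.leaf 0x0)) (.node (.leaf 0x2000000) (.leaf 0))) (.node (.node (.leaf 0x1022000) (.leaf 0)) (.node (.leaf 0x100d000) (.leaf 0))))) (.node (.node (.node (.node (.leaf 0x100200201302b) (.leaf 0x0)) (.node (.leaf 0x100400e000) (.leaf 0))) (.node (.node (.leaf 0x300501b000) (.leaf 0)) (.node (.leaf 0x1004000) (.leaf 0)))) (.node (.node (.node (.leaf 0x2001018000) (.leaf 0x1003001000)) (.node (.leaf 0x1003000000) (.leaf 0))) (.node (.node (.leaf 0x4000000) (.leaf 0)) (.node (.leaf 0x0) (.leaf 0)))))) (.node (.node (.node (.node (.node (.leaf 0x100400001802b) (.leaf 0x1000000))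 (.node (.leaf 0x12003) (.leaf 0))) (.node (.node (.leaf 0x1004002015000) (.leaf 0)) (.node (.leaf 0x0) (.leaf 0)))) (.node (.node (.node (.leaf 0x200000d000) (.leaf 0x1000000)) (.node (.leaf 0x1001001000) (.leaf 0))) (.node (.node (.leaf 0x1000000) (.leaf 0)) (.node (.leaf 0x1004001) (.leaf 0))))) (.node (.node (.node (.node (.leaf 0x2002023000) (.leaf 0x0)) (.node (.leaf 0x1003000000) (.leaf 0))) (.node (.node (.leaf 0x2013000) (.leaf 0)) (.node (.leaf 0x0) (.leaf 0)))) (.node (.node (.node (.leaf 0x1004004001000) (.leaf 0)) (.node (.leaf 0x100300d000) (.leaf 0))) (.node (.node (.leaf 0x1003007000) (.leaf 0)) (.node (.leaf 0x1b001) (.leaf 0))))))))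

/-- part of the cover -/
def covV21 : Trie :=
  (.node (.node (.node (.node (.node (.node (.node (.leaf 0x300302600d000) (.leaf 0x1007000)) (.node (.leaf 0x0) (.leaf 0))) (.node (.node (.leaf 0x1002001000000) (.leaf 0)) (.node (.leaf 0x100b000) (.leaf 0)))) (.node (.node (.node (.leaf 0x100100501b006) (.leaf 0x1001000)) (.node (.leaf 0x0) (.leaf 0))) (.node (.node (.leaf 0x1000022000) (.leaf 0)) (.node (.leaf 0x0) (.leaf 0))))) (.node (.node (.node (.node (.leaf 0x300000f000) (.leaf 0xf001)) (.node (.leaf 0xc000) (.leaf 0))) (.node (.node (.leaf 0x0) (.leaf 0)) (.node (.leaf 0x0) (.leaf 0)))) (.node (.node (.node (.leaf 0x300000b000) (.leaf 0x0)) (.node (.leaf 0x1004000000) (.leaf 0))) (.node (.node (.leaf 0x0) (.leaf 0)) (.node (.leaf 0x0) (.leaf 0)))))) (.node (.node (.node (.node (.node (.leaf 0x1000002023020) (.leaf 0x1000000)) (.node (.leaf 0x8003) (.leaf 0))) (.node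 (.node (.leaf 0x1002000000000) (.leaf 0)) (.node (.leaf 0x100f000) (.leaf 0)))) (.node (.node (.node (.leaf 0x3005012000) (.leaf 0x0)) (.node (.leaf 0x0) (.leaf 0))) (.node (.node (.leaf 0x200f000) (.leaf 0)) (.node (.leaf 0x4000) (.leaf 0))))) (.node (.node (.node (.node (.leaf 0x100400401a00d) (.leaf 0x0)) (.node (.leaf 0x100300c000) (.leaf 0))) (.node (.node (.leaf 0x3004007005) (.leaf 0)) (.node (.leaf 0x1d000) (.leaf 0)))) (.node (.node (.node (.leaf 0x2000018000) (.leaf 0x3001128)) (.node (.leaf 0x0) (.leaf 0))) (.node (.node (.leaf 0x1000010003) (.leaf 0)) (.node (.leaf 0x1000000) (.leaf 0))))))) (.node (.node (.node (.node (.node (.node (.leaf 0x401a011) (.leaf 0x13000)) (.node (.leaf 0x100101e000) (.leaf 0))) (.node (.node (.leaf 0x0) (.leaf 0)) (.node (.leaf 0x12000) (.leaf 0)))) (.node (.node (.node (.leaf 0x1000005010021) (.leaf 0x1000000)) (.node (.leaf 0x4015000)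 (.leaf 0))) (.node (.node (.leaf 0x1a000) (.leaf 0)) (.node (.leaf 0x12000) (.leaf 0))))) (.node (.node (.node (.node (.leaf 0x100200100e000) (.leaf 0x1a001)) (.node (.leaf 0x100000e000) (.leaf 0))) (.node (.node (.leaf 0x1003004020000) (.leaf 0)) (.node (.leaf 0x1001000) (.leaf 0)))) (.node (.node (.node (.leaf 0x0) (.leaf 0x1011)) (.node (.leaf 0x0) (.leaf 0))) (.node (.node (.leaf 0x1000000000) (.leaf 0)) (.node (.leaf 0x14000) (.leaf 0)))))) (.node (.node (.node (.node (.node (.leaf 0x400501b02d) (.leaf 0x0)) (.node (.leaf 0x0) (.leaf 0))) (.node (.node (.leaf 0x1000002024000) (.leaf 0)) (.node (.leaf 0x1007000) (.leaf 0)))) (.node (.node (.node (.leaf 0x3005008000) (.leaf 0x0)) (.node (.leaf 0x1001001000) (.leaf 0))) (.node (.node (.leaf 0x1000000) (.leaf 0)) (.node (.leaf 0x0) (.leaf 0))))) (.node (.node (.node (.node (.leaf 0x2005001000) (.leaf 0x0)) (.node (.leaf 0x3000000)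 (.leaf 0))) (.node (.node (.leaf 0x3000000) (.leaf 0)) (.node (.leaf 0x1002000) (.leaf 0)))) (.node (.node (.node (.leaf 0x1000003022000) (.leaf 0)) (.node (.leaf 0x0) (.leaf 0))) (.node (.node (.leaf 0x1001004000) (.leaf 0)) (.node (.leaf 0x0) (.leaf 0))))))))

/-- part of the cover -/
def covV53 : Trie :=
  (.node (.node (.node (.node (.node (.node (.node (.leaf 0xa) (.leaf 0x100d001)) (.node (.leaf 0x0) (.leaf 0))) (.node (.node (.leaf 0x1002005000000) (.leaf 0)) (.node (.leaf 0x1008000) (.leaf 0)))) (.node (.node (.node (.leaf 0x100400101402a) (.leaf 0x1001000)) (.node (.leaf 0x100100b000) (.leaf 0))) (.node (.node (.leaf 0x100f000) (.leaf 0)) (.node (.leaf 0x1000000) (.leaf 0))))) (.node (.node (.node (.node (.leaf 0x1002002023000) (.leaf 0x1a001)) (.node (.leaf 0x400d000) (.leaf 0))) (.node (.node (.leaf 0x1003000025000) (.leaf 0)) (.node (.leaf 0x1d000) (.leaf 0))))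 (.node (.node (.node (.leaf 0x4002000000) (.leaf 0x104b)) (.node (.leaf 0x3017000) (.leaf 0))) (.node (.node (.leaf 0x1003008000) (.leaf 0)) (.node (.leaf 0x1006000) (.leaf 0)))))) (.node (.node (.node (.node (.node (.leaf 0x100400001c01b) (.leaf 0x1010000)) (.node (.leaf 0x100100d000) (.leaf 0))) (.node (.node (.leaf 0x2004020000) (.leaf 0)) (.node (.leaf 0x0) (.leaf 0)))) (.node (.node (.node (.leaf 0x2001007000) (.leaf 0x1000000)) (.node (.leaf 0x100b000) (.leaf 0))) (.node (.node (.leaf 0x2000000) (.leaf 0)) (.node (.leaf 0x1000000) (.leaf 0))))) (.node (.node (.node (.node (.leaf 0x201a027) (.leaf 0x0)) (.node (.leaf 0x1003008000) (.leaf 0))) (.node (.node (.leaf 0x100000f000) (.leaf 0)) (.node (.leaf 0x0) (.leaf 0)))) (.node (.node (.node (.leaf 0x100400201f000) (.leaf 0x400016e)) (.node (.leaf 0x1000000) (.leaf 0))) (.node (.node (.leaf 0x100200e000) (.leaf 0)) (.node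 (.leaf 0x100d000) (.leaf 0))))))) (.node (.node (.node (.node (.node (.node (.leaf 0x200501e02d) (.leaf 0x1001000)) (.node (.leaf 0x1012000) (.leaf 0))) (.node (.node (.leaf 0x1002000000000) (.leaf 0)) (.node (.leaf 0x6000) (.leaf 0)))) (.node (.node (.node (.leaf 0x1000005028000) (.leaf 0x0)) (.node (.leaf 0x1003000000) (.leaf 0))) (.node (.node (.leaf 0x2000) (.leaf 0)) (.node (.leaf 0x0) (.leaf 0))))) (.node (.node (.node (.node (.leaf 0x100200401502e) (.leaf 0x0)) (.node (.leaf 0x1004004000) (.leaf 0))) (.node (.node (.leaf 0x2002025000) (.leaf 0)) (.node (.leaf 0x1000000) (.leaf 0)))) (.node (.node (.node (.leaf 0x15000) (.leaf 0x1001000000)) (.node (.leaf 0x1003000000) (.leaf 0))) (.node (.node (.leaf 0x0) (.leaf 0)) (.node (.leaf 0x0) (.leaf 0)))))) (.node (.node (.node (.node (.node (.leaf 0x1502b) (.leaf 0x101d001)) (.node (.leaf 0x3002000) (.leaf 0))) (.node (.node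 (.leaf 0x300501f000) (.leaf 0)) (.node (.leaf 0x0) (.leaf 0)))) (.node (.node (.node (.leaf 0x3001029000) (.leaf 0x0)) (.node (.leaf 0x0) (.leaf 0))) (.node (.node (.leaf 0x1004017000) (.leaf 0)) (.node (.leaf 0x17001) (.leaf 0))))) (.node (.node (.node (.node (.leaf 0x0) (.leaf 0x1b001)) (.node (.leaf 0x1001000000) (.leaf 0))) (.node (.node (.leaf 0x1003000) (.leaf 0)) (.node (.leaf 0x1d000) (.leaf 0)))) (.node (.node (.node (.leaf 0x1000004010000) (.leaf 0)) (.node (.leaf 0x0) (.leaf 0))) (.node (.node (.leaf 0x100401a000) (.leaf 0)) (.node (.leaf 0x1a001) (.leaf 0))))))))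

/-- part of the cover -/
def covV13 : Trie :=
  (.node (.node (.node (.node (.node (.node (.node (.leaf 0x1000001016031000) (.leaf 0x0)) (.node (.leaf 0x0) (.leaf 0))) (.node (.node (.leaf 0x4003012000) (.leaf 0)) (.node (.leaf 0x0) (.leaf 0)))) (.node (.node (.node (.leaf 0x100100301300d) (.leaf 0x0)) (.node (.leaf 0x2000000) (.leaf 0))) (.node (.node (.leaf 0x100300a000) (.leaf 0)) (.node (.leaf 0x1007000) (.leaf 0))))) (.node (.node (.node (.node (.leaf 0x2000020000) (.leaf 0x7001)) (.node (.leaf 0x1001011000) (.leaf 0))) (.node (.node (.leaf 0x3007000) (.leaf 0)) (.node (.leaf 0x1000000) (.leaf 0)))) (.node (.node (.node (.leaf 0x3000024000) (.leaf 0x0)) (.node (.leaf 0x2000000) (.leaf 0))) (.node (.node (.leaf 0x0) (.leaf 0)) (.node (.leaf 0x0) (.leaf 0)))))) (.node (.node (.node (.node (.node (.leaf 0x400501b003) (.leaf 0x1013001)) (.node (.leaf 0x1003018000) (.leaf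 0))) (.node (.node (.leaf 0x0) (.leaf 0)) (.node (.leaf 0x16000) (.leaf 0)))) (.node (.node (.node (.leaf 0x3005021000) (.leaf 0x1000)) (.node (.leaf 0x0) (.leaf 0))) (.node (.node (.leaf 0x300c000) (.leaf 0)) (.node (.leaf 0x4000) (.leaf 0))))) (.node (.node (.node (.node (.leaf 0x2000011002) (.leaf 0x18001)) (.node (.leaf 0x1007000) (.leaf 0))) (.node (.node (.leaf 0x1003001000000) (.leaf 0)) (.node (.leaf 0x1c000) (.leaf 0)))) (.node (.node (.node (.leaf 0x1003002021000) (.leaf 0x0)) (.node (.leaf 0x0) (.leaf 0))) (.node (.node (.leaf 0x1000000000) (.leaf 0)) (.node (.leaf 0x101d001) (.leaf 0))))))) (.node (.node (.node (.node (.node (.node (.leaf 0x100400502502b) (.leaf 0x1004001)) (.node (.leaf 0x400e003) (.leaf 0))) (.node (.node (.leaf 0x0) (.leaf 0)) (.node (.leaf 0x1000000) (.leaf 0)))) (.node (.node (.node (.leaf 0x1017011) (.leaf 0x0)) (.node (.leaf 0x300d000) (.leaf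 0))) (.node (.node (.leaf 0x1014000) (.leaf 0)) (.node (.leaf 0x1004001) (.leaf 0))))) (.node (.node (.node (.node (.leaf 0x4003023000) (.leaf 0x0)) (.node (.leaf 0x400e000) (.leaf 0))) (.node (.node (.leaf 0x100200c000) (.leaf 0)) (.node (.leaf 0x0) (.leaf 0)))) (.node (.node (.node (.leaf 0x5000000) (.leaf 0x1083)) (.node (.leaf 0x300d000) (.leaf 0))) (.node (.node (.leaf 0x1002000000) (.leaf 0)) (.node (.leaf 0x101b000) (.leaf 0)))))) (.node (.node (.node (.node (.node (.leaf 0x1003005001005) (.leaf 0x0)) (.node (.leaf 0x4002003) (.leaf 0))) (.node (.node (.leaf 0x100400001e000) (.leaf 0)) (.node (.leaf 0xe000) (.leaf 0)))) (.node (.node (.node (.leaf 0x1001005011000) (.leaf 0x0)) (.node (.leaf 0x2018000) (.leaf 0))) (.node (.node (.leaf 0x4000000) (.leaf 0)) (.node (.leaf 0x1000000) (.leaf 0))))) (.node (.node (.node (.node (.leaf 0x300100b000) (.leaf 0x0)) (.node (.leaf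 0x0) (.leaf 0))) (.node (.node (.leaf 0x2004000005) (.leaf 0)) (.node (.leaf 0x1006000) (.leaf 0)))) (.node (.node (.node (.leaf 0x1004021000) (.leaf 0)) (.node (.leaf 0x0) (.leaf 0))) (.node (.node (.leaf 0x4009000) (.leaf 0)) (.node (.leaf 0x100d000) (.leaf 0))))))))

/-- part of the cover -/
def covV45 : Trie :=
  (.node (.node (.node (.node (.node (.node (.node (.leaf 0x1003003014023000) (.leaf 0x14000)) (.node (.leaf 0x300d003) (.leaf 0))) (.node (.node (.leaf 0x1001005000000) (.leaf 0)) (.node (.leaf 0xd000) (.leaf 0)))) (.node (.node (.node (.leaf 0x400100d01a) (.leaf 0x0)) (.node (.leaf 0x0) (.leaf 0))) (.node (.node (.leaf 0x300d000) (.leaf 0)) (.node (.leaf 0x1000000) (.leaf 0))))) (.node (.node (.node (.node (.leaf 0x0) (.leaf 0x6001)) (.node (.leaf 0x1002010000) (.leaf 0))) (.node (.node (.leaf 0x400500e000) (.leaf 0)) (.node (.leaf 0x1007000) (.leaf 0)))) (.node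 (.node (.node (.leaf 0x1003000000000) (.leaf 0x0)) (.node (.leaf 0x100b000) (.leaf 0))) (.node (.node (.leaf 0x301f000) (.leaf 0)) (.node (.leaf 0x1006000) (.leaf 0)))))) (.node (.node (.node (.node (.node (.leaf 0x400201302a) (.leaf 0x1004000)) (.node (.leaf 0x1002004003) (.leaf 0))) (.node (.node (.leaf 0x3002003000) (.leaf 0)) (.node (.leaf 0x10000) (.leaf 0)))) (.node (.node (.node (.leaf 0x1002000023000) (.leaf 0x1001000)) (.node (.leaf 0x3017000) (.leaf 0))) (.node (.node (.leaf 0x0) (.leaf 0)) (.node (.leaf 0x0) (.leaf 0))))) (.node (.node (.node (.node (.leaf 0x1003018006) (.leaf 0x0)) (.node (.leaf 0x1003015000) (.leaf 0))) (.node (.node (.leaf 0x0) (.leaf 0)) (.node (.leaf 0x0) (.leaf 0)))) (.node (.node (.node (.leaf 0x3002022000) (.leaf 0x40012d7)) (.node (.leaf 0x1000000) (.leaf 0))) (.node (.node (.leaf 0x0) (.leaf 0)) (.node (.leaf 0x3000) (.leaf 0))))))) (.node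 (.node (.node (.node (.node (.node (.leaf 0x1004005029017) (.leaf 0x1014001)) (.node (.leaf 0x100200c000) (.leaf 0))) (.node (.node (.leaf 0x1003000000000) (.leaf 0)) (.node (.leaf 0x1c000) (.leaf 0)))) (.node (.node (.node (.leaf 0x1001005011000) (.leaf 0x1000000)) (.node (.leaf 0x1001000000) (.leaf 0))) (.node (.node (.leaf 0x17000) (.leaf 0)) (.node (.leaf 0x101a001) (.leaf 0))))) (.node (.node (.node (.node (.leaf 0x100400300600f) (.leaf 0x0)) (.node (.leaf 0x100100c000) (.leaf 0))) (.node (.node (.leaf 0x1001002013000) (.leaf 0)) (.node (.leaf 0x1011001) (.leaf 0)))) (.node (.node (.node (.leaf 0x1002005000000) (.leaf 0x1004000000)) (.node (.leaf 0x0) (.leaf 0))) (.node (.node (.leaf 0x0) (.leaf 0)) (.node (.leaf 0x0) (.leaf 0)))))) (.node (.node (.node (.node (.node (.leaf 0x4004022007) (.leaf 0x1d001)) (.node (.leaf 0x1011000) (.leaf 0))) (.node (.node (.leaf 0x1001003026000)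 (.leaf 0)) (.node (.leaf 0x0) (.leaf 0)))) (.node (.node (.node (.leaf 0x400000b000) (.leaf 0x1000000)) (.node (.leaf 0x1001001000) (.leaf 0))) (.node (.node (.leaf 0x1000017000) (.leaf 0)) (.node (.leaf 0x0) (.leaf 0))))) (.node (.node (.node (.node (.leaf 0x1003001009000) (.leaf 0x0)) (.node (.leaf 0x1004000000) (.leaf 0))) (.node (.node (.leaf 0x100000e000) (.leaf 0)) (.node (.leaf 0x101d000) (.leaf 0)))) (.node (.node (.node (.leaf 0x0) (.leaf 0)) (.node (.leaf 0x0) (.leaf 0))) (.node (.node (.leaf 0x100401a000) (.leaf 0)) (.node (.leaf 0x10000) (.leaf 0))))))))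

/-- part of the cover -/
def covV29 : Trie :=
  (.node (.node (.node (.node (.node (.node (.node (.leaf 0x4000002023000) (.leaf 0x1b000)) (.node (.leaf 0x300d003) (.leaf 0))) (.node (.node (.leaf 0x0) (.leaf 0)) (.node (.leaf 0x0) (.leaf 0)))) (.node (.node (.node (.leaf 0x200000a029) (.leaf 0x1000)) (.node (.leaf 0x3000000) (.leaf 0))) (.node (.node (.leaf 0x100301e000) (.leaf 0)) (.node (.leaf 0x0) (.leaf 0))))) (.node (.node (.node (.node (.leaf 0x1004004029000) (.leaf 0x5001)) (.node (.leaf 0x3018000) (.leaf 0))) (.node (.node (.leaf 0x2002000) (.leaf 0)) (.node (.leaf 0x0) (.leaf 0)))) (.node (.node (.node (.leaf 0x1005011000) (.leaf 0x1000000)) (.node (.leaf 0x1002000000) (.leaf 0))) (.node (.node (.leaf 0x1004017000) (.leaf 0)) (.node (.leaf 0x0) (.leaf 0)))))) (.node (.node (.node (.node (.node (.leaf 0x3005017001) (.leaf 0x0)) (.node (.leaf 0x4007000) (.leaf 0)))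 (.node (.node (.leaf 0x1002000000000) (.leaf 0)) (.node (.leaf 0x100e000) (.leaf 0)))) (.node (.node (.node (.leaf 0x100300100a000) (.leaf 0x1000)) (.node (.leaf 0x300d000) (.leaf 0))) (.node (.node (.leaf 0x1004021000) (.leaf 0)) (.node (.leaf 0x1011001) (.leaf 0))))) (.node (.node (.node (.node (.leaf 0x1001001000000) (.leaf 0x1c001)) (.node (.leaf 0x3000) (.leaf 0))) (.node (.node (.leaf 0x1004005007005) (.leaf 0)) (.node (.leaf 0x1002000) (.leaf 0)))) (.node (.node (.node (.leaf 0x300300e000) (.leaf 0x10020000dd)) (.node (.leaf 0x1000000) (.leaf 0))) (.node (.node (.leaf 0x1000010003) (.leaf 0)) (.node (.leaf 0x0) (.leaf 0))))))) (.node (.node (.node (.node (.node (.node (.leaf 0x2001006016) (.leaf 0x0)) (.node (.leaf 0x4013003) (.leaf 0))) (.node (.node (.leaf 0x2000000000) (.leaf 0)) (.node (.leaf 0x5000) (.leaf 0)))) (.node (.node (.node (.leaf 0x100400001a000) (.leaf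 0x0)) (.node (.leaf 0x0) (.leaf 0))) (.node (.node (.leaf 0x1004007000) (.leaf 0)) (.node (.leaf 0xe001) (.leaf 0))))) (.node (.node (.node (.node (.leaf 0x1003005026000) (.leaf 0x1a001)) (.node (.leaf 0x300a000) (.leaf 0))) (.node (.node (.leaf 0x100200400b000) (.leaf 0)) (.node (.leaf 0x1011001) (.leaf 0)))) (.node (.node (.node (.leaf 0x5010000) (.leaf 0x3000000)) (.node (.leaf 0x0) (.leaf 0))) (.node (.node (.leaf 0x2000000) (.leaf 0)) (.node (.leaf 0x14000) (.leaf 0)))))) (.node (.node (.node (.node (.node (.leaf 0x200501e022) (.leaf 0x0)) (.node (.leaf 0x3020003) (.leaf 0))) (.node (.node (.leaf 0x1004004016000) (.leaf 0)) (.node (.leaf 0x1010000) (.leaf 0)))) (.node (.node (.node (.leaf 0x100200f000) (.leaf 0x1000000)) (.node (.leaf 0x1001001000) (.leaf 0))) (.node (.node (.leaf 0x1001009000) (.leaf 0)) (.node (.leaf 0x0) (.leaf 0))))) (.node (.node (.node (.node (.leaf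 0x400200e000) (.leaf 0x0)) (.node (.leaf 0x1003000000) (.leaf 0))) (.node (.node (.leaf 0x0) (.leaf 0)) (.node (.leaf 0x1011000) (.leaf 0)))) (.node (.node (.node (.leaf 0x1001005022000) (.leaf 0)) (.node (.leaf 0x100300d000) (.leaf 0))) (.node (.node (.leaf 0x100301d000) (.leaf 0)) (.node (.leaf 0x1b001) (.leaf 0))))))))

/-- part of the cover -/
def covV61 : Trie :=
  (.node (.node (.node (.node (.node (.node (.node (.leaf 0x100300201c01b) (.leaf 0x0)) (.node (.leaf 0x1004014000) (.leaf 0))) (.node (.node (.leaf 0x1002000000) (.leaf 0)) (.node (.leaf 0x100d000) (.leaf 0)))) (.node (.node (.node (.leaf 0x2001018005) (.leaf 0x1001000)) (.node (.leaf 0x300d000) (.leaf 0))) (.node (.node (.leaf 0x100001b000) (.leaf 0)) (.node (.leaf 0x1000000) (.leaf 0))))) (.node (.node (.node (.node (.leaf 0x1000004022000) (.leaf 0x1a001)) (.node (.leaf 0x100300b000) (.leaf 0))) (.node (.node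 (.leaf 0x1001005011000) (.leaf 0)) (.node (.leaf 0x1012000) (.leaf 0)))) (.node (.node (.node (.leaf 0x4001000000) (.leaf 0x1011)) (.node (.leaf 0x3017000) (.leaf 0))) (.node (.node (.leaf 0x0) (.leaf 0)) (.node (.leaf 0x0) (.leaf 0)))))) (.node (.node (.node (.node (.node (.leaf 0x21010) (.leaf 0x101d001)) (.node (.leaf 0x1001018003) (.leaf 0))) (.node (.node (.leaf 0x1002005006000) (.leaf 0)) (.node (.leaf 0xf000) (.leaf 0)))) (.node (.node (.node (.leaf 0x0) (.leaf 0x1001000)) (.node (.leaf 0x1004015000) (.leaf 0))) (.node (.node (.leaf 0x2000000) (.leaf 0)) (.node (.leaf 0x0) (.leaf 0))))) (.node (.node (.node (.node (.leaf 0x4003013006) (.leaf 0x1c001)) (.node (.leaf 0x7000) (.leaf 0))) (.node (.node (.leaf 0x100200500f005) (.leaf 0)) (.node (.leaf 0xd000) (.leaf 0)))) (.node (.node (.node (.leaf 0x1004003002000) (.leaf 0)) (.node (.leaf 0x0) (.leaf 0))) (.node (.node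 (.leaf 0x1004011000) (.leaf 0)) (.node (.leaf 0x1009000) (.leaf 0))))))) (.node (.node (.node (.node (.node (.node (.leaf 0x4005004026) (.leaf 0x101c001)) (.node (.leaf 0x100200c000) (.leaf 0))) (.node (.node (.leaf 0x1000000000) (.leaf 0)) (.node (.leaf 0x6000) (.leaf 0)))) (.node (.node (.node (.leaf 0x100500e000) (.leaf 0x1001000)) (.node (.leaf 0x3000000) (.leaf 0))) (.node (.node (.leaf 0x1b000) (.leaf 0)) (.node (.leaf 0x0) (.leaf 0))))) (.node (.node (.node (.node (.leaf 0x300101e00f) (.leaf 0x18001)) (.node (.leaf 0x1002002000) (.leaf 0))) (.node (.node (.leaf 0x1001005007005) (.leaf 0)) (.node (.leaf 0x0) (.leaf 0)))) (.node (.node (.node (.leaf 0x1000003000000) (.leaf 0x1004001000)) (.node (.leaf 0x0) (.leaf 0))) (.node (.node (.leaf 0x10003) (.leaf 0)) (.node (.leaf 0x1000000) (.leaf 0)))))) (.node (.node (.node (.node (.node (.leaf 0x29000) (.leaf 0x0)) (.node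 (.leaf 0x0) (.leaf 0))) (.node (.node (.leaf 0x100400101e000) (.leaf 0)) (.node (.leaf 0x1000000) (.leaf 0)))) (.node (.node (.node (.leaf 0x300301b000) (.leaf 0x0)) (.node (.leaf 0x1000000) (.leaf 0))) (.node (.node (.leaf 0x201f000) (.leaf 0)) (.node (.leaf 0x13000) (.leaf 0))))) (.node (.node (.node (.node (.leaf 0x100000401a006) (.leaf 0x0)) (.node (.leaf 0x2000000) (.leaf 0))) (.node (.node (.leaf 0x400e000) (.leaf 0)) (.node (.leaf 0x12000) (.leaf 0)))) (.node (.node (.node (.leaf 0x2003010000) (.leaf 0)) (.node (.leaf 0x100b000) (.leaf 0))) (.node (.node (.leaf 0x1003012000) (.leaf 0)) (.node (.leaf 0x19000) (.leaf 0))))))))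

/-- part of the cover -/
def covV3 : Trie :=
  (.node (.node (.node (.node (.node (.node (.node (.leaf 0x2020029000) (.leaf 0x1019000)) (.node (.leaf 0x0) (.leaf 0))) (.node (.node (.leaf 0x3005000000) (.leaf 0)) (.node (.leaf 0x100b000) (.leaf 0)))) (.node (.node (.node (.leaf 0x0) (.leaf 0x0)) (.node (.leaf 0x1001000000) (.leaf 0))) (.node (.node (.leaf 0x1010000) (.leaf 0)) (.node (.leaf 0x101d000) (.leaf 0))))) (.node (.node (.node (.node (.leaf 0x1000002001000) (.leaf 0x8000)) (.node (.leaf 0x1003005000) (.leaf 0))) (.node (.node (.leaf 0x1003004026000) (.leaf 0)) (.node (.leaf 0x1000000) (.leaf 0)))) (.node (.node (.node (.leaf 0x1001005011000) (.leaf 0x1000000)) (.node (.leaf 0x1004000000) (.leaf 0))) (.node (.node (.leaf 0x1000017000) (.leaf 0)) (.node (.leaf 0x17001) (.leaf 0)))))) (.node (.node (.node (.node (.node (.leaf 0x100400001c01b) (.leaf 0x100b001)) (.node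 (.leaf 0x100000a003) (.leaf 0))) (.node (.node (.leaf 0x0) (.leaf 0)) (.node (.leaf 0x0) (.leaf 0)))) (.node (.node (.node (.leaf 0x4000028000) (.leaf 0x1000)) (.node (.leaf 0x2000000) (.leaf 0))) (.node (.node (.leaf 0x100000e000) (.leaf 0)) (.node (.leaf 0x1018001) (.leaf 0))))) (.node (.node (.node (.node (.leaf 0x100200200d02a) (.leaf 0x0)) (.node (.leaf 0x3000) (.leaf 0))) (.node (.node (.leaf 0x2002000000) (.leaf 0)) (.node (.leaf 0x0) (.leaf 0)))) (.node (.node (.node (.leaf 0x1003004000000) (.leaf 0x2000000)) (.node (.leaf 0x1003000000) (.leaf 0))) (.node (.node (.leaf 0x1000010003) (.leaf 0)) (.node (.leaf 0x0) (.leaf 0))))))) (.node (.node (.node (.node (.node (.node (.leaf 0x400501b010) (.leaf 0x0)) (.node (.leaf 0x100b003) (.leaf 0))) (.node (.node (.leaf 0x1003002000000) (.leaf 0)) (.node (.leaf 0x1009000) (.leaf 0)))) (.node (.node (.node (.leaf 0x100100400c012)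 (.leaf 0x0)) (.node (.leaf 0x100b000) (.leaf 0))) (.node (.node (.leaf 0x1002000) (.leaf 0)) (.node (.leaf 0x0) (.leaf 0))))) (.node (.node (.node (.node (.leaf 0x1004001018000) (.leaf 0x0)) (.node (.leaf 0x1004004000) (.leaf 0))) (.node (.node (.leaf 0x2002025000) (.leaf 0)) (.node (.leaf 0x12000) (.leaf 0)))) (.node (.node (.node (.leaf 0x5000000) (.leaf 0x1083)) (.node (.leaf 0x4015000) (.leaf 0))) (.node (.node (.leaf 0x0) (.leaf 0)) (.node (.leaf 0x101b000) (.leaf 0)))))) (.node (.node (.node (.node (.node (.leaf 0x2001006016) (.leaf 0xe000)) (.node (.leaf 0x9000) (.leaf 0))) (.node (.node (.leaf 0x100300200a000) (.leaf 0)) (.node (.leaf 0xd000) (.leaf 0)))) (.node (.node (.node (.leaf 0x4004008000) (.leaf 0x0)) (.node (.leaf 0x0) (.leaf 0))) (.node (.node (.leaf 0x4000000) (.leaf 0)) (.node (.leaf 0x1000000) (.leaf 0))))) (.node (.node (.node (.node (.leaf 0x0) (.leaf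 0x1c001)) (.node (.leaf 0x1002010000) (.leaf 0))) (.node (.node (.leaf 0x100000400f005) (.leaf 0)) (.node (.leaf 0x1c000) (.leaf 0)))) (.node (.node (.node (.leaf 0x1002003000000) (.leaf 0)) (.node (.leaf 0x0) (.leaf 0))) (.node (.node (.leaf 0x1001007000) (.leaf 0)) (.node (.leaf 0x19000) (.leaf 0))))))))

/-- part of the cover -/
def covV35 : Trie :=
  (.node (.node (.node (.node (.node (.node (.node (.leaf 0x200500b02b000) (.leaf 0x1015001)) (.node (.leaf 0x2015000) (.leaf 0))) (.node (.node (.leaf 0x1000002000000) (.leaf 0)) (.node (.leaf 0xb000) (.leaf 0)))) (.node (.node (.node (.leaf 0x1003005021027) (.leaf 0x1000000)) (.node (.leaf 0x0) (.leaf 0))) (.node (.node (.leaf 0x1a000) (.leaf 0)) (.node (.leaf 0x1000000) (.leaf 0))))) (.node (.node (.node (.node (.leaf 0x3003016000) (.leaf 0x1c000)) (.node (.leaf 0x100400d000) (.leaf 0))) (.node (.node (.leaf 0x1003004020000)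 (.leaf 0)) (.node (.leaf 0x13000) (.leaf 0)))) (.node (.node (.node (.leaf 0x0) (.leaf 0x0)) (.node (.leaf 0x0) (.leaf 0))) (.node (.node (.leaf 0x1003009000) (.leaf 0)) (.node (.leaf 0x1006000) (.leaf 0)))))) (.node (.node (.node (.node (.node (.leaf 0x200501e010) (.leaf 0x18001)) (.node (.leaf 0x2001003) (.leaf 0))) (.node (.node (.leaf 0x3002000) (.leaf 0)) (.node (.leaf 0x101c000) (.leaf 0)))) (.node (.node (.node (.leaf 0x3005008000) (.leaf 0x0)) (.node (.leaf 0x100100b000) (.leaf 0))) (.node (.node (.leaf 0x100300a000) (.leaf 0)) (.node (.leaf 0x1017001) (.leaf 0))))) (.node (.node (.node (.node (.leaf 0x1002005009006) (.leaf 0x0)) (.node (.leaf 0x1001011000) (.leaf 0))) (.node (.node (.leaf 0x2004000000) (.leaf 0)) (.node (.leaf 0xd000) (.leaf 0)))) (.node (.node (.node (.leaf 0x1001002008000) (.leaf 0x100400128b)) (.node (.leaf 0x0) (.leaf 0))) (.node (.node (.leaf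 0x1003004000) (.leaf 0)) (.node (.leaf 0x0) (.leaf 0))))))) (.node (.node (.node (.node (.node (.node (.leaf 0x200101a021) (.leaf 0x17001)) (.node (.leaf 0x3020003) (.leaf 0))) (.node (.node (.leaf 0x3000000000) (.leaf 0)) (.node (.leaf 0x100f000) (.leaf 0)))) (.node (.node (.node (.leaf 0x3000015000) (.leaf 0x0)) (.node (.leaf 0x0) (.leaf 0))) (.node (.node (.leaf 0x2001000) (.leaf 0)) (.node (.leaf 0x1010001) (.leaf 0))))) (.node (.node (.node (.node (.leaf 0x100000500301d) (.leaf 0x0)) (.node (.leaf 0x100400c000) (.leaf 0))) (.node (.node (.leaf 0x3017000) (.leaf 0)) (.node (.leaf 0x1010000) (.leaf 0)))) (.node (.node (.node (.leaf 0x4001010000) (.leaf 0x1001000000)) (.node (.leaf 0x0) (.leaf 0))) (.node (.node (.leaf 0x1004000000) (.leaf 0)) (.node (.leaf 0x19000) (.leaf 0)))))) (.node (.node (.node (.node (.node (.leaf 0x100400502502b) (.leaf 0x101d001)) (.node (.leaf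 0x100201c000) (.leaf 0))) (.node (.node (.leaf 0x0) (.leaf 0)) (.node (.leaf 0x1000000) (.leaf 0)))) (.node (.node (.node (.leaf 0x1005028000) (.leaf 0x1000000)) (.node (.leaf 0x300f000) (.leaf 0))) (.node (.node (.leaf 0x1000017000) (.leaf 0)) (.node (.leaf 0x1004001) (.leaf 0))))) (.node (.node (.node (.node (.leaf 0x1007000) (.leaf 0x0)) (.node (.leaf 0x0) (.leaf 0))) (.node (.node (.leaf 0x201b000) (.leaf 0)) (.node (.leaf 0x0) (.leaf 0)))) (.node (.node (.node (.leaf 0x3000028000) (.leaf 0)) (.node (.leaf 0x0) (.leaf 0))) (.node (.node (.leaf 0x3006000) (.leaf 0)) (.node (.leaf 0x1010000) (.leaf 0))))))))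

/-- part of the cover -/
def covV19 : Trie :=
  (.node (.node (.node (.node (.node (.node (.node (.leaf 0x100000301f00e000) (.leaf 0x10001)) (.node (.leaf 0x1000023003) (.leaf 0))) (.node (.node (.leaf 0x1003004015000) (.leaf 0)) (.node (.leaf 0x100b000) (.leaf 0)))) (.node (.node (.node (.leaf 0x400102500d) (.leaf 0x0)) (.node (.leaf 0x1004000000) (.leaf 0))) (.node (.node (.leaf 0x4022000) (.leaf 0)) (.node (.leaf 0x0) (.leaf 0))))) (.node (.node (.node (.node (.leaf 0x100200200e000) (.leaf 0x100f001)) (.node (.leaf 0xa000) (.leaf 0))) (.node (.node (.leaf 0x1001020000) (.leaf 0)) (.node (.leaf 0x0) (.leaf 0)))) (.node (.node (.node (.leaf 0x100500e000) (.leaf 0x1000000)) (.node (.leaf 0x2000000) (.leaf 0))) (.node (.node (.leaf 0x1003009000) (.leaf 0)) (.node (.leaf 0x0) (.leaf 0)))))) (.node (.node (.node (.node (.node (.leaf 0x1004003010022) (.leaf 0x6000)) (.node (.leaf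 0x1008000) (.leaf 0))) (.node (.node (.leaf 0x1002004028000) (.leaf 0)) (.node (.leaf 0x101a000) (.leaf 0)))) (.node (.node (.node (.leaf 0x400500f000) (.leaf 0x0)) (.node (.leaf 0x1004015000) (.leaf 0))) (.node (.node (.leaf 0x400e000) (.leaf 0)) (.node (.leaf 0x18001) (.leaf 0))))) (.node (.node (.node (.node (.leaf 0x1001004021025) (.leaf 0x18001)) (.node (.leaf 0x0) (.leaf 0))) (.node (.node (.leaf 0x2005000000) (.leaf 0)) (.node (.leaf 0x1006000) (.leaf 0)))) (.node (.node (.node (.leaf 0x1000004025000) (.leaf 0x1000000271)) (.node (.leaf 0x0) (.leaf 0))) (.node (.node (.leaf 0x1000010003) (.leaf 0)) (.node (.leaf 0x1d001) (.leaf 0))))))) (.node (.node (.node (.node (.node (.node (.leaf 0x1002002021005) (.leaf 0x17001)) (.node (.leaf 0x100201d003) (.leaf 0))) (.node (.node (.leaf 0x1000000000) (.leaf 0)) (.node (.leaf 0x0) (.leaf 0)))) (.node (.node (.node (.leaf 0x3023019)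 (.leaf 0x1000)) (.node (.leaf 0x100100b000) (.leaf 0))) (.node (.node (.leaf 0x4012000) (.leaf 0)) (.node (.leaf 0x1009000) (.leaf 0))))) (.node (.node (.node (.node (.leaf 0x100200101d000) (.leaf 0x1a001)) (.node (.leaf 0x100100e000) (.leaf 0))) (.node (.node (.leaf 0x1002004020000) (.leaf 0)) (.node (.leaf 0x101a001) (.leaf 0)))) (.node (.node (.node (.leaf 0x0) (.leaf 0x1083)) (.node (.leaf 0x1004015000) (.leaf 0))) (.node (.node (.leaf 0x1000000000) (.leaf 0)) (.node (.leaf 0x1012000) (.leaf 0)))))) (.node (.node (.node (.node (.node (.leaf 0x100300201c01b) (.leaf 0x0)) (.node (.leaf 0x1001002003) (.leaf 0))) (.node (.node (.leaf 0x100200101f000) (.leaf 0)) (.node (.leaf 0x100d000) (.leaf 0)))) (.node (.node (.node (.leaf 0x1000001022000) (.leaf 0x1000000)) (.node (.leaf 0x0) (.leaf 0))) (.node (.node (.leaf 0x1000000) (.leaf 0)) (.node (.leaf 0x1000000) (.leaf 0)))))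 (.node (.node (.node (.node (.leaf 0x1000004011000) (.leaf 0x0)) (.node (.leaf 0x1000000000) (.leaf 0))) (.node (.node (.leaf 0x5007000) (.leaf 0)) (.node (.leaf 0x14000) (.leaf 0)))) (.node (.node (.node (.leaf 0x200f000) (.leaf 0)) (.node (.leaf 0x0) (.leaf 0))) (.node (.node (.leaf 0x100301a000) (.leaf 0)) (.node (.leaf 0x0) (.leaf 0))))))))

/-- part of the cover -/
def covV51 : Trie :=
  (.node (.node (.node (.node (.node (.node (.node (.leaf 0x10) (.leaf 0x1017001)) (.node (.leaf 0x0) (.leaf 0))) (.node (.node (.leaf 0x1000000000000) (.leaf 0)) (.node (.leaf 0x1003000) (.leaf 0)))) (.node (.node (.node (.leaf 0x100400300901d) (.leaf 0x0)) (.node (.leaf 0x100b000) (.leaf 0))) (.node (.node (.leaf 0x1022000) (.leaf 0)) (.node (.leaf 0x1000000) (.leaf 0))))) (.node (.node (.node (.node (.leaf 0x100400400f000) (.leaf 0x0)) (.node (.leaf 0x100400e000) (.leaf 0))) (.node (.node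 (.leaf 0x100100001d000) (.leaf 0)) (.node (.leaf 0x101d000) (.leaf 0)))) (.node (.node (.node (.leaf 0x1004003000000) (.leaf 0x104b)) (.node (.leaf 0x0) (.leaf 0))) (.node (.node (.leaf 0x1004017000) (.leaf 0)) (.node (.leaf 0x1006000) (.leaf 0)))))) (.node (.node (.node (.node (.node (.leaf 0x4001023016) (.leaf 0x1004000)) (.node (.leaf 0x200b000) (.leaf 0))) (.node (.node (.leaf 0x1003003017000) (.leaf 0)) (.node (.leaf 0x0) (.leaf 0)))) (.node (.node (.node (.leaf 0x200000d000) (.leaf 0x1000)) (.node (.leaf 0x100300d000) (.leaf 0))) (.node (.node (.leaf 0x1000000) (.leaf 0)) (.node (.leaf 0x0) (.leaf 0))))) (.node (.node (.node (.node (.leaf 0x100400002800d) (.leaf 0x0)) (.node (.leaf 0x3018000) (.leaf 0))) (.node (.node (.leaf 0x1001001007005) (.leaf 0)) (.node (.leaf 0x1011000) (.leaf 0)))) (.node (.node (.node (.leaf 0x100200200e000) (.leaf 0x10000000a0)) (.node (.leaf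 0x1000000) (.leaf 0))) (.node (.node (.leaf 0x100001a000) (.leaf 0)) (.node (.leaf 0x3000) (.leaf 0))))))) (.node (.node (.node (.node (.node (.node (.leaf 0x100400000d007) (.leaf 0x101a000)) (.node (.leaf 0x1022003) (.leaf 0))) (.node (.node (.leaf 0x1001000000000) (.leaf 0)) (.node (.leaf 0x1b000) (.leaf 0)))) (.node (.node (.node (.leaf 0x1002005008000) (.leaf 0x1000000)) (.node (.leaf 0x1000000) (.leaf 0))) (.node (.node (.leaf 0x0) (.leaf 0)) (.node (.leaf 0x4001) (.leaf 0))))) (.node (.node (.node (.node (.leaf 0x1001011009) (.leaf 0x0)) (.node (.leaf 0x400c000) (.leaf 0))) (.node (.node (.leaf 0x100300101a000) (.leaf 0)) (.node (.leaf 0x1018001) (.leaf 0)))) (.node (.node (.node (.leaf 0x1004000010000) (.leaf 0x5000000)) (.node (.leaf 0x1003000000) (.leaf 0))) (.node (.node (.leaf 0x0) (.leaf 0)) (.node (.leaf 0x101d001) (.leaf 0)))))) (.node (.node (.node (.node (.node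 (.leaf 0x2001006016) (.leaf 0x1000000)) (.node (.leaf 0x400d000) (.leaf 0))) (.node (.node (.leaf 0x1001003015000) (.leaf 0)) (.node (.leaf 0x1000000) (.leaf 0)))) (.node (.node (.node (.leaf 0x100400001a000) (.leaf 0x0)) (.node (.leaf 0x0) (.leaf 0))) (.node (.node (.leaf 0x1001009000) (.leaf 0)) (.node (.leaf 0x1004001) (.leaf 0))))) (.node (.node (.node (.node (.leaf 0x1000003000) (.leaf 0x1b001)) (.node (.leaf 0x3000000) (.leaf 0))) (.node (.node (.leaf 0x1022000) (.leaf 0)) (.node (.leaf 0x1012000) (.leaf 0)))) (.node (.node (.node (.leaf 0x3005015000) (.leaf 0)) (.node (.leaf 0x0) (.leaf 0))) (.node (.node (.leaf 0x1003014000) (.leaf 0)) (.node (.leaf 0x4000) (.leaf 0))))))))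

/-- part of the cover -/
def covV11 : Trie :=
  (.node (.node (.node (.node (.node (.node (.node (.leaf 0x100400501800c000) (.leaf 0x12001)) (.node (.leaf 0x0) (.leaf 0))) (.node (.node (.leaf 0x4018000) (.leaf 0)) (.node (.leaf 0x100b000) (.leaf 0)))) (.node (.node (.node (.leaf 0x2002022000) (.leaf 0x1001000)) (.node (.leaf 0x1004000000) (.leaf 0))) (.node (.node (.leaf 0x100100d000) (.leaf 0)) (.node (.leaf 0x1013000) (.leaf 0))))) (.node (.node (.node (.node (.leaf 0x400501b000) (.leaf 0x1017000)) (.node (.leaf 0x1004004000) (.leaf 0))) (.node (.node (.leaf 0x101b000) (.leaf 0)) (.node (.leaf 0x1000000) (.leaf 0)))) (.node (.node (.node (.leaf 0x1000005028000) (.leaf 0x0)) (.node (.leaf 0x1001000000) (.leaf 0))) (.node (.node (.leaf 0x0) (.leaf 0)) (.node (.leaf 0x0) (.leaf 0)))))) (.node (.node (.node (.node (.node (.leaf 0x21010) (.leaf 0x3001)) (.node (.leaf 0xb000)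 (.leaf 0))) (.node (.node (.leaf 0x0) (.leaf 0)) (.node (.leaf 0x15000) (.leaf 0)))) (.node (.node (.node (.leaf 0x0) (.leaf 0x0)) (.node (.leaf 0x2000000) (.leaf 0))) (.node (.node (.leaf 0x1003000) (.leaf 0)) (.node (.leaf 0xe000) (.leaf 0))))) (.node (.node (.node (.node (.leaf 0x4004015024) (.leaf 0x18001)) (.node (.leaf 0x13000) (.leaf 0))) (.node (.node (.leaf 0x3001007005) (.leaf 0)) (.node (.leaf 0x1d000) (.leaf 0)))) (.node (.node (.node (.leaf 0x1003001017000) (.leaf 0x10f9)) (.node (.leaf 0x1000000) (.leaf 0))) (.node (.node (.leaf 0x1000000000) (.leaf 0)) (.node (.leaf 0x1d001) (.leaf 0))))))) (.node (.node (.node (.node (.node (.node (.leaf 0xc) (.leaf 0x0)) (.node (.leaf 0x3009003) (.leaf 0))) (.node (.node (.leaf 0x1003004000000) (.leaf 0)) (.node (.leaf 0x6000) (.leaf 0)))) (.node (.node (.node (.leaf 0x300500000a) (.leaf 0x1001000)) (.node (.leaf 0x1004015000)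 (.leaf 0))) (.node (.node (.leaf 0x3007000) (.leaf 0)) (.node (.leaf 0x1008001) (.leaf 0))))) (.node (.node (.node (.node (.leaf 0x1000005020000) (.leaf 0x1a001)) (.node (.leaf 0x1002002000) (.leaf 0))) (.node (.node (.leaf 0x1000003019000) (.leaf 0)) (.node (.leaf 0x0) (.leaf 0)))) (.node (.node (.node (.leaf 0x1002001000000) (.leaf 0x100001d)) (.node (.leaf 0x4015000) (.leaf 0))) (.node (.node (.leaf 0x1000000000) (.leaf 0)) (.node (.leaf 0x0) (.leaf 0)))))) (.node (.node (.node (.node (.node (.leaf 0xa) (.leaf 0x1019000)) (.node (.leaf 0x0) (.leaf 0))) (.node (.node (.leaf 0x100400e000) (.leaf 0)) (.node (.leaf 0x1008000) (.leaf 0)))) (.node (.node (.node (.leaf 0x300301b000) (.leaf 0x0)) (.node (.leaf 0x0) (.leaf 0))) (.node (.node (.leaf 0x2000000) (.leaf 0)) (.node (.leaf 0x1000000) (.leaf 0))))) (.node (.node (.node (.node (.leaf 0x1004002028000) (.leaf 0x0)) (.node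 (.leaf 0x1000000) (.leaf 0))) (.node (.node (.leaf 0x400100f000) (.leaf 0)) (.node (.leaf 0x14000) (.leaf 0)))) (.node (.node (.node (.leaf 0x100100200a000) (.leaf 0)) (.node (.leaf 0x0) (.leaf 0))) (.node (.node (.leaf 0x1021000) (.leaf 0)) (.node (.leaf 0x15000) (.leaf 0))))))))

/-- part of the cover -/
def covV43 : Trie :=
  (.node (.node (.node (.node (.node (.node (.node (.leaf 0x100000200702e000) (.leaf 0x7000)) (.node (.leaf 0x0) (.leaf 0))) (.node (.node (.leaf 0x1003001000000) (.leaf 0)) (.node (.leaf 0x1015000) (.leaf 0)))) (.node (.node (.node (.leaf 0x100400b012) (.leaf 0x0)) (.node (.leaf 0x0) (.leaf 0))) (.node (.node (.leaf 0x1004007000) (.leaf 0)) (.node (.leaf 0x0) (.leaf 0))))) (.node (.node (.node (.node (.leaf 0x4028000) (.leaf 0x1000000)) (.node (.leaf 0x1000002000) (.leaf 0))) (.node (.node (.leaf 0x1003012000) (.leaf 0)) (.node (.leaf 0x12000) (.leaf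 0)))) (.node (.node (.node (.leaf 0x1002004000000) (.leaf 0x1011)) (.node (.leaf 0x100300d000) (.leaf 0))) (.node (.node (.leaf 0x201f000) (.leaf 0)) (.node (.leaf 0x1006000) (.leaf 0)))))) (.node (.node (.node (.node (.node (.leaf 0x400201f022) (.leaf 0x10000)) (.node (.leaf 0x2023000) (.leaf 0))) (.node (.node (.leaf 0x100300301e000) (.leaf 0)) (.node (.leaf 0x7000) (.leaf 0)))) (.node (.node (.node (.leaf 0x100200f000) (.leaf 0x1001000)) (.node (.leaf 0x100300d000) (.leaf 0))) (.node (.node (.leaf 0x1004000000) (.leaf 0)) (.node (.leaf 0x0) (.leaf 0))))) (.node (.node (.node (.node (.leaf 0x400200e000) (.leaf 0x0)) (.node (.leaf 0xc000) (.leaf 0))) (.node (.node (.leaf 0x100400200f005) (.leaf 0)) (.node (.leaf 0x1011000) (.leaf 0)))) (.node (.node (.node (.leaf 0x100100401c000) (.leaf 0x100029c)) (.node (.leaf 0x1000000) (.leaf 0))) (.node (.node (.leaf 0x100101d000) (.leaf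 0)) (.node (.leaf 0x1017000) (.leaf 0))))))) (.node (.node (.node (.node (.node (.node (.leaf 0x3005017001) (.leaf 0x12000)) (.node (.leaf 0x0) (.leaf 0))) (.node (.node (.leaf 0x1001000000000) (.leaf 0)) (.node (.leaf 0x100e000) (.leaf 0)))) (.node (.node (.node (.leaf 0x2005025000) (.leaf 0x1000000)) (.node (.leaf 0x1004000000) (.leaf 0))) (.node (.node (.leaf 0x100100f000) (.leaf 0)) (.node (.leaf 0x1011000) (.leaf 0))))) (.node (.node (.node (.node (.leaf 0x300301e00f) (.leaf 0x0)) (.node (.leaf 0x1003006000) (.leaf 0))) (.node (.node (.leaf 0x1000004015000) (.leaf 0)) (.node (.leaf 0x101d001) (.leaf 0)))) (.node (.node (.node (.leaf 0x1004010000) (.leaf 0x4001000)) (.node (.leaf 0x1003000000) (.leaf 0))) (.node (.node (.leaf 0x1000000) (.leaf 0)) (.node (.leaf 0x1009000) (.leaf 0)))))) (.node (.node (.node (.node (.node (.leaf 0x401a011) (.leaf 0x101d001)) (.node (.leaf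 0x1004017000) (.leaf 0))) (.node (.node (.leaf 0x1005014000) (.leaf 0)) (.node (.leaf 0x0) (.leaf 0)))) (.node (.node (.node (.leaf 0x1005011000) (.leaf 0x1000000)) (.node (.leaf 0x1000001000) (.leaf 0))) (.node (.node (.leaf 0x1000017000) (.leaf 0)) (.node (.leaf 0x13000) (.leaf 0))))) (.node (.node (.node (.node (.leaf 0x100300501a000) (.leaf 0x1b001)) (.node (.leaf 0x3000000) (.leaf 0))) (.node (.node (.leaf 0x100301e000) (.leaf 0)) (.node (.leaf 0x0) (.leaf 0)))) (.node (.node (.node (.leaf 0x0) (.leaf 0)) (.node (.leaf 0x0) (.leaf 0))) (.node (.node (.leaf 0x100201e000) (.leaf 0)) (.node (.leaf 0x4000) (.leaf 0))))))))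

/-- part of the cover -/
def covV27 : Trie :=
  (.node (.node (.node (.node (.node (.node (.node (.leaf 0x3028023000) (.leaf 0x19001)) (.node (.leaf 0x2015000) (.leaf 0))) (.node (.node (.leaf 0x0) (.leaf 0)) (.node (.leaf 0x100b000) (.leaf 0)))) (.node (.node (.node (.leaf 0x1004005003006) (.leaf 0x1001000)) (.node (.leaf 0x4000000) (.leaf 0))) (.node (.node (.leaf 0x1014000) (.leaf 0)) (.node (.leaf 0x0) (.leaf 0))))) (.node (.node (.node (.node (.leaf 0x4003022000) (.leaf 0x1016001)) (.node (.leaf 0x1003012000) (.leaf 0))) (.node (.node (.leaf 0x4005015000) (.leaf 0)) (.node (.leaf 0x0) (.leaf 0)))) (.node (.node (.node (.leaf 0x1003002017000) (.leaf 0x1000000)) (.node (.leaf 0x1000000000) (.leaf 0))) (.node (.node (.leaf 0x1000017000) (.leaf 0)) (.node (.leaf 0x0) (.leaf 0)))))) (.node (.node (.node (.node (.node (.leaf 0xa) (.leaf 0x0)) (.node (.leaf 0x12003) (.leaf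 0))) (.node (.node (.leaf 0x1000002003000) (.leaf 0)) (.node (.leaf 0x1000) (.leaf 0)))) (.node (.node (.node (.leaf 0x1001005011000) (.leaf 0x0)) (.node (.leaf 0x100b000) (.leaf 0))) (.node (.node (.leaf 0x1000016000) (.leaf 0)) (.node (.leaf 0x100e000) (.leaf 0))))) (.node (.node (.node (.node (.leaf 0x1003005003029) (.leaf 0x0)) (.node (.leaf 0x3009000) (.leaf 0))) (.node (.node (.leaf 0x2005007005) (.leaf 0)) (.node (.leaf 0x1c000) (.leaf 0)))) (.node (.node (.node (.leaf 0x1003002023000) (.leaf 0x1004000059)) (.node (.leaf 0x1000000) (.leaf 0))) (.node (.node (.leaf 0x10003) (.leaf 0)) (.node (.leaf 0x1000000) (.leaf 0))))))) (.node (.node (.node (.node (.node (.node (.leaf 0x100300400200e) (.leaf 0x1004001)) (.node (.leaf 0x3009003) (.leaf 0))) (.node (.node (.leaf 0x1002000000000) (.leaf 0)) (.node (.leaf 0x16000) (.leaf 0)))) (.node (.node (.node (.leaf 0x2002021000)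 (.leaf 0x1000)) (.node (.leaf 0x0) (.leaf 0))) (.node (.node (.leaf 0x4016000) (.leaf 0)) (.node (.leaf 0x13000) (.leaf 0))))) (.node (.node (.node (.node (.leaf 0x4022000) (.leaf 0x1a001)) (.node (.leaf 0x1007000) (.leaf 0))) (.node (.node (.leaf 0x100000301c000) (.leaf 0)) (.node (.leaf 0x1004000) (.leaf 0)))) (.node (.node (.node (.leaf 0x1003000000) (.leaf 0x0)) (.node (.leaf 0x0) (.leaf 0))) (.node (.node (.leaf 0x1003000000) (.leaf 0)) (.node (.leaf 0x1012000) (.leaf 0)))))) (.node (.node (.node (.node (.node (.leaf 0x100202400e) (.leaf 0x1000000)) (.node (.leaf 0x100001d000) (.leaf 0))) (.node (.node (.leaf 0x1002003013000) (.leaf 0)) (.node (.leaf 0x1011000) (.leaf 0)))) (.node (.node (.node (.leaf 0x1002025000) (.leaf 0x0)) (.node (.leaf 0x2018000) (.leaf 0))) (.node (.node (.leaf 0x0) (.leaf 0)) (.node (.leaf 0x0) (.leaf 0))))) (.node (.node (.node (.node (.leaf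 0x3001001000) (.leaf 0x1b001)) (.node (.leaf 0x4000000) (.leaf 0))) (.node (.node (.leaf 0x100000f005) (.leaf 0)) (.node (.leaf 0xd000) (.leaf 0)))) (.node (.node (.node (.leaf 0x1003002023000) (.leaf 0)) (.node (.leaf 0x100300d000) (.leaf 0))) (.node (.node (.leaf 0x0) (.leaf 0)) (.node (.leaf 0x0) (.leaf 0))))))))

/-- part of the cover -/
def covV59 : Trie :=
  (.node (.node (.node (.node (.node (.node (.node (.leaf 0x1002005026004) (.leaf 0x0)) (.node (.leaf 0x3019000) (.leaf 0))) (.node (.node (.leaf 0x2000000) (.leaf 0)) (.node (.leaf 0x7000) (.leaf 0)))) (.node (.node (.node (.leaf 0x3004006030) (.leaf 0x1000000)) (.node (.leaf 0x100b000) (.leaf 0))) (.node (.node (.leaf 0x17000) (.leaf 0)) (.node (.leaf 0x1000000) (.leaf 0))))) (.node (.node (.node (.node (.leaf 0x400200b000) (.leaf 0x0)) (.node (.leaf 0x100100c000) (.leaf 0))) (.node (.node (.leaf 0x1003003017000)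 (.leaf 0)) (.node (.leaf 0x7000) (.leaf 0)))) (.node (.node (.node (.leaf 0x3005000000) (.leaf 0x100001d)) (.node (.leaf 0x300d000) (.leaf 0))) (.node (.node (.leaf 0x0) (.leaf 0)) (.node (.leaf 0x1006000) (.leaf 0)))))) (.node (.node (.node (.node (.node (.leaf 0x1004004026002) (.leaf 0x1004000)) (.node (.leaf 0x201c003) (.leaf 0))) (.node (.node (.leaf 0x2004001000) (.leaf 0)) (.node (.leaf 0x4000) (.leaf 0)))) (.node (.node (.node (.leaf 0x400000b000) (.leaf 0x1000000)) (.node (.leaf 0x300d000) (.leaf 0))) (.node (.node (.leaf 0x1002000000) (.leaf 0)) (.node (.leaf 0x0) (.leaf 0))))) (.node (.node (.node (.node (.leaf 0x3004015027) (.leaf 0x0)) (.node (.leaf 0x100100b000) (.leaf 0))) (.node (.node (.leaf 0x100000300f000) (.leaf 0)) (.node (.leaf 0x1002000) (.leaf 0)))) (.node (.node (.node (.leaf 0x100000d000) (.leaf 0)) (.node (.leaf 0x0) (.leaf 0))) (.node (.node (.leaf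 0x1001007000) (.leaf 0)) (.node (.leaf 0x3000) (.leaf 0))))))) (.node (.node (.node (.node (.node (.node (.leaf 0x400201302a) (.leaf 0x1b001)) (.node (.leaf 0x1006003) (.leaf 0))) (.node (.node (.leaf 0x2000000000) (.leaf 0)) (.node (.leaf 0x10000) (.leaf 0)))) (.node (.node (.node (.leaf 0x1000000021000) (.leaf 0x1001000)) (.node (.leaf 0x1000000) (.leaf 0))) (.node (.node (.leaf 0x2013000) (.leaf 0)) (.node (.leaf 0x1017001) (.leaf 0))))) (.node (.node (.node (.node (.leaf 0x1002003010022) (.leaf 0x0)) (.node (.leaf 0x1000002000) (.leaf 0))) (.node (.node (.leaf 0x0) (.leaf 0)) (.node (.leaf 0x0) (.leaf 0)))) (.node (.node (.node (.leaf 0x1000001012000) (.leaf 0x4001000)) (.node (.leaf 0x1003000000) (.leaf 0))) (.node (.node (.leaf 0x0) (.leaf 0)) (.node (.leaf 0x0) (.leaf 0)))))) (.node (.node (.node (.node (.node (.leaf 0x0) (.leaf 0x0)) (.node (.leaf 0x100001f003) (.leaf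 0))) (.node (.node (.leaf 0x3001002000) (.leaf 0)) (.node (.leaf 0x0) (.leaf 0)))) (.node (.node (.node (.leaf 0x1002001023000) (.leaf 0x0)) (.node (.leaf 0x1000000) (.leaf 0))) (.node (.node (.leaf 0x1001008000) (.leaf 0)) (.node (.leaf 0x0) (.leaf 0))))) (.node (.node (.node (.node (.leaf 0x5006) (.leaf 0x0)) (.node (.leaf 0x1000000) (.leaf 0))) (.node (.node (.leaf 0x4015000) (.leaf 0)) (.node (.leaf 0x7000) (.leaf 0)))) (.node (.node (.node (.leaf 0x1003005012000) (.leaf 0)) (.node (.leaf 0x100b000) (.leaf 0))) (.node (.node (.leaf 0x100301a000) (.leaf 0)) (.node (.leaf 0x1011001) (.leaf 0))))))))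

/-- part of the cover -/
def covV7 : Trie :=
  (.node (.node (.node (.node (.node (.node (.node (.leaf 0x300100601c000) (.leaf 0x12000)) (.node (.leaf 0x0) (.leaf 0))) (.node (.node (.leaf 0x1003003018000) (.leaf 0)) (.node (.leaf 0x100b000) (.leaf 0)))) (.node (.node (.node (.leaf 0x23006) (.leaf 0x1000)) (.node (.leaf 0x4000000) (.leaf 0))) (.node (.node (.leaf 0x1004021000) (.leaf 0)) (.node (.leaf 0x12000) (.leaf 0))))) (.node (.node (.node (.node (.leaf 0x1003001013000) (.leaf 0x1008001)) (.node (.leaf 0x3000) (.leaf 0))) (.node (.node (.leaf 0x2001027000) (.leaf 0)) (.node (.leaf 0x1000000) (.leaf 0)))) (.node (.node (.node (.leaf 0x100200500d000) (.leaf 0x1000000)) (.node (.leaf 0x1002000000) (.leaf 0))) (.node (.node (.leaf 0x1000000) (.leaf 0)) (.node (.leaf 0x1004001) (.leaf 0)))))) (.node (.node (.node (.node (.node (.leaf 0x200300f018) (.leaf 0x1015001)) (.node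 (.leaf 0x1022003) (.leaf 0))) (.node (.node (.leaf 0x0) (.leaf 0)) (.node (.leaf 0x12000) (.leaf 0)))) (.node (.node (.node (.leaf 0x1005011000) (.leaf 0x1000000)) (.node (.leaf 0x3000000) (.leaf 0))) (.node (.node (.leaf 0x100d000) (.leaf 0)) (.node (.leaf 0x1b001) (.leaf 0))))) (.node (.node (.node (.node (.leaf 0x602e) (.leaf 0x18001)) (.node (.leaf 0x100000e000) (.leaf 0))) (.node (.node (.leaf 0x1000005007005) (.leaf 0)) (.node (.leaf 0xd000) (.leaf 0)))) (.node (.node (.node (.leaf 0x100100000d000) (.leaf 0x1000000000)) (.node (.leaf 0x0) (.leaf 0))) (.node (.node (.leaf 0x0) (.leaf 0)) (.node (.leaf 0x1000000) (.leaf 0))))))) (.node (.node (.node (.node (.node (.node (.leaf 0x200501e022) (.leaf 0x17001)) (.node (.leaf 0x3005003) (.leaf 0))) (.node (.node (.leaf 0x1000003000000) (.leaf 0)) (.node (.leaf 0x1010000) (.leaf 0)))) (.node (.node (.node (.leaf 0x100000500a016)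 (.leaf 0x1000)) (.node (.leaf 0x1000000000) (.leaf 0))) (.node (.node (.leaf 0x1000022000) (.leaf 0)) (.node (.leaf 0x8000) (.leaf 0))))) (.node (.node (.node (.node (.leaf 0x400200e000) (.leaf 0x0)) (.node (.leaf 0x1003000000) (.leaf 0))) (.node (.node (.leaf 0x0) (.leaf 0)) (.node (.leaf 0x0) (.leaf 0)))) (.node (.node (.node (.leaf 0x2001000000) (.leaf 0x1083)) (.node (.leaf 0x4015000) (.leaf 0))) (.node (.node (.leaf 0x0) (.leaf 0)) (.node (.leaf 0x0) (.leaf 0)))))) (.node (.node (.node (.node (.node (.leaf 0x1000002023020) (.leaf 0x1000000)) (.node (.leaf 0x1000003) (.leaf 0))) (.node (.node (.leaf 0x1003000015000) (.leaf 0)) (.node (.leaf 0x101b000) (.leaf 0)))) (.node (.node (.node (.leaf 0x3005012000) (.leaf 0x0)) (.node (.leaf 0x0) (.leaf 0))) (.node (.node (.leaf 0x1002000000) (.leaf 0)) (.node (.leaf 0x1000000) (.leaf 0))))) (.node (.node (.node (.node (.leaf 0x100400100e000)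 (.leaf 0x0)) (.node (.leaf 0x0) (.leaf 0))) (.node (.node (.leaf 0x2001003005) (.leaf 0)) (.node (.leaf 0x1019000) (.leaf 0)))) (.node (.node (.node (.leaf 0x1004005010000) (.leaf 0)) (.node (.leaf 0x0) (.leaf 0))) (.node (.node (.leaf 0x100000e000) (.leaf 0)) (.node (.leaf 0x1012000) (.leaf 0))))))))

/-- part of the cover -/
def covV39 : Trie :=
  (.node (.node (.node (.node (.node (.node (.node (.leaf 0x4000022031000) (.leaf 0x3001)) (.node (.leaf 0x2015000) (.leaf 0))) (.node (.node (.leaf 0x1003002000000) (.leaf 0)) (.node (.leaf 0xf000) (.leaf 0)))) (.node (.node (.node (.leaf 0x0) (.leaf 0x1001000)) (.node (.leaf 0x1001000000) (.leaf 0))) (.node (.node (.leaf 0x200a000) (.leaf 0)) (.node (.leaf 0x0) (.leaf 0))))) (.node (.node (.node (.node (.leaf 0x1004001024000) (.leaf 0x1011000)) (.node (.leaf 0x7000) (.leaf 0))) (.node (.node (.leaf 0x200401b000) (.leaf 0)) (.node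 (.leaf 0x1007000) (.leaf 0)))) (.node (.node (.node (.leaf 0x4001000000) (.leaf 0x104b)) (.node (.leaf 0x0) (.leaf 0))) (.node (.node (.leaf 0x301f000) (.leaf 0)) (.node (.leaf 0x0) (.leaf 0)))))) (.node (.node (.node (.node (.node (.leaf 0x200501e02d) (.leaf 0x1001000)) (.node (.leaf 0x0) (.leaf 0))) (.node (.node (.leaf 0x0) (.leaf 0)) (.node (.leaf 0x6000) (.leaf 0)))) (.node (.node (.node (.leaf 0x100200000b000) (.leaf 0x1001000)) (.node (.leaf 0x1000000000) (.leaf 0))) (.node (.node (.leaf 0x0) (.leaf 0)) (.node (.leaf 0x0) (.leaf 0))))) (.node (.node (.node (.node (.leaf 0x400201f006) (.leaf 0x0)) (.node (.leaf 0x6000) (.leaf 0))) (.node (.node (.leaf 0x4000000) (.leaf 0)) (.node (.leaf 0x1019000) (.leaf 0)))) (.node (.node (.node (.leaf 0x400001e000) (.leaf 0x50003e8)) (.node (.leaf 0x1000000) (.leaf 0))) (.node (.node (.leaf 0x1003020000) (.leaf 0)) (.node (.leaf 0x0)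 (.leaf 0))))))) (.node (.node (.node (.node (.node (.node (.leaf 0x1003005001005) (.leaf 0x1004001)) (.node (.leaf 0x0) (.leaf 0))) (.node (.node (.leaf 0x4000000000) (.leaf 0)) (.node (.leaf 0x1d000) (.leaf 0)))) (.node (.node (.node (.leaf 0x300301b000) (.leaf 0x1001000)) (.node (.leaf 0x1004000000) (.leaf 0))) (.node (.node (.leaf 0x100f000) (.leaf 0)) (.node (.leaf 0x1c000) (.leaf 0))))) (.node (.node (.node (.node (.leaf 0x100200a004) (.leaf 0x18001)) (.node (.leaf 0x400d000) (.leaf 0))) (.node (.node (.leaf 0x1001002008000) (.leaf 0)) (.node (.leaf 0x1001000) (.leaf 0)))) (.node (.node (.node (.leaf 0x1004002012000) (.leaf 0x1005000000)) (.node (.leaf 0x1003000000) (.leaf 0))) (.node (.node (.leaf 0x1001000000) (.leaf 0)) (.node (.leaf 0x19000) (.leaf 0)))))) (.node (.node (.node (.node (.node (.leaf 0x200501e006) (.leaf 0x101d001)) (.node (.leaf 0x1004021000) (.leaf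 0))) (.node (.node (.leaf 0x1001023000) (.leaf 0)) (.node (.leaf 0x0) (.leaf 0)))) (.node (.node (.node (.leaf 0x2001007000) (.leaf 0x1000000)) (.node (.leaf 0x0) (.leaf 0))) (.node (.node (.leaf 0x201f000) (.leaf 0)) (.node (.leaf 0x0) (.leaf 0))))) (.node (.node (.node (.node (.leaf 0x2013000) (.leaf 0x1b001)) (.node (.leaf 0x1000000000) (.leaf 0))) (.node (.node (.leaf 0x1b000) (.leaf 0)) (.node (.leaf 0x1012000) (.leaf 0)))) (.node (.node (.node (.leaf 0x1002004029000) (.leaf 0)) (.node (.leaf 0x100300d000) (.leaf 0))) (.node (.node (.leaf 0x100200e000) (.leaf 0)) (.node (.leaf 0x1d001) (.leaf 0))))))))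

/-- part of the cover -/
def covV23 : Trie :=
  (.node (.node (.node (.node (.node (.node (.node (.leaf 0x1000004011011000) (.leaf 0x1b001)) (.node (.leaf 0x2015000) (.leaf 0))) (.node (.node (.leaf 0x3001015000) (.leaf 0)) (.node (.leaf 0x0) (.leaf 0)))) (.node (.node (.node (.leaf 0x2009006) (.leaf 0x1001000)) (.node (.leaf 0x1004000000) (.leaf 0))) (.node (.node (.leaf 0x100001c000) (.leaf 0)) (.node (.leaf 0x0) (.leaf 0))))) (.node (.node (.node (.node (.leaf 0x400101d000) (.leaf 0x13000)) (.node (.leaf 0x1003015000) (.leaf 0))) (.node (.node (.leaf 0x4002019000) (.leaf 0)) (.node (.leaf 0x0) (.leaf 0)))) (.node (.node (.node (.leaf 0x100400500e000) (.leaf 0x1000000)) (.node (.leaf 0x1000000000) (.leaf 0))) (.node (.node (.leaf 0x1000000) (.leaf 0)) (.node (.leaf 0x0) (.leaf 0)))))) (.node (.node (.node (.node (.node (.leaf 0x101b02d) (.leaf 0x1017001)) (.node (.leaf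 0x100201c003) (.leaf 0))) (.node (.node (.leaf 0x1002004028000) (.leaf 0)) (.node (.leaf 0x100a000) (.leaf 0)))) (.node (.node (.node (.leaf 0x100000301b000) (.leaf 0x0)) (.node (.leaf 0x300d000) (.leaf 0))) (.node (.node (.leaf 0x100400c000) (.leaf 0)) (.node (.leaf 0x1a001) (.leaf 0))))) (.node (.node (.node (.node (.leaf 0x400301d027) (.leaf 0x0)) (.node (.leaf 0x1003011000) (.leaf 0))) (.node (.node (.leaf 0x3000007005) (.leaf 0)) (.node (.leaf 0xd000) (.leaf 0)))) (.node (.node (.node (.leaf 0x2004029000) (.leaf 0x2001492)) (.node (.leaf 0x0) (.leaf 0))) (.node (.node (.leaf 0x10003) (.leaf 0)) (.node (.leaf 0x101d001) (.leaf 0))))))) (.node (.node (.node (.node (.node (.node (.leaf 0x4004022007) (.leaf 0x1004001)) (.node (.leaf 0x100300f003) (.leaf 0))) (.node (.node (.leaf 0x2000000000) (.leaf 0)) (.node (.leaf 0x2000) (.leaf 0)))) (.node (.node (.node (.leaf 0x2011016)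 (.leaf 0x1000000)) (.node (.leaf 0x0) (.leaf 0))) (.node (.node (.leaf 0x100400c000) (.leaf 0)) (.node (.leaf 0x100f001) (.leaf 0))))) (.node (.node (.node (.node (.leaf 0x100401c000) (.leaf 0x0)) (.node (.leaf 0x2006000) (.leaf 0))) (.node (.node (.leaf 0x1002002025000) (.leaf 0)) (.node (.leaf 0x1017001) (.leaf 0)))) (.node (.node (.node (.leaf 0x0) (.leaf 0x0)) (.node (.leaf 0x0) (.leaf 0))) (.node (.node (.leaf 0x4000000) (.leaf 0)) (.node (.leaf 0x15000) (.leaf 0)))))) (.node (.node (.node (.node (.node (.leaf 0x1002005026002) (.leaf 0x101d001)) (.node (.leaf 0x4013003) (.leaf 0))) (.node (.node (.leaf 0x100100001e000) (.leaf 0)) (.node (.leaf 0x15000) (.leaf 0)))) (.node (.node (.node (.leaf 0x300500d000) (.leaf 0x0)) (.node (.leaf 0x400f000) (.leaf 0))) (.node (.node (.leaf 0x0) (.leaf 0)) (.node (.leaf 0x1000000) (.leaf 0))))) (.node (.node (.node (.node (.leaf 0x1001005028000)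 (.leaf 0x0)) (.node (.leaf 0x3000000) (.leaf 0))) (.node (.node (.leaf 0x3000005) (.leaf 0)) (.node (.leaf 0x1011000) (.leaf 0)))) (.node (.node (.node (.leaf 0x400101e000) (.leaf 0)) (.node (.leaf 0x0) (.leaf 0))) (.node (.node (.leaf 0x100201b000) (.leaf 0)) (.node (.leaf 0x0) (.leaf 0))))))))

/-- part of the cover -/
def covV55 : Trie :=
  (.node (.node (.node (.node (.node (.node (.node (.leaf 0x1003005001005) (.leaf 0x0)) (.node (.leaf 0x1000015003) (.leaf 0))) (.node (.node (.leaf 0x2002000000) (.leaf 0)) (.node (.leaf 0xe000) (.leaf 0)))) (.node (.node (.node (.leaf 0x1004002005007) (.leaf 0x1000)) (.node (.leaf 0x1003017000) (.leaf 0))) (.node (.node (.leaf 0x201a000) (.leaf 0)) (.node (.leaf 0x1000000) (.leaf 0))))) (.node (.node (.node (.node (.leaf 0x100100301e000) (.leaf 0x0)) (.node (.leaf 0x1003014000) (.leaf 0))) (.node (.node (.leaf 0x3003019000) (.leaf 0))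 (.node (.leaf 0x1012000) (.leaf 0)))) (.node (.node (.node (.leaf 0x1004000000) (.leaf 0x0)) (.node (.leaf 0x100300d000) (.leaf 0))) (.node (.node (.leaf 0x1001009000) (.leaf 0)) (.node (.leaf 0x1006000) (.leaf 0)))))) (.node (.node (.node (.node (.node (.leaf 0x300501700a) (.leaf 0x1004000)) (.node (.leaf 0x3019000) (.leaf 0))) (.node (.node (.leaf 0x300301d000) (.leaf 0)) (.node (.leaf 0x0) (.leaf 0)))) (.node (.node (.node (.leaf 0x1004002018000) (.leaf 0x1000)) (.node (.leaf 0x1004015000) (.leaf 0))) (.node (.node (.leaf 0x1003000000) (.leaf 0)) (.node (.leaf 0x0) (.leaf 0))))) (.node (.node (.node (.node (.leaf 0x100000101300d) (.leaf 0x0)) (.node (.leaf 0x2006000) (.leaf 0))) (.node (.node (.leaf 0x100100201a005) (.leaf 0)) (.node (.leaf 0xd000) (.leaf 0)))) (.node (.node (.node (.leaf 0x0) (.leaf 0x40014bc)) (.node (.leaf 0x1000000) (.leaf 0))) (.node (.node (.leaf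 0x4009000) (.leaf 0)) (.node (.leaf 0x15000) (.leaf 0))))))) (.node (.node (.node (.node (.node (.node (.leaf 0x3) (.leaf 0x10001)) (.node (.leaf 0x10003) (.leaf 0))) (.node (.node (.leaf 0x1000000000) (.leaf 0)) (.node (.leaf 0x16000) (.leaf 0)))) (.node (.node (.node (.leaf 0x3000024000) (.leaf 0x0)) (.node (.leaf 0x1004000000) (.leaf 0))) (.node (.node (.leaf 0x1001003000) (.leaf 0)) (.node (.leaf 0x0) (.leaf 0))))) (.node (.node (.node (.node (.leaf 0x1002002000005) (.leaf 0x0)) (.node (.leaf 0x1001004000) (.leaf 0))) (.node (.node (.leaf 0x1004003017000) (.leaf 0)) (.node (.leaf 0x17001) (.leaf 0)))) (.node (.node (.node (.leaf 0x3005015000) (.leaf 0x5000000)) (.node (.leaf 0x1003000000) (.leaf 0))) (.node (.node (.leaf 0x1000000000) (.leaf 0)) (.node (.leaf 0x0) (.leaf 0)))))) (.node (.node (.node (.node (.node (.leaf 0x100200501e022) (.leaf 0x1000000)) (.node (.leaf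 0x100001d000) (.leaf 0))) (.node (.node (.leaf 0x1004003016000) (.leaf 0)) (.node (.leaf 0x1000000) (.leaf 0)))) (.node (.node (.node (.leaf 0x5013000) (.leaf 0x0)) (.node (.leaf 0x0) (.leaf 0))) (.node (.node (.leaf 0x1004017000) (.leaf 0)) (.node (.leaf 0x13000) (.leaf 0))))) (.node (.node (.node (.node (.leaf 0x1002005001006) (.leaf 0x1b001)) (.node (.leaf 0x0) (.leaf 0))) (.node (.node (.leaf 0x300c000) (.leaf 0)) (.node (.leaf 0x1d000) (.leaf 0)))) (.node (.node (.node (.leaf 0x1001001018000) (.leaf 0)) (.node (.leaf 0x0) (.leaf 0))) (.node (.node (.leaf 0x100401c000) (.leaf 0)) (.node (.leaf 0x1018001) (.leaf 0))))))))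

/-- part of the cover -/
def covV15 : Trie :=
  (.node (.node (.node (.node (.node (.node (.node (.leaf 0x100300000f018000) (.leaf 0x101a000)) (.node (.leaf 0x0) (.leaf 0))) (.node (.node (.leaf 0x3001015000) (.leaf 0)) (.node (.leaf 0x0) (.leaf 0)))) (.node (.node (.node (.leaf 0x1001005012000) (.leaf 0x1000)) (.node (.leaf 0x1003000000) (.leaf 0))) (.node (.node (.leaf 0x0) (.leaf 0)) (.node (.leaf 0x13000) (.leaf 0))))) (.node (.node (.node (.node (.leaf 0x1000004022000) (.leaf 0x1009000)) (.node (.leaf 0x15000) (.leaf 0))) (.node (.node (.leaf 0x3001016000) (.leaf 0)) (.node (.leaf 0x1000000) (.leaf 0)))) (.node (.node (.node (.leaf 0x1001003011000) (.leaf 0x0)) (.node (.leaf 0x1004000000) (.leaf 0))) (.node (.node (.leaf 0x301f000) (.leaf 0)) (.node (.leaf 0x0) (.leaf 0)))))) (.node (.node (.node (.node (.node (.leaf 0x1502b) (.leaf 0x7000)) (.node (.leaf 0x100101b000)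 (.leaf 0))) (.node (.node (.leaf 0x100301e000) (.leaf 0)) (.node (.leaf 0x5000) (.leaf 0)))) (.node (.node (.node (.leaf 0x1004000021000) (.leaf 0x0)) (.node (.leaf 0x100100b000) (.leaf 0))) (.node (.node (.leaf 0x3003000) (.leaf 0)) (.node (.leaf 0x10000) (.leaf 0))))) (.node (.node (.node (.node (.leaf 0x2000028022) (.leaf 0x18001)) (.node (.leaf 0x300a000) (.leaf 0))) (.node (.node (.leaf 0x1001002000000) (.leaf 0)) (.node (.leaf 0x1011000) (.leaf 0)))) (.node (.node (.node (.leaf 0x1005022000) (.leaf 0x100116e)) (.node (.leaf 0x1000000) (.leaf 0))) (.node (.node (.leaf 0x10003) (.leaf 0)) (.node (.leaf 0x1d001) (.leaf 0))))))) (.node (.node (.node (.node (.node (.node (.leaf 0x100400001802b) (.leaf 0x13000)) (.node (.leaf 0x2021003) (.leaf 0))) (.node (.node (.leaf 0x3000000000) (.leaf 0)) (.node (.leaf 0x0) (.leaf 0)))) (.node (.node (.node (.leaf 0x1c000) (.leaf 0x1000000))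 (.node (.leaf 0x100100b000) (.leaf 0))) (.node (.node (.leaf 0x100301e000) (.leaf 0)) (.node (.leaf 0x1017000) (.leaf 0))))) (.node (.node (.node (.node (.leaf 0x3000013000) (.leaf 0x0)) (.node (.leaf 0x4006000) (.leaf 0))) (.node (.node (.leaf 0x1002005008000) (.leaf 0)) (.node (.leaf 0x1010000) (.leaf 0)))) (.node (.node (.node (.leaf 0x1000000) (.leaf 0x1011)) (.node (.leaf 0x1000000000) (.leaf 0))) (.node (.node (.leaf 0x4000000) (.leaf 0)) (.node (.leaf 0x15000) (.leaf 0)))))) (.node (.node (.node (.node (.node (.leaf 0x101b019) (.leaf 0x1d001)) (.node (.leaf 0x2017003) (.leaf 0))) (.node (.node (.leaf 0x1000004026000) (.leaf 0)) (.node (.leaf 0xb000) (.leaf 0)))) (.node (.node (.node (.leaf 0x100300100a000) (.leaf 0x0)) (.node (.leaf 0x1003000000) (.leaf 0))) (.node (.node (.leaf 0x1002000000) (.leaf 0)) (.node (.leaf 0x1000000) (.leaf 0))))) (.node (.node (.node (.node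 (.leaf 0x1001001000000) (.leaf 0x0)) (.node (.leaf 0x1004000000) (.leaf 0))) (.node (.node (.leaf 0x1004004000005) (.leaf 0)) (.node (.leaf 0x1011000) (.leaf 0)))) (.node (.node (.node (.leaf 0x1003004013000) (.leaf 0)) (.node (.leaf 0x0) (.leaf 0))) (.node (.node (.leaf 0x1000002000) (.leaf 0)) (.node (.leaf 0x19000) (.leaf 0))))))))

/-- part of the cover -/
def covV47 : Trie :=
  (.node (.node (.node (.node (.node (.node (.node (.leaf 0x100300302600d000) (.leaf 0x6000)) (.node (.leaf 0x1000023003) (.leaf 0))) (.node (.node (.leaf 0x1000001000000) (.leaf 0)) (.node (.leaf 0xc000) (.leaf 0)))) (.node (.node (.node (.leaf 0x200400c022) (.leaf 0x0)) (.node (.leaf 0x0) (.leaf 0))) (.node (.node (.leaf 0x400e000) (.leaf 0)) (.node (.leaf 0x1000000) (.leaf 0))))) (.node (.node (.node (.node (.leaf 0x1002002029000) (.leaf 0x4001)) (.node (.leaf 0x0) (.leaf 0))) (.node (.node (.leaf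 0x300000c000) (.leaf 0)) (.node (.leaf 0x101d000) (.leaf 0)))) (.node (.node (.node (.leaf 0x1002002000000) (.leaf 0x0)) (.node (.leaf 0x3017000) (.leaf 0))) (.node (.node (.leaf 0x1003008000) (.leaf 0)) (.node (.leaf 0x1006000) (.leaf 0)))))) (.node (.node (.node (.node (.node (.leaf 0x4005004026) (.leaf 0x1011001)) (.node (.leaf 0x1004012000) (.leaf 0))) (.node (.node (.leaf 0x0) (.leaf 0)) (.node (.leaf 0x6000) (.leaf 0)))) (.node (.node (.node (.leaf 0x4005029000) (.leaf 0x1000000)) (.node (.leaf 0x1004015000) (.leaf 0))) (.node (.node (.leaf 0x1000000000) (.leaf 0)) (.node (.leaf 0x0) (.leaf 0))))) (.node (.node (.node (.node (.leaf 0x1002003023006) (.leaf 0x1c001)) (.node (.leaf 0x4006000) (.leaf 0))) (.node (.node (.leaf 0x300301a005) (.leaf 0)) (.node (.leaf 0x1c000) (.leaf 0)))) (.node (.node (.node (.leaf 0x100200200b000) (.leaf 0x100200148c)) (.node (.leaf 0x1000000)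 (.leaf 0))) (.node (.node (.leaf 0x1001014000) (.leaf 0)) (.node (.leaf 0x14000) (.leaf 0))))))) (.node (.node (.node (.node (.node (.node (.leaf 0x6) (.leaf 0x12001)) (.node (.leaf 0x100101b000) (.leaf 0))) (.node (.node (.leaf 0x1000000000) (.leaf 0)) (.node (.leaf 0x17000) (.leaf 0)))) (.node (.node (.node (.leaf 0x200201c000) (.leaf 0x1001000)) (.node (.leaf 0x1001000000) (.leaf 0))) (.node (.node (.leaf 0x100001b000) (.leaf 0)) (.node (.leaf 0x1000000) (.leaf 0))))) (.node (.node (.node (.node (.leaf 0x3003000002) (.leaf 0x18001)) (.node (.leaf 0x100300b000) (.leaf 0))) (.node (.node (.leaf 0x100400e000) (.leaf 0)) (.node (.leaf 0x1d001) (.leaf 0)))) (.node (.node (.node (.leaf 0x1002001015000) (.leaf 0x5000000)) (.node (.leaf 0x1003000000) (.leaf 0))) (.node (.node (.leaf 0x0) (.leaf 0)) (.node (.leaf 0x0) (.leaf 0)))))) (.node (.node (.node (.node (.node (.leaf 0x100200101602d)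 (.leaf 0x101d001)) (.node (.leaf 0x100101e000) (.leaf 0))) (.node (.node (.leaf 0x3002010000) (.leaf 0)) (.node (.leaf 0x0) (.leaf 0)))) (.node (.node (.node (.leaf 0x0) (.leaf 0x0)) (.node (.leaf 0x1001001000) (.leaf 0))) (.node (.node (.leaf 0x201f000) (.leaf 0)) (.node (.leaf 0x0) (.leaf 0))))) (.node (.node (.node (.node (.leaf 0x100300401d000) (.leaf 0x1b001)) (.node (.leaf 0x0) (.leaf 0))) (.node (.node (.leaf 0x1002012000) (.leaf 0)) (.node (.leaf 0x12000) (.leaf 0)))) (.node (.node (.node (.leaf 0x1000002018000) (.leaf 0)) (.node (.leaf 0x0) (.leaf 0))) (.node (.node (.leaf 0x101e000) (.leaf 0)) (.node (.leaf 0x4000) (.leaf 0))))))))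

/-- part of the cover -/
def covV31 : Trie :=
  (.node (.node (.node (.node (.node (.node (.node (.leaf 0x300300002f000) (.leaf 0x100b001)) (.node (.leaf 0x300d003) (.leaf 0))) (.node (.node (.leaf 0x0) (.leaf 0)) (.node (.leaf 0x0) (.leaf 0)))) (.node (.node (.node (.leaf 0x4005016000) (.leaf 0x1000000)) (.node (.leaf 0x1002000000) (.leaf 0))) (.node (.node (.leaf 0x100301c000) (.leaf 0)) (.node (.leaf 0x1000000) (.leaf 0))))) (.node (.node (.node (.node (.leaf 0x1002003016000) (.leaf 0x1010001)) (.node (.leaf 0x1003008000) (.leaf 0))) (.node (.node (.leaf 0x1000000003000) (.leaf 0)) (.node (.leaf 0x7000) (.leaf 0)))) (.node (.node (.node (.leaf 0x400000a000) (.leaf 0x1000000)) (.node (.leaf 0x0) (.leaf 0))) (.node (.node (.leaf 0x1003009000) (.leaf 0)) (.node (.leaf 0x0) (.leaf 0)))))) (.node (.node (.node (.node (.node (.leaf 0x1004005029017) (.leaf 0x0)) (.node (.leaf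 0x100301b003) (.leaf 0))) (.node (.node (.leaf 0x1002004028000) (.leaf 0)) (.node (.leaf 0x1c000) (.leaf 0)))) (.node (.node (.node (.leaf 0x1005016000) (.leaf 0x1001000)) (.node (.leaf 0x4015000) (.leaf 0))) (.node (.node (.leaf 0x100401d000) (.leaf 0)) (.node (.leaf 0x19000) (.leaf 0))))) (.node (.node (.node (.node (.leaf 0x1001020025) (.leaf 0x0)) (.node (.leaf 0xe000) (.leaf 0))) (.node (.node (.leaf 0x1002004000000) (.leaf 0)) (.node (.leaf 0x1002000) (.leaf 0)))) (.node (.node (.node (.leaf 0x301c000) (.leaf 0x100500028b)) (.node (.leaf 0x0) (.leaf 0))) (.node (.node (.leaf 0x0) (.leaf 0)) (.node (.leaf 0x0) (.leaf 0))))))) (.node (.node (.node (.node (.node (.node (.leaf 0x1502b) (.leaf 0x13000)) (.node (.leaf 0x201c003) (.leaf 0))) (.node (.node (.leaf 0x1000000000000) (.leaf 0)) (.node (.leaf 0x1017000) (.leaf 0)))) (.node (.node (.node (.leaf 0x3001029000) (.leaf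 0x0)) (.node (.leaf 0x0) (.leaf 0))) (.node (.node (.leaf 0x300d000) (.leaf 0)) (.node (.leaf 0x1016001) (.leaf 0))))) (.node (.node (.node (.node (.leaf 0x0) (.leaf 0x1a001)) (.node (.leaf 0x400e000) (.leaf 0))) (.node (.node (.leaf 0x400000c000) (.leaf 0)) (.node (.leaf 0x1000) (.leaf 0)))) (.node (.node (.node (.leaf 0x1003015000) (.leaf 0x2001000)) (.node (.leaf 0x0) (.leaf 0))) (.node (.node (.leaf 0x3000000) (.leaf 0)) (.node (.leaf 0x1017000) (.leaf 0)))))) (.node (.node (.node (.node (.node (.leaf 0x200001802e) (.leaf 0x1000000)) (.node (.leaf 0x100b003) (.leaf 0))) (.node (.node (.leaf 0x5006000) (.leaf 0)) (.node (.leaf 0x1007000) (.leaf 0)))) (.node (.node (.node (.leaf 0x1002000023000) (.leaf 0x1000000)) (.node (.leaf 0x300f000) (.leaf 0))) (.node (.node (.leaf 0x0) (.leaf 0)) (.node (.leaf 0x0) (.leaf 0))))) (.node (.node (.node (.node (.leaf 0x2003023000) (.leaf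 0x0)) (.node (.leaf 0x4000000) (.leaf 0))) (.node (.node (.leaf 0x2000) (.leaf 0)) (.node (.leaf 0x0) (.leaf 0)))) (.node (.node (.node (.leaf 0x1001002009000) (.leaf 0)) (.node (.leaf 0x100300d000) (.leaf 0))) (.node (.node (.leaf 0x0) (.leaf 0)) (.node (.leaf 0x100e000) (.leaf 0))))))))

/-- part of the cover -/
def covV63 : Trie :=
  (.node (.node (.node (.node (.node (.node (.node (.leaf 0x400501b02d) (.leaf 0x0)) (.node (.leaf 0x1000018000) (.leaf 0))) (.node (.node (.leaf 0x1004001000000) (.leaf 0)) (.node (.leaf 0x1007000) (.leaf 0)))) (.node (.node (.node (.leaf 0x1000005017022) (.leaf 0x1000000)) (.node (.leaf 0x100300d000) (.leaf 0))) (.node (.node (.leaf 0x100100c000) (.leaf 0)) (.node (.leaf 0x0) (.leaf 0))))) (.node (.node (.node (.node (.leaf 0x1002000028000) (.leaf 0x0)) (.node (.leaf 0x1003010000) (.leaf 0))) (.node (.node (.leaf 0x1002000013000) (.leaf 0))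 (.node (.leaf 0x101d000) (.leaf 0)))) (.node (.node (.node (.leaf 0x2003000000) (.leaf 0x1011)) (.node (.leaf 0x100100b000) (.leaf 0))) (.node (.node (.leaf 0x0) (.leaf 0)) (.node (.leaf 0x19000) (.leaf 0)))))) (.node (.node (.node (.node (.node (.leaf 0x400501b003) (.leaf 0x1011001)) (.node (.leaf 0x3018000) (.leaf 0))) (.node (.node (.leaf 0x2003016000) (.leaf 0)) (.node (.leaf 0x1006000) (.leaf 0)))) (.node (.node (.node (.leaf 0x3005021000) (.leaf 0x1000000)) (.node (.leaf 0x0) (.leaf 0))) (.node (.node (.leaf 0x1003000000) (.leaf 0)) (.node (.leaf 0x0) (.leaf 0))))) (.node (.node (.node (.node (.leaf 0x1004004006006) (.leaf 0x1c001)) (.node (.leaf 0x1002004000) (.leaf 0))) (.node (.node (.leaf 0x2000007000) (.leaf 0)) (.node (.leaf 0x1d000) (.leaf 0)))) (.node (.node (.node (.leaf 0x200400a000) (.leaf 0)) (.node (.leaf 0x100300d000) (.leaf 0))) (.node (.node (.leaf 0x2019000)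 (.leaf 0)) (.node (.leaf 0x1017000) (.leaf 0))))))) (.node (.node (.node (.node (.node (.node (.leaf 0x1003005001016) (.leaf 0x19001)) (.node (.leaf 0x100000a003) (.leaf 0))) (.node (.node (.leaf 0x0) (.leaf 0)) (.node (.leaf 0x1000000) (.leaf 0)))) (.node (.node (.node (.leaf 0x300000b000) (.leaf 0x0)) (.node (.leaf 0x1003000000) (.leaf 0))) (.node (.node (.leaf 0x1002005000) (.leaf 0)) (.node (.leaf 0x1b001) (.leaf 0))))) (.node (.node (.node (.node (.leaf 0x100300500000b) (.leaf 0x0)) (.node (.leaf 0x400e000) (.leaf 0))) (.node (.node (.leaf 0x2001007005) (.leaf 0)) (.node (.leaf 0x1c000) (.leaf 0)))) (.node (.node (.node (.leaf 0x15000) (.leaf 0x4000000)) (.node (.leaf 0x1003000000) (.leaf 0))) (.node (.node (.leaf 0x1000000000) (.leaf 0)) (.node (.leaf 0x0) (.leaf 0)))))) (.node (.node (.node (.node (.node (.leaf 0x1005014000) (.leaf 0x0)) (.node (.leaf 0x100300c000)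 (.leaf 0))) (.node (.node (.leaf 0x100200401c000) (.leaf 0)) (.node (.leaf 0x0) (.leaf 0)))) (.node (.node (.node (.leaf 0x1005016000) (.leaf 0x0)) (.node (.leaf 0x1000000) (.leaf 0))) (.node (.node (.leaf 0x1004017000) (.leaf 0)) (.node (.leaf 0x1004001) (.leaf 0))))) (.node (.node (.node (.node (.leaf 0x0) (.leaf 0x0)) (.node (.leaf 0x0) (.leaf 0))) (.node (.node (.leaf 0x200f000) (.leaf 0)) (.node (.leaf 0x13000) (.leaf 0)))) (.node (.node (.node (.leaf 0x1004004015000) (.leaf 0)) (.node (.leaf 0x0) (.leaf 0))) (.node (.node (.leaf 0x4008000) (.leaf 0)) (.node (.leaf 0x1000000) (.leaf 0))))))))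

/-- the cover -/
def covV : Trie :=
  (.node (.node (.node (.node (.node (.node covV0 covV32) (.node covV16 covV48)) (.node (.node covV8 covV40) (.node covV24 covV56))) (.node (.node (.node covV4 covV36) (.node covV20 covV52)) (.node (.node covV12 covV44) (.node covV28 covV60)))) (.node (.node (.node (.node covV2 covV34) (.node covV18 covV50)) (.node (.node covV10 covV42) (.node covV26 covV58))) (.node (.node (.node covV6 covV38) (.node covV22 covV54)) (.node (.node covV14 covV46) (.node covV30 covV62))))) (.node (.node (.node (.node (.node covV1 covV33) (.node covV17 covV49)) (.node (.node covV9 covV41) (.node covV25 covV57))) (.node (.node (.node covV5 covV37) (.node covV21 covV53)) (.node (.node covV13 covV45) (.node covV29 covV61)))) (.node (.node (.node (.node covV3 covV35) (.node covV19 covV51)) (.node (.node covV11 covV43) (.node covV27 covV59))) (.node (.node (.node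 covV7 covV39) (.node covV23 covV55)) (.node (.node covV15 covV47) (.node covV31 covV63))))))

/-- part of the cover -/
def covC0 : Trie :=
  (.node (.node (.node (.node (.node (.node (.node (.leaf 0x0) (.leaf 0x1003004001)) (.node (.leaf 0x4002020) (.leaf 0))) (.node (.node (.leaf 0x100501c) (.leaf 0)) (.node (.leaf 0x0) (.leaf 0)))) (.node (.node (.node (.leaf 0x0) (.leaf 0x300401c)) (.node (.leaf 0x1001005026) (.leaf 0))) (.node (.node (.leaf 0x0) (.leaf 0)) (.node (.leaf 0x100000301d) (.leaf 0))))) (.node (.node (.node (.node (.leaf 0xd) (.leaf 0x0)) (.node (.leaf 0x1004005018) (.leaf 0))) (.node (.node (.leaf 0x4004009) (.leaf 0)) (.node (.leaf 0x100200100e) (.leaf 0)))) (.node (.node (.node (.leaf 0x0) (.leaf 0x0)) (.node (.leaf 0x1003005023) (.leaf 0))) (.node (.node (.leaf 0x300501e) (.leaf 0)) (.node (.leaf 0x0) (.leaf 0)))))) (.node (.node (.node (.node (.node (.leaf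 0x0) (.leaf 0x101b)) (.node (.leaf 0x1000000004) (.leaf 0))) (.node (.node (.leaf 0x0) (.leaf 0)) (.node (.leaf 0x0) (.leaf 0)))) (.node (.node (.node (.leaf 0x0) (.leaf 0x0)) (.node (.leaf 0x1004001024) (.leaf 0))) (.node (.node (.leaf 0xb) (.leaf 0)) (.node (.leaf 0x100400500f) (.leaf 0))))) (.node (.node (.node (.node (.leaf 0x1e) (.leaf 0x4005)) (.node (.leaf 0x1003) (.leaf 0))) (.node (.node (.leaf 0x1002001011) (.leaf 0)) (.node (.leaf 0x0) (.leaf 0)))) (.node (.node (.node (.leaf 0x400101e) (.leaf 0x2003007)) (.node (.leaf 0x0) (.leaf 0))) (.node (.node (.leaf 0x1003005012) (.leaf 0)) (.node (.leaf 0x0) (.leaf 0))))))) (.node (.node (.node (.node (.node (.node (.leaf 0x0) (.leaf 0x0)) (.node (.leaf 0x4000012) (.leaf 0))) (.node (.node (.leaf 0x4000023) (.leaf 0)) (.node (.leaf 0x200200c) (.leaf 0)))) (.node (.node (.node (.leaf 0x1000001010) (.leaf 0x0)) (.node (.leaf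 0x1003005011) (.leaf 0))) (.node (.node (.leaf 0x0) (.leaf 0)) (.node (.leaf 0x0) (.leaf 0))))) (.node (.node (.node (.node (.leaf 0x0) (.leaf 0x0)) (.node (.leaf 0x200401c) (.leaf 0))) (.node (.node (.leaf 0x4) (.leaf 0)) (.node (.leaf 0x1000004018) (.leaf 0)))) (.node (.node (.node (.leaf 0x4009) (.leaf 0x1004000026)) (.node (.leaf 0x1001000009) (.leaf 0))) (.node (.node (.leaf 0x0) (.leaf 0)) (.node (.leaf 0x0) (.leaf 0)))))) (.node (.node (.node (.node (.node (.leaf 0x0) (.leaf 0x100100d)) (.node (.leaf 0x1e) (.leaf 0))) (.node (.node (.leaf 0x100400501c) (.leaf 0)) (.node (.leaf 0x1000012) (.leaf 0)))) (.node (.node (.node (.leaf 0x0) (.leaf 0x0)) (.node (.leaf 0x100300100b) (.leaf 0))) (.node (.node (.leaf 0x1000001014) (.leaf 0)) (.node (.leaf 0x0) (.leaf 0))))) (.node (.node (.node (.node (.leaf 0x0) (.leaf 0x1003000028)) (.node (.leaf 0x1023) (.leaf 0))) (.node (.node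 (.leaf 0x200b) (.leaf 0)) (.node (.leaf 0x0) (.leaf 0)))) (.node (.node (.node (.leaf 0x1003026) (.leaf 0)) (.node (.leaf 0x0) (.leaf 0))) (.node (.node (.leaf 0x100400501e) (.leaf 0)) (.node (.leaf 0x4009) (.leaf 0))))))))

/-- part of the cover -/
def covC32 : Trie :=
  (.node (.node (.node (.node (.node (.node (.node (.leaf 0x0) (.leaf 0x300401e)) (.node (.leaf 0x100000001e) (.leaf 0))) (.node (.node (.leaf 0x100100500a) (.leaf 0)) (.node (.leaf 0x0) (.leaf 0)))) (.node (.node (.node (.leaf 0x3003022) (.leaf 0x1003002024)) (.node (.leaf 0x100300500d) (.leaf 0))) (.node (.node (.leaf 0x1000) (.leaf 0)) (.node (.leaf 0x0) (.leaf 0))))) (.node (.node (.node (.node (.leaf 0x1f) (.leaf 0x1002004002)) (.node (.leaf 0x7) (.leaf 0))) (.node (.node (.leaf 0xf) (.leaf 0)) (.node (.leaf 0x400b) (.leaf 0)))) (.node (.node (.node (.leaf 0x0) (.leaf 0x100400301d)) (.node (.leaf 0x0)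 (.leaf 0))) (.node (.node (.leaf 0x100501c) (.leaf 0)) (.node (.leaf 0x1003001011) (.leaf 0)))))) (.node (.node (.node (.node (.node (.leaf 0x0) (.leaf 0x2003026)) (.node (.leaf 0x1000003016) (.leaf 0))) (.node (.node (.leaf 0x200c) (.leaf 0)) (.node (.leaf 0x1003005028) (.leaf 0)))) (.node (.node (.node (.leaf 0x1e) (.leaf 0x1004002)) (.node (.leaf 0x0) (.leaf 0))) (.node (.node (.leaf 0x100f) (.leaf 0)) (.node (.leaf 0x0) (.leaf 0))))) (.node (.node (.node (.node (.leaf 0x1c) (.leaf 0x0)) (.node (.leaf 0x1011) (.leaf 0))) (.node (.node (.leaf 0x1003004000) (.leaf 0)) (.node (.leaf 0x301f) (.leaf 0)))) (.node (.node (.node (.leaf 0x14) (.leaf 0x2004000)) (.node (.leaf 0x0) (.leaf 0))) (.node (.node (.leaf 0x100100400b) (.leaf 0)) (.node (.leaf 0x0) (.leaf 0))))))) (.node (.node (.node (.node (.node (.node (.leaf 0x0) (.leaf 0x2000004)) (.node (.leaf 0x1000001010) (.leaf 0)))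 (.node (.node (.leaf 0x0) (.leaf 0)) (.node (.leaf 0x1002000019) (.leaf 0)))) (.node (.node (.node (.leaf 0x12) (.leaf 0x0)) (.node (.leaf 0x0) (.leaf 0))) (.node (.node (.leaf 0x2) (.leaf 0)) (.node (.leaf 0xb) (.leaf 0))))) (.node (.node (.node (.node (.leaf 0xb) (.leaf 0x100400400c)) (.node (.leaf 0x0) (.leaf 0))) (.node (.node (.leaf 0xb) (.leaf 0)) (.node (.leaf 0x1002005028) (.leaf 0)))) (.node (.node (.node (.leaf 0x1000012) (.leaf 0x1006)) (.node (.leaf 0x0) (.leaf 0))) (.node (.node (.leaf 0x5023) (.leaf 0)) (.node (.leaf 0x400101e) (.leaf 0)))))) (.node (.node (.node (.node (.node (.leaf 0x0) (.leaf 0x0)) (.node (.leaf 0x2003014) (.leaf 0))) (.node (.node (.leaf 0x0) (.leaf 0)) (.node (.leaf 0x400101e) (.leaf 0)))) (.node (.node (.node (.leaf 0xd) (.leaf 0x0)) (.node (.leaf 0x100300000b) (.leaf 0))) (.node (.node (.leaf 0x3019) (.leaf 0)) (.node (.leaf 0x0) (.leaf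 0))))) (.node (.node (.node (.node (.leaf 0x4004009) (.leaf 0x1000002019)) (.node (.leaf 0x2003026) (.leaf 0))) (.node (.node (.leaf 0x0) (.leaf 0)) (.node (.leaf 0x0) (.leaf 0)))) (.node (.node (.node (.leaf 0x14) (.leaf 0)) (.node (.leaf 0x0) (.leaf 0))) (.node (.node (.leaf 0x400501c) (.leaf 0)) (.node (.leaf 0x0) (.leaf 0))))))))

/-- part of the cover -/
def covC16 : Trie :=
  (.node (.node (.node (.node (.node (.node (.node (.leaf 0x0) (.leaf 0x200400f)) (.node (.leaf 0x3000009) (.leaf 0))) (.node (.node (.leaf 0x1000003027) (.leaf 0)) (.node (.leaf 0x1000005008) (.leaf 0)))) (.node (.node (.node (.leaf 0x1000000003) (.leaf 0x0)) (.node (.leaf 0x4005004) (.leaf 0))) (.node (.node (.leaf 0x300400b) (.leaf 0)) (.node (.leaf 0x0) (.leaf 0))))) (.node (.node (.node (.node (.leaf 0x1e) (.leaf 0x1000000000)) (.node (.leaf 0x2005013) (.leaf 0))) (.node (.node (.leaf 0x100f)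 (.leaf 0)) (.node (.leaf 0x1004000028) (.leaf 0)))) (.node (.node (.node (.leaf 0x1e) (.leaf 0x1003003019)) (.node (.leaf 0x5008) (.leaf 0))) (.node (.node (.leaf 0x0) (.leaf 0)) (.node (.leaf 0x0) (.leaf 0)))))) (.node (.node (.node (.node (.node (.leaf 0x0) (.leaf 0x1004004019)) (.node (.leaf 0x300301f) (.leaf 0))) (.node (.node (.leaf 0x4027) (.leaf 0)) (.node (.leaf 0x1003005023) (.leaf 0)))) (.node (.node (.node (.leaf 0xd) (.leaf 0x0)) (.node (.leaf 0x0) (.leaf 0))) (.node (.node (.leaf 0x4004009) (.leaf 0)) (.node (.leaf 0x300401e) (.leaf 0))))) (.node (.node (.node (.node (.leaf 0x0) (.leaf 0x0)) (.node (.leaf 0x3005011) (.leaf 0))) (.node (.node (.leaf 0x1002001000) (.leaf 0)) (.node (.leaf 0xf) (.leaf 0)))) (.node (.node (.node (.leaf 0x400400f) (.leaf 0x400001c)) (.node (.leaf 0x0) (.leaf 0))) (.node (.node (.leaf 0x0) (.leaf 0)) (.node (.leaf 0x1000001005) (.leaf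 0))))))) (.node (.node (.node (.node (.node (.node (.leaf 0x0) (.leaf 0x0)) (.node (.leaf 0x4004005) (.leaf 0))) (.node (.node (.leaf 0x0) (.leaf 0)) (.node (.leaf 0x0) (.leaf 0)))) (.node (.node (.node (.leaf 0x1003) (.leaf 0x1000004008)) (.node (.leaf 0x1001003016) (.leaf 0))) (.node (.node (.leaf 0x100400501c) (.leaf 0)) (.node (.leaf 0xe) (.leaf 0))))) (.node (.node (.node (.node (.leaf 0xd) (.leaf 0x2001001)) (.node (.leaf 0x1000002004) (.leaf 0))) (.node (.node (.leaf 0x26) (.leaf 0)) (.node (.leaf 0x0) (.leaf 0)))) (.node (.node (.node (.leaf 0x0) (.leaf 0x1003000010)) (.node (.leaf 0x0) (.leaf 0))) (.node (.node (.leaf 0x2005021) (.leaf 0)) (.node (.leaf 0x1015) (.leaf 0)))))) (.node (.node (.node (.node (.node (.leaf 0x0) (.leaf 0x0)) (.node (.leaf 0x0) (.leaf 0))) (.node (.node (.leaf 0x2) (.leaf 0)) (.node (.leaf 0x200301e) (.leaf 0)))) (.node (.node (.node (.leaf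 0x0) (.leaf 0x300201a)) (.node (.leaf 0x4005009) (.leaf 0))) (.node (.node (.leaf 0x0) (.leaf 0)) (.node (.leaf 0x0) (.leaf 0))))) (.node (.node (.node (.node (.leaf 0xb) (.leaf 0x0)) (.node (.leaf 0x100000300f) (.leaf 0))) (.node (.node (.leaf 0x101f) (.leaf 0)) (.node (.leaf 0x0) (.leaf 0)))) (.node (.node (.node (.leaf 0x300400b) (.leaf 0)) (.node (.leaf 0x0) (.leaf 0))) (.node (.node (.leaf 0x0) (.leaf 0)) (.node (.leaf 0x0) (.leaf 0))))))))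

/-- part of the cover -/
def covC48 : Trie :=
  (.node (.node (.node (.node (.node (.node (.node (.leaf 0x0) (.leaf 0x0)) (.node (.leaf 0x1b) (.leaf 0))) (.node (.node (.leaf 0x1000000020) (.leaf 0)) (.node (.leaf 0x200300c) (.leaf 0)))) (.node (.node (.node (.leaf 0x1002003015) (.leaf 0x0)) (.node (.leaf 0x4000000) (.leaf 0))) (.node (.node (.leaf 0x100200501e) (.leaf 0)) (.node (.leaf 0x3004002) (.leaf 0))))) (.node (.node (.node (.node (.leaf 0x0) (.leaf 0x0)) (.node (.leaf 0x1002000009) (.leaf 0))) (.node (.node (.leaf 0x0) (.leaf 0)) (.node (.leaf 0x0) (.leaf 0)))) (.node (.node (.node (.leaf 0x1001005026) (.leaf 0x3000021)) (.node (.leaf 0x1004002008) (.leaf 0))) (.node (.node (.leaf 0x200100b) (.leaf 0)) (.node (.leaf 0x1000005019) (.leaf 0)))))) (.node (.node (.node (.node (.node (.leaf 0x0) (.leaf 0x3001028)) (.node (.leaf 0x3005011) (.leaf 0))) (.node (.node (.leaf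 0x0) (.leaf 0)) (.node (.leaf 0x0) (.leaf 0)))) (.node (.node (.node (.leaf 0x1f) (.leaf 0x100100000b)) (.node (.leaf 0x0) (.leaf 0))) (.node (.node (.leaf 0x0) (.leaf 0)) (.node (.leaf 0x0) (.leaf 0))))) (.node (.node (.node (.node (.leaf 0x2) (.leaf 0x1004003004)) (.node (.leaf 0x1002002015) (.leaf 0))) (.node (.node (.leaf 0x2009) (.leaf 0)) (.node (.leaf 0x0) (.leaf 0)))) (.node (.node (.node (.leaf 0x1019) (.leaf 0x1003003000)) (.node (.leaf 0x0) (.leaf 0))) (.node (.node (.leaf 0x1000) (.leaf 0)) (.node (.leaf 0x3000002) (.leaf 0))))))) (.node (.node (.node (.node (.node (.node (.leaf 0x0) (.leaf 0x1)) (.node (.leaf 0x1002003017) (.leaf 0))) (.node (.node (.leaf 0x0) (.leaf 0)) (.node (.leaf 0x200b) (.leaf 0)))) (.node (.node (.node (.leaf 0x11) (.leaf 0x0)) (.node (.leaf 0x4002020) (.leaf 0))) (.node (.node (.leaf 0x0) (.leaf 0)) (.node (.leaf 0x100000201a) (.leaf 0)))))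 (.node (.node (.node (.node (.leaf 0x0) (.leaf 0x0)) (.node (.leaf 0x4021) (.leaf 0))) (.node (.node (.leaf 0x2) (.leaf 0)) (.node (.leaf 0x1003005023) (.leaf 0)))) (.node (.node (.node (.leaf 0x200301e) (.leaf 0x3002014)) (.node (.leaf 0x200301b) (.leaf 0))) (.node (.node (.leaf 0x0) (.leaf 0)) (.node (.leaf 0x0) (.leaf 0)))))) (.node (.node (.node (.node (.node (.leaf 0x0) (.leaf 0x1001003023)) (.node (.leaf 0x1000001000) (.leaf 0))) (.node (.node (.leaf 0xb) (.leaf 0)) (.node (.leaf 0x0) (.leaf 0)))) (.node (.node (.node (.leaf 0xb) (.leaf 0x100100000f)) (.node (.leaf 0x0) (.leaf 0))) (.node (.node (.leaf 0x0) (.leaf 0)) (.node (.leaf 0x2004025) (.leaf 0))))) (.node (.node (.node (.node (.leaf 0x100f) (.leaf 0x0)) (.node (.leaf 0x0) (.leaf 0))) (.node (.node (.leaf 0x0) (.leaf 0)) (.node (.leaf 0x1002000019) (.leaf 0)))) (.node (.node (.node (.leaf 0x201d) (.leaf 0)) (.node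 (.leaf 0x0) (.leaf 0))) (.node (.node (.leaf 0x2000002) (.leaf 0)) (.node (.leaf 0xf) (.leaf 0))))))))

/-- part of the cover -/
def covC8 : Trie :=
  (.node (.node (.node (.node (.node (.node (.node (.leaf 0x0) (.leaf 0x1000002015)) (.node (.leaf 0x0) (.leaf 0))) (.node (.node (.leaf 0x1003005028) (.leaf 0)) (.node (.leaf 0x0) (.leaf 0)))) (.node (.node (.node (.leaf 0x100000000a) (.leaf 0x300201a)) (.node (.leaf 0x1000003029) (.leaf 0))) (.node (.node (.leaf 0x1019) (.leaf 0)) (.node (.leaf 0x4023) (.leaf 0))))) (.node (.node (.node (.node (.leaf 0xb) (.leaf 0x400501c)) (.node (.leaf 0x100300101c) (.leaf 0))) (.node (.node (.leaf 0x300301f) (.leaf 0)) (.node (.leaf 0x1001003023) (.leaf 0)))) (.node (.node (.node (.leaf 0xb) (.leaf 0x0)) (.node (.leaf 0x1002001020) (.leaf 0))) (.node (.node (.leaf 0x0) (.leaf 0)) (.node (.leaf 0x2004015) (.leaf 0)))))) (.node (.node (.node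 (.node (.node (.leaf 0x0) (.leaf 0x4021)) (.node (.leaf 0x100400501d) (.leaf 0))) (.node (.node (.leaf 0x0) (.leaf 0)) (.node (.leaf 0x201d) (.leaf 0)))) (.node (.node (.node (.leaf 0x0) (.leaf 0x1004000002)) (.node (.leaf 0x1004004016) (.leaf 0))) (.node (.node (.leaf 0x1e) (.leaf 0)) (.node (.leaf 0x3003004) (.leaf 0))))) (.node (.node (.node (.node (.leaf 0x2) (.leaf 0x0)) (.node (.leaf 0x2000024) (.leaf 0))) (.node (.node (.leaf 0x400501c) (.leaf 0)) (.node (.leaf 0x4009) (.leaf 0)))) (.node (.node (.node (.leaf 0x0) (.leaf 0x0)) (.node (.leaf 0x0) (.leaf 0))) (.node (.node (.leaf 0x1001004009) (.leaf 0)) (.node (.leaf 0x1002001016) (.leaf 0))))))) (.node (.node (.node (.node (.node (.node (.leaf 0x0) (.leaf 0xd)) (.node (.leaf 0x1005) (.leaf 0))) (.node (.node (.leaf 0x200400b) (.leaf 0)) (.node (.leaf 0x201c) (.leaf 0)))) (.node (.node (.node (.leaf 0x4001028) (.leaf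 0x1003003019)) (.node (.leaf 0x1003000002) (.leaf 0))) (.node (.node (.leaf 0x4005012) (.leaf 0)) (.node (.leaf 0x300200f) (.leaf 0))))) (.node (.node (.node (.node (.leaf 0x0) (.leaf 0x0)) (.node (.leaf 0x100200301c) (.leaf 0))) (.node (.node (.leaf 0xb) (.leaf 0)) (.node (.leaf 0x0) (.leaf 0)))) (.node (.node (.node (.leaf 0x1004004002) (.leaf 0x100300301d)) (.node (.leaf 0x100300301f) (.leaf 0))) (.node (.node (.leaf 0x3005011) (.leaf 0)) (.node (.leaf 0x2002001) (.leaf 0)))))) (.node (.node (.node (.node (.node (.leaf 0x0) (.leaf 0x2003023)) (.node (.leaf 0x4002020) (.leaf 0))) (.node (.node (.leaf 0x3005011) (.leaf 0)) (.node (.leaf 0x5) (.leaf 0)))) (.node (.node (.node (.leaf 0xf) (.leaf 0x0)) (.node (.leaf 0x0) (.leaf 0))) (.node (.node (.leaf 0x1000000004) (.leaf 0)) (.node (.leaf 0x1003003005) (.leaf 0))))) (.node (.node (.node (.node (.leaf 0x0) (.leaf 0x0)) (.node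 (.leaf 0x0) (.leaf 0))) (.node (.node (.leaf 0x200301e) (.leaf 0)) (.node (.leaf 0x1002003026) (.leaf 0)))) (.node (.node (.node (.leaf 0x1000) (.leaf 0)) (.node (.leaf 0x2000002) (.leaf 0))) (.node (.node (.leaf 0x14) (.leaf 0)) (.node (.leaf 0x1001003016) (.leaf 0))))))))

/-- part of the cover -/
def covC40 : Trie :=
  (.node (.node (.node (.node (.node (.node (.node (.leaf 0x0) (.leaf 0x100100d)) (.node (.leaf 0x4002027) (.leaf 0))) (.node (.node (.leaf 0x1000001009) (.leaf 0)) (.node (.leaf 0x300200d) (.leaf 0)))) (.node (.node (.node (.leaf 0x101a) (.leaf 0x4004016)) (.node (.leaf 0x0) (.leaf 0))) (.node (.node (.leaf 0x300400b) (.leaf 0)) (.node (.leaf 0x1017) (.leaf 0))))) (.node (.node (.node (.node (.leaf 0x18) (.leaf 0x100200301a)) (.node (.leaf 0x11) (.leaf 0))) (.node (.node (.leaf 0x0) (.leaf 0)) (.node (.leaf 0x100100301f) (.leaf 0)))) (.node (.node (.node (.leaf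 0x1000) (.leaf 0x0)) (.node (.leaf 0x0) (.leaf 0))) (.node (.node (.leaf 0x1002028) (.leaf 0)) (.node (.leaf 0x0) (.leaf 0)))))) (.node (.node (.node (.node (.node (.leaf 0x0) (.leaf 0x0)) (.node (.leaf 0x400501c) (.leaf 0))) (.node (.node (.leaf 0x4004008) (.leaf 0)) (.node (.leaf 0x1000003027) (.leaf 0)))) (.node (.node (.node (.leaf 0x9) (.leaf 0x1000004016)) (.node (.leaf 0x1002003026) (.leaf 0))) (.node (.node (.leaf 0x0) (.leaf 0)) (.node (.leaf 0x0) (.leaf 0))))) (.node (.node (.node (.node (.leaf 0x11) (.leaf 0x0)) (.node (.leaf 0x1008) (.leaf 0))) (.node (.node (.leaf 0x0) (.leaf 0)) (.node (.leaf 0x3002028) (.leaf 0)))) (.node (.node (.node (.leaf 0x0) (.leaf 0x100300300a)) (.node (.leaf 0x1003003023) (.leaf 0))) (.node (.node (.leaf 0x1003003026) (.leaf 0)) (.node (.leaf 0x1000) (.leaf 0))))))) (.node (.node (.node (.node (.node (.node (.leaf 0x0) (.leaf 0x0)) (.node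 (.leaf 0x1000000004) (.leaf 0))) (.node (.node (.leaf 0x1002003026) (.leaf 0)) (.node (.leaf 0x100000200b) (.leaf 0)))) (.node (.node (.node (.leaf 0x1c) (.leaf 0x1001003018)) (.node (.leaf 0x1000000003) (.leaf 0))) (.node (.node (.leaf 0x1002002000) (.leaf 0)) (.node (.leaf 0x1000000026) (.leaf 0))))) (.node (.node (.node (.node (.leaf 0x26) (.leaf 0x0)) (.node (.leaf 0x400000d) (.leaf 0))) (.node (.node (.leaf 0x1e) (.leaf 0)) (.node (.leaf 0x5009) (.leaf 0)))) (.node (.node (.node (.leaf 0x5) (.leaf 0x1000000000)) (.node (.leaf 0x0) (.leaf 0))) (.node (.node (.leaf 0x200400b) (.leaf 0)) (.node (.leaf 0x100000300c) (.leaf 0)))))) (.node (.node (.node (.node (.node (.leaf 0x0) (.leaf 0x100200100e)) (.node (.leaf 0x2003026) (.leaf 0))) (.node (.node (.leaf 0x0) (.leaf 0)) (.node (.leaf 0x0) (.leaf 0)))) (.node (.node (.node (.leaf 0x4) (.leaf 0x1003002024)) (.node (.leaf 0x100401f)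 (.leaf 0))) (.node (.node (.leaf 0x301d) (.leaf 0)) (.node (.leaf 0x1004003024) (.leaf 0))))) (.node (.node (.node (.node (.leaf 0x300301f) (.leaf 0x0)) (.node (.leaf 0x100300500d) (.leaf 0))) (.node (.node (.leaf 0x400400f) (.leaf 0)) (.node (.leaf 0x100100400b) (.leaf 0)))) (.node (.node (.node (.leaf 0x0) (.leaf 0)) (.node (.leaf 0x100300001d) (.leaf 0))) (.node (.node (.leaf 0x3005011) (.leaf 0)) (.node (.leaf 0x4001027) (.leaf 0))))))))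

/-- part of the cover -/
def covC24 : Trie :=
  (.node (.node (.node (.node (.node (.node (.node (.leaf 0x0) (.leaf 0x3003004)) (.node (.leaf 0x100400100c) (.leaf 0))) (.node (.node (.leaf 0x0) (.leaf 0)) (.node (.leaf 0x1000004029) (.leaf 0)))) (.node (.node (.node (.leaf 0x0) (.leaf 0x1001002000)) (.node (.leaf 0x1004002002) (.leaf 0))) (.node (.node (.leaf 0x1003026) (.leaf 0)) (.node (.leaf 0x0) (.leaf 0))))) (.node (.node (.node (.node (.leaf 0x9) (.leaf 0x100000200b)) (.node (.leaf 0x1000003021) (.leaf 0))) (.node (.node (.leaf 0x0) (.leaf 0)) (.node (.leaf 0x0) (.leaf 0)))) (.node (.node (.node (.leaf 0x2) (.leaf 0x1000004008)) (.node (.leaf 0x1001003016) (.leaf 0))) (.node (.node (.leaf 0x1000003007) (.leaf 0)) (.node (.leaf 0x0) (.leaf 0)))))) (.node (.node (.node (.node (.node (.leaf 0x0) (.leaf 0x100200300c)) (.node (.leaf 0x0) (.leaf 0))) (.node (.node (.leaf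 0x1001005026) (.leaf 0)) (.node (.leaf 0x100501c) (.leaf 0)))) (.node (.node (.node (.leaf 0xb) (.leaf 0x0)) (.node (.leaf 0x200400f) (.leaf 0))) (.node (.node (.leaf 0x300301f) (.leaf 0)) (.node (.leaf 0x200300d) (.leaf 0))))) (.node (.node (.node (.node (.leaf 0x12) (.leaf 0x0)) (.node (.leaf 0x1000000011) (.leaf 0))) (.node (.node (.leaf 0x4009) (.leaf 0)) (.node (.leaf 0xb) (.leaf 0)))) (.node (.node (.node (.leaf 0x0) (.leaf 0x2004008)) (.node (.leaf 0x0) (.leaf 0))) (.node (.node (.leaf 0x0) (.leaf 0)) (.node (.leaf 0x100400101e) (.leaf 0))))))) (.node (.node (.node (.node (.node (.node (.leaf 0x0) (.leaf 0x101f)) (.node (.leaf 0x0) (.leaf 0))) (.node (.node (.leaf 0x200400f) (.leaf 0)) (.node (.leaf 0x1001005022) (.leaf 0)))) (.node (.node (.node (.leaf 0x0) (.leaf 0x1003000015)) (.node (.leaf 0x0) (.leaf 0))) (.node (.node (.leaf 0x3005011) (.leaf 0)) (.node (.leaf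 0x200301e) (.leaf 0))))) (.node (.node (.node (.node (.leaf 0x4) (.leaf 0x1000001020)) (.node (.leaf 0x1c) (.leaf 0))) (.node (.node (.leaf 0x0) (.leaf 0)) (.node (.leaf 0x3004002) (.leaf 0)))) (.node (.node (.node (.leaf 0x2009) (.leaf 0x0)) (.node (.leaf 0x0) (.leaf 0))) (.node (.node (.leaf 0x4000015) (.leaf 0)) (.node (.leaf 0x2003012) (.leaf 0)))))) (.node (.node (.node (.node (.node (.leaf 0x0) (.leaf 0x0)) (.node (.leaf 0x3000015) (.leaf 0))) (.node (.node (.leaf 0x1002002000) (.leaf 0)) (.node (.leaf 0x400000d) (.leaf 0)))) (.node (.node (.node (.leaf 0x0) (.leaf 0x0)) (.node (.leaf 0x100400500b) (.leaf 0))) (.node (.node (.leaf 0x0) (.leaf 0)) (.node (.leaf 0x0) (.leaf 0))))) (.node (.node (.node (.node (.leaf 0x1e) (.leaf 0x1001003018)) (.node (.leaf 0x0) (.leaf 0))) (.node (.node (.leaf 0x1000004018) (.leaf 0)) (.node (.leaf 0x0) (.leaf 0)))) (.node (.node (.node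 (.leaf 0x100200501e) (.leaf 0)) (.node (.leaf 0x0) (.leaf 0))) (.node (.node (.leaf 0x2005012) (.leaf 0)) (.node (.leaf 0x4002017) (.leaf 0))))))))

/-- part of the cover -/
def covC56 : Trie :=
  (.node (.node (.node (.node (.node (.node (.node (.leaf 0x0) (.leaf 0x0)) (.node (.leaf 0x1005) (.leaf 0))) (.node (.node (.leaf 0x7) (.leaf 0)) (.node (.leaf 0x1000000000) (.leaf 0)))) (.node (.node (.node (.leaf 0x1000) (.leaf 0x1000004001)) (.node (.leaf 0x2003002) (.leaf 0))) (.node (.node (.leaf 0x14) (.leaf 0)) (.node (.leaf 0x1001003016) (.leaf 0))))) (.node (.node (.node (.node (.leaf 0xf) (.leaf 0x1004004029)) (.node (.leaf 0x2001012) (.leaf 0))) (.node (.node (.leaf 0xd) (.leaf 0)) (.node (.leaf 0x3023) (.leaf 0)))) (.node (.node (.node (.leaf 0x1002001000) (.leaf 0x2003002)) (.node (.leaf 0x300401e) (.leaf 0))) (.node (.node (.leaf 0x0) (.leaf 0)) (.node (.leaf 0x100100500b)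 (.leaf 0)))))) (.node (.node (.node (.node (.node (.leaf 0x0) (.leaf 0xf)) (.node (.leaf 0x4001023) (.leaf 0))) (.node (.node (.leaf 0x4005012) (.leaf 0)) (.node (.leaf 0x2009) (.leaf 0)))) (.node (.node (.node (.leaf 0x18) (.leaf 0x0)) (.node (.leaf 0x0) (.leaf 0))) (.node (.node (.leaf 0x100200301b) (.leaf 0)) (.node (.leaf 0x0) (.leaf 0))))) (.node (.node (.node (.node (.leaf 0x0) (.leaf 0x100400101b)) (.node (.leaf 0x100300101c) (.leaf 0))) (.node (.node (.leaf 0x200100b) (.leaf 0)) (.node (.leaf 0x200400f) (.leaf 0)))) (.node (.node (.node (.leaf 0x300400b) (.leaf 0x1002004003)) (.node (.leaf 0x0) (.leaf 0))) (.node (.node (.leaf 0x400400b) (.leaf 0)) (.node (.leaf 0x1002001000) (.leaf 0))))))) (.node (.node (.node (.node (.node (.node (.leaf 0x0) (.leaf 0x3003023)) (.node (.leaf 0x100000100c) (.leaf 0))) (.node (.node (.leaf 0x0) (.leaf 0)) (.node (.leaf 0x1003000021)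 (.leaf 0)))) (.node (.node (.node (.leaf 0x2) (.leaf 0x0)) (.node (.leaf 0x4001005) (.leaf 0))) (.node (.node (.leaf 0x0) (.leaf 0)) (.node (.leaf 0x2015) (.leaf 0))))) (.node (.node (.node (.node (.leaf 0xb) (.leaf 0x100200400c)) (.node (.leaf 0x1028) (.leaf 0))) (.node (.node (.leaf 0x0) (.leaf 0)) (.node (.leaf 0x2002003) (.leaf 0)))) (.node (.node (.node (.leaf 0x400000d) (.leaf 0x100f)) (.node (.leaf 0x0) (.leaf 0))) (.node (.node (.leaf 0x0) (.leaf 0)) (.node (.leaf 0x0) (.leaf 0)))))) (.node (.node (.node (.node (.node (.leaf 0x0) (.leaf 0x100100101a)) (.node (.leaf 0x4004019) (.leaf 0))) (.node (.node (.leaf 0x1e) (.leaf 0)) (.node (.leaf 0x0) (.leaf 0)))) (.node (.node (.node (.leaf 0x26) (.leaf 0x0)) (.node (.leaf 0x1002002009) (.leaf 0))) (.node (.node (.leaf 0x2005021) (.leaf 0)) (.node (.leaf 0x1004005007) (.leaf 0))))) (.node (.node (.node (.node (.leaf 0x0)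 (.leaf 0x0)) (.node (.leaf 0x0) (.leaf 0))) (.node (.node (.leaf 0x14) (.leaf 0)) (.node (.leaf 0x300400b) (.leaf 0)))) (.node (.node (.node (.leaf 0x1003005023) (.leaf 0)) (.node (.leaf 0x0) (.leaf 0))) (.node (.node (.leaf 0x1e) (.leaf 0)) (.node (.leaf 0x4004023) (.leaf 0))))))))

/-- part of the cover -/
def covC4 : Trie :=
  (.node (.node (.node (.node (.node (.node (.node (.leaf 0x0) (.leaf 0x0)) (.node (.leaf 0x0) (.leaf 0))) (.node (.node (.leaf 0x0) (.leaf 0)) (.node (.leaf 0x0) (.leaf 0)))) (.node (.node (.node (.leaf 0x1001028) (.leaf 0x1000001004)) (.node (.leaf 0x2003026) (.leaf 0))) (.node (.node (.leaf 0x1002002000) (.leaf 0)) (.node (.leaf 0x1003001027) (.leaf 0))))) (.node (.node (.node (.node (.leaf 0x26) (.leaf 0x300200f)) (.node (.leaf 0x28) (.leaf 0))) (.node (.node (.leaf 0x100200501e) (.leaf 0)) (.node (.leaf 0x3004002) (.leaf 0)))) (.node (.node (.node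 (.leaf 0x1e) (.leaf 0x0)) (.node (.leaf 0x100000300f) (.leaf 0))) (.node (.node (.leaf 0x100000501e) (.leaf 0)) (.node (.leaf 0x1019) (.leaf 0)))))) (.node (.node (.node (.node (.node (.leaf 0x0) (.leaf 0x300401e)) (.node (.leaf 0x300301f) (.leaf 0))) (.node (.node (.leaf 0x1000002025) (.leaf 0)) (.node (.leaf 0x0) (.leaf 0)))) (.node (.node (.node (.leaf 0x4) (.leaf 0x4001000)) (.node (.leaf 0x3002020) (.leaf 0))) (.node (.node (.leaf 0x1000) (.leaf 0)) (.node (.leaf 0x1003001026) (.leaf 0))))) (.node (.node (.node (.node (.leaf 0x1f) (.leaf 0x1002000008)) (.node (.leaf 0x200401d) (.leaf 0))) (.node (.node (.leaf 0x300200f) (.leaf 0)) (.node (.leaf 0x1025) (.leaf 0)))) (.node (.node (.node (.leaf 0x0) (.leaf 0x2003023)) (.node (.leaf 0x0) (.leaf 0))) (.node (.node (.leaf 0x1002001000) (.leaf 0)) (.node (.leaf 0x3003004) (.leaf 0))))))) (.node (.node (.node (.node (.node (.node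 (.leaf 0x0) (.leaf 0x0)) (.node (.leaf 0x100e) (.leaf 0))) (.node (.node (.leaf 0x1003000021) (.leaf 0)) (.node (.leaf 0x1004004002) (.leaf 0)))) (.node (.node (.node (.leaf 0x1002002015) (.leaf 0x1002000016)) (.node (.leaf 0x1005) (.leaf 0))) (.node (.node (.leaf 0x0) (.leaf 0)) (.node (.leaf 0x0) (.leaf 0))))) (.node (.node (.node (.node (.leaf 0x11) (.leaf 0x0)) (.node (.leaf 0x1000004018) (.leaf 0))) (.node (.node (.leaf 0x0) (.leaf 0)) (.node (.leaf 0x201c) (.leaf 0)))) (.node (.node (.node (.leaf 0x200200c) (.leaf 0x1004005007)) (.node (.leaf 0x300001e) (.leaf 0))) (.node (.node (.leaf 0x1001005022) (.leaf 0)) (.node (.leaf 0x4002000) (.leaf 0)))))) (.node (.node (.node (.node (.node (.leaf 0x0) (.leaf 0x2003007)) (.node (.leaf 0x100100501b) (.leaf 0))) (.node (.node (.leaf 0x0) (.leaf 0)) (.node (.leaf 0x1004004002) (.leaf 0)))) (.node (.node (.node (.leaf 0x12) (.leaf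 0x0)) (.node (.leaf 0x1001005018) (.leaf 0))) (.node (.node (.leaf 0x1004002014) (.leaf 0)) (.node (.leaf 0x1004005009) (.leaf 0))))) (.node (.node (.node (.node (.leaf 0x300400b) (.leaf 0x3002013)) (.node (.leaf 0x0) (.leaf 0))) (.node (.node (.leaf 0x0) (.leaf 0)) (.node (.leaf 0x101b) (.leaf 0)))) (.node (.node (.node (.leaf 0xb) (.leaf 0)) (.node (.leaf 0x0) (.leaf 0))) (.node (.node (.leaf 0x100300301f) (.leaf 0)) (.node (.leaf 0x1001003023) (.leaf 0))))))))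

/-- part of the cover -/
def covC36 : Trie :=
  (.node (.node (.node (.node (.node (.node (.node (.leaf 0x0) (.leaf 0x4021)) (.node (.leaf 0x3002015) (.leaf 0))) (.node (.node (.leaf 0x1001005022) (.leaf 0)) (.node (.leaf 0x1000) (.leaf 0)))) (.node (.node (.node (.leaf 0x1004004029) (.leaf 0x100300501e)) (.node (.leaf 0x100000501e) (.leaf 0))) (.node (.node (.leaf 0x1e) (.leaf 0)) (.node (.leaf 0x0) (.leaf 0))))) (.node (.node (.node (.node (.leaf 0x2) (.leaf 0x1000000026)) (.node (.leaf 0x3004013) (.leaf 0))) (.node (.node (.leaf 0x1c) (.leaf 0)) (.node (.leaf 0x4009) (.leaf 0)))) (.node (.node (.node (.leaf 0x0) (.leaf 0x0)) (.node (.leaf 0x0) (.leaf 0))) (.node (.node (.leaf 0x1000) (.leaf 0)) (.node (.leaf 0x100000100b) (.leaf 0)))))) (.node (.node (.node (.node (.node (.leaf 0x0) (.leaf 0x1006)) (.node (.leaf 0x400400f) (.leaf 0))) (.node (.node (.leaf 0x4004003) (.leaf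 0)) (.node (.leaf 0x100000500e) (.leaf 0)))) (.node (.node (.node (.leaf 0xb) (.leaf 0x0)) (.node (.leaf 0x101b) (.leaf 0))) (.node (.node (.leaf 0x0) (.leaf 0)) (.node (.leaf 0x100200300c) (.leaf 0))))) (.node (.node (.node (.node (.leaf 0x0) (.leaf 0x0)) (.node (.leaf 0x1000) (.leaf 0))) (.node (.node (.leaf 0x201c) (.leaf 0)) (.node (.leaf 0x0) (.leaf 0)))) (.node (.node (.node (.leaf 0x2) (.leaf 0x1001003023)) (.node (.leaf 0x0) (.leaf 0))) (.node (.node (.leaf 0x0) (.leaf 0)) (.node (.leaf 0x0) (.leaf 0))))))) (.node (.node (.node (.node (.node (.node (.leaf 0x0) (.leaf 0x400001a)) (.node (.leaf 0x1003004009) (.leaf 0))) (.node (.node (.leaf 0x101b) (.leaf 0)) (.node (.leaf 0x1000000020) (.leaf 0)))) (.node (.node (.node (.leaf 0xf) (.leaf 0x0)) (.node (.leaf 0x100300100c) (.leaf 0))) (.node (.node (.leaf 0x0) (.leaf 0)) (.node (.leaf 0x1002004002) (.leaf 0))))) (.node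 (.node (.node (.node (.leaf 0xd) (.leaf 0x0)) (.node (.leaf 0x4001010) (.leaf 0))) (.node (.node (.leaf 0x9) (.leaf 0)) (.node (.leaf 0x100000300f) (.leaf 0)))) (.node (.node (.node (.leaf 0x1004004002) (.leaf 0x0)) (.node (.leaf 0x100100400b) (.leaf 0))) (.node (.node (.leaf 0x2003007) (.leaf 0)) (.node (.leaf 0x1005006) (.leaf 0)))))) (.node (.node (.node (.node (.node (.leaf 0x0) (.leaf 0x1017)) (.node (.leaf 0x1004) (.leaf 0))) (.node (.node (.leaf 0x300400b) (.leaf 0)) (.node (.leaf 0x0) (.leaf 0)))) (.node (.node (.node (.leaf 0x0) (.leaf 0x1003001019)) (.node (.leaf 0x3003013) (.leaf 0))) (.node (.node (.leaf 0x4001017) (.leaf 0)) (.node (.leaf 0x0) (.leaf 0))))) (.node (.node (.node (.node (.leaf 0x100200501e) (.leaf 0x100300400f)) (.node (.leaf 0x100100301f) (.leaf 0))) (.node (.node (.leaf 0x4005012) (.leaf 0)) (.node (.leaf 0x0) (.leaf 0)))) (.node (.node (.node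 (.leaf 0x100f) (.leaf 0)) (.node (.leaf 0x0) (.leaf 0))) (.node (.node (.leaf 0x0) (.leaf 0)) (.node (.leaf 0x1000000000) (.leaf 0))))))))

/-- part of the cover -/
def covC20 : Trie :=
  (.node (.node (.node (.node (.node (.node (.node (.leaf 0x0) (.leaf 0x3003023)) (.node (.leaf 0x0) (.leaf 0))) (.node (.node (.leaf 0x100100d) (.leaf 0)) (.node (.leaf 0x1000003015) (.leaf 0)))) (.node (.node (.node (.leaf 0x3027) (.leaf 0x100400500f)) (.node (.leaf 0x100100000b) (.leaf 0))) (.node (.node (.leaf 0x0) (.leaf 0)) (.node (.leaf 0x0) (.leaf 0))))) (.node (.node (.node (.node (.leaf 0xb) (.leaf 0x200301e)) (.node (.leaf 0x200400a) (.leaf 0))) (.node (.node (.leaf 0x0) (.leaf 0)) (.node (.leaf 0x0) (.leaf 0)))) (.node (.node (.node (.leaf 0x1f) (.leaf 0x2005000)) (.node (.leaf 0x1001003023) (.leaf 0))) (.node (.node (.leaf 0x1001001008) (.leaf 0)) (.node (.leaf 0x0) (.leaf 0))))))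 (.node (.node (.node (.node (.node (.leaf 0x0) (.leaf 0x0)) (.node (.leaf 0x201c) (.leaf 0))) (.node (.node (.leaf 0x1001001016) (.leaf 0)) (.node (.leaf 0x200400f) (.leaf 0)))) (.node (.node (.node (.leaf 0x26) (.leaf 0x0)) (.node (.leaf 0x0) (.leaf 0))) (.node (.node (.leaf 0x100200501e) (.leaf 0)) (.node (.leaf 0x300400a) (.leaf 0))))) (.node (.node (.node (.node (.leaf 0x0) (.leaf 0x0)) (.node (.leaf 0x101a) (.leaf 0))) (.node (.node (.leaf 0x1000000000) (.leaf 0)) (.node (.leaf 0x3026) (.leaf 0)))) (.node (.node (.node (.leaf 0x100400501c) (.leaf 0x4004006)) (.node (.leaf 0x0) (.leaf 0))) (.node (.node (.leaf 0x1001002004) (.leaf 0)) (.node (.leaf 0x100000300b) (.leaf 0))))))) (.node (.node (.node (.node (.node (.node (.leaf 0x0) (.leaf 0x3001023)) (.node (.leaf 0x1003003009) (.leaf 0))) (.node (.node (.leaf 0x0) (.leaf 0)) (.node (.leaf 0x100100500a) (.leaf 0)))) (.node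 (.node (.node (.leaf 0x1023) (.leaf 0x4019)) (.node (.leaf 0x2003001) (.leaf 0))) (.node (.node (.leaf 0x0) (.leaf 0)) (.node (.leaf 0x1000000000) (.leaf 0))))) (.node (.node (.node (.node (.leaf 0x0) (.leaf 0x0)) (.node (.leaf 0x1b) (.leaf 0))) (.node (.node (.leaf 0xb) (.leaf 0)) (.node (.leaf 0x2003026) (.leaf 0)))) (.node (.node (.node (.leaf 0x0) (.leaf 0x1005004)) (.node (.leaf 0x0) (.leaf 0))) (.node (.node (.leaf 0x100000200b) (.leaf 0)) (.node (.leaf 0x3026) (.leaf 0)))))) (.node (.node (.node (.node (.node (.leaf 0x0) (.leaf 0x0)) (.node (.leaf 0x2003026) (.leaf 0))) (.node (.node (.leaf 0x0) (.leaf 0)) (.node (.leaf 0x2002019) (.leaf 0)))) (.node (.node (.node (.leaf 0x11) (.leaf 0x0)) (.node (.leaf 0x2005018) (.leaf 0))) (.node (.node (.leaf 0x0) (.leaf 0)) (.node (.leaf 0x3002028) (.leaf 0))))) (.node (.node (.node (.node (.leaf 0x1000) (.leaf 0x4003019)) (.node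 (.leaf 0x1000002009) (.leaf 0))) (.node (.node (.leaf 0x1002004002) (.leaf 0)) (.node (.leaf 0x2016) (.leaf 0)))) (.node (.node (.node (.leaf 0x4004009) (.leaf 0)) (.node (.leaf 0x0) (.leaf 0))) (.node (.node (.leaf 0x0) (.leaf 0)) (.node (.leaf 0x0) (.leaf 0))))))))

/-- part of the cover -/
def covC52 : Trie :=
  (.node (.node (.node (.node (.node (.node (.node (.leaf 0x0) (.leaf 0x100200300c)) (.node (.leaf 0x0) (.leaf 0))) (.node (.node (.leaf 0x100000200b) (.leaf 0)) (.node (.leaf 0x1002001000) (.leaf 0)))) (.node (.node (.node (.leaf 0x1011) (.leaf 0x0)) (.node (.leaf 0x2003012) (.leaf 0))) (.node (.node (.leaf 0x300301f) (.leaf 0)) (.node (.leaf 0x1001003023) (.leaf 0))))) (.node (.node (.node (.node (.leaf 0x12) (.leaf 0x0)) (.node (.leaf 0x100200101a) (.leaf 0))) (.node (.node (.leaf 0x2) (.leaf 0)) (.node (.leaf 0x2005021) (.leaf 0)))) (.node (.node (.node (.leaf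 0x200300c) (.leaf 0x3000014)) (.node (.leaf 0x1003001023) (.leaf 0))) (.node (.node (.leaf 0x0) (.leaf 0)) (.node (.leaf 0x0) (.leaf 0)))))) (.node (.node (.node (.node (.node (.leaf 0x0) (.leaf 0x3002014)) (.node (.leaf 0x1005) (.leaf 0))) (.node (.node (.leaf 0x0) (.leaf 0)) (.node (.leaf 0x0) (.leaf 0)))) (.node (.node (.node (.leaf 0x2) (.leaf 0x0)) (.node (.leaf 0x2016) (.leaf 0))) (.node (.node (.leaf 0x1025) (.leaf 0)) (.node (.leaf 0x0) (.leaf 0))))) (.node (.node (.node (.node (.leaf 0xd) (.leaf 0x0)) (.node (.leaf 0x4001028) (.leaf 0))) (.node (.node (.leaf 0x2004019) (.leaf 0)) (.node (.leaf 0x0) (.leaf 0)))) (.node (.node (.node (.leaf 0x0) (.leaf 0x1003000023)) (.node (.leaf 0x0) (.leaf 0))) (.node (.node (.leaf 0x100400001e) (.leaf 0)) (.node (.leaf 0x0) (.leaf 0))))))) (.node (.node (.node (.node (.node (.node (.leaf 0x0) (.leaf 0x200400f)) (.node (.leaf 0x1003003023)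 (.leaf 0))) (.node (.node (.leaf 0x2016) (.leaf 0)) (.node (.leaf 0x4000023) (.leaf 0)))) (.node (.node (.node (.leaf 0x0) (.leaf 0x5009)) (.node (.leaf 0x2002000) (.leaf 0))) (.node (.node (.leaf 0x300400b) (.leaf 0)) (.node (.leaf 0x0) (.leaf 0))))) (.node (.node (.node (.node (.leaf 0x1e) (.leaf 0x200101c)) (.node (.leaf 0x100200101a) (.leaf 0))) (.node (.node (.leaf 0x18) (.leaf 0)) (.node (.leaf 0x0) (.leaf 0)))) (.node (.node (.node (.leaf 0x2002019) (.leaf 0xf)) (.node (.leaf 0x1004005009) (.leaf 0))) (.node (.node (.leaf 0x0) (.leaf 0)) (.node (.leaf 0x0) (.leaf 0)))))) (.node (.node (.node (.node (.node (.leaf 0x0) (.leaf 0x1001003016)) (.node (.leaf 0x0) (.leaf 0))) (.node (.node (.leaf 0x1000) (.leaf 0)) (.node (.leaf 0x0) (.leaf 0)))) (.node (.node (.node (.leaf 0xd) (.leaf 0x0)) (.node (.leaf 0x0) (.leaf 0))) (.node (.node (.leaf 0x1003002020) (.leaf 0)) (.node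 (.leaf 0x0) (.leaf 0))))) (.node (.node (.node (.node (.leaf 0x0) (.leaf 0x1000006)) (.node (.leaf 0x100200100e) (.leaf 0))) (.node (.node (.leaf 0x3005011) (.leaf 0)) (.node (.leaf 0x4004006) (.leaf 0)))) (.node (.node (.node (.leaf 0x2000008) (.leaf 0)) (.node (.leaf 0x0) (.leaf 0))) (.node (.node (.leaf 0x0) (.leaf 0)) (.node (.leaf 0x100f) (.leaf 0))))))))

/-- part of the cover -/
def covC12 : Trie :=
  (.node (.node (.node (.node (.node (.node (.node (.leaf 0x0) (.leaf 0x1)) (.node (.leaf 0x0) (.leaf 0))) (.node (.node (.leaf 0x100000500e) (.leaf 0)) (.node (.leaf 0x0) (.leaf 0)))) (.node (.node (.node (.leaf 0x100000000e) (.leaf 0x0)) (.node (.leaf 0x2004009) (.leaf 0))) (.node (.node (.leaf 0x0) (.leaf 0)) (.node (.leaf 0x0) (.leaf 0))))) (.node (.node (.node (.node (.leaf 0x0) (.leaf 0xe)) (.node (.leaf 0x11) (.leaf 0))) (.node (.node (.leaf 0x14) (.leaf 0)) (.node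 (.leaf 0x1001003016) (.leaf 0)))) (.node (.node (.node (.leaf 0x9) (.leaf 0x0)) (.node (.leaf 0x1000) (.leaf 0))) (.node (.node (.leaf 0x0) (.leaf 0)) (.node (.leaf 0x0) (.leaf 0)))))) (.node (.node (.node (.node (.node (.leaf 0x0) (.leaf 0x100100d)) (.node (.leaf 0x1001005019) (.leaf 0))) (.node (.node (.leaf 0x3000009) (.leaf 0)) (.node (.leaf 0x2000008) (.leaf 0)))) (.node (.node (.node (.leaf 0xb) (.leaf 0x4004019)) (.node (.leaf 0x0) (.leaf 0))) (.node (.node (.leaf 0x300400b) (.leaf 0)) (.node (.leaf 0x100301f) (.leaf 0))))) (.node (.node (.node (.node (.leaf 0x18) (.leaf 0x1004002028)) (.node (.leaf 0x1000002013) (.leaf 0))) (.node (.node (.leaf 0x200300c) (.leaf 0)) (.node (.leaf 0x1000003029) (.leaf 0)))) (.node (.node (.node (.leaf 0x4005012) (.leaf 0x29)) (.node (.leaf 0x0) (.leaf 0))) (.node (.node (.leaf 0x1002004009) (.leaf 0)) (.node (.leaf 0x100300000b) (.leaf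 0))))))) (.node (.node (.node (.node (.node (.node (.leaf 0x0) (.leaf 0x3000017)) (.node (.leaf 0x101b) (.leaf 0))) (.node (.node (.leaf 0x0) (.leaf 0)) (.node (.leaf 0x0) (.leaf 0)))) (.node (.node (.node (.leaf 0x100300101c) (.leaf 0x2005000)) (.node (.leaf 0x1001003023) (.leaf 0))) (.node (.node (.leaf 0x400400f) (.leaf 0)) (.node (.leaf 0x400501c) (.leaf 0))))) (.node (.node (.node (.node (.leaf 0x2) (.leaf 0x0)) (.node (.leaf 0x1f) (.leaf 0))) (.node (.node (.leaf 0xd) (.leaf 0)) (.node (.leaf 0x1002003010) (.leaf 0)))) (.node (.node (.node (.leaf 0x201c) (.leaf 0x1003003008)) (.node (.leaf 0x14) (.leaf 0))) (.node (.node (.leaf 0x1004000026) (.leaf 0)) (.node (.leaf 0x1003025) (.leaf 0)))))) (.node (.node (.node (.node (.node (.leaf 0x0) (.leaf 0x0)) (.node (.leaf 0x1000006) (.leaf 0))) (.node (.node (.leaf 0x14) (.leaf 0)) (.node (.leaf 0x0) (.leaf 0)))) (.node (.node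 (.node (.leaf 0x1c) (.leaf 0x0)) (.node (.leaf 0x1001011) (.leaf 0))) (.node (.node (.leaf 0x300300f) (.leaf 0)) (.node (.leaf 0x1005027) (.leaf 0))))) (.node (.node (.node (.node (.leaf 0x1003026) (.leaf 0x0)) (.node (.leaf 0x0) (.leaf 0))) (.node (.node (.leaf 0x300401e) (.leaf 0)) (.node (.leaf 0x300001c) (.leaf 0)))) (.node (.node (.node (.leaf 0x1e) (.leaf 0)) (.node (.leaf 0x0) (.leaf 0))) (.node (.node (.leaf 0x100200401c) (.leaf 0)) (.node (.leaf 0x1004003029) (.leaf 0))))))))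

/-- part of the cover -/
def covC44 : Trie :=
  (.node (.node (.node (.node (.node (.node (.node (.leaf 0x0) (.leaf 0x1004004019)) (.node (.leaf 0x4004008) (.leaf 0))) (.node (.node (.leaf 0x1002000019) (.leaf 0)) (.node (.leaf 0x1001005026) (.leaf 0)))) (.node (.node (.node (.leaf 0x1000000011) (.leaf 0x0)) (.node (.leaf 0x0) (.leaf 0))) (.node (.node (.leaf 0x4004009) (.leaf 0)) (.node (.leaf 0x100200100e) (.leaf 0))))) (.node (.node (.node (.node (.leaf 0x0) (.leaf 0x100000201a)) (.node (.leaf 0x1000002006) (.leaf 0))) (.node (.node (.leaf 0x11) (.leaf 0)) (.node (.leaf 0x100000300f) (.leaf 0)))) (.node (.node (.node (.leaf 0x300200d) (.leaf 0x0)) (.node (.leaf 0x100300400b) (.leaf 0))) (.node (.node (.leaf 0x100000500e) (.leaf 0)) (.node (.leaf 0x100400501e) (.leaf 0)))))) (.node (.node (.node (.node (.node (.leaf 0x0) (.leaf 0x1000000000)) (.node (.leaf 0x0) (.leaf 0)))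 (.node (.node (.leaf 0x9) (.leaf 0)) (.node (.leaf 0x100100d) (.leaf 0)))) (.node (.node (.node (.leaf 0x1e) (.leaf 0x100400401d)) (.node (.leaf 0x300001c) (.leaf 0))) (.node (.node (.leaf 0x0) (.leaf 0)) (.node (.leaf 0x0) (.leaf 0))))) (.node (.node (.node (.node (.leaf 0x0) (.leaf 0x400501a)) (.node (.leaf 0x1000001010) (.leaf 0))) (.node (.node (.leaf 0x0) (.leaf 0)) (.node (.leaf 0x0) (.leaf 0)))) (.node (.node (.node (.leaf 0x1002002000) (.leaf 0x3003001)) (.node (.leaf 0x0) (.leaf 0))) (.node (.node (.leaf 0x100400000b) (.leaf 0)) (.node (.leaf 0x0) (.leaf 0))))))) (.node (.node (.node (.node (.node (.node (.leaf 0x0) (.leaf 0x1000002015)) (.node (.leaf 0x0) (.leaf 0))) (.node (.node (.leaf 0x300001c) (.leaf 0)) (.node (.leaf 0x7) (.leaf 0)))) (.node (.node (.node (.leaf 0x0) (.leaf 0x1001001020)) (.node (.leaf 0x100000501c) (.leaf 0))) (.node (.node (.leaf 0x1019)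 (.leaf 0)) (.node (.leaf 0x100200301a) (.leaf 0))))) (.node (.node (.node (.node (.leaf 0xb) (.leaf 0x0)) (.node (.leaf 0x1003005025) (.leaf 0))) (.node (.node (.leaf 0x1f) (.leaf 0)) (.node (.leaf 0x200300d) (.leaf 0)))) (.node (.node (.node (.leaf 0x0) (.leaf 0x3001028)) (.node (.leaf 0x0) (.leaf 0))) (.node (.node (.leaf 0x0) (.leaf 0)) (.node (.leaf 0x13) (.leaf 0)))))) (.node (.node (.node (.node (.node (.leaf 0x0) (.leaf 0x2003002)) (.node (.leaf 0x1001) (.leaf 0))) (.node (.node (.leaf 0x1003026) (.leaf 0)) (.node (.leaf 0x0) (.leaf 0)))) (.node (.node (.node (.leaf 0x0) (.leaf 0x0)) (.node (.leaf 0x1003003004) (.leaf 0))) (.node (.node (.leaf 0x4004005) (.leaf 0)) (.node (.leaf 0x0) (.leaf 0))))) (.node (.node (.node (.node (.leaf 0x14) (.leaf 0x1003001020)) (.node (.leaf 0x3001011) (.leaf 0))) (.node (.node (.leaf 0x100400501c) (.leaf 0)) (.node (.leaf 0x1000001009)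 (.leaf 0)))) (.node (.node (.node (.leaf 0x0) (.leaf 0)) (.node (.leaf 0x0) (.leaf 0))) (.node (.node (.leaf 0x1005) (.leaf 0)) (.node (.leaf 0x400501b) (.leaf 0))))))))

/-- part of the cover -/
def covC28 : Trie :=
  (.node (.node (.node (.node (.node (.node (.node (.leaf 0x0) (.leaf 0x101b)) (.node (.leaf 0x3003000) (.leaf 0))) (.node (.node (.leaf 0x0) (.leaf 0)) (.node (.leaf 0x0) (.leaf 0)))) (.node (.node (.node (.leaf 0x1) (.leaf 0x1003001019)) (.node (.leaf 0x2003016) (.leaf 0))) (.node (.node (.leaf 0xb) (.leaf 0)) (.node (.leaf 0x0) (.leaf 0))))) (.node (.node (.node (.node (.leaf 0x1e) (.leaf 0xb)) (.node (.leaf 0x27) (.leaf 0))) (.node (.node (.leaf 0x12) (.leaf 0)) (.node (.leaf 0x0) (.leaf 0)))) (.node (.node (.node (.leaf 0x18) (.leaf 0x4019)) (.node (.leaf 0x100300500d) (.leaf 0))) (.node (.node (.leaf 0x200400f) (.leaf 0)) (.node (.leaf 0x0) (.leaf 0))))))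 (.node (.node (.node (.node (.node (.leaf 0x0) (.leaf 0x0)) (.node (.leaf 0x0) (.leaf 0))) (.node (.node (.leaf 0x4004006) (.leaf 0)) (.node (.leaf 0x0) (.leaf 0)))) (.node (.node (.node (.leaf 0x0) (.leaf 0x1003002008)) (.node (.leaf 0x3004002) (.leaf 0))) (.node (.node (.leaf 0x14) (.leaf 0)) (.node (.leaf 0x1004004019) (.leaf 0))))) (.node (.node (.node (.node (.leaf 0xf) (.leaf 0x0)) (.node (.leaf 0x1002003015) (.leaf 0))) (.node (.node (.leaf 0x200200c) (.leaf 0)) (.node (.leaf 0x300501e) (.leaf 0)))) (.node (.node (.node (.leaf 0x3005011) (.leaf 0x4002004)) (.node (.leaf 0x1004005022) (.leaf 0))) (.node (.node (.leaf 0x0) (.leaf 0)) (.node (.leaf 0x0) (.leaf 0))))))) (.node (.node (.node (.node (.node (.node (.leaf 0x0) (.leaf 0x0)) (.node (.leaf 0x200201d) (.leaf 0))) (.node (.node (.leaf 0x3004002) (.leaf 0)) (.node (.leaf 0x1000001009) (.leaf 0)))) (.node (.node (.node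 (.leaf 0x0) (.leaf 0x0)) (.node (.leaf 0x0) (.leaf 0))) (.node (.node (.leaf 0x14) (.leaf 0)) (.node (.leaf 0x100000200b) (.leaf 0))))) (.node (.node (.node (.node (.leaf 0x0) (.leaf 0x1002004005)) (.node (.leaf 0x1006) (.leaf 0))) (.node (.node (.leaf 0x1e) (.leaf 0)) (.node (.leaf 0x2003026) (.leaf 0)))) (.node (.node (.node (.leaf 0x2004019) (.leaf 0x2003026)) (.node (.leaf 0x4002000) (.leaf 0))) (.node (.node (.leaf 0x1000004018) (.leaf 0)) (.node (.leaf 0x3027) (.leaf 0)))))) (.node (.node (.node (.node (.node (.leaf 0x0) (.leaf 0x0)) (.node (.leaf 0x1b) (.leaf 0))) (.node (.node (.leaf 0x1019) (.leaf 0)) (.node (.leaf 0x300501e) (.leaf 0)))) (.node (.node (.node (.leaf 0x2) (.leaf 0x100400500f)) (.node (.leaf 0x1001004016) (.leaf 0))) (.node (.node (.leaf 0x0) (.leaf 0)) (.node (.leaf 0x0) (.leaf 0))))) (.node (.node (.node (.node (.leaf 0x300400b) (.leaf 0x0)) (.node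 (.leaf 0x101b) (.leaf 0))) (.node (.node (.leaf 0x0) (.leaf 0)) (.node (.leaf 0x4000001) (.leaf 0)))) (.node (.node (.node (.leaf 0x300301f) (.leaf 0)) (.node (.leaf 0x2003026) (.leaf 0))) (.node (.node (.leaf 0x400400f) (.leaf 0)) (.node (.leaf 0x1006) (.leaf 0))))))))

/-- part of the cover -/
def covC60 : Trie :=
  (.node (.node (.node (.node (.node (.node (.node (.leaf 0x0) (.leaf 0x1005021)) (.node (.leaf 0x0) (.leaf 0))) (.node (.node (.leaf 0x200b) (.leaf 0)) (.node (.leaf 0x4009) (.leaf 0)))) (.node (.node (.node (.leaf 0x1008) (.leaf 0x0)) (.node (.leaf 0x0) (.leaf 0))) (.node (.node (.leaf 0x100f) (.leaf 0)) (.node (.leaf 0x1004000028) (.leaf 0))))) (.node (.node (.node (.node (.leaf 0x1c) (.leaf 0x0)) (.node (.leaf 0x2) (.leaf 0))) (.node (.node (.leaf 0x0) (.leaf 0)) (.node (.leaf 0x200001b) (.leaf 0)))) (.node (.node (.node (.leaf 0x1000000000) (.leaf 0x2003012))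 (.node (.leaf 0x3026) (.leaf 0))) (.node (.node (.leaf 0x0) (.leaf 0)) (.node (.leaf 0x0) (.leaf 0)))))) (.node (.node (.node (.node (.node (.leaf 0x0) (.leaf 0x100f)) (.node (.leaf 0x0) (.leaf 0))) (.node (.node (.leaf 0x400400f) (.leaf 0)) (.node (.leaf 0x2004019) (.leaf 0)))) (.node (.node (.node (.leaf 0x0) (.leaf 0x0)) (.node (.leaf 0x4000001) (.leaf 0))) (.node (.node (.leaf 0x1002001000) (.leaf 0)) (.node (.leaf 0xf) (.leaf 0))))) (.node (.node (.node (.node (.leaf 0x4) (.leaf 0x0)) (.node (.leaf 0x1003) (.leaf 0))) (.node (.node (.leaf 0x1003004000) (.leaf 0)) (.node (.leaf 0x3004002) (.leaf 0)))) (.node (.node (.node (.leaf 0x0) (.leaf 0)) (.node (.leaf 0x0) (.leaf 0))) (.node (.node (.leaf 0x2003005) (.leaf 0)) (.node (.leaf 0x200301b) (.leaf 0))))))) (.node (.node (.node (.node (.node (.node (.leaf 0x0) (.leaf 0x3003004)) (.node (.leaf 0x100000200b) (.leaf 0)))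 (.node (.node (.leaf 0x4000001) (.leaf 0)) (.node (.leaf 0x200400b) (.leaf 0)))) (.node (.node (.node (.leaf 0xd) (.leaf 0x1001005012)) (.node (.leaf 0x2003015) (.leaf 0))) (.node (.node (.leaf 0x1003026) (.leaf 0)) (.node (.leaf 0x1000001010) (.leaf 0))))) (.node (.node (.node (.node (.leaf 0x9) (.leaf 0x0)) (.node (.leaf 0x100200300f) (.leaf 0))) (.node (.node (.leaf 0x0) (.leaf 0)) (.node (.leaf 0x0) (.leaf 0)))) (.node (.node (.node (.leaf 0x300501e) (.leaf 0x100100d)) (.node (.leaf 0x0) (.leaf 0))) (.node (.node (.leaf 0x0) (.leaf 0)) (.node (.leaf 0x0) (.leaf 0)))))) (.node (.node (.node (.node (.node (.leaf 0xb) (.leaf 0x1002004028)) (.node (.leaf 0x0) (.leaf 0))) (.node (.node (.leaf 0x300400b) (.leaf 0)) (.node (.leaf 0x1017) (.leaf 0)))) (.node (.node (.node (.leaf 0xb) (.leaf 0x0)) (.node (.leaf 0x2000008) (.leaf 0))) (.node (.node (.leaf 0x300001c) (.leaf 0)) (.node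 (.leaf 0x1001002023) (.leaf 0))))) (.node (.node (.node (.node (.leaf 0x1001000027) (.leaf 0x0)) (.node (.leaf 0x300200d) (.leaf 0))) (.node (.node (.leaf 0x2) (.leaf 0)) (.node (.leaf 0x4019) (.leaf 0)))) (.node (.node (.node (.leaf 0x200400f) (.leaf 0)) (.node (.leaf 0x0) (.leaf 0))) (.node (.node (.leaf 0x100100501b) (.leaf 0)) (.node (.leaf 0x3002028) (.leaf 0))))))))

/-- part of the cover -/
def covC2 : Trie :=
  (.node (.node (.node (.node (.node (.node (.node (.leaf 0x0) (.leaf 0x100200300c)) (.node (.leaf 0x0) (.leaf 0))) (.node (.node (.leaf 0x100000200b) (.leaf 0)) (.node (.leaf 0x1004004019) (.leaf 0)))) (.node (.node (.node (.leaf 0x100200300c) (.leaf 0x0)) (.node (.leaf 0x3001026) (.leaf 0))) (.node (.node (.leaf 0x300301f) (.leaf 0)) (.node (.leaf 0x1001003023) (.leaf 0))))) (.node (.node (.node (.node (.leaf 0x12) (.leaf 0x1002003010)) (.node (.leaf 0x1000000011)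 (.leaf 0))) (.node (.node (.leaf 0x2) (.leaf 0)) (.node (.leaf 0x0) (.leaf 0)))) (.node (.node (.node (.leaf 0x0) (.leaf 0x3024)) (.node (.leaf 0x1004000026) (.leaf 0))) (.node (.node (.leaf 0x0) (.leaf 0)) (.node (.leaf 0x1004016) (.leaf 0)))))) (.node (.node (.node (.node (.node (.leaf 0x0) (.leaf 0x0)) (.node (.leaf 0x1000000000) (.leaf 0))) (.node (.node (.leaf 0x0) (.leaf 0)) (.node (.leaf 0x0) (.leaf 0)))) (.node (.node (.node (.leaf 0x2) (.leaf 0x1000004008)) (.node (.leaf 0x1000027) (.leaf 0))) (.node (.node (.leaf 0x100400501c) (.leaf 0)) (.node (.leaf 0x0) (.leaf 0))))) (.node (.node (.node (.node (.leaf 0xd) (.leaf 0x2001001)) (.node (.leaf 0x1000002004) (.leaf 0))) (.node (.node (.leaf 0x2004019) (.leaf 0)) (.node (.leaf 0x0) (.leaf 0)))) (.node (.node (.node (.leaf 0x0) (.leaf 0x0)) (.node (.leaf 0x3003012) (.leaf 0))) (.node (.node (.leaf 0x1001003018) (.leaf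 0)) (.node (.leaf 0x0) (.leaf 0))))))) (.node (.node (.node (.node (.node (.node (.leaf 0x0) (.leaf 0x2003012)) (.node (.leaf 0x1008) (.leaf 0))) (.node (.node (.leaf 0x1000003027) (.leaf 0)) (.node (.leaf 0x400000d) (.leaf 0)))) (.node (.node (.node (.leaf 0x1000003021) (.leaf 0x5009)) (.node (.leaf 0x1025) (.leaf 0))) (.node (.node (.leaf 0x300400b) (.leaf 0)) (.node (.leaf 0x0) (.leaf 0))))) (.node (.node (.node (.node (.leaf 0x1e) (.leaf 0x200101c)) (.node (.leaf 0x100200101a) (.leaf 0))) (.node (.node (.leaf 0x18) (.leaf 0)) (.node (.leaf 0x1004003029) (.leaf 0)))) (.node (.node (.node (.leaf 0x2002019) (.leaf 0x3001005)) (.node (.leaf 0x3004002) (.leaf 0))) (.node (.node (.leaf 0x0) (.leaf 0)) (.node (.leaf 0x1000002025) (.leaf 0)))))) (.node (.node (.node (.node (.node (.leaf 0x0) (.leaf 0x1003005023)) (.node (.leaf 0x1000) (.leaf 0))) (.node (.node (.leaf 0x1000) (.leaf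 0)) (.node (.leaf 0x1001005026) (.leaf 0)))) (.node (.node (.node (.leaf 0xd) (.leaf 0x0)) (.node (.leaf 0x0) (.leaf 0))) (.node (.node (.leaf 0x1003002020) (.leaf 0)) (.node (.leaf 0x1000004018) (.leaf 0))))) (.node (.node (.node (.node (.leaf 0x0) (.leaf 0x1003005015)) (.node (.leaf 0x1000002006) (.leaf 0))) (.node (.node (.leaf 0x1002001000) (.leaf 0)) (.node (.leaf 0x400500f) (.leaf 0)))) (.node (.node (.node (.leaf 0x400400f) (.leaf 0)) (.node (.leaf 0x0) (.leaf 0))) (.node (.node (.leaf 0x0) (.leaf 0)) (.node (.leaf 0x3023) (.leaf 0))))))))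

/-- part of the cover -/
def covC34 : Trie :=
  (.node (.node (.node (.node (.node (.node (.node (.leaf 0x0) (.leaf 0x100000000d)) (.node (.leaf 0x1002003027) (.leaf 0))) (.node (.node (.leaf 0x201d) (.leaf 0)) (.node (.leaf 0x2009) (.leaf 0)))) (.node (.node (.node (.leaf 0x9) (.leaf 0x0)) (.node (.leaf 0x0) (.leaf 0))) (.node (.node (.leaf 0x0) (.leaf 0)) (.node (.leaf 0x0) (.leaf 0))))) (.node (.node (.node (.node (.leaf 0x0) (.leaf 0x200300d)) (.node (.leaf 0x100300101c) (.leaf 0))) (.node (.node (.leaf 0xb) (.leaf 0)) (.node (.leaf 0x0) (.leaf 0)))) (.node (.node (.node (.leaf 0x0) (.leaf 0x100300200c)) (.node (.leaf 0x0) (.leaf 0))) (.node (.node (.leaf 0x100000200b) (.leaf 0)) (.node (.leaf 0x0) (.leaf 0)))))) (.node (.node (.node (.node (.node (.leaf 0x0) (.leaf 0x0)) (.node (.leaf 0x1003003026) (.leaf 0))) (.node (.node (.leaf 0x400101e) (.leaf 0)) (.node (.leaf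 0x200b) (.leaf 0)))) (.node (.node (.node (.leaf 0x11) (.leaf 0x0)) (.node (.leaf 0x400500f) (.leaf 0))) (.node (.node (.leaf 0x0) (.leaf 0)) (.node (.leaf 0x1003004001) (.leaf 0))))) (.node (.node (.node (.node (.leaf 0x0) (.leaf 0x0)) (.node (.leaf 0x11) (.leaf 0))) (.node (.node (.leaf 0x1002004002) (.leaf 0)) (.node (.leaf 0x3002025) (.leaf 0)))) (.node (.node (.node (.leaf 0x4004009) (.leaf 0x1c)) (.node (.leaf 0x4001002) (.leaf 0))) (.node (.node (.leaf 0x0) (.leaf 0)) (.node (.leaf 0x0) (.leaf 0))))))) (.node (.node (.node (.node (.node (.node (.leaf 0x0) (.leaf 0x201c)) (.node (.leaf 0x3005023) (.leaf 0))) (.node (.node (.leaf 0x400500f) (.leaf 0)) (.node (.leaf 0x200400f) (.leaf 0)))) (.node (.node (.node (.leaf 0x26) (.leaf 0x0)) (.node (.leaf 0x0) (.leaf 0))) (.node (.node (.leaf 0x100200501e) (.leaf 0)) (.node (.leaf 0x1003004000) (.leaf 0))))) (.node (.node (.node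 (.node (.leaf 0x0) (.leaf 0x0)) (.node (.leaf 0x1002000009) (.leaf 0))) (.node (.node (.leaf 0x0) (.leaf 0)) (.node (.leaf 0x3002014) (.leaf 0)))) (.node (.node (.node (.leaf 0x1001005026) (.leaf 0x2003026)) (.node (.leaf 0x0) (.leaf 0))) (.node (.node (.leaf 0x200100b) (.leaf 0)) (.node (.leaf 0x4004003) (.leaf 0)))))) (.node (.node (.node (.node (.node (.leaf 0x0) (.leaf 0x3003004)) (.node (.leaf 0x3005011) (.leaf 0))) (.node (.node (.leaf 0x0) (.leaf 0)) (.node (.leaf 0x0) (.leaf 0)))) (.node (.node (.node (.leaf 0x1f) (.leaf 0x100300400b)) (.node (.leaf 0x3017) (.leaf 0))) (.node (.node (.leaf 0x0) (.leaf 0)) (.node (.leaf 0x0) (.leaf 0))))) (.node (.node (.node (.node (.leaf 0x2) (.leaf 0x0)) (.node (.leaf 0x100300300d) (.leaf 0))) (.node (.node (.leaf 0x0) (.leaf 0)) (.node (.leaf 0x0) (.leaf 0)))) (.node (.node (.node (.leaf 0x1019) (.leaf 0)) (.node (.leaf 0x0) (.leaf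 0))) (.node (.node (.leaf 0x1000) (.leaf 0)) (.node (.leaf 0x1003001026) (.leaf 0))))))))

/-- part of the cover -/
def covC18 : Trie :=
  (.node (.node (.node (.node (.node (.node (.node (.leaf 0x0) (.leaf 0x1002003004)) (.node (.leaf 0x1000004012) (.leaf 0))) (.node (.node (.leaf 0x1003000021) (.leaf 0)) (.node (.leaf 0x1003028) (.leaf 0)))) (.node (.node (.node (.leaf 0x1000000003) (.leaf 0x1000004016)) (.node (.leaf 0x100301f) (.leaf 0))) (.node (.node (.leaf 0x0) (.leaf 0)) (.node (.leaf 0x0) (.leaf 0))))) (.node (.node (.node (.node (.leaf 0x11) (.leaf 0x1002003010)) (.node (.leaf 0x1008) (.leaf 0))) (.node (.node (.leaf 0x0) (.leaf 0)) (.node (.leaf 0x0) (.leaf 0)))) (.node (.node (.node (.leaf 0xd) (.leaf 0x7)) (.node (.leaf 0x2003026) (.leaf 0))) (.node (.node (.leaf 0x1001005022) (.leaf 0)) (.node (.leaf 0x0) (.leaf 0)))))) (.node (.node (.node (.node (.node (.leaf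 0x0) (.leaf 0x3002028)) (.node (.leaf 0x100300001c) (.leaf 0))) (.node (.node (.leaf 0x1015) (.leaf 0)) (.node (.leaf 0x1002000019) (.leaf 0)))) (.node (.node (.node (.leaf 0x12) (.leaf 0x0)) (.node (.leaf 0x0) (.leaf 0))) (.node (.node (.leaf 0x2) (.leaf 0)) (.node (.leaf 0xf) (.leaf 0))))) (.node (.node (.node (.node (.leaf 0xb) (.leaf 0x100400400c)) (.node (.leaf 0x0) (.leaf 0))) (.node (.node (.leaf 0x0) (.leaf 0)) (.node (.leaf 0x1000005011) (.leaf 0)))) (.node (.node (.node (.leaf 0xb) (.leaf 0x200a)) (.node (.leaf 0x0) (.leaf 0))) (.node (.node (.leaf 0xd) (.leaf 0)) (.node (.leaf 0x1001003023) (.leaf 0))))))) (.node (.node (.node (.node (.node (.node (.leaf 0x0) (.leaf 0x0)) (.node (.leaf 0x1004005029) (.leaf 0))) (.node (.node (.leaf 0x0) (.leaf 0)) (.node (.leaf 0x0) (.leaf 0)))) (.node (.node (.node (.leaf 0x11) (.leaf 0x4001000)) (.node (.leaf 0x1002002019) (.leaf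 0))) (.node (.node (.leaf 0x1000) (.leaf 0)) (.node (.leaf 0x16) (.leaf 0))))) (.node (.node (.node (.node (.leaf 0x1f) (.leaf 0x1002000008)) (.node (.leaf 0x200401d) (.leaf 0))) (.node (.node (.leaf 0xf) (.leaf 0)) (.node (.leaf 0x1006) (.leaf 0)))) (.node (.node (.node (.leaf 0x0) (.leaf 0x100000200a)) (.node (.leaf 0x1003004021) (.leaf 0))) (.node (.node (.leaf 0x100501c) (.leaf 0)) (.node (.leaf 0x1001001016) (.leaf 0)))))) (.node (.node (.node (.node (.node (.leaf 0x0) (.leaf 0x0)) (.node (.leaf 0x4005012) (.leaf 0))) (.node (.node (.leaf 0x100200501e) (.leaf 0)) (.node (.leaf 0x4009) (.leaf 0)))) (.node (.node (.node (.leaf 0x1e) (.leaf 0x0)) (.node (.leaf 0x100300500c) (.leaf 0))) (.node (.node (.leaf 0x100000501e) (.leaf 0)) (.node (.leaf 0x0) (.leaf 0))))) (.node (.node (.node (.node (.leaf 0x100400501c) (.leaf 0x14)) (.node (.leaf 0x1002003004) (.leaf 0))) (.node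 (.node (.leaf 0x1003004000) (.leaf 0)) (.node (.leaf 0x1002005029) (.leaf 0)))) (.node (.node (.node (.leaf 0x14) (.leaf 0)) (.node (.leaf 0x1003005026) (.leaf 0))) (.node (.node (.leaf 0x100100400b) (.leaf 0)) (.node (.leaf 0x0) (.leaf 0))))))))

/-- part of the cover -/
def covC50 : Trie :=
  (.node (.node (.node (.node (.node (.node (.node (.leaf 0x0) (.leaf 0x1000002016)) (.node (.leaf 0x22) (.leaf 0))) (.node (.node (.leaf 0x100501c) (.leaf 0)) (.node (.leaf 0x5) (.leaf 0)))) (.node (.node (.node (.leaf 0x100300101c) (.leaf 0x0)) (.node (.leaf 0x1003001010) (.leaf 0))) (.node (.node (.leaf 0x0) (.leaf 0)) (.node (.leaf 0x1003019) (.leaf 0))))) (.node (.node (.node (.node (.leaf 0xd) (.leaf 0x0)) (.node (.leaf 0x4001010) (.leaf 0))) (.node (.node (.leaf 0x9) (.leaf 0)) (.node (.leaf 0x200301b) (.leaf 0)))) (.node (.node (.node (.leaf 0x1004004002) (.leaf 0x100200201e))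 (.node (.leaf 0x100400001a) (.leaf 0))) (.node (.node (.leaf 0x2003007) (.leaf 0)) (.node (.leaf 0x0) (.leaf 0)))))) (.node (.node (.node (.node (.node (.leaf 0x0) (.leaf 0x1002005028)) (.node (.leaf 0x400400b) (.leaf 0))) (.node (.node (.leaf 0x300400b) (.leaf 0)) (.node (.leaf 0x0) (.leaf 0)))) (.node (.node (.node (.leaf 0x0) (.leaf 0x1003001019)) (.node (.leaf 0x1002005029) (.leaf 0))) (.node (.node (.leaf 0x4001017) (.leaf 0)) (.node (.leaf 0x0) (.leaf 0))))) (.node (.node (.node (.node (.leaf 0x1e) (.leaf 0x100100100c)) (.node (.leaf 0x27) (.leaf 0))) (.node (.node (.leaf 0x1002001011) (.leaf 0)) (.node (.leaf 0x0) (.leaf 0)))) (.node (.node (.node (.leaf 0x100f) (.leaf 0x1001005022)) (.node (.leaf 0x2000014) (.leaf 0))) (.node (.node (.leaf 0x0) (.leaf 0)) (.node (.leaf 0x100100301f) (.leaf 0))))))) (.node (.node (.node (.node (.node (.node (.leaf 0x0) (.leaf 0x200100b))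 (.node (.leaf 0xb) (.leaf 0))) (.node (.node (.leaf 0x1002005029) (.leaf 0)) (.node (.leaf 0x100000500e) (.leaf 0)))) (.node (.node (.node (.leaf 0xb) (.leaf 0x0)) (.node (.leaf 0x4005012) (.leaf 0))) (.node (.node (.leaf 0x0) (.leaf 0)) (.node (.leaf 0x1001005017) (.leaf 0))))) (.node (.node (.node (.node (.leaf 0x0) (.leaf 0x0)) (.node (.leaf 0x200401c) (.leaf 0))) (.node (.node (.leaf 0x4) (.leaf 0)) (.node (.leaf 0x2003007) (.leaf 0)))) (.node (.node (.node (.leaf 0x4009) (.leaf 0x100000300f)) (.node (.leaf 0x4004006) (.leaf 0))) (.node (.node (.leaf 0x0) (.leaf 0)) (.node (.leaf 0x0) (.leaf 0)))))) (.node (.node (.node (.node (.node (.leaf 0x0) (.leaf 0x100000300b)) (.node (.leaf 0x1029) (.leaf 0))) (.node (.node (.leaf 0x100400501c) (.leaf 0)) (.node (.leaf 0x0) (.leaf 0)))) (.node (.node (.node (.leaf 0x0) (.leaf 0x0)) (.node (.leaf 0x0) (.leaf 0))) (.node (.node (.leaf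 0x1000001014) (.leaf 0)) (.node (.leaf 0x1001000008) (.leaf 0))))) (.node (.node (.node (.node (.leaf 0x0) (.leaf 0x100200401f)) (.node (.leaf 0x100000501e) (.leaf 0))) (.node (.node (.leaf 0x1e) (.leaf 0)) (.node (.leaf 0x0) (.leaf 0)))) (.node (.node (.node (.leaf 0x1001005022) (.leaf 0)) (.node (.leaf 0x0) (.leaf 0))) (.node (.node (.leaf 0x100400501e) (.leaf 0)) (.node (.leaf 0x300400a) (.leaf 0))))))))

/-- part of the cover -/
def covC10 : Trie :=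
  (.node (.node (.node (.node (.node (.node (.node (.leaf 0x0) (.leaf 0x3003025)) (.node (.leaf 0x0) (.leaf 0))) (.node (.node (.leaf 0x200b) (.leaf 0)) (.node (.leaf 0x1004002014) (.leaf 0)))) (.node (.node (.node (.leaf 0x1003003014) (.leaf 0x1004002)) (.node (.leaf 0x0) (.leaf 0))) (.node (.node (.leaf 0x100f) (.leaf 0)) (.node (.leaf 0x1000000004) (.leaf 0))))) (.node (.node (.node (.node (.leaf 0x1c) (.leaf 0x2003026)) (.node (.leaf 0x1011) (.leaf 0))) (.node (.node (.leaf 0x1002002000) (.leaf 0)) (.node (.leaf 0x3001019) (.leaf 0)))) (.node (.node (.node (.leaf 0x0) (.leaf 0x0)) (.node (.leaf 0x100000000b) (.leaf 0))) (.node (.node (.leaf 0x0) (.leaf 0)) (.node (.leaf 0x0) (.leaf 0)))))) (.node (.node (.node (.node (.node (.leaf 0x0) (.leaf 0x1002027)) (.node (.leaf 0x1001003023) (.leaf 0))) (.node (.node (.leaf 0x2002001) (.leaf 0)) (.node (.leaf 0x1001005022) (.leaf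 0)))) (.node (.node (.node (.leaf 0x0) (.leaf 0x1003000015)) (.node (.leaf 0x0) (.leaf 0))) (.node (.node (.leaf 0x3005011) (.leaf 0)) (.node (.leaf 0x4001027) (.leaf 0))))) (.node (.node (.node (.node (.leaf 0x4) (.leaf 0x1000001020)) (.node (.leaf 0x1c) (.leaf 0))) (.node (.node (.leaf 0x1003004000) (.leaf 0)) (.node (.leaf 0x100000501c) (.leaf 0)))) (.node (.node (.node (.leaf 0x0) (.leaf 0x2004006)) (.node (.leaf 0x0) (.leaf 0))) (.node (.node (.leaf 0x0) (.leaf 0)) (.node (.leaf 0x100200100e) (.leaf 0))))))) (.node (.node (.node (.node (.node (.node (.leaf 0x0) (.leaf 0x0)) (.node (.leaf 0x1003000021) (.leaf 0))) (.node (.node (.leaf 0x0) (.leaf 0)) (.node (.leaf 0x400101e) (.leaf 0)))) (.node (.node (.node (.leaf 0x7) (.leaf 0x1001005012)) (.node (.leaf 0x1000005006) (.leaf 0))) (.node (.node (.leaf 0x1003026) (.leaf 0)) (.node (.leaf 0x0) (.leaf 0))))) (.node (.node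 (.node (.node (.leaf 0x9) (.leaf 0x0)) (.node (.leaf 0x100200300f) (.leaf 0))) (.node (.node (.leaf 0x0) (.leaf 0)) (.node (.leaf 0x0) (.leaf 0)))) (.node (.node (.node (.leaf 0x300501e) (.leaf 0x4001028)) (.node (.leaf 0x1000002000) (.leaf 0))) (.node (.node (.leaf 0x1000003007) (.leaf 0)) (.node (.leaf 0x3000009) (.leaf 0)))))) (.node (.node (.node (.node (.node (.leaf 0x0) (.leaf 0x2002003)) (.node (.leaf 0x0) (.leaf 0))) (.node (.node (.leaf 0x300400b) (.leaf 0)) (.node (.leaf 0x1002001000) (.leaf 0)))) (.node (.node (.node (.leaf 0xb) (.leaf 0x0)) (.node (.leaf 0x300001b) (.leaf 0))) (.node (.node (.leaf 0x300001c) (.leaf 0)) (.node (.leaf 0x0) (.leaf 0))))) (.node (.node (.node (.node (.leaf 0x4005012) (.leaf 0x0)) (.node (.leaf 0x0) (.leaf 0))) (.node (.node (.leaf 0x4009) (.leaf 0)) (.node (.leaf 0x100100401b) (.leaf 0)))) (.node (.node (.node (.leaf 0x0) (.leaf 0))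 (.node (.leaf 0x0) (.leaf 0))) (.node (.node (.leaf 0x100100501b) (.leaf 0)) (.node (.leaf 0x1000004018) (.leaf 0))))))))

/-- part of the cover -/
def covC42 : Trie :=
  (.node (.node (.node (.node (.node (.node (.node (.leaf 0x0) (.leaf 0x1002003019)) (.node (.leaf 0x100300001f) (.leaf 0))) (.node (.node (.leaf 0x1003005023) (.leaf 0)) (.node (.leaf 0x1000012) (.leaf 0)))) (.node (.node (.node (.leaf 0x1004005018) (.leaf 0x0)) (.node (.leaf 0x0) (.leaf 0))) (.node (.node (.leaf 0x14) (.leaf 0)) (.node (.leaf 0x0) (.leaf 0))))) (.node (.node (.node (.node (.leaf 0x0) (.leaf 0x0)) (.node (.leaf 0x1023) (.leaf 0))) (.node (.node (.leaf 0x1e) (.leaf 0)) (.node (.leaf 0x0) (.leaf 0)))) (.node (.node (.node (.leaf 0x2004019) (.leaf 0x100000401b)) (.node (.leaf 0x0) (.leaf 0))) (.node (.node (.leaf 0x1000004018) (.leaf 0)) (.node (.leaf 0x0) (.leaf 0)))))) (.node (.node (.node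 (.node (.node (.leaf 0x0) (.leaf 0x3004002)) (.node (.leaf 0x1000) (.leaf 0))) (.node (.node (.leaf 0x100000300c) (.leaf 0)) (.node (.leaf 0x1003000021) (.leaf 0)))) (.node (.node (.node (.leaf 0x2) (.leaf 0x100400500f)) (.node (.leaf 0x100100401b) (.leaf 0))) (.node (.node (.leaf 0x0) (.leaf 0)) (.node (.leaf 0x0) (.leaf 0))))) (.node (.node (.node (.node (.leaf 0xb) (.leaf 0x0)) (.node (.leaf 0x200400a) (.leaf 0))) (.node (.node (.leaf 0x0) (.leaf 0)) (.node (.leaf 0x4000001) (.leaf 0)))) (.node (.node (.node (.leaf 0x300301f) (.leaf 0x2002009)) (.node (.leaf 0x300000b) (.leaf 0))) (.node (.node (.leaf 0x400400f) (.leaf 0)) (.node (.leaf 0x400b) (.leaf 0))))))) (.node (.node (.node (.node (.node (.node (.leaf 0x0) (.leaf 0x0)) (.node (.leaf 0x1002001011) (.leaf 0))) (.node (.node (.leaf 0x100100401b) (.leaf 0)) (.node (.leaf 0x0) (.leaf 0)))) (.node (.node (.node (.leaf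 0x0) (.leaf 0x1000004001)) (.node (.leaf 0x1001005026) (.leaf 0))) (.node (.node (.leaf 0x14) (.leaf 0)) (.node (.leaf 0x3002025) (.leaf 0))))) (.node (.node (.node (.node (.leaf 0xf) (.leaf 0x1004004029)) (.node (.leaf 0x2001012) (.leaf 0))) (.node (.node (.leaf 0xd) (.leaf 0)) (.node (.leaf 0x100f) (.leaf 0)))) (.node (.node (.node (.leaf 0x1002001000) (.leaf 0x2003026)) (.node (.leaf 0x0) (.leaf 0))) (.node (.node (.leaf 0x0) (.leaf 0)) (.node (.leaf 0x9) (.leaf 0)))))) (.node (.node (.node (.node (.node (.leaf 0x0) (.leaf 0x100300000b)) (.node (.leaf 0x2) (.leaf 0))) (.node (.node (.leaf 0x4005012) (.leaf 0)) (.node (.leaf 0x0) (.leaf 0)))) (.node (.node (.node (.leaf 0x18) (.leaf 0x0)) (.node (.leaf 0x1001000026) (.leaf 0))) (.node (.node (.leaf 0x100200301b) (.leaf 0)) (.node (.leaf 0x0) (.leaf 0))))) (.node (.node (.node (.node (.leaf 0x1002002000) (.leaf 0x0)) (.node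 (.leaf 0x100000100f) (.leaf 0))) (.node (.node (.leaf 0xb) (.leaf 0)) (.node (.leaf 0x1000012) (.leaf 0)))) (.node (.node (.node (.leaf 0x0) (.leaf 0)) (.node (.leaf 0x0) (.leaf 0))) (.node (.node (.leaf 0x400400b) (.leaf 0)) (.node (.leaf 0x100301f) (.leaf 0))))))))

/-- part of the cover -/
def covC26 : Trie :=
  (.node (.node (.node (.node (.node (.node (.node (.leaf 0x0) (.leaf 0x1002005013)) (.node (.leaf 0x2001000) (.leaf 0))) (.node (.node (.leaf 0x0) (.leaf 0)) (.node (.leaf 0x0) (.leaf 0)))) (.node (.node (.node (.leaf 0x100300301f) (.leaf 0x100100000b)) (.node (.leaf 0x300401e) (.leaf 0))) (.node (.node (.leaf 0x400400f) (.leaf 0)) (.node (.leaf 0x0) (.leaf 0))))) (.node (.node (.node (.node (.leaf 0x2) (.leaf 0x2000029)) (.node (.leaf 0x1002002015) (.leaf 0))) (.node (.node (.leaf 0xd) (.leaf 0)) (.node (.leaf 0x0) (.leaf 0)))) (.node (.node (.node (.leaf 0x4) (.leaf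 0x4001000)) (.node (.leaf 0x4000003) (.leaf 0))) (.node (.node (.leaf 0x1004000026) (.leaf 0)) (.node (.leaf 0x7) (.leaf 0)))))) (.node (.node (.node (.node (.node (.leaf 0x0) (.leaf 0x0)) (.node (.leaf 0x1000001004) (.leaf 0))) (.node (.node (.leaf 0x2003012) (.leaf 0)) (.node (.leaf 0x100000200b) (.leaf 0)))) (.node (.node (.node (.leaf 0x1c) (.leaf 0x1000001004)) (.node (.leaf 0x100100201e) (.leaf 0))) (.node (.node (.leaf 0x1002002000) (.leaf 0)) (.node (.leaf 0x4004023) (.leaf 0))))) (.node (.node (.node (.node (.leaf 0x26) (.leaf 0x0)) (.node (.leaf 0x28) (.leaf 0))) (.node (.node (.leaf 0x300401e) (.leaf 0)) (.node (.leaf 0x300300f) (.leaf 0)))) (.node (.node (.node (.leaf 0x1e) (.leaf 0x1002003009)) (.node (.leaf 0x0) (.leaf 0))) (.node (.node (.leaf 0x1004004015) (.leaf 0)) (.node (.leaf 0x100100101a) (.leaf 0))))))) (.node (.node (.node (.node (.node (.node (.leaf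 0x0) (.leaf 0x3017)) (.node (.leaf 0x1002003019) (.leaf 0))) (.node (.node (.leaf 0x100100201e) (.leaf 0)) (.node (.leaf 0x2000008) (.leaf 0)))) (.node (.node (.node (.leaf 0xb) (.leaf 0x4004019)) (.node (.leaf 0x0) (.leaf 0))) (.node (.node (.leaf 0x300400b) (.leaf 0)) (.node (.leaf 0x100d) (.leaf 0))))) (.node (.node (.node (.node (.leaf 0x18) (.leaf 0x1004002028)) (.node (.leaf 0x1000002013) (.leaf 0))) (.node (.node (.leaf 0x0) (.leaf 0)) (.node (.leaf 0x1000000000) (.leaf 0)))) (.node (.node (.node (.leaf 0x1000) (.leaf 0x1002003010)) (.node (.leaf 0x0) (.leaf 0))) (.node (.node (.leaf 0x1002028) (.leaf 0)) (.node (.leaf 0x4004006) (.leaf 0)))))) (.node (.node (.node (.node (.node (.leaf 0x0) (.leaf 0x0)) (.node (.leaf 0x0) (.leaf 0))) (.node (.node (.leaf 0x14) (.leaf 0)) (.node (.leaf 0x1004004002) (.leaf 0)))) (.node (.node (.node (.leaf 0x9) (.leaf 0x1000004016))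 (.node (.leaf 0x4002014) (.leaf 0))) (.node (.node (.leaf 0x0) (.leaf 0)) (.node (.leaf 0x0) (.leaf 0))))) (.node (.node (.node (.node (.leaf 0x3005011) (.leaf 0x0)) (.node (.leaf 0x100300100d) (.leaf 0))) (.node (.node (.leaf 0x0) (.leaf 0)) (.node (.leaf 0x3002028) (.leaf 0)))) (.node (.node (.node (.leaf 0x0) (.leaf 0)) (.node (.leaf 0x1003004015) (.leaf 0))) (.node (.node (.leaf 0x1003003026) (.leaf 0)) (.node (.leaf 0x1000001010) (.leaf 0))))))))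

/-- part of the cover -/
def covC58 : Trie :=
  (.node (.node (.node (.node (.node (.node (.node (.leaf 0x0) (.leaf 0x0)) (.node (.leaf 0x2026) (.leaf 0))) (.node (.node (.leaf 0x1003005028) (.leaf 0)) (.node (.leaf 0x200301e) (.leaf 0)))) (.node (.node (.node (.leaf 0x2005013) (.leaf 0x1001001020)) (.node (.leaf 0x4003019) (.leaf 0))) (.node (.node (.leaf 0x1019) (.leaf 0)) (.node (.leaf 0x2002023) (.leaf 0))))) (.node (.node (.node (.node (.leaf 0xb) (.leaf 0x0)) (.node (.leaf 0x1003005025) (.leaf 0))) (.node (.node (.leaf 0x1f) (.leaf 0)) (.node (.leaf 0x1001003023) (.leaf 0)))) (.node (.node (.node (.leaf 0x0) (.leaf 0x4005024)) (.node (.leaf 0x200300b) (.leaf 0))) (.node (.node (.leaf 0x0) (.leaf 0)) (.node (.leaf 0x1000001014) (.leaf 0)))))) (.node (.node (.node (.node (.node (.leaf 0x0) (.leaf 0x5009)) (.node (.leaf 0x4004004) (.leaf 0))) (.node (.node (.leaf 0x1003026)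 (.leaf 0)) (.node (.leaf 0x1000) (.leaf 0)))) (.node (.node (.node (.leaf 0x0) (.leaf 0x100300501e)) (.node (.leaf 0x3002028) (.leaf 0))) (.node (.node (.leaf 0x4004005) (.leaf 0)) (.node (.leaf 0x0) (.leaf 0))))) (.node (.node (.node (.node (.leaf 0x2) (.leaf 0x0)) (.node (.leaf 0x3004013) (.leaf 0))) (.node (.node (.leaf 0x400501c) (.leaf 0)) (.node (.leaf 0x100100201e) (.leaf 0)))) (.node (.node (.node (.leaf 0x0) (.leaf 0)) (.node (.leaf 0x0) (.leaf 0))) (.node (.node (.leaf 0x1005) (.leaf 0)) (.node (.leaf 0x0) (.leaf 0))))))) (.node (.node (.node (.node (.node (.node (.leaf 0x0) (.leaf 0x0)) (.node (.leaf 0x100200301b) (.leaf 0))) (.node (.node (.leaf 0x3002028) (.leaf 0)) (.node (.leaf 0x100100d) (.leaf 0)))) (.node (.node (.node (.leaf 0x1e) (.leaf 0x1003003019)) (.node (.leaf 0x1005) (.leaf 0))) (.node (.node (.leaf 0x4005012) (.leaf 0)) (.node (.leaf 0x4002017) (.leaf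 0))))) (.node (.node (.node (.node (.leaf 0x0) (.leaf 0x0)) (.node (.leaf 0x100200301c) (.leaf 0))) (.node (.node (.leaf 0x0) (.leaf 0)) (.node (.leaf 0x0) (.leaf 0)))) (.node (.node (.node (.leaf 0x1004004002) (.leaf 0x200300d)) (.node (.leaf 0x401f) (.leaf 0))) (.node (.node (.leaf 0x400f) (.leaf 0)) (.node (.leaf 0x0) (.leaf 0)))))) (.node (.node (.node (.node (.node (.leaf 0x0) (.leaf 0x0)) (.node (.leaf 0x1005) (.leaf 0))) (.node (.node (.leaf 0x3005011) (.leaf 0)) (.node (.leaf 0x0) (.leaf 0)))) (.node (.node (.node (.leaf 0xf) (.leaf 0x0)) (.node (.leaf 0x0) (.leaf 0))) (.node (.node (.leaf 0x1000000004) (.leaf 0)) (.node (.leaf 0x101f) (.leaf 0))))) (.node (.node (.node (.node (.leaf 0x0) (.leaf 0x0)) (.node (.leaf 0x0) (.leaf 0))) (.node (.node (.leaf 0x4004009) (.leaf 0)) (.node (.leaf 0x301d) (.leaf 0)))) (.node (.node (.node (.leaf 0x1002000019) (.leaf 0)) (.node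 (.leaf 0x0) (.leaf 0))) (.node (.node (.leaf 0x14) (.leaf 0)) (.node (.leaf 0x1004004019) (.leaf 0))))))))

/-- part of the cover -/
def covC6 : Trie :=
  (.node (.node (.node (.node (.node (.node (.node (.leaf 0x0) (.leaf 0x0)) (.node (.leaf 0x0) (.leaf 0))) (.node (.node (.leaf 0x7) (.leaf 0)) (.node (.leaf 0x0) (.leaf 0)))) (.node (.node (.node (.leaf 0x1000) (.leaf 0x1003002008)) (.node (.leaf 0x2016) (.leaf 0))) (.node (.node (.leaf 0x14) (.leaf 0)) (.node (.leaf 0x1001003016) (.leaf 0))))) (.node (.node (.node (.node (.leaf 0xf) (.leaf 0x0)) (.node (.leaf 0x1002003015) (.leaf 0))) (.node (.node (.leaf 0x0) (.leaf 0)) (.node (.leaf 0x1003019) (.leaf 0)))) (.node (.node (.node (.leaf 0x11) (.leaf 0x0)) (.node (.leaf 0x2001005) (.leaf 0))) (.node (.node (.leaf 0x0) (.leaf 0)) (.node (.leaf 0x400001a) (.leaf 0)))))) (.node (.node (.node (.node (.node (.leaf 0x0) (.leaf 0x100000000d))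 (.node (.leaf 0x1023) (.leaf 0))) (.node (.node (.leaf 0x4002000) (.leaf 0)) (.node (.leaf 0x100100500a) (.leaf 0)))) (.node (.node (.node (.leaf 0x18) (.leaf 0x4019)) (.node (.leaf 0x2001015) (.leaf 0))) (.node (.node (.leaf 0x0) (.leaf 0)) (.node (.leaf 0x1000000000) (.leaf 0))))) (.node (.node (.node (.node (.leaf 0x0) (.leaf 0x0)) (.node (.leaf 0x1b) (.leaf 0))) (.node (.node (.leaf 0x200100b) (.leaf 0)) (.node (.leaf 0x1000012) (.leaf 0)))) (.node (.node (.node (.leaf 0x300400b) (.leaf 0x2002003)) (.node (.leaf 0x0) (.leaf 0))) (.node (.node (.leaf 0x0) (.leaf 0)) (.node (.leaf 0x1017) (.leaf 0))))))) (.node (.node (.node (.node (.node (.node (.leaf 0x0) (.leaf 0x0)) (.node (.leaf 0x1000) (.leaf 0))) (.node (.node (.leaf 0x100100d) (.leaf 0)) (.node (.leaf 0x300501e) (.leaf 0)))) (.node (.node (.node (.leaf 0x27) (.leaf 0x0)) (.node (.leaf 0x1003003019) (.leaf 0))) (.node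 (.node (.leaf 0x0) (.leaf 0)) (.node (.leaf 0x1002003010) (.leaf 0))))) (.node (.node (.node (.node (.leaf 0xb) (.leaf 0x100200400c)) (.node (.leaf 0x1028) (.leaf 0))) (.node (.node (.leaf 0x0) (.leaf 0)) (.node (.leaf 0x0) (.leaf 0)))) (.node (.node (.node (.leaf 0x400000d) (.leaf 0x4000000)) (.node (.leaf 0x1001003023) (.leaf 0))) (.node (.node (.leaf 0x1001001008) (.leaf 0)) (.node (.leaf 0x0) (.leaf 0)))))) (.node (.node (.node (.node (.node (.leaf 0x0) (.leaf 0x0)) (.node (.leaf 0x200401c) (.leaf 0))) (.node (.node (.leaf 0x1e) (.leaf 0)) (.node (.leaf 0x200300c) (.leaf 0)))) (.node (.node (.node (.leaf 0x26) (.leaf 0x0)) (.node (.leaf 0x4002000) (.leaf 0))) (.node (.node (.leaf 0x2005021) (.leaf 0)) (.node (.leaf 0x0) (.leaf 0))))) (.node (.node (.node (.node (.leaf 0x0) (.leaf 0x0)) (.node (.leaf 0x0) (.leaf 0))) (.node (.node (.leaf 0x1000000000) (.leaf 0)) (.node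 (.leaf 0x0) (.leaf 0)))) (.node (.node (.node (.leaf 0x100400501c) (.leaf 0)) (.node (.leaf 0x1003001007) (.leaf 0))) (.node (.node (.leaf 0x1e) (.leaf 0)) (.node (.leaf 0x200001b) (.leaf 0))))))))

/-- part of the cover -/
def covC38 : Trie :=
  (.node (.node (.node (.node (.node (.node (.node (.leaf 0x0) (.leaf 0x1002027)) (.node (.leaf 0x300501b) (.leaf 0))) (.node (.node (.leaf 0x2000008) (.leaf 0)) (.node (.leaf 0x2004019) (.leaf 0)))) (.node (.node (.node (.leaf 0x0) (.leaf 0x0)) (.node (.leaf 0x1002004025) (.leaf 0))) (.node (.node (.leaf 0x3005011) (.leaf 0)) (.node (.leaf 0x0) (.leaf 0))))) (.node (.node (.node (.node (.leaf 0x4) (.leaf 0x3002025)) (.node (.leaf 0x1003) (.leaf 0))) (.node (.node (.leaf 0x0) (.leaf 0)) (.node (.leaf 0x3000002) (.leaf 0)))) (.node (.node (.node (.leaf 0x2009) (.leaf 0x0)) (.node (.leaf 0x0) (.leaf 0))) (.node (.node (.leaf 0x4000015)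 (.leaf 0)) (.node (.leaf 0x0) (.leaf 0)))))) (.node (.node (.node (.node (.node (.leaf 0x0) (.leaf 0x2003026)) (.node (.leaf 0x100400000b) (.leaf 0))) (.node (.node (.leaf 0x1005006) (.leaf 0)) (.node (.leaf 0x4000023) (.leaf 0)))) (.node (.node (.node (.leaf 0x0) (.leaf 0x0)) (.node (.leaf 0x0) (.leaf 0))) (.node (.node (.leaf 0x0) (.leaf 0)) (.node (.leaf 0x0) (.leaf 0))))) (.node (.node (.node (.node (.leaf 0x1e) (.leaf 0x0)) (.node (.leaf 0x2005013) (.leaf 0))) (.node (.node (.leaf 0x1000004018) (.leaf 0)) (.node (.leaf 0x0) (.leaf 0)))) (.node (.node (.node (.leaf 0x100200501e) (.leaf 0x4000021)) (.node (.leaf 0x100200200b) (.leaf 0))) (.node (.node (.leaf 0x2005012) (.leaf 0)) (.node (.leaf 0x0) (.leaf 0))))))) (.node (.node (.node (.node (.node (.node (.leaf 0x0) (.leaf 0x2004015)) (.node (.leaf 0x0) (.leaf 0))) (.node (.node (.leaf 0x0) (.leaf 0)) (.node (.leaf 0x100501c)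 (.leaf 0)))) (.node (.node (.node (.leaf 0xb) (.leaf 0x0)) (.node (.leaf 0x300200d) (.leaf 0))) (.node (.node (.leaf 0x300301f) (.leaf 0)) (.node (.leaf 0x200300d) (.leaf 0))))) (.node (.node (.node (.node (.leaf 0x12) (.leaf 0x0)) (.node (.leaf 0x100200101a) (.leaf 0))) (.node (.node (.leaf 0x2) (.leaf 0)) (.node (.leaf 0xf) (.leaf 0)))) (.node (.node (.node (.leaf 0x200300c) (.leaf 0x3004002)) (.node (.leaf 0x0) (.leaf 0))) (.node (.node (.leaf 0x0) (.leaf 0)) (.node (.leaf 0x4004008) (.leaf 0)))))) (.node (.node (.node (.node (.node (.leaf 0x0) (.leaf 0x1002001016)) (.node (.leaf 0x1000001005) (.leaf 0))) (.node (.node (.leaf 0x0) (.leaf 0)) (.node (.leaf 0x0) (.leaf 0)))) (.node (.node (.node (.leaf 0x2) (.leaf 0x0)) (.node (.leaf 0x1005007) (.leaf 0))) (.node (.node (.leaf 0x1025) (.leaf 0)) (.node (.leaf 0x0) (.leaf 0))))) (.node (.node (.node (.node (.leaf 0x0) (.leaf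 0x0)) (.node (.leaf 0x1003003018) (.leaf 0))) (.node (.node (.leaf 0x1003026) (.leaf 0)) (.node (.leaf 0x2000000) (.leaf 0)))) (.node (.node (.node (.leaf 0x0) (.leaf 0)) (.node (.leaf 0x3004022) (.leaf 0))) (.node (.node (.leaf 0x100400001e) (.leaf 0)) (.node (.leaf 0x3003004) (.leaf 0))))))))

/-- part of the cover -/
def covC22 : Trie :=
  (.node (.node (.node (.node (.node (.node (.node (.leaf 0x0) (.leaf 0x0)) (.node (.leaf 0x0) (.leaf 0))) (.node (.node (.leaf 0x200400b) (.leaf 0)) (.node (.leaf 0x0) (.leaf 0)))) (.node (.node (.node (.leaf 0x1000000007) (.leaf 0x100400401d)) (.node (.leaf 0x100400500f) (.leaf 0))) (.node (.node (.leaf 0x4005012) (.leaf 0)) (.node (.leaf 0x0) (.leaf 0))))) (.node (.node (.node (.node (.leaf 0x0) (.leaf 0x100d)) (.node (.leaf 0x1000001010) (.leaf 0))) (.node (.node (.leaf 0xb) (.leaf 0)) (.node (.leaf 0x0) (.leaf 0)))) (.node (.node (.node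 (.leaf 0x0) (.leaf 0x0)) (.node (.leaf 0x1003005011) (.leaf 0))) (.node (.node (.leaf 0x3005011) (.leaf 0)) (.node (.leaf 0x1012) (.leaf 0)))))) (.node (.node (.node (.node (.node (.leaf 0x0) (.leaf 0x1000002016)) (.node (.leaf 0x0) (.leaf 0))) (.node (.node (.leaf 0x3026) (.leaf 0)) (.node (.leaf 0x1000000020) (.leaf 0)))) (.node (.node (.node (.leaf 0xf) (.leaf 0x300401c)) (.node (.leaf 0x0) (.leaf 0))) (.node (.node (.leaf 0x0) (.leaf 0)) (.node (.leaf 0x100f) (.leaf 0))))) (.node (.node (.node (.node (.leaf 0xd) (.leaf 0x0)) (.node (.leaf 0x1004005018) (.leaf 0))) (.node (.node (.leaf 0x200301e) (.leaf 0)) (.node (.leaf 0x1000001000) (.leaf 0)))) (.node (.node (.node (.leaf 0x1000) (.leaf 0x4000016)) (.node (.leaf 0x0) (.leaf 0))) (.node (.node (.leaf 0x200001d) (.leaf 0)) (.node (.leaf 0x1001003016) (.leaf 0))))))) (.node (.node (.node (.node (.node (.node (.leaf 0x0)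 (.leaf 0x1004000002)) (.node (.leaf 0x1000001006) (.leaf 0))) (.node (.node (.leaf 0x0) (.leaf 0)) (.node (.leaf 0x201d) (.leaf 0)))) (.node (.node (.node (.leaf 0x1000002006) (.leaf 0x1004000002)) (.node (.leaf 0x100100100d) (.leaf 0))) (.node (.node (.leaf 0x1e) (.leaf 0)) (.node (.leaf 0x1002003010) (.leaf 0))))) (.node (.node (.node (.node (.leaf 0x2) (.leaf 0x0)) (.node (.leaf 0x2000024) (.leaf 0))) (.node (.node (.leaf 0x1c) (.leaf 0)) (.node (.leaf 0x0) (.leaf 0)))) (.node (.node (.node (.leaf 0x0) (.leaf 0x0)) (.node (.leaf 0x0) (.leaf 0))) (.node (.node (.leaf 0x1000) (.leaf 0)) (.node (.leaf 0x1001005026) (.leaf 0)))))) (.node (.node (.node (.node (.node (.leaf 0x0) (.leaf 0x0)) (.node (.leaf 0x0) (.leaf 0))) (.node (.node (.leaf 0x300301f) (.leaf 0)) (.node (.leaf 0x200200c) (.leaf 0)))) (.node (.node (.node (.leaf 0xb) (.leaf 0x0)) (.node (.leaf 0x100501c) (.leaf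 0))) (.node (.node (.leaf 0x0) (.leaf 0)) (.node (.leaf 0x4000001) (.leaf 0))))) (.node (.node (.node (.node (.leaf 0x0) (.leaf 0x0)) (.node (.leaf 0x1000) (.leaf 0))) (.node (.node (.leaf 0x201c) (.leaf 0)) (.node (.leaf 0x100200100e) (.leaf 0)))) (.node (.node (.node (.leaf 0x2) (.leaf 0)) (.node (.leaf 0x2003005) (.leaf 0))) (.node (.node (.leaf 0x0) (.leaf 0)) (.node (.leaf 0x2015) (.leaf 0))))))))

/-- part of the cover -/
def covC54 : Trie :=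
  (.node (.node (.node (.node (.node (.node (.node (.leaf 0x0) (.leaf 0x0)) (.node (.leaf 0x0) (.leaf 0))) (.node (.node (.leaf 0x0) (.leaf 0)) (.node (.leaf 0x0) (.leaf 0)))) (.node (.node (.node (.leaf 0x11) (.leaf 0x1001003018)) (.node (.leaf 0x0) (.leaf 0))) (.node (.node (.leaf 0x1002002000) (.leaf 0)) (.node (.leaf 0x3001019) (.leaf 0))))) (.node (.node (.node (.node (.leaf 0x26) (.leaf 0x0)) (.node (.leaf 0x400000d) (.leaf 0))) (.node (.node (.leaf 0x1e) (.leaf 0)) (.node (.leaf 0x4009) (.leaf 0)))) (.node (.node (.node (.leaf 0x5) (.leaf 0x4005023)) (.node (.leaf 0x0) (.leaf 0))) (.node (.node (.leaf 0x200400b) (.leaf 0)) (.node (.leaf 0x1003005006) (.leaf 0)))))) (.node (.node (.node (.node (.node (.leaf 0x0) (.leaf 0x100000300f)) (.node (.leaf 0x2003005) (.leaf 0))) (.node (.node (.leaf 0x0) (.leaf 0)) (.node (.leaf 0x0) (.leaf 0)))) (.node (.node (.node (.leaf 0x4)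 (.leaf 0x1003002024)) (.node (.leaf 0x100200100e) (.leaf 0))) (.node (.node (.leaf 0x301d) (.leaf 0)) (.node (.leaf 0x3004002) (.leaf 0))))) (.node (.node (.node (.node (.leaf 0x1f) (.leaf 0x1003004000)) (.node (.leaf 0x7) (.leaf 0))) (.node (.node (.leaf 0x300200f) (.leaf 0)) (.node (.leaf 0x0) (.leaf 0)))) (.node (.node (.node (.leaf 0x0) (.leaf 0x22)) (.node (.leaf 0x3027) (.leaf 0))) (.node (.node (.leaf 0x3005011) (.leaf 0)) (.node (.leaf 0x100000300f) (.leaf 0))))))) (.node (.node (.node (.node (.node (.node (.leaf 0x0) (.leaf 0x1002003004)) (.node (.leaf 0x200101e) (.leaf 0))) (.node (.node (.leaf 0x100200100e) (.leaf 0)) (.node (.leaf 0x1000003027) (.leaf 0)))) (.node (.node (.node (.leaf 0x9) (.leaf 0x1002000016)) (.node (.leaf 0x1000005009) (.leaf 0))) (.node (.node (.leaf 0x0) (.leaf 0)) (.node (.leaf 0x0) (.leaf 0))))) (.node (.node (.node (.node (.leaf 0x11) (.leaf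 0x0)) (.node (.leaf 0x1000004018) (.leaf 0))) (.node (.node (.leaf 0x0) (.leaf 0)) (.node (.leaf 0x2003023) (.leaf 0)))) (.node (.node (.node (.leaf 0x200200c) (.leaf 0x5009)) (.node (.leaf 0x0) (.leaf 0))) (.node (.node (.leaf 0x0) (.leaf 0)) (.node (.leaf 0x0) (.leaf 0)))))) (.node (.node (.node (.node (.node (.leaf 0x0) (.leaf 0x100400101e)) (.node (.leaf 0x4004019) (.leaf 0))) (.node (.node (.leaf 0x0) (.leaf 0)) (.node (.leaf 0x0) (.leaf 0)))) (.node (.node (.node (.leaf 0x12) (.leaf 0x0)) (.node (.leaf 0x0) (.leaf 0))) (.node (.node (.leaf 0x1004002014) (.leaf 0)) (.node (.leaf 0x1004001007) (.leaf 0))))) (.node (.node (.node (.node (.leaf 0x1000000006) (.leaf 0x2002029)) (.node (.leaf 0x0) (.leaf 0))) (.node (.node (.leaf 0x300400b) (.leaf 0)) (.node (.leaf 0x1017) (.leaf 0)))) (.node (.node (.node (.leaf 0x1000001009) (.leaf 0)) (.node (.leaf 0x0) (.leaf 0))) (.node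 (.node (.leaf 0x100300301f) (.leaf 0)) (.node (.leaf 0x200300d) (.leaf 0))))))))

/-- part of the cover -/
def covC14 : Trie :=
  (.node (.node (.node (.node (.node (.node (.node (.leaf 0x0) (.leaf 0x200100b)) (.node (.leaf 0x0) (.leaf 0))) (.node (.node (.leaf 0x4000023) (.leaf 0)) (.node (.leaf 0x0) (.leaf 0)))) (.node (.node (.node (.leaf 0x4000022) (.leaf 0x0)) (.node (.leaf 0x1004005015) (.leaf 0))) (.node (.node (.leaf 0x0) (.leaf 0)) (.node (.leaf 0x0) (.leaf 0))))) (.node (.node (.node (.node (.leaf 0x0) (.leaf 0x16)) (.node (.leaf 0x1000) (.leaf 0))) (.node (.node (.leaf 0x1019) (.leaf 0)) (.node (.leaf 0x2002023) (.leaf 0)))) (.node (.node (.node (.leaf 0x2) (.leaf 0x0)) (.node (.leaf 0x1001003018) (.leaf 0))) (.node (.node (.leaf 0x0) (.leaf 0)) (.node (.leaf 0x0) (.leaf 0)))))) (.node (.node (.node (.node (.node (.leaf 0x0) (.leaf 0x1002003019)) (.node (.leaf 0x1002005025)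 (.leaf 0))) (.node (.node (.leaf 0x1003025) (.leaf 0)) (.node (.leaf 0x1000001009) (.leaf 0)))) (.node (.node (.node (.leaf 0x0) (.leaf 0x0)) (.node (.leaf 0x0) (.leaf 0))) (.node (.node (.leaf 0x14) (.leaf 0)) (.node (.leaf 0x400501b) (.leaf 0))))) (.node (.node (.node (.node (.leaf 0x0) (.leaf 0x1002004005)) (.node (.leaf 0x1006) (.leaf 0))) (.node (.node (.leaf 0x200b) (.leaf 0)) (.node (.leaf 0x0) (.leaf 0)))) (.node (.node (.node (.leaf 0x1003026) (.leaf 0x3025)) (.node (.leaf 0x0) (.leaf 0))) (.node (.node (.leaf 0x1001004009) (.leaf 0)) (.node (.leaf 0x2003002) (.leaf 0))))))) (.node (.node (.node (.node (.node (.node (.leaf 0x0) (.leaf 0x3017)) (.node (.leaf 0x0) (.leaf 0))) (.node (.node (.leaf 0x0) (.leaf 0)) (.node (.leaf 0x0) (.leaf 0)))) (.node (.node (.node (.leaf 0x3004013) (.leaf 0x0)) (.node (.leaf 0x1000004021) (.leaf 0))) (.node (.node (.leaf 0xb) (.leaf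 0)) (.node (.leaf 0x2003026) (.leaf 0))))) (.node (.node (.node (.node (.leaf 0x1e) (.leaf 0x4005)) (.node (.leaf 0x1003) (.leaf 0))) (.node (.node (.leaf 0x12) (.leaf 0)) (.node (.leaf 0x2003026) (.leaf 0)))) (.node (.node (.node (.leaf 0x400101e) (.leaf 0x3012)) (.node (.leaf 0x2001015) (.leaf 0))) (.node (.node (.leaf 0x200400f) (.leaf 0)) (.node (.leaf 0x4027) (.leaf 0)))))) (.node (.node (.node (.node (.node (.leaf 0x0) (.leaf 0x0)) (.node (.leaf 0x0) (.leaf 0))) (.node (.node (.leaf 0x4004009) (.leaf 0)) (.node (.leaf 0x1000000000) (.leaf 0)))) (.node (.node (.node (.leaf 0x0) (.leaf 0x1003002008)) (.node (.leaf 0x100100400b) (.leaf 0))) (.node (.node (.leaf 0x300501e) (.leaf 0)) (.node (.leaf 0x4000008) (.leaf 0))))) (.node (.node (.node (.node (.leaf 0x400400f) (.leaf 0x2002008)) (.node (.leaf 0x1003003007) (.leaf 0))) (.node (.node (.leaf 0x200200c) (.leaf 0)) (.node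 (.leaf 0x2002006) (.leaf 0)))) (.node (.node (.node (.leaf 0x3005011) (.leaf 0)) (.node (.leaf 0x100100501e) (.leaf 0))) (.node (.node (.leaf 0x4002020) (.leaf 0)) (.node (.leaf 0x201c) (.leaf 0))))))))

/-- part of the cover -/
def covC46 : Trie :=
  (.node (.node (.node (.node (.node (.node (.node (.leaf 0x0) (.leaf 0x3002028)) (.node (.leaf 0x2005029) (.leaf 0))) (.node (.node (.leaf 0x200400f) (.leaf 0)) (.node (.leaf 0x1004004002) (.leaf 0)))) (.node (.node (.node (.leaf 0x28) (.leaf 0x0)) (.node (.leaf 0x0) (.leaf 0))) (.node (.node (.leaf 0x2) (.leaf 0)) (.node (.leaf 0x0) (.leaf 0))))) (.node (.node (.node (.node (.leaf 0xb) (.leaf 0x1001005017)) (.node (.leaf 0x0) (.leaf 0))) (.node (.node (.leaf 0xb) (.leaf 0)) (.node (.leaf 0x1002001000) (.leaf 0)))) (.node (.node (.node (.leaf 0x1000012) (.leaf 0x2002019)) (.node (.leaf 0x1001005010) (.leaf 0))) (.node (.node (.leaf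 0x5023) (.leaf 0)) (.node (.leaf 0x0) (.leaf 0)))))) (.node (.node (.node (.node (.node (.leaf 0x0) (.leaf 0x2003026)) (.node (.leaf 0x1000012) (.leaf 0))) (.node (.node (.leaf 0x13) (.leaf 0)) (.node (.leaf 0x200400b) (.leaf 0)))) (.node (.node (.node (.leaf 0xd) (.leaf 0x1001002000)) (.node (.leaf 0x2002006) (.leaf 0))) (.node (.node (.leaf 0x3019) (.leaf 0)) (.node (.leaf 0x0) (.leaf 0))))) (.node (.node (.node (.node (.leaf 0x9) (.leaf 0x301c)) (.node (.leaf 0x1000003021) (.leaf 0))) (.node (.node (.leaf 0x0) (.leaf 0)) (.node (.leaf 0x0) (.leaf 0)))) (.node (.node (.node (.leaf 0x14) (.leaf 0x6)) (.node (.leaf 0x0) (.leaf 0))) (.node (.node (.leaf 0x400501c) (.leaf 0)) (.node (.leaf 0x4009) (.leaf 0))))))) (.node (.node (.node (.node (.node (.node (.leaf 0x0) (.leaf 0x3003025)) (.node (.leaf 0x1000) (.leaf 0))) (.node (.node (.leaf 0x2002006) (.leaf 0)) (.node (.leaf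 0x1003005028) (.leaf 0)))) (.node (.node (.node (.leaf 0x1e) (.leaf 0x0)) (.node (.leaf 0x1002002023) (.leaf 0))) (.node (.node (.leaf 0x100f) (.leaf 0)) (.node (.leaf 0x0) (.leaf 0))))) (.node (.node (.node (.node (.leaf 0x1c) (.leaf 0x0)) (.node (.leaf 0x2) (.leaf 0))) (.node (.node (.leaf 0x0) (.leaf 0)) (.node (.leaf 0x100100d) (.leaf 0)))) (.node (.node (.node (.leaf 0x1000000000) (.leaf 0x1002005028)) (.node (.leaf 0x0) (.leaf 0))) (.node (.node (.leaf 0x0) (.leaf 0)) (.node (.leaf 0x0) (.leaf 0)))))) (.node (.node (.node (.node (.node (.leaf 0x0) (.leaf 0x1000001005)) (.node (.leaf 0x4002008) (.leaf 0))) (.node (.node (.leaf 0x400400f) (.leaf 0)) (.node (.leaf 0x0) (.leaf 0)))) (.node (.node (.node (.leaf 0x0) (.leaf 0x0)) (.node (.leaf 0x0) (.leaf 0))) (.node (.node (.leaf 0x1002001000) (.leaf 0)) (.node (.leaf 0x100000500c) (.leaf 0))))) (.node (.node (.node (.node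 (.leaf 0x1019) (.leaf 0x4)) (.node (.leaf 0x1000003015) (.leaf 0))) (.node (.node (.leaf 0x1000) (.leaf 0)) (.node (.leaf 0x300300f) (.leaf 0)))) (.node (.node (.node (.leaf 0x100100500a) (.leaf 0)) (.node (.leaf 0x0) (.leaf 0))) (.node (.node (.leaf 0x2003005) (.leaf 0)) (.node (.leaf 0x300401e) (.leaf 0))))))))

/-- part of the cover -/
def covC30 : Trie :=
  (.node (.node (.node (.node (.node (.node (.node (.leaf 0x0) (.leaf 0x0)) (.node (.leaf 0x0) (.leaf 0))) (.node (.node (.leaf 0x0) (.leaf 0)) (.node (.leaf 0x0) (.leaf 0)))) (.node (.node (.node (.leaf 0x14) (.leaf 0x0)) (.node (.leaf 0x200100b) (.leaf 0))) (.node (.node (.leaf 0x100400501c) (.leaf 0)) (.node (.leaf 0x0) (.leaf 0))))) (.node (.node (.node (.node (.leaf 0xd) (.leaf 0x1003004000)) (.node (.leaf 0x4001028) (.leaf 0))) (.node (.node (.leaf 0x26) (.leaf 0)) (.node (.leaf 0x1000) (.leaf 0)))) (.node (.node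 (.node (.leaf 0x0) (.leaf 0x0)) (.node (.leaf 0x3004009) (.leaf 0))) (.node (.node (.leaf 0x2005021) (.leaf 0)) (.node (.leaf 0x0) (.leaf 0)))))) (.node (.node (.node (.node (.node (.leaf 0x0) (.leaf 0x1002003010)) (.node (.leaf 0x0) (.leaf 0))) (.node (.node (.leaf 0x3027) (.leaf 0)) (.node (.leaf 0x7) (.leaf 0)))) (.node (.node (.node (.leaf 0x0) (.leaf 0x300201a)) (.node (.leaf 0x1000) (.leaf 0))) (.node (.node (.leaf 0x1019) (.leaf 0)) (.node (.leaf 0x3002028) (.leaf 0))))) (.node (.node (.node (.node (.leaf 0xb) (.leaf 0x0)) (.node (.leaf 0x100300101c) (.leaf 0))) (.node (.node (.leaf 0x101f) (.leaf 0)) (.node (.leaf 0x4002008) (.leaf 0)))) (.node (.node (.node (.leaf 0x300400b) (.leaf 0x1003000016)) (.node (.leaf 0x0) (.leaf 0))) (.node (.node (.leaf 0x0) (.leaf 0)) (.node (.leaf 0x1002004028) (.leaf 0))))))) (.node (.node (.node (.node (.node (.node (.leaf 0x0) (.leaf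 0x3003007)) (.node (.leaf 0x100200300a) (.leaf 0))) (.node (.node (.leaf 0x1000) (.leaf 0)) (.node (.leaf 0x1003005023) (.leaf 0)))) (.node (.node (.node (.leaf 0xd) (.leaf 0x0)) (.node (.leaf 0x0) (.leaf 0))) (.node (.node (.leaf 0x4004009) (.leaf 0)) (.node (.leaf 0x2000029) (.leaf 0))))) (.node (.node (.node (.node (.leaf 0x0) (.leaf 0x0)) (.node (.leaf 0x3005011) (.leaf 0))) (.node (.node (.leaf 0x11) (.leaf 0)) (.node (.leaf 0x3001028) (.leaf 0)))) (.node (.node (.node (.leaf 0x300200d) (.leaf 0x0)) (.node (.leaf 0x0) (.leaf 0))) (.node (.node (.leaf 0x100000500e) (.leaf 0)) (.node (.leaf 0x200c) (.leaf 0)))))) (.node (.node (.node (.node (.node (.leaf 0x0) (.leaf 0x0)) (.node (.leaf 0x3003004) (.leaf 0))) (.node (.node (.leaf 0x100f) (.leaf 0)) (.node (.leaf 0x201c) (.leaf 0)))) (.node (.node (.node (.leaf 0x1e) (.leaf 0x2003029)) (.node (.leaf 0x3000008) (.leaf 0)))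 (.node (.node (.leaf 0x0) (.leaf 0)) (.node (.leaf 0x1005021) (.leaf 0))))) (.node (.node (.node (.node (.leaf 0x14) (.leaf 0x100400201f)) (.node (.leaf 0x1003029) (.leaf 0))) (.node (.node (.leaf 0x300400b) (.leaf 0)) (.node (.leaf 0x0) (.leaf 0)))) (.node (.node (.node (.leaf 0x1002002000) (.leaf 0)) (.node (.leaf 0x0) (.leaf 0))) (.node (.node (.leaf 0x100400000b) (.leaf 0)) (.node (.leaf 0x100400500f) (.leaf 0))))))))

/-- part of the cover -/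
def covC62 : Trie :=
  (.node (.node (.node (.node (.node (.node (.node (.leaf 0x0) (.leaf 0x0)) (.node (.leaf 0x3002025) (.leaf 0))) (.node (.node (.leaf 0x100000500e) (.leaf 0)) (.node (.leaf 0x2002019) (.leaf 0)))) (.node (.node (.node (.leaf 0x200400a) (.leaf 0x0)) (.node (.leaf 0x3000017) (.leaf 0))) (.node (.node (.leaf 0x0) (.leaf 0)) (.node (.leaf 0x0) (.leaf 0))))) (.node (.node (.node (.node (.leaf 0x0) (.leaf 0x0)) (.node (.leaf 0x4021) (.leaf 0))) (.node (.node (.leaf 0x2) (.leaf 0)) (.node (.leaf 0x1001003016) (.leaf 0)))) (.node (.node (.node (.leaf 0x200301e) (.leaf 0x0)) (.node (.leaf 0x1002002019) (.leaf 0))) (.node (.node (.leaf 0x0) (.leaf 0)) (.node (.leaf 0x0) (.leaf 0)))))) (.node (.node (.node (.node (.node (.leaf 0x0) (.leaf 0x200300d)) (.node (.leaf 0x1b) (.leaf 0))) (.node (.node (.leaf 0xb) (.leaf 0)) (.node (.leaf 0x300200d) (.leaf 0)))) (.node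 (.node (.node (.leaf 0xb) (.leaf 0x4004016)) (.node (.leaf 0x0) (.leaf 0))) (.node (.node (.leaf 0x0) (.leaf 0)) (.node (.leaf 0x0) (.leaf 0))))) (.node (.node (.node (.node (.leaf 0x18) (.leaf 0x3003010)) (.node (.leaf 0x11) (.leaf 0))) (.node (.node (.leaf 0x200300c) (.leaf 0)) (.node (.leaf 0x1000) (.leaf 0)))) (.node (.node (.node (.leaf 0x4005012) (.leaf 0)) (.node (.leaf 0x0) (.leaf 0))) (.node (.node (.leaf 0x2000002) (.leaf 0)) (.node (.leaf 0x2005021) (.leaf 0))))))) (.node (.node (.node (.node (.node (.node (.leaf 0x0) (.leaf 0x1002005013)) (.node (.leaf 0x1000001010) (.leaf 0))) (.node (.node (.leaf 0x0) (.leaf 0)) (.node (.leaf 0x0) (.leaf 0)))) (.node (.node (.node (.leaf 0x1f) (.leaf 0x2005000)) (.node (.leaf 0x1001003023) (.leaf 0))) (.node (.node (.leaf 0x400400f) (.leaf 0)) (.node (.leaf 0x1006) (.leaf 0))))) (.node (.node (.node (.node (.leaf 0x2) (.leaf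 0x0)) (.node (.leaf 0x1f) (.leaf 0))) (.node (.node (.leaf 0x2009) (.leaf 0)) (.node (.leaf 0x0) (.leaf 0)))) (.node (.node (.node (.leaf 0x201c) (.leaf 0x1003005023)) (.node (.leaf 0x100300000b) (.leaf 0))) (.node (.node (.leaf 0x100100301f) (.leaf 0)) (.node (.leaf 0x0) (.leaf 0)))))) (.node (.node (.node (.node (.node (.leaf 0x0) (.leaf 0x0)) (.node (.leaf 0x101a) (.leaf 0))) (.node (.node (.leaf 0x14) (.leaf 0)) (.node (.leaf 0x0) (.leaf 0)))) (.node (.node (.node (.leaf 0x1c) (.leaf 0x0)) (.node (.leaf 0x1002005011) (.leaf 0))) (.node (.node (.leaf 0x300300f) (.leaf 0)) (.node (.leaf 0x100300301f) (.leaf 0))))) (.node (.node (.node (.node (.leaf 0x1003003026) (.leaf 0x0)) (.node (.leaf 0x0) (.leaf 0))) (.node (.node (.leaf 0x100200501e) (.leaf 0)) (.node (.leaf 0x100000501c) (.leaf 0)))) (.node (.node (.node (.leaf 0x1000000020) (.leaf 0)) (.node (.leaf 0x100200301b)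 (.leaf 0))) (.node (.node (.leaf 0x100200401c) (.leaf 0)) (.node (.leaf 0x0) (.leaf 0))))))))

/-- part of the cover -/
def covC1 : Trie :=
  (.node (.node (.node (.node (.node (.node (.node (.leaf 0x0) (.leaf 0x1003004001)) (.node (.leaf 0x4004004) (.leaf 0))) (.node (.node (.leaf 0x4001000) (.leaf 0)) (.node (.leaf 0x100400b) (.leaf 0)))) (.node (.node (.node (.leaf 0x1000001007) (.leaf 0x0)) (.node (.leaf 0x0) (.leaf 0))) (.node (.node (.leaf 0x100400501c) (.leaf 0)) (.node (.leaf 0x1004004014) (.leaf 0))))) (.node (.node (.node (.node (.leaf 0x12) (.leaf 0x2009)) (.node (.leaf 0x1003003000) (.leaf 0))) (.node (.node (.leaf 0x100d) (.leaf 0)) (.node (.leaf 0x1002000029) (.leaf 0)))) (.node (.node (.node (.leaf 0x4) (.leaf 0x100400000d)) (.node (.leaf 0x1003003007) (.leaf 0))) (.node (.node (.leaf 0x4002008) (.leaf 0)) (.node (.leaf 0x3000004) (.leaf 0)))))) (.node (.node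 (.node (.node (.node (.leaf 0x0) (.leaf 0x1003005028)) (.node (.leaf 0x3002010) (.leaf 0))) (.node (.node (.leaf 0x1005021) (.leaf 0)) (.node (.leaf 0x0) (.leaf 0)))) (.node (.node (.node (.leaf 0x4) (.leaf 0x1003002000)) (.node (.leaf 0x3010) (.leaf 0))) (.node (.node (.leaf 0x4004029) (.leaf 0)) (.node (.leaf 0x1000000020) (.leaf 0))))) (.node (.node (.node (.node (.leaf 0xc) (.leaf 0x0)) (.node (.leaf 0x1000023) (.leaf 0))) (.node (.node (.leaf 0x2015) (.leaf 0)) (.node (.leaf 0x0) (.leaf 0)))) (.node (.node (.node (.leaf 0x200400b) (.leaf 0x1000004018)) (.node (.leaf 0x1001002001) (.leaf 0))) (.node (.node (.leaf 0x2003000) (.leaf 0)) (.node (.leaf 0x1000003002) (.leaf 0))))))) (.node (.node (.node (.node (.node (.node (.leaf 0x0) (.leaf 0x1005021)) (.node (.leaf 0x4004005) (.leaf 0))) (.node (.node (.leaf 0x1002001013) (.leaf 0)) (.node (.leaf 0x1000000009) (.leaf 0))))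 (.node (.node (.node (.leaf 0x100200200c) (.leaf 0x1000000029)) (.node (.leaf 0x1004002000) (.leaf 0))) (.node (.node (.leaf 0x0) (.leaf 0)) (.node (.leaf 0x0) (.leaf 0))))) (.node (.node (.node (.node (.leaf 0x0) (.leaf 0x0)) (.node (.leaf 0x1028) (.leaf 0))) (.node (.node (.leaf 0x5) (.leaf 0)) (.node (.leaf 0x1000001005) (.leaf 0)))) (.node (.node (.node (.leaf 0xd) (.leaf 0x23)) (.node (.leaf 0x1003000002) (.leaf 0))) (.node (.node (.leaf 0x200200f) (.leaf 0)) (.node (.leaf 0x0) (.leaf 0)))))) (.node (.node (.node (.node (.node (.leaf 0x0) (.leaf 0x4002029)) (.node (.leaf 0x100b) (.leaf 0))) (.node (.node (.leaf 0x1000) (.leaf 0)) (.node (.leaf 0x100100500b) (.leaf 0)))) (.node (.node (.node (.leaf 0x19) (.leaf 0x0)) (.node (.leaf 0x0) (.leaf 0))) (.node (.node (.leaf 0x4000021) (.leaf 0)) (.node (.leaf 0x1019) (.leaf 0))))) (.node (.node (.node (.node (.leaf 0x14) (.leaf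 0x100000200b)) (.node (.leaf 0x3003008) (.leaf 0))) (.node (.node (.leaf 0x200b) (.leaf 0)) (.node (.leaf 0x1002005003) (.leaf 0)))) (.node (.node (.node (.leaf 0x14) (.leaf 0)) (.node (.leaf 0x2004009) (.leaf 0))) (.node (.node (.leaf 0x100000300c) (.leaf 0)) (.node (.leaf 0x1002005003) (.leaf 0))))))))

/-- part of the cover -/
def covC33 : Trie :=
  (.node (.node (.node (.node (.node (.node (.node (.leaf 0x0) (.leaf 0x1007)) (.node (.leaf 0x3005002) (.leaf 0))) (.node (.node (.leaf 0x200200f) (.leaf 0)) (.node (.leaf 0x0) (.leaf 0)))) (.node (.node (.node (.leaf 0xf) (.leaf 0x1012)) (.node (.leaf 0x1026) (.leaf 0))) (.node (.node (.leaf 0x1004) (.leaf 0)) (.node (.leaf 0x0) (.leaf 0))))) (.node (.node (.node (.node (.leaf 0xb) (.leaf 0x200c)) (.node (.leaf 0x1002004018) (.leaf 0))) (.node (.node (.leaf 0xb) (.leaf 0)) (.node (.leaf 0x100400500f) (.leaf 0)))) (.node (.node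 (.node (.leaf 0x0) (.leaf 0x0)) (.node (.leaf 0x1003004003) (.leaf 0))) (.node (.node (.leaf 0x4001000) (.leaf 0)) (.node (.leaf 0x400401c) (.leaf 0)))))) (.node (.node (.node (.node (.node (.leaf 0x0) (.leaf 0x4001016)) (.node (.leaf 0x100100000b) (.leaf 0))) (.node (.node (.leaf 0x4001000) (.leaf 0)) (.node (.leaf 0x1001028) (.leaf 0)))) (.node (.node (.node (.leaf 0x20) (.leaf 0x100301f)) (.node (.leaf 0x1002005003) (.leaf 0))) (.node (.node (.leaf 0x0) (.leaf 0)) (.node (.leaf 0x1003000028) (.leaf 0))))) (.node (.node (.node (.node (.leaf 0x0) (.leaf 0x1001003027)) (.node (.leaf 0x101f) (.leaf 0))) (.node (.node (.leaf 0x1019) (.leaf 0)) (.node (.leaf 0x1017) (.leaf 0)))) (.node (.node (.node (.leaf 0x1005) (.leaf 0x1000001006)) (.node (.leaf 0x0) (.leaf 0))) (.node (.node (.leaf 0x1004004009) (.leaf 0)) (.node (.leaf 0x0) (.leaf 0))))))) (.node (.node (.node (.node (.node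 (.node (.leaf 0x0) (.leaf 0x400101e)) (.node (.leaf 0x1003000028) (.leaf 0))) (.node (.node (.leaf 0x1002005003) (.leaf 0)) (.node (.leaf 0x100400001a) (.leaf 0)))) (.node (.node (.node (.leaf 0x15) (.leaf 0x0)) (.node (.leaf 0x0) (.leaf 0))) (.node (.node (.leaf 0x2003019) (.leaf 0)) (.node (.leaf 0x101f) (.leaf 0))))) (.node (.node (.node (.node (.leaf 0x9) (.leaf 0x1000001002)) (.node (.leaf 0x0) (.leaf 0))) (.node (.node (.leaf 0x5) (.leaf 0)) (.node (.leaf 0x1001003018) (.leaf 0)))) (.node (.node (.node (.leaf 0x100100500b) (.leaf 0x1003000016)) (.node (.leaf 0x0) (.leaf 0))) (.node (.node (.leaf 0x100400000a) (.leaf 0)) (.node (.leaf 0x1004005002) (.leaf 0)))))) (.node (.node (.node (.node (.node (.leaf 0x0) (.leaf 0x0)) (.node (.leaf 0x100100100d) (.leaf 0))) (.node (.node (.leaf 0x1000001009) (.leaf 0)) (.node (.leaf 0x200400b) (.leaf 0)))) (.node (.node (.node (.leaf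 0x1c) (.leaf 0x1003003019)) (.node (.leaf 0x4000011) (.leaf 0))) (.node (.node (.leaf 0x100400500f) (.leaf 0)) (.node (.leaf 0x0) (.leaf 0))))) (.node (.node (.node (.node (.leaf 0x100d) (.leaf 0x400500f)) (.node (.leaf 0x1005013) (.leaf 0))) (.node (.node (.leaf 0x2003019) (.leaf 0)) (.node (.leaf 0x0) (.leaf 0)))) (.node (.node (.node (.leaf 0x100200501e) (.leaf 0)) (.node (.leaf 0x2000027) (.leaf 0))) (.node (.node (.leaf 0x2001000) (.leaf 0)) (.node (.leaf 0x4002021) (.leaf 0))))))))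

/-- part of the cover -/
def covC17 : Trie :=
  (.node (.node (.node (.node (.node (.node (.node (.leaf 0x0) (.leaf 0x1000000020)) (.node (.leaf 0x0) (.leaf 0))) (.node (.node (.leaf 0x1002003004) (.leaf 0)) (.node (.leaf 0x1004) (.leaf 0)))) (.node (.node (.node (.leaf 0x2003015) (.leaf 0x5009)) (.node (.leaf 0x100400100d) (.leaf 0))) (.node (.node (.leaf 0x4004009) (.leaf 0)) (.node (.leaf 0x0) (.leaf 0))))) (.node (.node (.node (.node (.leaf 0x20) (.leaf 0x1002002019)) (.node (.leaf 0x300300a) (.leaf 0))) (.node (.node (.leaf 0x0) (.leaf 0)) (.node (.leaf 0x100100501e) (.leaf 0)))) (.node (.node (.node (.leaf 0xc) (.leaf 0x100400400b)) (.node (.leaf 0x100200501e) (.leaf 0))) (.node (.node (.leaf 0x0) (.leaf 0)) (.node (.leaf 0x0) (.leaf 0)))))) (.node (.node (.node (.node (.node (.leaf 0x0) (.leaf 0x1002000019)) (.node (.leaf 0x1002004008) (.leaf 0))) (.node (.node (.leaf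 0x1003003026) (.leaf 0)) (.node (.leaf 0x1000012) (.leaf 0)))) (.node (.node (.node (.leaf 0x12) (.leaf 0x0)) (.node (.leaf 0x0) (.leaf 0))) (.node (.node (.leaf 0x100d) (.leaf 0)) (.node (.leaf 0x4004029) (.leaf 0))))) (.node (.node (.node (.node (.leaf 0x0) (.leaf 0x100401e)) (.node (.leaf 0x1000) (.leaf 0))) (.node (.node (.leaf 0x16) (.leaf 0)) (.node (.leaf 0x1001001020) (.leaf 0)))) (.node (.node (.node (.leaf 0xb) (.leaf 0x1002003013)) (.node (.leaf 0x0) (.leaf 0))) (.node (.node (.leaf 0x1000004009) (.leaf 0)) (.node (.leaf 0x1000005009) (.leaf 0))))))) (.node (.node (.node (.node (.node (.node (.leaf 0x0) (.leaf 0x1004021)) (.node (.leaf 0x200000e) (.leaf 0))) (.node (.node (.leaf 0x0) (.leaf 0)) (.node (.leaf 0x0) (.leaf 0)))) (.node (.node (.node (.leaf 0x1b) (.leaf 0x100000200b)) (.node (.leaf 0x1000005009) (.leaf 0))) (.node (.node (.leaf 0x1000) (.leaf 0)) (.node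 (.leaf 0x3003000) (.leaf 0))))) (.node (.node (.node (.node (.leaf 0x1c) (.leaf 0x0)) (.node (.leaf 0x1002004000) (.leaf 0))) (.node (.node (.leaf 0x2) (.leaf 0)) (.node (.leaf 0x1002003015) (.leaf 0)))) (.node (.node (.node (.leaf 0x1003000028) (.leaf 0x1002004013)) (.node (.leaf 0x0) (.leaf 0))) (.node (.node (.leaf 0x1001001020) (.leaf 0)) (.node (.leaf 0x1002003000) (.leaf 0)))))) (.node (.node (.node (.node (.node (.leaf 0x0) (.leaf 0x2004009)) (.node (.leaf 0x1004005012) (.leaf 0))) (.node (.node (.leaf 0x2003019) (.leaf 0)) (.node (.leaf 0x1000005011) (.leaf 0)))) (.node (.node (.node (.leaf 0x0) (.leaf 0x0)) (.node (.leaf 0x1002001018) (.leaf 0))) (.node (.node (.leaf 0x100200300a) (.leaf 0)) (.node (.leaf 0x100000501e) (.leaf 0))))) (.node (.node (.node (.node (.leaf 0x4004029) (.leaf 0x0)) (.node (.leaf 0x2001005) (.leaf 0))) (.node (.node (.leaf 0x100000101f) (.leaf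 0)) (.node (.leaf 0x3004002) (.leaf 0)))) (.node (.node (.node (.leaf 0x5) (.leaf 0)) (.node (.leaf 0x0) (.leaf 0))) (.node (.node (.leaf 0x0) (.leaf 0)) (.node (.leaf 0x0) (.leaf 0))))))))

/-- part of the cover -/
def covC49 : Trie :=
  (.node (.node (.node (.node (.node (.node (.node (.leaf 0x0) (.leaf 0x1003000028)) (.node (.leaf 0x12) (.leaf 0))) (.node (.node (.leaf 0x1003002020) (.leaf 0)) (.node (.leaf 0x1002002018) (.leaf 0)))) (.node (.node (.node (.leaf 0x201e) (.leaf 0x0)) (.node (.leaf 0x4002009) (.leaf 0))) (.node (.node (.leaf 0x100200300c) (.leaf 0)) (.node (.leaf 0x0) (.leaf 0))))) (.node (.node (.node (.node (.leaf 0x19) (.leaf 0x0)) (.node (.leaf 0x1000000020) (.leaf 0))) (.node (.node (.leaf 0x5) (.leaf 0)) (.node (.leaf 0x1004000026) (.leaf 0)))) (.node (.node (.node (.leaf 0x100000201c) (.leaf 0x1004004022)) (.node (.leaf 0x3003007) (.leaf 0))) (.node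 (.node (.leaf 0x1004000004) (.leaf 0)) (.node (.leaf 0x1000003008) (.leaf 0)))))) (.node (.node (.node (.node (.node (.leaf 0x0) (.leaf 0x2002024)) (.node (.leaf 0x1000003016) (.leaf 0))) (.node (.node (.leaf 0x0) (.leaf 0)) (.node (.leaf 0x1003000028) (.leaf 0)))) (.node (.node (.node (.leaf 0xb) (.leaf 0x1003003028)) (.node (.leaf 0x3004002) (.leaf 0))) (.node (.node (.leaf 0x4004006) (.leaf 0)) (.node (.leaf 0x0) (.leaf 0))))) (.node (.node (.node (.node (.leaf 0x19) (.leaf 0x1002000017)) (.node (.leaf 0x1003000023) (.leaf 0))) (.node (.node (.leaf 0x1002000012) (.leaf 0)) (.node (.leaf 0x0) (.leaf 0)))) (.node (.node (.node (.leaf 0x1005) (.leaf 0x4002008)) (.node (.leaf 0x1002003007) (.leaf 0))) (.node (.node (.leaf 0x1000001004) (.leaf 0)) (.node (.leaf 0x100000201c) (.leaf 0))))))) (.node (.node (.node (.node (.node (.node (.leaf 0x0) (.leaf 0x0)) (.node (.leaf 0x100400500f)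 (.leaf 0))) (.node (.node (.leaf 0x3004002) (.leaf 0)) (.node (.leaf 0x1003001022) (.leaf 0)))) (.node (.node (.node (.leaf 0x16) (.leaf 0x2002003)) (.node (.leaf 0x100200300b) (.leaf 0))) (.node (.node (.leaf 0x1000001009) (.leaf 0)) (.node (.leaf 0x1003000028) (.leaf 0))))) (.node (.node (.node (.node (.leaf 0x4) (.leaf 0x0)) (.node (.leaf 0x101e) (.leaf 0))) (.node (.node (.leaf 0x1e) (.leaf 0)) (.node (.leaf 0x1002000027) (.leaf 0)))) (.node (.node (.node (.leaf 0x1000005011) (.leaf 0x1003000023)) (.node (.leaf 0x0) (.leaf 0))) (.node (.node (.leaf 0x0) (.leaf 0)) (.node (.leaf 0x2004009) (.leaf 0)))))) (.node (.node (.node (.node (.node (.leaf 0x0) (.leaf 0x3001028)) (.node (.leaf 0x1005007) (.leaf 0))) (.node (.node (.leaf 0x4004029) (.leaf 0)) (.node (.leaf 0x0) (.leaf 0)))) (.node (.node (.node (.leaf 0x9) (.leaf 0x1004001017)) (.node (.leaf 0x0) (.leaf 0))) (.node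 (.node (.leaf 0x1000003029) (.leaf 0)) (.node (.leaf 0x1003003015) (.leaf 0))))) (.node (.node (.node (.node (.leaf 0x0) (.leaf 0x0)) (.node (.leaf 0x4003027) (.leaf 0))) (.node (.node (.leaf 0x0) (.leaf 0)) (.node (.leaf 0x100400500f) (.leaf 0)))) (.node (.node (.node (.leaf 0x100200201f) (.leaf 0)) (.node (.leaf 0x0) (.leaf 0))) (.node (.node (.leaf 0x4003019) (.leaf 0)) (.node (.leaf 0x5009) (.leaf 0))))))))

/-- part of the cover -/
def covC9 : Trie :=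
  (.node (.node (.node (.node (.node (.node (.node (.leaf 0x0) (.leaf 0x2001013)) (.node (.leaf 0x100200401c) (.leaf 0))) (.node (.node (.leaf 0x1001028) (.leaf 0)) (.node (.leaf 0x0) (.leaf 0)))) (.node (.node (.node (.leaf 0x1002027) (.leaf 0x100400400a)) (.node (.leaf 0x1000005009) (.leaf 0))) (.node (.node (.leaf 0x1005) (.leaf 0)) (.node (.leaf 0x2001015) (.leaf 0))))) (.node (.node (.node (.node (.leaf 0x29) (.leaf 0x1003004000)) (.node (.leaf 0x100000100f) (.leaf 0))) (.node (.node (.leaf 0x200300b) (.leaf 0)) (.node (.leaf 0xf) (.leaf 0)))) (.node (.node (.node (.leaf 0x5) (.leaf 0x1000000029)) (.node (.leaf 0x3026) (.leaf 0))) (.node (.node (.leaf 0x0) (.leaf 0)) (.node (.leaf 0x1001000020) (.leaf 0)))))) (.node (.node (.node (.node (.node (.leaf 0x0) (.leaf 0x1000000011)) (.node (.leaf 0x3004011) (.leaf 0))) (.node (.node (.leaf 0x0) (.leaf 0)) (.node (.leaf 0x100200201f)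 (.leaf 0)))) (.node (.node (.node (.leaf 0x14) (.leaf 0x100400501e)) (.node (.leaf 0x0) (.leaf 0))) (.node (.node (.leaf 0x1020) (.leaf 0)) (.node (.leaf 0x1000005009) (.leaf 0))))) (.node (.node (.node (.node (.leaf 0x1e) (.leaf 0x0)) (.node (.leaf 0x3005020) (.leaf 0))) (.node (.node (.leaf 0x100000201c) (.leaf 0)) (.node (.leaf 0x100301a) (.leaf 0)))) (.node (.node (.node (.leaf 0x2003019) (.leaf 0x1000001007)) (.node (.leaf 0x0) (.leaf 0))) (.node (.node (.leaf 0x0) (.leaf 0)) (.node (.leaf 0x1001004004) (.leaf 0))))))) (.node (.node (.node (.node (.node (.node (.leaf 0x0) (.leaf 0x3000017)) (.node (.leaf 0x1000004024) (.leaf 0))) (.node (.node (.leaf 0x300401e) (.leaf 0)) (.node (.leaf 0x100200300a) (.leaf 0)))) (.node (.node (.node (.leaf 0x100301b) (.leaf 0x2003000)) (.node (.leaf 0x1004001004) (.leaf 0))) (.node (.node (.leaf 0x15) (.leaf 0)) (.node (.leaf 0x200100b)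 (.leaf 0))))) (.node (.node (.node (.node (.leaf 0x5) (.leaf 0x0)) (.node (.leaf 0x200b) (.leaf 0))) (.node (.node (.leaf 0x9) (.leaf 0)) (.node (.leaf 0x0) (.leaf 0)))) (.node (.node (.node (.leaf 0x1019) (.leaf 0x2004017)) (.node (.leaf 0x4005011) (.leaf 0))) (.node (.node (.leaf 0x1017) (.leaf 0)) (.node (.leaf 0x0) (.leaf 0)))))) (.node (.node (.node (.node (.node (.leaf 0x0) (.leaf 0x100200100e)) (.node (.leaf 0x100200300a) (.leaf 0))) (.node (.node (.leaf 0x1002003016) (.leaf 0)) (.node (.leaf 0x200b) (.leaf 0)))) (.node (.node (.node (.leaf 0xb) (.leaf 0x0)) (.node (.leaf 0x2000023) (.leaf 0))) (.node (.node (.leaf 0x1000002009) (.leaf 0)) (.node (.leaf 0x1003027) (.leaf 0))))) (.node (.node (.node (.node (.leaf 0x4005012) (.leaf 0x0)) (.node (.leaf 0x3024) (.leaf 0))) (.node (.node (.leaf 0x100d) (.leaf 0)) (.node (.leaf 0x100000500e) (.leaf 0)))) (.node (.node (.node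 (.leaf 0x1004) (.leaf 0)) (.node (.leaf 0x5009) (.leaf 0))) (.node (.node (.leaf 0x1f) (.leaf 0)) (.node (.leaf 0x1019) (.leaf 0))))))))

/-- part of the cover -/
def covC41 : Trie :=
  (.node (.node (.node (.node (.node (.node (.node (.leaf 0x0) (.leaf 0x3003023)) (.node (.leaf 0x1001003004) (.leaf 0))) (.node (.node (.leaf 0x1001005010) (.leaf 0)) (.node (.leaf 0x100000500f) (.leaf 0)))) (.node (.node (.node (.leaf 0x100200200c) (.leaf 0x1004001017)) (.node (.leaf 0x0) (.leaf 0))) (.node (.node (.leaf 0x5) (.leaf 0)) (.node (.leaf 0x2016) (.leaf 0))))) (.node (.node (.node (.node (.leaf 0x0) (.leaf 0x1000004018)) (.node (.leaf 0x1018) (.leaf 0))) (.node (.node (.leaf 0x0) (.leaf 0)) (.node (.leaf 0x1004000026) (.leaf 0)))) (.node (.node (.node (.leaf 0x1004000012) (.leaf 0x300101b)) (.node (.leaf 0x4005012) (.leaf 0))) (.node (.node (.leaf 0x300301f) (.leaf 0)) (.node (.leaf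 0x1026) (.leaf 0)))))) (.node (.node (.node (.node (.node (.leaf 0x0) (.leaf 0x200a)) (.node (.leaf 0x400001b) (.leaf 0))) (.node (.node (.leaf 0x1001002018) (.leaf 0)) (.node (.leaf 0x1002003004) (.leaf 0)))) (.node (.node (.node (.leaf 0xd) (.leaf 0x0)) (.node (.leaf 0x100000500e) (.leaf 0))) (.node (.node (.leaf 0x0) (.leaf 0)) (.node (.leaf 0x0) (.leaf 0))))) (.node (.node (.node (.node (.leaf 0x16) (.leaf 0x100400201f)) (.node (.leaf 0x1006) (.leaf 0))) (.node (.node (.leaf 0x1000001000) (.leaf 0)) (.node (.leaf 0x1001003023) (.leaf 0)))) (.node (.node (.node (.leaf 0x100400501c) (.leaf 0x4002003)) (.node (.leaf 0x0) (.leaf 0))) (.node (.node (.leaf 0x0) (.leaf 0)) (.node (.leaf 0x1002002009) (.leaf 0))))))) (.node (.node (.node (.node (.node (.node (.leaf 0x0) (.leaf 0x0)) (.node (.leaf 0x2000029) (.leaf 0))) (.node (.node (.leaf 0x100000500e) (.leaf 0)) (.node (.leaf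 0x1000000000) (.leaf 0)))) (.node (.node (.node (.leaf 0x0) (.leaf 0x1001005002)) (.node (.leaf 0x100100500b) (.leaf 0))) (.node (.node (.leaf 0x4004004) (.leaf 0)) (.node (.leaf 0x4002029) (.leaf 0))))) (.node (.node (.node (.node (.leaf 0x2) (.leaf 0x0)) (.node (.leaf 0x1002000010) (.leaf 0))) (.node (.node (.leaf 0xc) (.leaf 0)) (.node (.leaf 0x1003002029) (.leaf 0)))) (.node (.node (.node (.leaf 0x200b) (.leaf 0x100400500f)) (.node (.leaf 0x0) (.leaf 0))) (.node (.node (.leaf 0x501e) (.leaf 0)) (.node (.leaf 0x400301c) (.leaf 0)))))) (.node (.node (.node (.node (.node (.leaf 0x0) (.leaf 0x1000011)) (.node (.leaf 0x100100100d) (.leaf 0))) (.node (.node (.leaf 0x4005012) (.leaf 0)) (.node (.leaf 0x0) (.leaf 0)))) (.node (.node (.node (.leaf 0x5) (.leaf 0x1003000005)) (.node (.leaf 0x13) (.leaf 0))) (.node (.node (.leaf 0x1004000000) (.leaf 0)) (.node (.leaf 0x1000000023)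 (.leaf 0))))) (.node (.node (.node (.node (.leaf 0x200300b) (.leaf 0x0)) (.node (.leaf 0x1025) (.leaf 0))) (.node (.node (.leaf 0xb) (.leaf 0)) (.node (.leaf 0x1000001000) (.leaf 0)))) (.node (.node (.node (.leaf 0x0) (.leaf 0)) (.node (.leaf 0x0) (.leaf 0))) (.node (.node (.leaf 0x1000003016) (.leaf 0)) (.node (.leaf 0x2002024) (.leaf 0))))))))

/-- part of the cover -/
def covC25 : Trie :=
  (.node (.node (.node (.node (.node (.node (.node (.leaf 0x0) (.leaf 0x1003002009)) (.node (.leaf 0x200401c) (.leaf 0))) (.node (.node (.leaf 0x1003000028) (.leaf 0)) (.node (.leaf 0x4004014) (.leaf 0)))) (.node (.node (.node (.leaf 0x4001028) (.leaf 0x1003003019)) (.node (.leaf 0x2000007) (.leaf 0))) (.node (.node (.leaf 0x14) (.leaf 0)) (.node (.leaf 0x0) (.leaf 0))))) (.node (.node (.node (.node (.leaf 0xd) (.leaf 0x100400200d)) (.node (.leaf 0x100200301c) (.leaf 0))) (.node (.node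 (.leaf 0x19) (.leaf 0)) (.node (.leaf 0x0) (.leaf 0)))) (.node (.node (.node (.leaf 0x1e) (.leaf 0x1000002015)) (.node (.leaf 0x2004) (.leaf 0))) (.node (.node (.leaf 0x4003019) (.leaf 0)) (.node (.leaf 0x0) (.leaf 0)))))) (.node (.node (.node (.node (.node (.leaf 0x0) (.leaf 0x1004005007)) (.node (.leaf 0x0) (.leaf 0))) (.node (.node (.leaf 0x1000000010) (.leaf 0)) (.node (.leaf 0x4001000) (.leaf 0)))) (.node (.node (.node (.leaf 0x29) (.leaf 0x0)) (.node (.leaf 0x1000002009) (.leaf 0))) (.node (.node (.leaf 0x200300b) (.leaf 0)) (.node (.leaf 0x3005013) (.leaf 0))))) (.node (.node (.node (.node (.leaf 0x15) (.leaf 0x0)) (.node (.leaf 0x100c) (.leaf 0))) (.node (.node (.leaf 0xd) (.leaf 0)) (.node (.leaf 0x300001c) (.leaf 0)))) (.node (.node (.node (.leaf 0x0) (.leaf 0x100200300c)) (.node (.leaf 0x0) (.leaf 0))) (.node (.node (.leaf 0x100300301e) (.leaf 0)) (.node (.leaf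 0x4004029) (.leaf 0))))))) (.node (.node (.node (.node (.node (.node (.leaf 0x0) (.leaf 0x1003014)) (.node (.leaf 0x100e) (.leaf 0))) (.node (.node (.leaf 0x1000002009) (.leaf 0)) (.node (.leaf 0x100300301c) (.leaf 0)))) (.node (.node (.node (.leaf 0x0) (.leaf 0x0)) (.node (.leaf 0x0) (.leaf 0))) (.node (.node (.leaf 0x1002003016) (.leaf 0)) (.node (.leaf 0x1002003003) (.leaf 0))))) (.node (.node (.node (.node (.leaf 0x5) (.leaf 0x1003000004)) (.node (.leaf 0x13) (.leaf 0))) (.node (.node (.leaf 0x4) (.leaf 0)) (.node (.leaf 0x3004023) (.leaf 0)))) (.node (.node (.node (.leaf 0x100200200d) (.leaf 0x0)) (.node (.leaf 0x0) (.leaf 0))) (.node (.node (.leaf 0x200001b) (.leaf 0)) (.node (.leaf 0x300401c) (.leaf 0)))))) (.node (.node (.node (.node (.node (.leaf 0x0) (.leaf 0x0)) (.node (.leaf 0x1001025) (.leaf 0))) (.node (.node (.leaf 0x4004004) (.leaf 0)) (.node (.leaf 0x100000101f)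 (.leaf 0)))) (.node (.node (.node (.leaf 0x5) (.leaf 0x0)) (.node (.leaf 0x3003023) (.leaf 0))) (.node (.node (.leaf 0x0) (.leaf 0)) (.node (.leaf 0x0) (.leaf 0))))) (.node (.node (.node (.node (.leaf 0x1020) (.leaf 0x0)) (.node (.leaf 0x1001003016) (.leaf 0))) (.node (.node (.leaf 0x200400b) (.leaf 0)) (.node (.leaf 0x1003000028) (.leaf 0)))) (.node (.node (.node (.leaf 0x100200300c) (.leaf 0)) (.node (.leaf 0x2003026) (.leaf 0))) (.node (.node (.leaf 0x1001000015) (.leaf 0)) (.node (.leaf 0x100200501a) (.leaf 0))))))))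

/-- part of the cover -/
def covC57 : Trie :=
  (.node (.node (.node (.node (.node (.node (.node (.leaf 0x0) (.leaf 0x0)) (.node (.leaf 0x1002003008) (.leaf 0))) (.node (.node (.leaf 0x1001000029) (.leaf 0)) (.node (.leaf 0x5021) (.leaf 0)))) (.node (.node (.node (.leaf 0x1020) (.leaf 0x100400000d)) (.node (.leaf 0x1000001000) (.leaf 0))) (.node (.node (.leaf 0x100200501e) (.leaf 0)) (.node (.leaf 0x1019) (.leaf 0))))) (.node (.node (.node (.node (.leaf 0xb) (.leaf 0x0)) (.node (.leaf 0x2002005) (.leaf 0))) (.node (.node (.leaf 0x1c) (.leaf 0)) (.node (.leaf 0x3005017) (.leaf 0)))) (.node (.node (.node (.leaf 0x400101c) (.leaf 0x0)) (.node (.leaf 0x1001004020) (.leaf 0))) (.node (.node (.leaf 0x1003000028) (.leaf 0)) (.node (.leaf 0x0) (.leaf 0)))))) (.node (.node (.node (.node (.node (.leaf 0x0) (.leaf 0x300400a)) (.node (.leaf 0x4003019) (.leaf 0))) (.node (.node (.leaf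 0x15) (.leaf 0)) (.node (.leaf 0x100200200d) (.leaf 0)))) (.node (.node (.node (.leaf 0x0) (.leaf 0x1004004015)) (.node (.leaf 0x1003000028) (.leaf 0))) (.node (.node (.leaf 0x3001018) (.leaf 0)) (.node (.leaf 0x0) (.leaf 0))))) (.node (.node (.node (.node (.leaf 0x4) (.leaf 0x100200201d)) (.node (.leaf 0x3003008) (.leaf 0))) (.node (.node (.leaf 0x4002029) (.leaf 0)) (.node (.leaf 0x1000002009) (.leaf 0)))) (.node (.node (.node (.leaf 0x4004009) (.leaf 0x1000000001)) (.node (.leaf 0x0) (.leaf 0))) (.node (.node (.leaf 0x5) (.leaf 0)) (.node (.leaf 0x1000003007) (.leaf 0))))))) (.node (.node (.node (.node (.node (.node (.leaf 0x0) (.leaf 0xd)) (.node (.leaf 0x100400501c) (.leaf 0))) (.node (.node (.leaf 0x1003000028) (.leaf 0)) (.node (.leaf 0x201c) (.leaf 0)))) (.node (.node (.node (.leaf 0x19) (.leaf 0x100100000b)) (.node (.leaf 0x1004005015) (.leaf 0))) (.node (.node (.leaf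 0x4005012) (.leaf 0)) (.node (.leaf 0x0) (.leaf 0))))) (.node (.node (.node (.node (.leaf 0x5) (.leaf 0x0)) (.node (.leaf 0x3003016) (.leaf 0))) (.node (.node (.leaf 0x1000001010) (.leaf 0)) (.node (.leaf 0x1003000028) (.leaf 0)))) (.node (.node (.node (.leaf 0x100000101f) (.leaf 0x4004016)) (.node (.leaf 0x1004003009) (.leaf 0))) (.node (.node (.leaf 0x400500f) (.leaf 0)) (.node (.leaf 0x1002003026) (.leaf 0)))))) (.node (.node (.node (.node (.node (.leaf 0x0) (.leaf 0x100100501e)) (.node (.leaf 0x100300500c) (.leaf 0))) (.node (.node (.leaf 0x1020) (.leaf 0)) (.node (.leaf 0x0) (.leaf 0)))) (.node (.node (.node (.leaf 0x2) (.leaf 0x0)) (.node (.leaf 0x0) (.leaf 0))) (.node (.node (.leaf 0x4001005) (.leaf 0)) (.node (.leaf 0x1000) (.leaf 0))))) (.node (.node (.node (.node (.leaf 0x3003007) (.leaf 0x0)) (.node (.leaf 0x0) (.leaf 0))) (.node (.node (.leaf 0x1005) (.leaf 0))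 (.node (.leaf 0x1000005009) (.leaf 0)))) (.node (.node (.node (.leaf 0x1000012) (.leaf 0)) (.node (.leaf 0x1003000019) (.leaf 0))) (.node (.node (.leaf 0x100b) (.leaf 0)) (.node (.leaf 0x100100500b) (.leaf 0))))))))

/-- part of the cover -/
def covC5 : Trie :=
  (.node (.node (.node (.node (.node (.node (.node (.leaf 0x0) (.leaf 0x0)) (.node (.leaf 0x0) (.leaf 0))) (.node (.node (.leaf 0x2001004) (.leaf 0)) (.node (.leaf 0x2004009) (.leaf 0)))) (.node (.node (.node (.leaf 0x100300301f) (.leaf 0x0)) (.node (.leaf 0x1000003029) (.leaf 0))) (.node (.node (.leaf 0x4004004) (.leaf 0)) (.node (.leaf 0x1000005011) (.leaf 0))))) (.node (.node (.node (.node (.leaf 0x2) (.leaf 0x200100b)) (.node (.leaf 0x1000001010) (.leaf 0))) (.node (.node (.leaf 0x100200300c) (.leaf 0)) (.node (.leaf 0x0) (.leaf 0)))) (.node (.node (.node (.leaf 0x20) (.leaf 0x0)) (.node (.leaf 0x300401e) (.leaf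 0))) (.node (.node (.leaf 0x100000501e) (.leaf 0)) (.node (.leaf 0x2028) (.leaf 0)))))) (.node (.node (.node (.node (.node (.leaf 0x0) (.leaf 0x1007)) (.node (.leaf 0x100d) (.leaf 0))) (.node (.node (.leaf 0x1001000) (.leaf 0)) (.node (.leaf 0x0) (.leaf 0)))) (.node (.node (.node (.leaf 0x5) (.leaf 0x1003000014)) (.node (.leaf 0x4004029) (.leaf 0))) (.node (.node (.leaf 0x1004) (.leaf 0)) (.node (.leaf 0x3004023) (.leaf 0))))) (.node (.node (.node (.node (.leaf 0xb) (.leaf 0x1000002022)) (.node (.leaf 0x8) (.leaf 0))) (.node (.node (.leaf 0x100b) (.leaf 0)) (.node (.leaf 0x301d) (.leaf 0)))) (.node (.node (.node (.leaf 0x0) (.leaf 0x100200100e)) (.node (.leaf 0x0) (.leaf 0))) (.node (.node (.leaf 0x300201a) (.leaf 0)) (.node (.leaf 0x3001006) (.leaf 0))))))) (.node (.node (.node (.node (.node (.node (.leaf 0x0) (.leaf 0x0)) (.node (.leaf 0x1002003020) (.leaf 0))) (.node (.node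 (.leaf 0x201c) (.leaf 0)) (.node (.leaf 0x1019) (.leaf 0)))) (.node (.node (.node (.leaf 0x1003000023) (.leaf 0x0)) (.node (.leaf 0x1001005028) (.leaf 0))) (.node (.node (.leaf 0x2003019) (.leaf 0)) (.node (.leaf 0x2009) (.leaf 0))))) (.node (.node (.node (.node (.leaf 0x16) (.leaf 0x0)) (.node (.leaf 0x4004019) (.leaf 0))) (.node (.node (.leaf 0x14) (.leaf 0)) (.node (.leaf 0x1000005009) (.leaf 0)))) (.node (.node (.node (.leaf 0x1000000009) (.leaf 0x3001015)) (.node (.leaf 0x100300000c) (.leaf 0))) (.node (.node (.leaf 0x100100301f) (.leaf 0)) (.node (.leaf 0x0) (.leaf 0)))))) (.node (.node (.node (.node (.node (.leaf 0x0) (.leaf 0x1000004018)) (.node (.leaf 0x1005) (.leaf 0))) (.node (.node (.leaf 0x0) (.leaf 0)) (.node (.leaf 0x3002000) (.leaf 0)))) (.node (.node (.node (.leaf 0x15) (.leaf 0x0)) (.node (.leaf 0x0) (.leaf 0))) (.node (.node (.leaf 0x1003001025) (.leaf 0))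 (.node (.leaf 0x0) (.leaf 0))))) (.node (.node (.node (.node (.leaf 0x4004009) (.leaf 0x0)) (.node (.leaf 0x0) (.leaf 0))) (.node (.node (.leaf 0x1000000000) (.leaf 0)) (.node (.leaf 0x1002028) (.leaf 0)))) (.node (.node (.node (.leaf 0x4004029) (.leaf 0)) (.node (.leaf 0x100100000b) (.leaf 0))) (.node (.node (.leaf 0x100200300b) (.leaf 0)) (.node (.leaf 0x1003003009) (.leaf 0))))))))

/-- part of the cover -/
def covC37 : Trie :=
  (.node (.node (.node (.node (.node (.node (.node (.leaf 0x0) (.leaf 0x1000000011)) (.node (.leaf 0x1002005012) (.leaf 0))) (.node (.node (.leaf 0x100300301c) (.leaf 0)) (.node (.leaf 0x1004000012) (.leaf 0)))) (.node (.node (.node (.leaf 0xf) (.leaf 0x4004006)) (.node (.leaf 0x3004021) (.leaf 0))) (.node (.node (.leaf 0x1020) (.leaf 0)) (.node (.leaf 0x0) (.leaf 0))))) (.node (.node (.node (.node (.leaf 0x1e) (.leaf 0x4002029)) (.node (.leaf 0x10)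 (.leaf 0))) (.node (.node (.leaf 0x0) (.leaf 0)) (.node (.leaf 0x100400000a) (.leaf 0)))) (.node (.node (.node (.leaf 0x0) (.leaf 0x0)) (.node (.leaf 0x0) (.leaf 0))) (.node (.node (.leaf 0x3005017) (.leaf 0)) (.node (.leaf 0x0) (.leaf 0)))))) (.node (.node (.node (.node (.node (.leaf 0x0) (.leaf 0x1003000016)) (.node (.leaf 0x100100000b) (.leaf 0))) (.node (.node (.leaf 0x2001011) (.leaf 0)) (.node (.leaf 0x201c) (.leaf 0)))) (.node (.node (.node (.leaf 0x5) (.leaf 0x1002000017)) (.node (.leaf 0x1002028) (.leaf 0))) (.node (.node (.leaf 0x0) (.leaf 0)) (.node (.leaf 0x1003000028) (.leaf 0))))) (.node (.node (.node (.node (.leaf 0x0) (.leaf 0x0)) (.node (.leaf 0x1020) (.leaf 0))) (.node (.node (.leaf 0x29) (.leaf 0)) (.node (.leaf 0x100000501e) (.leaf 0)))) (.node (.node (.node (.leaf 0x2003019) (.leaf 0x1002002013)) (.node (.leaf 0x3002029) (.leaf 0))) (.node (.node (.leaf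 0x1004005012) (.leaf 0)) (.node (.leaf 0x0) (.leaf 0))))))) (.node (.node (.node (.node (.node (.node (.leaf 0x0) (.leaf 0x200401d)) (.node (.leaf 0x1001002023) (.leaf 0))) (.node (.node (.leaf 0x1002028) (.leaf 0)) (.node (.leaf 0x1003002020) (.leaf 0)))) (.node (.node (.node (.leaf 0xb) (.leaf 0x0)) (.node (.leaf 0x100400400b) (.leaf 0))) (.node (.node (.leaf 0x100400501c) (.leaf 0)) (.node (.leaf 0x200c) (.leaf 0))))) (.node (.node (.node (.node (.leaf 0x12) (.leaf 0x0)) (.node (.leaf 0x1000004018) (.leaf 0))) (.node (.node (.leaf 0xd) (.leaf 0)) (.node (.leaf 0x4004029) (.leaf 0)))) (.node (.node (.node (.leaf 0x3002000) (.leaf 0x200a)) (.node (.leaf 0x100400501c) (.leaf 0))) (.node (.node (.leaf 0x201c) (.leaf 0)) (.node (.leaf 0x0) (.leaf 0)))))) (.node (.node (.node (.node (.node (.leaf 0x0) (.leaf 0x2016)) (.node (.leaf 0x26) (.leaf 0))) (.node (.node (.leaf 0x4004009)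 (.leaf 0)) (.node (.leaf 0x0) (.leaf 0)))) (.node (.node (.node (.leaf 0x4) (.leaf 0x100001c)) (.node (.leaf 0x1002003013) (.leaf 0))) (.node (.node (.leaf 0x1017) (.leaf 0)) (.node (.leaf 0x3005021) (.leaf 0))))) (.node (.node (.node (.node (.leaf 0x100200300c) (.leaf 0x0)) (.node (.leaf 0x1005026) (.leaf 0))) (.node (.node (.leaf 0x15) (.leaf 0)) (.node (.leaf 0x0) (.leaf 0)))) (.node (.node (.node (.leaf 0x0) (.leaf 0)) (.node (.leaf 0x400500f) (.leaf 0))) (.node (.node (.leaf 0x1000001005) (.leaf 0)) (.node (.leaf 0x2003026) (.leaf 0))))))))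

/-- part of the cover -/
def covC21 : Trie :=
  (.node (.node (.node (.node (.node (.node (.node (.leaf 0x0) (.leaf 0xd)) (.node (.leaf 0x0) (.leaf 0))) (.node (.node (.leaf 0x2003007) (.leaf 0)) (.node (.leaf 0x1003002010) (.leaf 0)))) (.node (.node (.node (.leaf 0x3003007) (.leaf 0x1000005008)) (.node (.leaf 0x0) (.leaf 0))) (.node (.node (.leaf 0x4005012) (.leaf 0)) (.node (.leaf 0x0) (.leaf 0))))) (.node (.node (.node (.node (.leaf 0x5) (.leaf 0x1002003003)) (.node (.leaf 0x1002001011) (.leaf 0))) (.node (.node (.leaf 0x0) (.leaf 0)) (.node (.leaf 0x0) (.leaf 0)))) (.node (.node (.node (.leaf 0xb) (.leaf 0x0)) (.node (.leaf 0x100200301c) (.leaf 0))) (.node (.node (.leaf 0x0) (.leaf 0)) (.node (.leaf 0x0) (.leaf 0)))))) (.node (.node (.node (.node (.node (.leaf 0x0) (.leaf 0x1003000028)) (.node (.leaf 0x3001019) (.leaf 0))) (.node (.node (.leaf 0x100300000b) (.leaf 0))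 (.node (.leaf 0x300401e) (.leaf 0)))) (.node (.node (.node (.leaf 0x2) (.leaf 0x0)) (.node (.leaf 0x0) (.leaf 0))) (.node (.node (.leaf 0x100200300c) (.leaf 0)) (.node (.leaf 0x1003002029) (.leaf 0))))) (.node (.node (.node (.node (.leaf 0x19) (.leaf 0x0)) (.node (.leaf 0x100200200c) (.leaf 0))) (.node (.node (.leaf 0x1000000000) (.leaf 0)) (.node (.leaf 0x1000005009) (.leaf 0)))) (.node (.node (.node (.leaf 0x1000) (.leaf 0x100300301a)) (.node (.leaf 0x0) (.leaf 0))) (.node (.node (.leaf 0x1003003019) (.leaf 0)) (.node (.leaf 0x5006) (.leaf 0))))))) (.node (.node (.node (.node (.node (.node (.leaf 0x0) (.leaf 0x1004005022)) (.node (.leaf 0x1002003004) (.leaf 0))) (.node (.node (.leaf 0x0) (.leaf 0)) (.node (.leaf 0x200200f) (.leaf 0)))) (.node (.node (.node (.leaf 0x3003008) (.leaf 0x1001002005)) (.node (.leaf 0x100400501e) (.leaf 0))) (.node (.node (.leaf 0x0) (.leaf 0))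 (.node (.leaf 0x1002002019) (.leaf 0))))) (.node (.node (.node (.node (.leaf 0x4) (.leaf 0x300200a)) (.node (.leaf 0x100300401a) (.leaf 0))) (.node (.node (.leaf 0x29) (.leaf 0)) (.node (.leaf 0x1000000020) (.leaf 0)))) (.node (.node (.node (.leaf 0x0) (.leaf 0x1003000018)) (.node (.leaf 0x0) (.leaf 0))) (.node (.node (.leaf 0x1000005009) (.leaf 0)) (.node (.leaf 0x100300200d) (.leaf 0)))))) (.node (.node (.node (.node (.node (.leaf 0x0) (.leaf 0x0)) (.node (.leaf 0x0) (.leaf 0))) (.node (.node (.leaf 0x100400501c) (.leaf 0)) (.node (.leaf 0x4001005) (.leaf 0)))) (.node (.node (.node (.leaf 0x16) (.leaf 0x0)) (.node (.leaf 0x1004005020) (.leaf 0))) (.node (.node (.leaf 0x1003000028) (.leaf 0)) (.node (.leaf 0x0) (.leaf 0))))) (.node (.node (.node (.node (.leaf 0x1004) (.leaf 0x0)) (.node (.leaf 0x3004021) (.leaf 0))) (.node (.node (.leaf 0x200300d) (.leaf 0)) (.node (.leaf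 0x1001002005) (.leaf 0)))) (.node (.node (.node (.leaf 0x100d) (.leaf 0)) (.node (.leaf 0x0) (.leaf 0))) (.node (.node (.leaf 0x4003019) (.leaf 0)) (.node (.leaf 0x0) (.leaf 0))))))))

/-- part of the cover -/
def covC53 : Trie :=
  (.node (.node (.node (.node (.node (.node (.node (.leaf 0x0) (.leaf 0x1004005007)) (.node (.leaf 0x0) (.leaf 0))) (.node (.node (.leaf 0x1000000000) (.leaf 0)) (.node (.leaf 0x400101c) (.leaf 0)))) (.node (.node (.node (.leaf 0x101f) (.leaf 0x1003003023)) (.node (.leaf 0x100400000b) (.leaf 0))) (.node (.node (.leaf 0x200300b) (.leaf 0)) (.node (.leaf 0xf) (.leaf 0))))) (.node (.node (.node (.node (.leaf 0x15) (.leaf 0x4005011)) (.node (.leaf 0x1000000006) (.leaf 0))) (.node (.node (.leaf 0x19) (.leaf 0)) (.node (.leaf 0x3004029) (.leaf 0)))) (.node (.node (.node (.leaf 0x1002002018) (.leaf 0x2002004)) (.node (.leaf 0xa) (.leaf 0))) (.node (.node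 (.leaf 0x100200100e) (.leaf 0)) (.node (.leaf 0x1004028) (.leaf 0)))))) (.node (.node (.node (.node (.node (.leaf 0x0) (.leaf 0x1003000023)) (.node (.leaf 0x2001018) (.leaf 0))) (.node (.node (.leaf 0x2003019) (.leaf 0)) (.node (.leaf 0x0) (.leaf 0)))) (.node (.node (.node (.leaf 0x1e) (.leaf 0x1002001000)) (.node (.leaf 0x1001002005) (.leaf 0))) (.node (.node (.leaf 0x1001001) (.leaf 0)) (.node (.leaf 0x100301a) (.leaf 0))))) (.node (.node (.node (.node (.leaf 0x1c) (.leaf 0x0)) (.node (.leaf 0x100301b) (.leaf 0))) (.node (.node (.leaf 0x1000002026) (.leaf 0)) (.node (.leaf 0x0) (.leaf 0)))) (.node (.node (.node (.leaf 0x1000001009) (.leaf 0x1000001005)) (.node (.leaf 0x1003000024) (.leaf 0))) (.node (.node (.leaf 0x1001020) (.leaf 0)) (.node (.leaf 0x100000401f) (.leaf 0))))))) (.node (.node (.node (.node (.node (.node (.leaf 0x0) (.leaf 0x1000000020)) (.node (.leaf 0x1000000001)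 (.leaf 0))) (.node (.node (.leaf 0x1001002005) (.leaf 0)) (.node (.leaf 0x1002001013) (.leaf 0)))) (.node (.node (.node (.leaf 0x5) (.leaf 0x0)) (.node (.leaf 0x1000003029) (.leaf 0))) (.node (.node (.leaf 0x4004009) (.leaf 0)) (.node (.leaf 0x0) (.leaf 0))))) (.node (.node (.node (.node (.leaf 0x20) (.leaf 0x0)) (.node (.leaf 0x1002003016) (.leaf 0))) (.node (.node (.leaf 0x0) (.leaf 0)) (.node (.leaf 0x1003000028) (.leaf 0)))) (.node (.node (.node (.leaf 0x4001005) (.leaf 0x300400a)) (.node (.leaf 0x1002005003) (.leaf 0))) (.node (.node (.leaf 0x0) (.leaf 0)) (.node (.leaf 0x0) (.leaf 0)))))) (.node (.node (.node (.node (.node (.leaf 0x0) (.leaf 0x300401b)) (.node (.leaf 0x100200501e) (.leaf 0))) (.node (.node (.leaf 0x1004) (.leaf 0)) (.node (.leaf 0x0) (.leaf 0)))) (.node (.node (.node (.leaf 0x12) (.leaf 0x0)) (.node (.leaf 0x0) (.leaf 0))) (.node (.node (.leaf 0x1000005011)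 (.leaf 0)) (.node (.leaf 0x4021) (.leaf 0))))) (.node (.node (.node (.node (.leaf 0x0) (.leaf 0x400c)) (.node (.leaf 0x200401b) (.leaf 0))) (.node (.node (.leaf 0x1002003016) (.leaf 0)) (.node (.leaf 0x1001001020) (.leaf 0)))) (.node (.node (.node (.leaf 0x1002001013) (.leaf 0)) (.node (.leaf 0x0) (.leaf 0))) (.node (.node (.leaf 0x100300501c) (.leaf 0)) (.node (.leaf 0x4004013) (.leaf 0))))))))

/-- part of the cover -/
def covC13 : Trie :=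
  (.node (.node (.node (.node (.node (.node (.node (.leaf 0x0) (.leaf 0x0)) (.node (.leaf 0x0) (.leaf 0))) (.node (.node (.leaf 0x201c) (.leaf 0)) (.node (.leaf 0x0) (.leaf 0)))) (.node (.node (.node (.leaf 0x3003007) (.leaf 0x0)) (.node (.leaf 0x1000000003) (.leaf 0))) (.node (.node (.leaf 0x1000001009) (.leaf 0)) (.node (.leaf 0x4002008) (.leaf 0))))) (.node (.node (.node (.node (.leaf 0x4) (.leaf 0x3003000)) (.node (.leaf 0x1002005015) (.leaf 0))) (.node (.node (.leaf 0x100200501e) (.leaf 0)) (.node (.leaf 0x1019) (.leaf 0)))) (.node (.node (.node (.leaf 0xd) (.leaf 0x0)) (.node (.leaf 0x100300500a) (.leaf 0))) (.node (.node (.leaf 0x0) (.leaf 0)) (.node (.leaf 0x0) (.leaf 0)))))) (.node (.node (.node (.node (.node (.leaf 0x0) (.leaf 0x3003023)) (.node (.leaf 0x1003003004) (.leaf 0))) (.node (.node (.leaf 0x0) (.leaf 0)) (.node (.leaf 0x1002001013) (.leaf 0)))) (.node (.node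 (.node (.leaf 0x9) (.leaf 0x3004013)) (.node (.leaf 0x0) (.leaf 0))) (.node (.node (.leaf 0x5) (.leaf 0)) (.node (.leaf 0x1001003018) (.leaf 0))))) (.node (.node (.node (.node (.leaf 0x0) (.leaf 0x1005002)) (.node (.leaf 0x1000002005) (.leaf 0))) (.node (.node (.leaf 0x1002002018) (.leaf 0)) (.node (.leaf 0x1002002019) (.leaf 0)))) (.node (.node (.node (.leaf 0x15) (.leaf 0x0)) (.node (.leaf 0x0) (.leaf 0))) (.node (.node (.leaf 0x1003005023) (.leaf 0)) (.node (.leaf 0x3003007) (.leaf 0))))))) (.node (.node (.node (.node (.node (.node (.leaf 0x0) (.leaf 0x1005020)) (.node (.leaf 0x1003028) (.leaf 0))) (.node (.node (.leaf 0x0) (.leaf 0)) (.node (.leaf 0x1003000028) (.leaf 0)))) (.node (.node (.node (.leaf 0x3003008) (.leaf 0x0)) (.node (.leaf 0x1001000002) (.leaf 0))) (.node (.node (.leaf 0xb) (.leaf 0)) (.node (.leaf 0x1003004000) (.leaf 0))))) (.node (.node (.node (.node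 (.leaf 0x19) (.leaf 0x0)) (.node (.leaf 0x3005016) (.leaf 0))) (.node (.node (.leaf 0x12) (.leaf 0)) (.node (.leaf 0x0) (.leaf 0)))) (.node (.node (.node (.leaf 0x100200300a) (.leaf 0x200301a)) (.node (.leaf 0x3001005) (.leaf 0))) (.node (.node (.leaf 0x1002002019) (.leaf 0)) (.node (.leaf 0x1005028) (.leaf 0)))))) (.node (.node (.node (.node (.node (.leaf 0x0) (.leaf 0x0)) (.node (.leaf 0x2003026) (.leaf 0))) (.node (.node (.leaf 0x1005) (.leaf 0)) (.node (.leaf 0x1000000000) (.leaf 0)))) (.node (.node (.node (.leaf 0x0) (.leaf 0x0)) (.node (.leaf 0x100100501b) (.leaf 0))) (.node (.node (.leaf 0x1002000019) (.leaf 0)) (.node (.leaf 0x100500b) (.leaf 0))))) (.node (.node (.node (.node (.leaf 0x14) (.leaf 0x0)) (.node (.leaf 0x0) (.leaf 0))) (.node (.node (.leaf 0x200500c) (.leaf 0)) (.node (.leaf 0x1005026) (.leaf 0)))) (.node (.node (.node (.leaf 0x1020) (.leaf 0)) (.node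 (.leaf 0x0) (.leaf 0))) (.node (.node (.leaf 0x0) (.leaf 0)) (.node (.leaf 0x100300301e) (.leaf 0))))))))

/-- part of the cover -/
def covC45 : Trie :=
  (.node (.node (.node (.node (.node (.node (.node (.leaf 0x0) (.leaf 0x1002000019)) (.node (.leaf 0x1000001011) (.leaf 0))) (.node (.node (.leaf 0x100400001a) (.leaf 0)) (.node (.leaf 0x100000201c) (.leaf 0)))) (.node (.node (.node (.leaf 0x100c) (.leaf 0x0)) (.node (.leaf 0x0) (.leaf 0))) (.node (.node (.leaf 0x100d) (.leaf 0)) (.node (.leaf 0x1002000029) (.leaf 0))))) (.node (.node (.node (.node (.leaf 0x0) (.leaf 0x1003000028)) (.node (.leaf 0x2005015) (.leaf 0))) (.node (.node (.leaf 0x16) (.leaf 0)) (.node (.leaf 0x100400000b) (.leaf 0)))) (.node (.node (.node (.leaf 0x100000500f) (.leaf 0x0)) (.node (.leaf 0x1005) (.leaf 0))) (.node (.node (.leaf 0x100400001c) (.leaf 0)) (.node (.leaf 0x100501f) (.leaf 0)))))) (.node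 (.node (.node (.node (.node (.leaf 0x0) (.leaf 0x100400500f)) (.node (.leaf 0x1000001005) (.leaf 0))) (.node (.node (.leaf 0x100300100d) (.leaf 0)) (.node (.leaf 0x2003007) (.leaf 0)))) (.node (.node (.node (.leaf 0xc) (.leaf 0x1002001)) (.node (.leaf 0x1005026) (.leaf 0))) (.node (.node (.leaf 0x0) (.leaf 0)) (.node (.leaf 0x0) (.leaf 0))))) (.node (.node (.node (.node (.leaf 0x5) (.leaf 0x0)) (.node (.leaf 0x100200200c) (.leaf 0))) (.node (.node (.leaf 0x0) (.leaf 0)) (.node (.leaf 0x0) (.leaf 0)))) (.node (.node (.node (.leaf 0x4004004) (.leaf 0x301e)) (.node (.leaf 0x1002002017) (.leaf 0))) (.node (.node (.leaf 0x0) (.leaf 0)) (.node (.leaf 0x100000500f) (.leaf 0))))))) (.node (.node (.node (.node (.node (.node (.leaf 0x0) (.leaf 0x2001013)) (.node (.leaf 0x100200401c) (.leaf 0))) (.node (.node (.leaf 0x1005026) (.leaf 0)) (.node (.leaf 0x1001000029) (.leaf 0)))) (.node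 (.node (.node (.leaf 0x0) (.leaf 0x1001000)) (.node (.leaf 0x3002000) (.leaf 0))) (.node (.node (.leaf 0x1005) (.leaf 0)) (.node (.leaf 0x1000004018) (.leaf 0))))) (.node (.node (.node (.node (.leaf 0x29) (.leaf 0x0)) (.node (.leaf 0x3003001) (.leaf 0))) (.node (.node (.leaf 0xb) (.leaf 0)) (.node (.leaf 0x1005028) (.leaf 0)))) (.node (.node (.node (.leaf 0x1000000000) (.leaf 0x2002024)) (.node (.leaf 0x0) (.leaf 0))) (.node (.node (.leaf 0x0) (.leaf 0)) (.node (.leaf 0x0) (.leaf 0)))))) (.node (.node (.node (.node (.node (.leaf 0x0) (.leaf 0x1000001005)) (.node (.leaf 0x300300c) (.leaf 0))) (.node (.node (.leaf 0x14) (.leaf 0)) (.node (.leaf 0x0) (.leaf 0)))) (.node (.node (.node (.leaf 0x14) (.leaf 0x4004006)) (.node (.leaf 0x1002002018) (.leaf 0))) (.node (.node (.leaf 0x100100500b) (.leaf 0)) (.node (.leaf 0x0) (.leaf 0))))) (.node (.node (.node (.node (.leaf 0x100200501e)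 (.leaf 0x0)) (.node (.leaf 0x1003007) (.leaf 0))) (.node (.node (.leaf 0x1000) (.leaf 0)) (.node (.leaf 0x300100d) (.leaf 0)))) (.node (.node (.node (.leaf 0x0) (.leaf 0)) (.node (.leaf 0x0) (.leaf 0))) (.node (.node (.leaf 0x2001018) (.leaf 0)) (.node (.leaf 0x1003000023) (.leaf 0))))))))

/-- part of the cover -/
def covC29 : Trie :=
  (.node (.node (.node (.node (.node (.node (.node (.leaf 0x0) (.leaf 0x1003005028)) (.node (.leaf 0x100000100c) (.leaf 0))) (.node (.node (.leaf 0x0) (.leaf 0)) (.node (.leaf 0x0) (.leaf 0)))) (.node (.node (.node (.leaf 0x1f) (.leaf 0x2000024)) (.node (.leaf 0x1003000007) (.leaf 0))) (.node (.node (.leaf 0x4004029) (.leaf 0)) (.node (.leaf 0x0) (.leaf 0))))) (.node (.node (.node (.node (.leaf 0xc) (.leaf 0x101f)) (.node (.leaf 0x4017) (.leaf 0))) (.node (.node (.leaf 0x15) (.leaf 0)) (.node (.leaf 0x0) (.leaf 0)))) (.node (.node (.node (.leaf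 0x0) (.leaf 0x1001002005)) (.node (.leaf 0x100100501c) (.leaf 0))) (.node (.node (.leaf 0x501e) (.leaf 0)) (.node (.leaf 0x0) (.leaf 0)))))) (.node (.node (.node (.node (.node (.leaf 0x0) (.leaf 0x0)) (.node (.leaf 0x4003019) (.leaf 0))) (.node (.node (.leaf 0x100501c) (.leaf 0)) (.node (.leaf 0x2001004) (.leaf 0)))) (.node (.node (.node (.leaf 0x4) (.leaf 0x100000b)) (.node (.leaf 0xd) (.leaf 0))) (.node (.node (.leaf 0x100200501e) (.leaf 0)) (.node (.leaf 0x101a) (.leaf 0))))) (.node (.node (.node (.node (.leaf 0xb) (.leaf 0x1001005018)) (.node (.leaf 0x201e) (.leaf 0))) (.node (.node (.leaf 0x200401c) (.leaf 0)) (.node (.leaf 0x2005009) (.leaf 0)))) (.node (.node (.node (.leaf 0x1002003016) (.leaf 0x1000002015)) (.node (.leaf 0x4003025) (.leaf 0))) (.node (.node (.leaf 0x2004001) (.leaf 0)) (.node (.leaf 0x0) (.leaf 0))))))) (.node (.node (.node (.node (.node (.node (.leaf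 0x0) (.leaf 0x0)) (.node (.leaf 0x1004027) (.leaf 0))) (.node (.node (.leaf 0xd) (.leaf 0)) (.node (.leaf 0x1001005010) (.leaf 0)))) (.node (.node (.node (.leaf 0x19) (.leaf 0x0)) (.node (.leaf 0x0) (.leaf 0))) (.node (.node (.leaf 0x1005) (.leaf 0)) (.node (.leaf 0x100400200d) (.leaf 0))))) (.node (.node (.node (.node (.leaf 0x14) (.leaf 0x1002002014)) (.node (.leaf 0x1028) (.leaf 0))) (.node (.node (.leaf 0x20) (.leaf 0)) (.node (.leaf 0x1000003015) (.leaf 0)))) (.node (.node (.node (.leaf 0x1000002026) (.leaf 0x4001016)) (.node (.leaf 0x0) (.leaf 0))) (.node (.node (.leaf 0x100200e) (.leaf 0)) (.node (.leaf 0x4000008) (.leaf 0)))))) (.node (.node (.node (.node (.node (.leaf 0x0) (.leaf 0x0)) (.node (.leaf 0x6) (.leaf 0))) (.node (.node (.leaf 0x1005) (.leaf 0)) (.node (.leaf 0x200300d) (.leaf 0)))) (.node (.node (.node (.leaf 0x19) (.leaf 0x4005008)) (.node (.leaf 0x1001003021)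 (.leaf 0))) (.node (.node (.leaf 0x300100d) (.leaf 0)) (.node (.leaf 0x0) (.leaf 0))))) (.node (.node (.node (.node (.leaf 0x5) (.leaf 0x0)) (.node (.leaf 0x5008) (.leaf 0))) (.node (.node (.leaf 0x0) (.leaf 0)) (.node (.leaf 0x100100201a) (.leaf 0)))) (.node (.node (.node (.leaf 0x200300b) (.leaf 0)) (.node (.leaf 0x3003025) (.leaf 0))) (.node (.node (.leaf 0x100100000b) (.leaf 0)) (.node (.leaf 0x2003026) (.leaf 0))))))))

/-- part of the cover -/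
def covC61 : Trie :=
  (.node (.node (.node (.node (.node (.node (.node (.leaf 0x0) (.leaf 0x0)) (.node (.leaf 0x4001028) (.leaf 0))) (.node (.node (.leaf 0x1003001022) (.leaf 0)) (.node (.leaf 0xd) (.leaf 0)))) (.node (.node (.node (.leaf 0x1006) (.leaf 0x1003005011)) (.node (.leaf 0x100000200b) (.leaf 0))) (.node (.node (.leaf 0x0) (.leaf 0)) (.node (.leaf 0x100100501e) (.leaf 0))))) (.node (.node (.node (.node (.leaf 0x0) (.leaf 0x1003001021)) (.node (.leaf 0x100300200f) (.leaf 0))) (.node (.node (.leaf 0x4) (.leaf 0)) (.node (.leaf 0x1003005011) (.leaf 0)))) (.node (.node (.node (.leaf 0x5021) (.leaf 0x1002002005)) (.node (.leaf 0x3004005) (.leaf 0))) (.node (.node (.leaf 0x0) (.leaf 0)) (.node (.leaf 0x0) (.leaf 0)))))) (.node (.node (.node (.node (.node (.leaf 0x0) (.leaf 0x4004016)) (.node (.leaf 0x1000000003) (.leaf 0))) (.node (.node (.leaf 0xb) (.leaf 0)) (.node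 (.leaf 0x1000002026) (.leaf 0)))) (.node (.node (.node (.leaf 0x0) (.leaf 0x2001013)) (.node (.leaf 0x100100201a) (.leaf 0))) (.node (.node (.leaf 0x100000501c) (.leaf 0)) (.node (.leaf 0x0) (.leaf 0))))) (.node (.node (.node (.node (.leaf 0x5) (.leaf 0x1000005020)) (.node (.leaf 0x1b) (.leaf 0))) (.node (.node (.leaf 0x3004004) (.leaf 0)) (.node (.leaf 0xd) (.leaf 0)))) (.node (.node (.node (.leaf 0x4005012) (.leaf 0)) (.node (.leaf 0x0) (.leaf 0))) (.node (.node (.leaf 0x100100100d) (.leaf 0)) (.node (.leaf 0x100300201e) (.leaf 0))))))) (.node (.node (.node (.node (.node (.node (.leaf 0x0) (.leaf 0x1003002009)) (.node (.leaf 0x200401c) (.leaf 0))) (.node (.node (.leaf 0x100100201a) (.leaf 0)) (.node (.leaf 0x300401e) (.leaf 0)))) (.node (.node (.node (.leaf 0x1c) (.leaf 0x400301d)) (.node (.leaf 0x1004003023) (.leaf 0))) (.node (.node (.leaf 0x14) (.leaf 0)) (.node (.leaf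 0x0) (.leaf 0))))) (.node (.node (.node (.node (.leaf 0xd) (.leaf 0x200501f)) (.node (.leaf 0x1002003006) (.leaf 0))) (.node (.node (.leaf 0x100000201d) (.leaf 0)) (.node (.leaf 0x0) (.leaf 0)))) (.node (.node (.node (.leaf 0x200300d) (.leaf 0x4002029)) (.node (.leaf 0x0) (.leaf 0))) (.node (.node (.leaf 0x1001020) (.leaf 0)) (.node (.leaf 0x100400000a) (.leaf 0)))))) (.node (.node (.node (.node (.node (.leaf 0x9) (.leaf 0x0)) (.node (.leaf 0x0) (.leaf 0))) (.node (.node (.leaf 0x5) (.leaf 0)) (.node (.leaf 0x2016) (.leaf 0)))) (.node (.node (.node (.leaf 0x29) (.leaf 0x0)) (.node (.leaf 0x1000004029) (.leaf 0))) (.node (.node (.leaf 0x1004) (.leaf 0)) (.node (.leaf 0x1003003005) (.leaf 0))))) (.node (.node (.node (.node (.leaf 0x1002002024) (.leaf 0x0)) (.node (.leaf 0x1000000003) (.leaf 0))) (.node (.node (.leaf 0x2003019) (.leaf 0)) (.node (.leaf 0x1001000029) (.leaf 0))))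 (.node (.node (.node (.leaf 0x300401e) (.leaf 0)) (.node (.leaf 0x1002000005) (.leaf 0))) (.node (.node (.leaf 0x1005) (.leaf 0)) (.node (.leaf 0x400101e) (.leaf 0))))))))

/-- part of the cover -/
def covC3 : Trie :=
  (.node (.node (.node (.node (.node (.node (.node (.leaf 0x0) (.leaf 0x1003000028)) (.node (.leaf 0x0) (.leaf 0))) (.node (.node (.leaf 0x1000000000) (.leaf 0)) (.node (.leaf 0x100000501c) (.leaf 0)))) (.node (.node (.node (.leaf 0x0) (.leaf 0x0)) (.node (.leaf 0x1002002023) (.leaf 0))) (.node (.node (.leaf 0x200300b) (.leaf 0)) (.node (.leaf 0x200501c) (.leaf 0))))) (.node (.node (.node (.node (.leaf 0x15) (.leaf 0x2004019)) (.node (.leaf 0x100c) (.leaf 0))) (.node (.node (.leaf 0x2003019) (.leaf 0)) (.node (.leaf 0x100301a) (.leaf 0)))) (.node (.node (.node (.leaf 0x0) (.leaf 0x1001000)) (.node (.leaf 0x100400001a) (.leaf 0))) (.node (.node (.leaf 0x100200300a)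 (.leaf 0)) (.node (.leaf 0x400101e) (.leaf 0)))))) (.node (.node (.node (.node (.node (.leaf 0x0) (.leaf 0x1000002004)) (.node (.leaf 0x0) (.leaf 0))) (.node (.node (.leaf 0x0) (.leaf 0)) (.node (.leaf 0x0) (.leaf 0)))) (.node (.node (.node (.leaf 0x1e) (.leaf 0x100000200b)) (.node (.leaf 0x2004019) (.leaf 0))) (.node (.node (.leaf 0x1000) (.leaf 0)) (.node (.leaf 0x4002021) (.leaf 0))))) (.node (.node (.node (.node (.leaf 0x1c) (.leaf 0x0)) (.node (.leaf 0x1002004000) (.leaf 0))) (.node (.node (.leaf 0x1000002026) (.leaf 0)) (.node (.leaf 0x0) (.leaf 0)))) (.node (.node (.node (.leaf 0x1003000028) (.leaf 0x1003000028)) (.node (.leaf 0x400501e) (.leaf 0))) (.node (.node (.leaf 0x1005002) (.leaf 0)) (.node (.leaf 0x0) (.leaf 0))))))) (.node (.node (.node (.node (.node (.node (.leaf 0x0) (.leaf 0x0)) (.node (.leaf 0x4005014) (.leaf 0))) (.node (.node (.leaf 0x1002003004) (.leaf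 0)) (.node (.leaf 0x100000101f) (.leaf 0)))) (.node (.node (.node (.leaf 0x100200301c) (.leaf 0x0)) (.node (.leaf 0x1000003015) (.leaf 0))) (.node (.node (.leaf 0x4004009) (.leaf 0)) (.node (.leaf 0x0) (.leaf 0))))) (.node (.node (.node (.node (.leaf 0x20) (.leaf 0x0)) (.node (.leaf 0x1002003016) (.leaf 0))) (.node (.node (.leaf 0x0) (.leaf 0)) (.node (.leaf 0x100300301e) (.leaf 0)))) (.node (.node (.node (.leaf 0x4001005) (.leaf 0x3000028)) (.node (.leaf 0x1003003019) (.leaf 0))) (.node (.node (.leaf 0x0) (.leaf 0)) (.node (.leaf 0x1001000) (.leaf 0)))))) (.node (.node (.node (.node (.node (.leaf 0x0) (.leaf 0x1002000027)) (.node (.leaf 0x1f) (.leaf 0))) (.node (.node (.leaf 0x1004) (.leaf 0)) (.node (.leaf 0x100000201c) (.leaf 0)))) (.node (.node (.node (.leaf 0x12) (.leaf 0x0)) (.node (.leaf 0x0) (.leaf 0))) (.node (.node (.leaf 0x1000005011) (.leaf 0)) (.node (.leaf 0x4001017)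 (.leaf 0))))) (.node (.node (.node (.node (.leaf 0x0) (.leaf 0x2003023)) (.node (.leaf 0x2005015) (.leaf 0))) (.node (.node (.leaf 0x16) (.leaf 0)) (.node (.leaf 0x1000004009) (.leaf 0)))) (.node (.node (.node (.leaf 0xb) (.leaf 0)) (.node (.leaf 0x0) (.leaf 0))) (.node (.node (.leaf 0x100300501c) (.leaf 0)) (.node (.leaf 0x3005017) (.leaf 0))))))))

/-- part of the cover -/
def covC35 : Trie :=
  (.node (.node (.node (.node (.node (.node (.node (.leaf 0x0) (.leaf 0x3003025)) (.node (.leaf 0x4000008) (.leaf 0))) (.node (.node (.leaf 0x100200201f) (.leaf 0)) (.node (.leaf 0x100200200d) (.leaf 0)))) (.node (.node (.node (.leaf 0x100000000a) (.leaf 0x1004004015)) (.node (.leaf 0x0) (.leaf 0))) (.node (.node (.leaf 0x0) (.leaf 0)) (.node (.leaf 0x1000003002) (.leaf 0))))) (.node (.node (.node (.node (.leaf 0x4) (.leaf 0x100400001c)) (.node (.leaf 0x3003008) (.leaf 0))) (.node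 (.node (.leaf 0x29) (.leaf 0)) (.node (.leaf 0x100000500f) (.leaf 0)))) (.node (.node (.node (.leaf 0x0) (.leaf 0x0)) (.node (.leaf 0x0) (.leaf 0))) (.node (.node (.leaf 0x1000005009) (.leaf 0)) (.node (.leaf 0x4002000) (.leaf 0)))))) (.node (.node (.node (.node (.node (.leaf 0x0) (.leaf 0x1002003015)) (.node (.leaf 0x0) (.leaf 0))) (.node (.node (.leaf 0x1004005002) (.leaf 0)) (.node (.leaf 0x1003001022) (.leaf 0)))) (.node (.node (.node (.leaf 0x16) (.leaf 0x0)) (.node (.leaf 0x1000004009) (.leaf 0))) (.node (.node (.leaf 0x1000001009) (.leaf 0)) (.node (.leaf 0x1003004001) (.leaf 0))))) (.node (.node (.node (.node (.leaf 0x4) (.leaf 0x0)) (.node (.leaf 0x1002005015) (.leaf 0))) (.node (.node (.leaf 0x200300d) (.leaf 0)) (.node (.leaf 0x1001028) (.leaf 0)))) (.node (.node (.node (.leaf 0x100d) (.leaf 0x1003003007)) (.node (.leaf 0x0) (.leaf 0))) (.node (.node (.leaf 0x4003019)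 (.leaf 0)) (.node (.leaf 0x0) (.leaf 0))))))) (.node (.node (.node (.node (.node (.node (.leaf 0x0) (.leaf 0x2028)) (.node (.leaf 0x1002018) (.leaf 0))) (.node (.node (.leaf 0x1000004009) (.leaf 0)) (.node (.leaf 0x300401e) (.leaf 0)))) (.node (.node (.node (.leaf 0x2) (.leaf 0x0)) (.node (.leaf 0x0) (.leaf 0))) (.node (.node (.leaf 0x100200300c) (.leaf 0)) (.node (.leaf 0x5) (.leaf 0))))) (.node (.node (.node (.node (.leaf 0x19) (.leaf 0x0)) (.node (.leaf 0x1000000020) (.leaf 0))) (.node (.node (.leaf 0x5) (.leaf 0)) (.node (.leaf 0x1003000023) (.leaf 0)))) (.node (.node (.node (.leaf 0x100000201c) (.leaf 0x1000000020)) (.node (.leaf 0x0) (.leaf 0))) (.node (.node (.leaf 0x1004000004) (.leaf 0)) (.node (.leaf 0x2001011) (.leaf 0)))))) (.node (.node (.node (.node (.node (.leaf 0x0) (.leaf 0x3001006)) (.node (.leaf 0x3003016) (.leaf 0))) (.node (.node (.leaf 0x0) (.leaf 0))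 (.node (.leaf 0x1003000028) (.leaf 0)))) (.node (.node (.node (.leaf 0xb) (.leaf 0x3002016)) (.node (.leaf 0x100200401c) (.leaf 0))) (.node (.node (.leaf 0x4004006) (.leaf 0)) (.node (.leaf 0x3005021) (.leaf 0))))) (.node (.node (.node (.node (.leaf 0x2003019) (.leaf 0x0)) (.node (.leaf 0x0) (.leaf 0))) (.node (.node (.leaf 0x4005012) (.leaf 0)) (.node (.leaf 0x0) (.leaf 0)))) (.node (.node (.node (.leaf 0x1005) (.leaf 0)) (.node (.leaf 0x0) (.leaf 0))) (.node (.node (.leaf 0x1000001004) (.leaf 0)) (.node (.leaf 0x3004023) (.leaf 0))))))))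

/-- part of the cover -/
def covC19 : Trie :=
  (.node (.node (.node (.node (.node (.node (.node (.leaf 0x0) (.leaf 0x3003006)) (.node (.leaf 0x100401e) (.leaf 0))) (.node (.node (.leaf 0x201c) (.leaf 0)) (.node (.leaf 0x3005019) (.leaf 0)))) (.node (.node (.node (.leaf 0x1001016) (.leaf 0x0)) (.node (.leaf 0x300300c) (.leaf 0))) (.node (.node (.leaf 0x2003019) (.leaf 0)) (.node (.leaf 0x0) (.leaf 0))))) (.node (.node (.node (.node (.leaf 0x16) (.leaf 0x1003000028)) (.node (.leaf 0x1006) (.leaf 0))) (.node (.node (.leaf 0x1000001009) (.leaf 0)) (.node (.leaf 0x0) (.leaf 0)))) (.node (.node (.node (.leaf 0x1c) (.leaf 0x401c)) (.node (.leaf 0x200b) (.leaf 0))) (.node (.node (.leaf 0x100100301f) (.leaf 0)) (.node (.leaf 0x0) (.leaf 0)))))) (.node (.node (.node (.node (.node (.leaf 0x0) (.leaf 0x300401e)) (.node (.leaf 0x100200401c) (.leaf 0))) (.node (.node (.leaf 0x1002003000)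 (.leaf 0)) (.node (.leaf 0x100400001a) (.leaf 0)))) (.node (.node (.node (.leaf 0x15) (.leaf 0x0)) (.node (.leaf 0x4005000) (.leaf 0))) (.node (.node (.leaf 0x2003019) (.leaf 0)) (.node (.leaf 0x5009) (.leaf 0))))) (.node (.node (.node (.node (.leaf 0x9) (.leaf 0x1000001002)) (.node (.leaf 0x0) (.leaf 0))) (.node (.node (.leaf 0x1000000000) (.leaf 0)) (.node (.leaf 0x3003016) (.leaf 0)))) (.node (.node (.node (.leaf 0x4004029) (.leaf 0x24)) (.node (.leaf 0x0) (.leaf 0))) (.node (.node (.leaf 0x3002008) (.leaf 0)) (.node (.leaf 0x3001028) (.leaf 0))))))) (.node (.node (.node (.node (.node (.node (.leaf 0x0) (.leaf 0x4021)) (.node (.leaf 0x1002003011) (.leaf 0))) (.node (.node (.leaf 0x4005000) (.leaf 0)) (.node (.leaf 0x0) (.leaf 0)))) (.node (.node (.node (.leaf 0x1018) (.leaf 0x1003000014)) (.node (.leaf 0x1001005) (.leaf 0))) (.node (.node (.leaf 0x1004) (.leaf 0)) (.node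 (.leaf 0x1004005003) (.leaf 0))))) (.node (.node (.node (.node (.leaf 0xb) (.leaf 0x1000002022)) (.node (.leaf 0x8) (.leaf 0))) (.node (.node (.leaf 0xb) (.leaf 0)) (.node (.leaf 0x1003000016) (.leaf 0)))) (.node (.node (.node (.leaf 0x0) (.leaf 0x2001015)) (.node (.leaf 0x1001001020) (.leaf 0))) (.node (.node (.leaf 0x4001000) (.leaf 0)) (.node (.leaf 0x100300000b) (.leaf 0)))))) (.node (.node (.node (.node (.node (.leaf 0x0) (.leaf 0x0)) (.node (.leaf 0x1003002024) (.leaf 0))) (.node (.node (.leaf 0x100200300c) (.leaf 0)) (.node (.leaf 0xd) (.leaf 0)))) (.node (.node (.node (.leaf 0x20) (.leaf 0x100300100c)) (.node (.leaf 0x0) (.leaf 0))) (.node (.node (.leaf 0x100000501e) (.leaf 0)) (.node (.leaf 0x1003000028) (.leaf 0))))) (.node (.node (.node (.node (.leaf 0x1000) (.leaf 0x0)) (.node (.leaf 0x1017) (.leaf 0))) (.node (.node (.leaf 0x1019) (.leaf 0)) (.node (.leaf 0x300300b)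 (.leaf 0)))) (.node (.node (.node (.leaf 0x1005) (.leaf 0)) (.node (.leaf 0x0) (.leaf 0))) (.node (.node (.leaf 0x1004004009) (.leaf 0)) (.node (.leaf 0x0) (.leaf 0))))))))

/-- part of the cover -/
def covC51 : Trie :=
  (.node (.node (.node (.node (.node (.node (.node (.leaf 0x0) (.leaf 0x1003004001)) (.node (.leaf 0x0) (.leaf 0))) (.node (.node (.leaf 0x4001000) (.leaf 0)) (.node (.leaf 0x200b) (.leaf 0)))) (.node (.node (.node (.leaf 0x100000100f) (.leaf 0x0)) (.node (.leaf 0x200301b) (.leaf 0))) (.node (.node (.leaf 0x100400501c) (.leaf 0)) (.node (.leaf 0x100200400f) (.leaf 0))))) (.node (.node (.node (.node (.leaf 0x12) (.leaf 0x0)) (.node (.leaf 0x1000004018) (.leaf 0))) (.node (.node (.leaf 0xd) (.leaf 0)) (.node (.leaf 0x100300201e) (.leaf 0)))) (.node (.node (.node (.leaf 0x3002000) (.leaf 0x1001001008)) (.node (.leaf 0x0) (.leaf 0))) (.node (.node (.leaf 0x201c)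 (.leaf 0)) (.node (.leaf 0x1003004) (.leaf 0)))))) (.node (.node (.node (.node (.node (.leaf 0x0) (.leaf 0x1001003018)) (.node (.leaf 0x5) (.leaf 0))) (.node (.node (.leaf 0x4004009) (.leaf 0)) (.node (.leaf 0x0) (.leaf 0)))) (.node (.node (.node (.leaf 0x4) (.leaf 0x2000024)) (.node (.leaf 0x300300b) (.leaf 0))) (.node (.node (.leaf 0x1017) (.leaf 0)) (.node (.leaf 0x0) (.leaf 0))))) (.node (.node (.node (.node (.leaf 0xc) (.leaf 0x0)) (.node (.leaf 0x4017) (.leaf 0))) (.node (.node (.leaf 0x2015) (.leaf 0)) (.node (.leaf 0x4005000) (.leaf 0)))) (.node (.node (.node (.leaf 0x0) (.leaf 0x1001005022)) (.node (.leaf 0x400500f) (.leaf 0))) (.node (.node (.leaf 0x1000001005) (.leaf 0)) (.node (.leaf 0x1004000026) (.leaf 0))))))) (.node (.node (.node (.node (.node (.node (.leaf 0x0) (.leaf 0x100400001a)) (.node (.leaf 0x100200101a) (.leaf 0))) (.node (.node (.leaf 0x300300b) (.leaf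 0)) (.node (.leaf 0x201c) (.leaf 0)))) (.node (.node (.node (.leaf 0x5) (.leaf 0x1000000029)) (.node (.leaf 0x2001023) (.leaf 0))) (.node (.node (.leaf 0x0) (.leaf 0)) (.node (.leaf 0x200501e) (.leaf 0))))) (.node (.node (.node (.node (.leaf 0x0) (.leaf 0x0)) (.node (.leaf 0x1028) (.leaf 0))) (.node (.node (.leaf 0x5) (.leaf 0)) (.node (.leaf 0x1000004018) (.leaf 0)))) (.node (.node (.node (.leaf 0xd) (.leaf 0x4004029)) (.node (.leaf 0x100501c) (.leaf 0))) (.node (.node (.leaf 0x0) (.leaf 0)) (.node (.leaf 0x2004009) (.leaf 0)))))) (.node (.node (.node (.node (.node (.leaf 0x0) (.leaf 0x5006)) (.node (.leaf 0x1004004004) (.leaf 0))) (.node (.node (.leaf 0x1000) (.leaf 0)) (.node (.leaf 0x100400000a) (.leaf 0)))) (.node (.node (.node (.leaf 0x19) (.leaf 0x0)) (.node (.leaf 0x0) (.leaf 0))) (.node (.node (.leaf 0x4000021) (.leaf 0)) (.node (.leaf 0x100100300e) (.leaf 0)))))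 (.node (.node (.node (.node (.leaf 0x1000001009) (.leaf 0x10)) (.node (.leaf 0x100200300c) (.leaf 0))) (.node (.node (.leaf 0x1020) (.leaf 0)) (.node (.leaf 0x4002008) (.leaf 0)))) (.node (.node (.node (.leaf 0x100300301c) (.leaf 0)) (.node (.leaf 0x0) (.leaf 0))) (.node (.node (.leaf 0x100000300c) (.leaf 0)) (.node (.leaf 0x1003002029) (.leaf 0))))))))

/-- part of the cover -/
def covC11 : Trie :=
  (.node (.node (.node (.node (.node (.node (.node (.leaf 0x0) (.leaf 0x100000100f)) (.node (.leaf 0x0) (.leaf 0))) (.node (.node (.leaf 0x1003001022) (.leaf 0)) (.node (.leaf 0x1004004029) (.leaf 0)))) (.node (.node (.node (.leaf 0x1001020) (.leaf 0x100301f)) (.node (.leaf 0x100200500a) (.leaf 0))) (.node (.node (.leaf 0x0) (.leaf 0)) (.node (.leaf 0x300501e) (.leaf 0))))) (.node (.node (.node (.node (.leaf 0x0) (.leaf 0x0)) (.node (.leaf 0x101f) (.leaf 0))) (.node (.node (.leaf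 0x4004004) (.leaf 0)) (.node (.leaf 0x5006) (.leaf 0)))) (.node (.node (.node (.leaf 0x5) (.leaf 0x0)) (.node (.leaf 0x100300501b) (.leaf 0))) (.node (.node (.leaf 0x0) (.leaf 0)) (.node (.leaf 0x0) (.leaf 0)))))) (.node (.node (.node (.node (.node (.leaf 0x0) (.leaf 0x1000001003)) (.node (.leaf 0x1023) (.leaf 0))) (.node (.node (.leaf 0x0) (.leaf 0)) (.node (.leaf 0x100300301c) (.leaf 0)))) (.node (.node (.node (.leaf 0x0) (.leaf 0x0)) (.node (.leaf 0x100400500f) (.leaf 0))) (.node (.node (.leaf 0x1002003016) (.leaf 0)) (.node (.leaf 0x2002024) (.leaf 0))))) (.node (.node (.node (.node (.leaf 0x5) (.leaf 0x1003000004)) (.node (.leaf 0x13) (.leaf 0))) (.node (.node (.leaf 0x3004004) (.leaf 0)) (.node (.leaf 0x4003019) (.leaf 0)))) (.node (.node (.node (.leaf 0x4005012) (.leaf 0x400400a)) (.node (.leaf 0x3005011) (.leaf 0))) (.node (.node (.leaf 0x3004029) (.leaf 0)) (.node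 (.leaf 0x1000011) (.leaf 0))))))) (.node (.node (.node (.node (.node (.node (.leaf 0x0) (.leaf 0x0)) (.node (.leaf 0xf) (.leaf 0))) (.node (.node (.leaf 0x1003000028) (.leaf 0)) (.node (.leaf 0x200400b) (.leaf 0)))) (.node (.node (.node (.leaf 0x1002004018) (.leaf 0x400301d)) (.node (.leaf 0x1000003014) (.leaf 0))) (.node (.node (.leaf 0x14) (.leaf 0)) (.node (.leaf 0x15) (.leaf 0))))) (.node (.node (.node (.node (.leaf 0xd) (.leaf 0x200501f)) (.node (.leaf 0x1002003006) (.leaf 0))) (.node (.node (.leaf 0x19) (.leaf 0)) (.node (.leaf 0x0) (.leaf 0)))) (.node (.node (.node (.leaf 0x200300d) (.leaf 0x1000002016)) (.node (.leaf 0x1003000005) (.leaf 0))) (.node (.node (.leaf 0x4003019) (.leaf 0)) (.node (.leaf 0x0) (.leaf 0)))))) (.node (.node (.node (.node (.node (.leaf 0x0) (.leaf 0x1003000028)) (.node (.leaf 0x0) (.leaf 0))) (.node (.node (.leaf 0x5) (.leaf 0)) (.node (.leaf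 0x400101c) (.leaf 0)))) (.node (.node (.node (.leaf 0x29) (.leaf 0x0)) (.node (.leaf 0x0) (.leaf 0))) (.node (.node (.leaf 0x1004) (.leaf 0)) (.node (.leaf 0x3000000) (.leaf 0))))) (.node (.node (.node (.node (.leaf 0x15) (.leaf 0x0)) (.node (.leaf 0x1001005010) (.leaf 0))) (.node (.node (.leaf 0xd) (.leaf 0)) (.node (.leaf 0x1001003029) (.leaf 0)))) (.node (.node (.node (.leaf 0x0) (.leaf 0)) (.node (.leaf 0x0) (.leaf 0))) (.node (.node (.leaf 0x1005) (.leaf 0)) (.node (.leaf 0x1000001005) (.leaf 0))))))))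

/-- part of the cover -/
def covC43 : Trie :=
  (.node (.node (.node (.node (.node (.node (.node (.leaf 0x0) (.leaf 0x300300b)) (.node (.leaf 0x0) (.leaf 0))) (.node (.node (.leaf 0x1000012) (.leaf 0)) (.node (.leaf 0x100100500b) (.leaf 0)))) (.node (.node (.node (.leaf 0x1003003000) (.leaf 0x0)) (.node (.leaf 0x0) (.leaf 0))) (.node (.node (.leaf 0x1005) (.leaf 0)) (.node (.leaf 0x0) (.leaf 0))))) (.node (.node (.node (.node (.leaf 0x14) (.leaf 0x1003000028)) (.node (.leaf 0x3003008) (.leaf 0))) (.node (.node (.leaf 0x20) (.leaf 0)) (.node (.leaf 0x100000401f) (.leaf 0)))) (.node (.node (.node (.leaf 0x1000002026) (.leaf 0x100200201e)) (.node (.leaf 0x1001002009) (.leaf 0))) (.node (.node (.leaf 0x100200e) (.leaf 0)) (.node (.leaf 0x2004001) (.leaf 0)))))) (.node (.node (.node (.node (.node (.leaf 0x0) (.leaf 0x3004023)) (.node (.leaf 0x1000001004) (.leaf 0))) (.node (.node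 (.leaf 0x400301c) (.leaf 0)) (.node (.leaf 0x201c) (.leaf 0)))) (.node (.node (.node (.leaf 0x19) (.leaf 0x1000005008)) (.node (.leaf 0x1001003029) (.leaf 0))) (.node (.node (.leaf 0x300100d) (.leaf 0)) (.node (.leaf 0x0) (.leaf 0))))) (.node (.node (.node (.node (.leaf 0x5) (.leaf 0x0)) (.node (.leaf 0x1002001011) (.leaf 0))) (.node (.node (.leaf 0x1000001010) (.leaf 0)) (.node (.leaf 0x101d) (.leaf 0)))) (.node (.node (.node (.leaf 0x200300b) (.leaf 0x1000004014)) (.node (.leaf 0x1002003014) (.leaf 0))) (.node (.node (.leaf 0x100100000b) (.leaf 0)) (.node (.leaf 0x100400500f) (.leaf 0))))))) (.node (.node (.node (.node (.node (.node (.leaf 0x0) (.leaf 0x200200f)) (.node (.leaf 0x0) (.leaf 0))) (.node (.node (.leaf 0x1001003029) (.leaf 0)) (.node (.leaf 0x2001004) (.leaf 0)))) (.node (.node (.node (.leaf 0x4) (.leaf 0x100400000d)) (.node (.leaf 0x4005010) (.leaf 0))) (.node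 (.node (.leaf 0x100200501e) (.leaf 0)) (.node (.leaf 0x1004000004) (.leaf 0))))) (.node (.node (.node (.node (.leaf 0xb) (.leaf 0x0)) (.node (.leaf 0x2002005) (.leaf 0))) (.node (.node (.leaf 0x1c) (.leaf 0)) (.node (.leaf 0x4004016) (.leaf 0)))) (.node (.node (.node (.leaf 0x400101c) (.leaf 0x1000003015)) (.node (.leaf 0x100300000b) (.leaf 0))) (.node (.node (.leaf 0x1003000028) (.leaf 0)) (.node (.leaf 0x100300100d) (.leaf 0)))))) (.node (.node (.node (.node (.node (.leaf 0x0) (.leaf 0x3003007)) (.node (.leaf 0x6) (.leaf 0))) (.node (.node (.leaf 0x15) (.leaf 0)) (.node (.leaf 0x0) (.leaf 0)))) (.node (.node (.node (.leaf 0x0) (.leaf 0x1004004015)) (.node (.leaf 0x2001002) (.leaf 0))) (.node (.node (.leaf 0x3001018) (.leaf 0)) (.node (.leaf 0xa) (.leaf 0))))) (.node (.node (.node (.node (.leaf 0x4004004) (.leaf 0x100100000f)) (.node (.leaf 0x200100b) (.leaf 0))) (.node (.node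 (.leaf 0x4004029) (.leaf 0)) (.node (.leaf 0x0) (.leaf 0)))) (.node (.node (.node (.leaf 0x0) (.leaf 0)) (.node (.leaf 0x0) (.leaf 0))) (.node (.node (.leaf 0x5) (.leaf 0)) (.node (.leaf 0x1001003018) (.leaf 0))))))))

/-- part of the cover -/
def covC27 : Trie :=
  (.node (.node (.node (.node (.node (.node (.node (.leaf 0x0) (.leaf 0x4002029)) (.node (.leaf 0x100300200d) (.leaf 0))) (.node (.node (.leaf 0x0) (.leaf 0)) (.node (.leaf 0x100200501e) (.leaf 0)))) (.node (.node (.node (.leaf 0x3005016) (.leaf 0x1003003028)) (.node (.leaf 0x1002000) (.leaf 0))) (.node (.node (.leaf 0xb) (.leaf 0)) (.node (.leaf 0x0) (.leaf 0))))) (.node (.node (.node (.node (.leaf 0x19) (.leaf 0x200500c)) (.node (.leaf 0x1003000023) (.leaf 0))) (.node (.node (.leaf 0x12) (.leaf 0)) (.node (.leaf 0x0) (.leaf 0)))) (.node (.node (.node (.leaf 0x5) (.leaf 0x1000005009)) (.node (.leaf 0x4004029) (.leaf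 0))) (.node (.node (.leaf 0x1002002019) (.leaf 0)) (.node (.leaf 0x0) (.leaf 0)))))) (.node (.node (.node (.node (.node (.leaf 0x0) (.leaf 0x0)) (.node (.leaf 0x3005011) (.leaf 0))) (.node (.node (.leaf 0x300401c) (.leaf 0)) (.node (.leaf 0x1000000000) (.leaf 0)))) (.node (.node (.node (.leaf 0x0) (.leaf 0x0)) (.node (.leaf 0x100501c) (.leaf 0))) (.node (.node (.leaf 0x4004004) (.leaf 0)) (.node (.leaf 0x100100500b) (.leaf 0))))) (.node (.node (.node (.node (.leaf 0x2) (.leaf 0x0)) (.node (.leaf 0x1000001010) (.leaf 0))) (.node (.node (.leaf 0x200500c) (.leaf 0)) (.node (.leaf 0x1000) (.leaf 0)))) (.node (.node (.node (.leaf 0x1020) (.leaf 0x1000000003)) (.node (.leaf 0x1000005020) (.leaf 0))) (.node (.node (.leaf 0x100100000b) (.leaf 0)) (.node (.leaf 0x100100501e) (.leaf 0))))))) (.node (.node (.node (.node (.node (.node (.leaf 0x0) (.leaf 0x2005029)) (.node (.leaf 0x400400f)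 (.leaf 0))) (.node (.node (.leaf 0x100501c) (.leaf 0)) (.node (.leaf 0x1002001013) (.leaf 0)))) (.node (.node (.node (.leaf 0x9) (.leaf 0x3004013)) (.node (.leaf 0x0) (.leaf 0))) (.node (.node (.leaf 0x5) (.leaf 0)) (.node (.leaf 0x3003016) (.leaf 0))))) (.node (.node (.node (.node (.leaf 0x0) (.leaf 0x1005002)) (.node (.leaf 0x1000002005) (.leaf 0))) (.node (.node (.leaf 0x0) (.leaf 0)) (.node (.leaf 0x100400500f) (.leaf 0)))) (.node (.node (.node (.leaf 0x1004000012) (.leaf 0x0)) (.node (.leaf 0x0) (.leaf 0))) (.node (.node (.leaf 0x300301f) (.leaf 0)) (.node (.leaf 0x100501c) (.leaf 0)))))) (.node (.node (.node (.node (.node (.leaf 0x0) (.leaf 0x100400000a)) (.node (.leaf 0x1000) (.leaf 0))) (.node (.node (.leaf 0x100200501e) (.leaf 0)) (.node (.leaf 0x1019) (.leaf 0)))) (.node (.node (.node (.leaf 0xd) (.leaf 0x0)) (.node (.leaf 0x4004004) (.leaf 0))) (.node (.node (.leaf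 0x0) (.leaf 0)) (.node (.leaf 0x0) (.leaf 0))))) (.node (.node (.node (.node (.leaf 0x1002003016) (.leaf 0x1003005019)) (.node (.leaf 0x3000015) (.leaf 0))) (.node (.node (.leaf 0x1000001000) (.leaf 0)) (.node (.leaf 0x1003000015) (.leaf 0)))) (.node (.node (.node (.leaf 0x100400501c) (.leaf 0)) (.node (.leaf 0x1003005001) (.leaf 0))) (.node (.node (.leaf 0x0) (.leaf 0)) (.node (.leaf 0x0) (.leaf 0))))))))

/-- part of the cover -/
def covC59 : Trie :=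
  (.node (.node (.node (.node (.node (.node (.node (.leaf 0x0) (.leaf 0x0)) (.node (.leaf 0x100300500d) (.leaf 0))) (.node (.node (.leaf 0x1001028) (.leaf 0)) (.node (.leaf 0x1000005011) (.leaf 0)))) (.node (.node (.node (.leaf 0x300300a) (.leaf 0x1001000)) (.node (.leaf 0x1001005026) (.leaf 0))) (.node (.node (.leaf 0x1005) (.leaf 0)) (.node (.leaf 0x4004029) (.leaf 0))))) (.node (.node (.node (.node (.leaf 0x29) (.leaf 0x0)) (.node (.leaf 0x3003001) (.leaf 0))) (.node (.node (.leaf 0xb) (.leaf 0)) (.node (.leaf 0x1003003009) (.leaf 0)))) (.node (.node (.node (.leaf 0x1000000000) (.leaf 0x5010)) (.node (.leaf 0x1000004005) (.leaf 0))) (.node (.node (.leaf 0x0) (.leaf 0)) (.node (.leaf 0x1003002017) (.leaf 0)))))) (.node (.node (.node (.node (.node (.leaf 0x0) (.leaf 0x1003002029)) (.node (.leaf 0x15) (.leaf 0))) (.node (.node (.leaf 0x14) (.leaf 0)) (.node (.leaf 0x1004000012)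 (.leaf 0)))) (.node (.node (.node (.leaf 0x14) (.leaf 0x4004006)) (.node (.leaf 0x1003000015) (.leaf 0))) (.node (.node (.leaf 0x100100500b) (.leaf 0)) (.node (.leaf 0x0) (.leaf 0))))) (.node (.node (.node (.node (.leaf 0x1e) (.leaf 0x0)) (.node (.leaf 0x10) (.leaf 0))) (.node (.node (.leaf 0x100000201c) (.leaf 0)) (.node (.leaf 0x100501c) (.leaf 0)))) (.node (.node (.node (.leaf 0x2003019) (.leaf 0)) (.node (.leaf 0x0) (.leaf 0))) (.node (.node (.leaf 0x2001018) (.leaf 0)) (.node (.leaf 0x1004000026) (.leaf 0))))))) (.node (.node (.node (.node (.node (.node (.leaf 0x0) (.leaf 0x2003026)) (.node (.leaf 0x100400001e) (.leaf 0))) (.node (.node (.leaf 0x1003000015) (.leaf 0)) (.node (.leaf 0x2003007) (.leaf 0)))) (.node (.node (.node (.leaf 0xc) (.leaf 0x2003000)) (.node (.leaf 0x100301f) (.leaf 0))) (.node (.node (.leaf 0x15) (.leaf 0)) (.node (.leaf 0x100200501a) (.leaf 0)))))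 (.node (.node (.node (.node (.leaf 0x5) (.leaf 0x0)) (.node (.leaf 0x200b) (.leaf 0))) (.node (.node (.leaf 0x0) (.leaf 0)) (.node (.leaf 0x0) (.leaf 0)))) (.node (.node (.node (.leaf 0x1019) (.leaf 0x1005028)) (.node (.leaf 0x1003005011) (.leaf 0))) (.node (.node (.leaf 0x0) (.leaf 0)) (.node (.leaf 0x0) (.leaf 0)))))) (.node (.node (.node (.node (.node (.leaf 0x0) (.leaf 0x0)) (.node (.leaf 0x200401c) (.leaf 0))) (.node (.node (.leaf 0x1002003016) (.leaf 0)) (.node (.leaf 0x0) (.leaf 0)))) (.node (.node (.node (.leaf 0xb) (.leaf 0x0)) (.node (.leaf 0x3024) (.leaf 0))) (.node (.node (.leaf 0x1000002009) (.leaf 0)) (.node (.leaf 0x0) (.leaf 0))))) (.node (.node (.node (.node (.leaf 0x1003003007) (.leaf 0x0)) (.node (.leaf 0x100300100c) (.leaf 0))) (.node (.node (.leaf 0x100d) (.leaf 0)) (.node (.leaf 0x100200400e) (.leaf 0)))) (.node (.node (.node (.leaf 0x100400001a) (.leaf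 0)) (.node (.leaf 0x1001001) (.leaf 0))) (.node (.node (.leaf 0x1f) (.leaf 0)) (.node (.leaf 0x101a) (.leaf 0))))))))

/-- part of the cover -/
def covC7 : Trie :=
  (.node (.node (.node (.node (.node (.node (.node (.leaf 0x0) (.leaf 0x200200f)) (.node (.leaf 0x0) (.leaf 0))) (.node (.node (.leaf 0x1001000029) (.leaf 0)) (.node (.leaf 0x1003001023) (.leaf 0)))) (.node (.node (.node (.leaf 0x1000022) (.leaf 0x100000b)) (.node (.leaf 0x3005012) (.leaf 0))) (.node (.node (.leaf 0x100200501e) (.leaf 0)) (.node (.leaf 0x1000004004) (.leaf 0))))) (.node (.node (.node (.node (.leaf 0xb) (.leaf 0x15)) (.node (.leaf 0x201e) (.leaf 0))) (.node (.node (.leaf 0x100400501c) (.leaf 0)) (.node (.leaf 0x100200400f) (.leaf 0)))) (.node (.node (.node (.leaf 0x16) (.leaf 0x2002003)) (.node (.leaf 0x1000003020) (.leaf 0))) (.node (.node (.leaf 0x1003000028) (.leaf 0)) (.node (.leaf 0x1000004019)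 (.leaf 0)))))) (.node (.node (.node (.node (.node (.leaf 0x0) (.leaf 0x3003025)) (.node (.leaf 0x1002004008) (.leaf 0))) (.node (.node (.leaf 0x0) (.leaf 0)) (.node (.leaf 0x200200f) (.leaf 0)))) (.node (.node (.node (.leaf 0x0) (.leaf 0x1001002005)) (.node (.leaf 0x1004004004) (.leaf 0))) (.node (.node (.leaf 0x0) (.leaf 0)) (.node (.leaf 0x2003026) (.leaf 0))))) (.node (.node (.node (.node (.leaf 0x4) (.leaf 0x300200a)) (.node (.leaf 0x100300401a) (.leaf 0))) (.node (.node (.leaf 0x4002029) (.leaf 0)) (.node (.leaf 0x1004002008) (.leaf 0)))) (.node (.node (.node (.leaf 0x4004009) (.leaf 0x1003000028)) (.node (.leaf 0x0) (.leaf 0))) (.node (.node (.leaf 0x0) (.leaf 0)) (.node (.leaf 0x2016) (.leaf 0))))))) (.node (.node (.node (.node (.node (.node (.leaf 0x0) (.leaf 0x1000000023)) (.node (.leaf 0x1002003010) (.leaf 0))) (.node (.node (.leaf 0x2003007) (.leaf 0)) (.node (.leaf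 0x200300d) (.leaf 0)))) (.node (.node (.node (.leaf 0x4017) (.leaf 0x100100000b)) (.node (.leaf 0x100301a) (.leaf 0))) (.node (.node (.leaf 0x4005012) (.leaf 0)) (.node (.leaf 0x2004019) (.leaf 0))))) (.node (.node (.node (.node (.leaf 0x5) (.leaf 0x0)) (.node (.leaf 0x3003016) (.leaf 0))) (.node (.node (.leaf 0x0) (.leaf 0)) (.node (.leaf 0x0) (.leaf 0)))) (.node (.node (.node (.leaf 0x100000101f) (.leaf 0x1001020)) (.node (.leaf 0x100001c) (.leaf 0))) (.node (.node (.leaf 0x0) (.leaf 0)) (.node (.leaf 0x0) (.leaf 0)))))) (.node (.node (.node (.node (.node (.leaf 0x0) (.leaf 0x1003000028)) (.node (.leaf 0x0) (.leaf 0))) (.node (.node (.leaf 0x1020) (.leaf 0)) (.node (.leaf 0x1002002018) (.leaf 0)))) (.node (.node (.node (.leaf 0x2) (.leaf 0x0)) (.node (.leaf 0x0) (.leaf 0))) (.node (.node (.leaf 0x4001005) (.leaf 0)) (.node (.leaf 0x4005029) (.leaf 0))))) (.node (.node (.node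 (.node (.leaf 0x2003019) (.leaf 0x0)) (.node (.leaf 0x0) (.leaf 0))) (.node (.node (.leaf 0x1000000000) (.leaf 0)) (.node (.leaf 0x1019) (.leaf 0)))) (.node (.node (.node (.leaf 0x1000) (.leaf 0)) (.node (.leaf 0x0) (.leaf 0))) (.node (.node (.leaf 0x100b) (.leaf 0)) (.node (.leaf 0x1003005011) (.leaf 0))))))))

/-- part of the cover -/
def covC39 : Trie :=
  (.node (.node (.node (.node (.node (.node (.node (.leaf 0x0) (.leaf 0x1000001003)) (.node (.leaf 0x2004002) (.leaf 0))) (.node (.node (.leaf 0x1002001013) (.leaf 0)) (.node (.leaf 0x1000002026) (.leaf 0)))) (.node (.node (.node (.leaf 0x0) (.leaf 0x2001013)) (.node (.leaf 0x100000500b) (.leaf 0))) (.node (.node (.leaf 0x1002003016) (.leaf 0)) (.node (.leaf 0x0) (.leaf 0))))) (.node (.node (.node (.node (.leaf 0x5) (.leaf 0x1004000004)) (.node (.leaf 0x1b) (.leaf 0))) (.node (.node (.leaf 0x4) (.leaf 0)) (.node (.leaf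 0x100000201c) (.leaf 0)))) (.node (.node (.node (.leaf 0x100200200d) (.leaf 0x1003005003)) (.node (.leaf 0x0) (.leaf 0))) (.node (.node (.leaf 0x200001b) (.leaf 0)) (.node (.leaf 0x0) (.leaf 0)))))) (.node (.node (.node (.node (.node (.leaf 0x0) (.leaf 0x1000000020)) (.node (.leaf 0x0) (.leaf 0))) (.node (.node (.leaf 0x0) (.leaf 0)) (.node (.leaf 0x1002001013) (.leaf 0)))) (.node (.node (.node (.leaf 0x5) (.leaf 0x5009)) (.node (.leaf 0x1019) (.leaf 0))) (.node (.node (.leaf 0x0) (.leaf 0)) (.node (.leaf 0x0) (.leaf 0))))) (.node (.node (.node (.node (.leaf 0x20) (.leaf 0x0)) (.node (.leaf 0x300300a) (.leaf 0))) (.node (.node (.leaf 0x200400b) (.leaf 0)) (.node (.leaf 0x1003000028) (.leaf 0)))) (.node (.node (.node (.leaf 0x100200300c) (.leaf 0x1002002013)) (.node (.leaf 0x4023) (.leaf 0))) (.node (.node (.leaf 0x1001000015) (.leaf 0)) (.node (.leaf 0x0) (.leaf 0))))))) (.node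 (.node (.node (.node (.node (.node (.leaf 0x0) (.leaf 0x1000001001)) (.node (.leaf 0x0) (.leaf 0))) (.node (.node (.leaf 0x1019) (.leaf 0)) (.node (.leaf 0x4001000) (.leaf 0)))) (.node (.node (.node (.leaf 0x29) (.leaf 0x1003003023)) (.node (.leaf 0x1003000012) (.leaf 0))) (.node (.node (.leaf 0x200300b) (.leaf 0)) (.node (.leaf 0x100400001c) (.leaf 0))))) (.node (.node (.node (.node (.leaf 0x15) (.leaf 0x4005011)) (.node (.leaf 0x1000000006) (.leaf 0))) (.node (.node (.leaf 0x19) (.leaf 0)) (.node (.leaf 0x300400a) (.leaf 0)))) (.node (.node (.node (.leaf 0x1002002018) (.leaf 0x3004023)) (.node (.leaf 0x3019) (.leaf 0))) (.node (.node (.leaf 0x100200100e) (.leaf 0)) (.node (.leaf 0x1001002018) (.leaf 0)))))) (.node (.node (.node (.node (.node (.leaf 0x0) (.leaf 0x1001004004)) (.node (.leaf 0x1005) (.leaf 0))) (.node (.node (.leaf 0x2003019) (.leaf 0)) (.node (.leaf 0x0) (.leaf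 0)))) (.node (.node (.node (.leaf 0x1e) (.leaf 0x1002001000)) (.node (.leaf 0x0) (.leaf 0))) (.node (.node (.leaf 0x1001001) (.leaf 0)) (.node (.leaf 0x0) (.leaf 0))))) (.node (.node (.node (.node (.leaf 0x100400501c) (.leaf 0x1002005011)) (.node (.leaf 0x4001017) (.leaf 0))) (.node (.node (.leaf 0x14) (.leaf 0)) (.node (.leaf 0x2001004) (.leaf 0)))) (.node (.node (.node (.leaf 0x1000001009) (.leaf 0)) (.node (.leaf 0x100100501b) (.leaf 0))) (.node (.node (.leaf 0x1001020) (.leaf 0)) (.node (.leaf 0x1000005009) (.leaf 0))))))))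

/-- part of the cover -/
def covC23 : Trie :=
  (.node (.node (.node (.node (.node (.node (.node (.leaf 0x0) (.leaf 0x2003026)) (.node (.leaf 0x1002003000) (.leaf 0))) (.node (.node (.leaf 0x300401e) (.leaf 0)) (.node (.leaf 0x0) (.leaf 0)))) (.node (.node (.node (.leaf 0x1000001007) (.leaf 0x1002001)) (.node (.leaf 0x1005028) (.leaf 0))) (.node (.node (.leaf 0x15) (.leaf 0)) (.node (.leaf 0x0) (.leaf 0))))) (.node (.node (.node (.node (.leaf 0x5) (.leaf 0x3003016)) (.node (.leaf 0x100200200c) (.leaf 0))) (.node (.node (.leaf 0x9) (.leaf 0)) (.node (.leaf 0x0) (.leaf 0)))) (.node (.node (.node (.leaf 0x4) (.leaf 0x1003002000)) (.node (.leaf 0x5006) (.leaf 0))) (.node (.node (.leaf 0x1017) (.leaf 0)) (.node (.leaf 0x0) (.leaf 0)))))) (.node (.node (.node (.node (.node (.leaf 0x0) (.leaf 0x1003004001)) (.node (.leaf 0x1000001009) (.leaf 0))) (.node (.node (.leaf 0x100300200d)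 (.leaf 0)) (.node (.leaf 0x1003002020) (.leaf 0)))) (.node (.node (.node (.leaf 0xb) (.leaf 0x0)) (.node (.leaf 0x1002002019) (.leaf 0))) (.node (.node (.leaf 0x100400501c) (.leaf 0)) (.node (.leaf 0x4004013) (.leaf 0))))) (.node (.node (.node (.node (.leaf 0x12) (.leaf 0x0)) (.node (.leaf 0x1003003000) (.leaf 0))) (.node (.node (.leaf 0x100d) (.leaf 0)) (.node (.leaf 0x4001005) (.leaf 0)))) (.node (.node (.node (.leaf 0x1004) (.leaf 0x1000000003)) (.node (.leaf 0x0) (.leaf 0))) (.node (.node (.leaf 0x1002005003) (.leaf 0)) (.node (.leaf 0x300401b) (.leaf 0))))))) (.node (.node (.node (.node (.node (.node (.leaf 0x0) (.leaf 0x100300101a)) (.node (.leaf 0x1002027) (.leaf 0))) (.node (.node (.leaf 0x1002002019) (.leaf 0)) (.node (.leaf 0x100200201f) (.leaf 0)))) (.node (.node (.node (.leaf 0x2005015) (.leaf 0x100400501e)) (.node (.leaf 0x0) (.leaf 0))) (.node (.node (.leaf 0x1020)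 (.leaf 0)) (.node (.leaf 0x1003000028) (.leaf 0))))) (.node (.node (.node (.node (.leaf 0x1e) (.leaf 0x0)) (.node (.leaf 0x3005020) (.leaf 0))) (.node (.node (.leaf 0x0) (.leaf 0)) (.node (.leaf 0x200a) (.leaf 0)))) (.node (.node (.node (.leaf 0x0) (.leaf 0x0)) (.node (.leaf 0x0) (.leaf 0))) (.node (.node (.leaf 0x3005017) (.leaf 0)) (.node (.leaf 0x1000000010) (.leaf 0)))))) (.node (.node (.node (.node (.node (.leaf 0x0) (.leaf 0x1002003026)) (.node (.leaf 0x300300c) (.leaf 0))) (.node (.node (.leaf 0x200300b) (.leaf 0)) (.node (.leaf 0x1000000009) (.leaf 0)))) (.node (.node (.node (.leaf 0x5) (.leaf 0x0)) (.node (.leaf 0x1029) (.leaf 0))) (.node (.node (.leaf 0x0) (.leaf 0)) (.node (.leaf 0x100200101e) (.leaf 0))))) (.node (.node (.node (.node (.leaf 0x0) (.leaf 0x0)) (.node (.leaf 0x3000001) (.leaf 0))) (.node (.node (.leaf 0x29) (.leaf 0)) (.node (.leaf 0x501e) (.leaf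 0)))) (.node (.node (.node (.leaf 0x2003019) (.leaf 0)) (.node (.leaf 0x0) (.leaf 0))) (.node (.node (.leaf 0x1004005012) (.leaf 0)) (.node (.leaf 0x0) (.leaf 0))))))))

/-- part of the cover -/
def covC55 : Trie :=
  (.node (.node (.node (.node (.node (.node (.node (.leaf 0x0) (.leaf 0x0)) (.node (.leaf 0x100000100f) (.leaf 0))) (.node (.node (.leaf 0x2001004) (.leaf 0)) (.node (.leaf 0x1000000000) (.leaf 0)))) (.node (.node (.node (.leaf 0x1002005015) (.leaf 0x1001005002)) (.node (.leaf 0x300200d) (.leaf 0))) (.node (.node (.leaf 0x4004004) (.leaf 0)) (.node (.leaf 0x5006) (.leaf 0))))) (.node (.node (.node (.node (.leaf 0x2) (.leaf 0x0)) (.node (.leaf 0x1002000010) (.leaf 0))) (.node (.node (.leaf 0xc) (.leaf 0)) (.node (.leaf 0x1002005003) (.leaf 0)))) (.node (.node (.node (.leaf 0x200b) (.leaf 0x0)) (.node (.leaf 0x1003002024) (.leaf 0))) (.node (.node (.leaf 0x501e)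 (.leaf 0)) (.node (.leaf 0x3002005) (.leaf 0)))))) (.node (.node (.node (.node (.node (.leaf 0x0) (.leaf 0x4004029)) (.node (.leaf 0x100100100d) (.leaf 0))) (.node (.node (.leaf 0x4005012) (.leaf 0)) (.node (.leaf 0x0) (.leaf 0)))) (.node (.node (.node (.leaf 0x5) (.leaf 0x1012)) (.node (.leaf 0x501e) (.leaf 0))) (.node (.node (.leaf 0x1004000000) (.leaf 0)) (.node (.leaf 0x0) (.leaf 0))))) (.node (.node (.node (.node (.leaf 0xb) (.leaf 0x0)) (.node (.leaf 0x1002004018) (.leaf 0))) (.node (.node (.leaf 0x100b) (.leaf 0)) (.node (.leaf 0x1002002019) (.leaf 0)))) (.node (.node (.node (.leaf 0x0) (.leaf 0x100000001a)) (.node (.leaf 0x1000005008) (.leaf 0))) (.node (.node (.leaf 0x1000003016) (.leaf 0)) (.node (.leaf 0x100400000b) (.leaf 0))))))) (.node (.node (.node (.node (.node (.node (.leaf 0x0) (.leaf 0x3003006)) (.node (.leaf 0x1001020) (.leaf 0))) (.node (.node (.leaf 0x501e)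 (.leaf 0)) (.node (.leaf 0x1002003004) (.leaf 0)))) (.node (.node (.node (.leaf 0xd) (.leaf 0x0)) (.node (.leaf 0x100200500a) (.leaf 0))) (.node (.node (.leaf 0x2003019) (.leaf 0)) (.node (.leaf 0x0) (.leaf 0))))) (.node (.node (.node (.node (.leaf 0x16) (.leaf 0x0)) (.node (.leaf 0x4004019) (.leaf 0))) (.node (.node (.leaf 0x14) (.leaf 0)) (.node (.leaf 0x100200100e) (.leaf 0)))) (.node (.node (.node (.leaf 0x1000000009) (.leaf 0x1003002029)) (.node (.leaf 0x100200301e) (.leaf 0))) (.node (.node (.leaf 0x100400500f) (.leaf 0)) (.node (.leaf 0x0) (.leaf 0)))))) (.node (.node (.node (.node (.node (.leaf 0x0) (.leaf 0x4004029)) (.node (.leaf 0x2004009) (.leaf 0))) (.node (.node (.leaf 0x0) (.leaf 0)) (.node (.leaf 0x1000003002) (.leaf 0)))) (.node (.node (.node (.leaf 0x15) (.leaf 0x0)) (.node (.leaf 0x0) (.leaf 0))) (.node (.node (.leaf 0x1003001025) (.leaf 0)) (.node (.leaf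 0x1004000002) (.leaf 0))))) (.node (.node (.node (.node (.leaf 0x2003026) (.leaf 0x1003004026)) (.node (.leaf 0x0) (.leaf 0))) (.node (.node (.leaf 0x5) (.leaf 0)) (.node (.leaf 0x4001000) (.leaf 0)))) (.node (.node (.node (.leaf 0x1001005010) (.leaf 0)) (.node (.leaf 0x0) (.leaf 0))) (.node (.node (.leaf 0x100200300b) (.leaf 0)) (.node (.leaf 0x3005013) (.leaf 0))))))))

/-- part of the cover -/
def covC15 : Trie :=
  (.node (.node (.node (.node (.node (.node (.node (.leaf 0x0) (.leaf 0x100400001a)) (.node (.leaf 0x0) (.leaf 0))) (.node (.node (.leaf 0x1002001013) (.leaf 0)) (.node (.leaf 0x0) (.leaf 0)))) (.node (.node (.node (.leaf 0x5) (.leaf 0x1002000017)) (.node (.leaf 0x3003016) (.leaf 0))) (.node (.node (.leaf 0x0) (.leaf 0)) (.node (.leaf 0x4004004) (.leaf 0))))) (.node (.node (.node (.node (.leaf 0x0) (.leaf 0x1004005003)) (.node (.leaf 0x1020) (.leaf 0))) (.node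 (.node (.leaf 0x1005) (.leaf 0)) (.node (.leaf 0x4004029) (.leaf 0)))) (.node (.node (.node (.leaf 0x19) (.leaf 0x0)) (.node (.leaf 0x100200e) (.leaf 0))) (.node (.node (.leaf 0x200200f) (.leaf 0)) (.node (.leaf 0x0) (.leaf 0)))))) (.node (.node (.node (.node (.node (.leaf 0x0) (.leaf 0x300300b)) (.node (.leaf 0x300401d) (.leaf 0))) (.node (.node (.leaf 0x1005028) (.leaf 0)) (.node (.leaf 0x1001005010) (.leaf 0)))) (.node (.node (.node (.leaf 0x19) (.leaf 0x0)) (.node (.leaf 0x200200f) (.leaf 0))) (.node (.node (.leaf 0x1005) (.leaf 0)) (.node (.leaf 0x1003000023) (.leaf 0))))) (.node (.node (.node (.node (.leaf 0x14) (.leaf 0x1002002014)) (.node (.leaf 0x1028) (.leaf 0))) (.node (.node (.leaf 0x200b) (.leaf 0)) (.node (.leaf 0x1001003023) (.leaf 0)))) (.node (.node (.node (.leaf 0x14) (.leaf 0x3005012)) (.node (.leaf 0x5009) (.leaf 0))) (.node (.node (.leaf 0x3004011) (.leaf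 0)) (.node (.leaf 0x1000001005) (.leaf 0))))))) (.node (.node (.node (.node (.node (.node (.leaf 0x0) (.leaf 0x1004002000)) (.node (.leaf 0x100300101c) (.leaf 0))) (.node (.node (.leaf 0x200200f) (.leaf 0)) (.node (.leaf 0x0) (.leaf 0)))) (.node (.node (.node (.leaf 0x10) (.leaf 0x1003002000)) (.node (.leaf 0x1000002020) (.leaf 0))) (.node (.node (.leaf 0x4004029) (.leaf 0)) (.node (.leaf 0x0) (.leaf 0))))) (.node (.node (.node (.node (.leaf 0xc) (.leaf 0x0)) (.node (.leaf 0x1000023) (.leaf 0))) (.node (.node (.leaf 0x15) (.leaf 0)) (.node (.leaf 0x4001016) (.leaf 0)))) (.node (.node (.node (.leaf 0x200400b) (.leaf 0x100000200a)) (.node (.leaf 0x100100501e) (.leaf 0))) (.node (.node (.leaf 0x501e) (.leaf 0)) (.node (.leaf 0x1003003026) (.leaf 0)))))) (.node (.node (.node (.node (.node (.leaf 0x0) (.leaf 0x2004009)) (.node (.leaf 0x3003016) (.leaf 0))) (.node (.node (.leaf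 0x100d) (.leaf 0)) (.node (.leaf 0x5021) (.leaf 0)))) (.node (.node (.node (.leaf 0x4) (.leaf 0x0)) (.node (.leaf 0x100400501c) (.leaf 0))) (.node (.node (.leaf 0x4002008) (.leaf 0)) (.node (.leaf 0x1002002010) (.leaf 0))))) (.node (.node (.node (.node (.leaf 0xb) (.leaf 0x0)) (.node (.leaf 0x100400001a) (.leaf 0))) (.node (.node (.leaf 0x200401c) (.leaf 0)) (.node (.leaf 0x1003027) (.leaf 0)))) (.node (.node (.node (.leaf 0x1002003016) (.leaf 0)) (.node (.leaf 0x0) (.leaf 0))) (.node (.node (.leaf 0x4004004) (.leaf 0)) (.node (.leaf 0x1000005009) (.leaf 0))))))))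

/-- part of the cover -/
def covC47 : Trie :=
  (.node (.node (.node (.node (.node (.node (.node (.leaf 0x0) (.leaf 0x300401e)) (.node (.leaf 0x1001002000) (.leaf 0))) (.node (.node (.leaf 0x300401e) (.leaf 0)) (.node (.leaf 0x3002000) (.leaf 0)))) (.node (.node (.node (.leaf 0x1000001010) (.leaf 0x0)) (.node (.leaf 0x0) (.leaf 0))) (.node (.node (.leaf 0x2003019) (.leaf 0)) (.node (.leaf 0x100301a) (.leaf 0))))) (.node (.node (.node (.node (.leaf 0x9) (.leaf 0x200501e)) (.node (.leaf 0x0) (.leaf 0))) (.node (.node (.leaf 0x5) (.leaf 0)) (.node (.leaf 0x1000003007) (.leaf 0)))) (.node (.node (.node (.leaf 0x100100500b) (.leaf 0x0)) (.node (.leaf 0x4009) (.leaf 0))) (.node (.node (.leaf 0x100400000a) (.leaf 0)) (.node (.leaf 0x1004000022) (.leaf 0)))))) (.node (.node (.node (.node (.node (.leaf 0x0) (.leaf 0x1000003015)) (.node (.leaf 0x1001020) (.leaf 0))) (.node (.node (.leaf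 0x0) (.leaf 0)) (.node (.leaf 0x300401e) (.leaf 0)))) (.node (.node (.node (.leaf 0x1c) (.leaf 0x1003003019)) (.node (.leaf 0x1003027) (.leaf 0))) (.node (.node (.leaf 0x100400500f) (.leaf 0)) (.node (.leaf 0x0) (.leaf 0))))) (.node (.node (.node (.node (.leaf 0xd) (.leaf 0x1001014)) (.node (.leaf 0x100200301c) (.leaf 0))) (.node (.node (.leaf 0x100000201d) (.leaf 0)) (.node (.leaf 0x200200f) (.leaf 0)))) (.node (.node (.node (.leaf 0x100200501e) (.leaf 0x12)) (.node (.leaf 0x100301d) (.leaf 0))) (.node (.node (.leaf 0x2001000) (.leaf 0)) (.node (.leaf 0x100400000a) (.leaf 0))))))) (.node (.node (.node (.node (.node (.node (.leaf 0x0) (.leaf 0x100000100f)) (.node (.leaf 0x3003018) (.leaf 0))) (.node (.node (.leaf 0x1003027) (.leaf 0)) (.node (.leaf 0x1001028) (.leaf 0)))) (.node (.node (.node (.leaf 0x20) (.leaf 0x1003005011)) (.node (.leaf 0x1003005010) (.leaf 0))) (.node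 (.node (.leaf 0x0) (.leaf 0)) (.node (.leaf 0x1003000028) (.leaf 0))))) (.node (.node (.node (.node (.leaf 0x0) (.leaf 0x1003001021)) (.node (.leaf 0x100300200f) (.leaf 0))) (.node (.node (.leaf 0x4) (.leaf 0)) (.node (.leaf 0x4002029) (.leaf 0)))) (.node (.node (.node (.leaf 0x5021) (.leaf 0x1001003018)) (.node (.leaf 0x4005004) (.leaf 0))) (.node (.node (.leaf 0x0) (.leaf 0)) (.node (.leaf 0x0) (.leaf 0)))))) (.node (.node (.node (.node (.node (.leaf 0x0) (.leaf 0x1000005009)) (.node (.leaf 0x0) (.leaf 0))) (.node (.node (.leaf 0xb) (.leaf 0)) (.node (.leaf 0x0) (.leaf 0)))) (.node (.node (.node (.leaf 0x0) (.leaf 0x0)) (.node (.leaf 0x1003002024) (.leaf 0))) (.node (.node (.leaf 0x100000501c) (.leaf 0)) (.node (.leaf 0x0) (.leaf 0))))) (.node (.node (.node (.node (.leaf 0x1005) (.leaf 0x1006)) (.node (.leaf 0x0) (.leaf 0))) (.node (.node (.leaf 0x1004) (.leaf 0)) (.node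 (.leaf 0x3019) (.leaf 0)))) (.node (.node (.node (.leaf 0x200200f) (.leaf 0)) (.node (.leaf 0x0) (.leaf 0))) (.node (.node (.leaf 0x100100100d) (.leaf 0)) (.node (.leaf 0x4004029) (.leaf 0))))))))

/-- part of the cover -/
def covC31 : Trie :=
  (.node (.node (.node (.node (.node (.node (.node (.leaf 0x0) (.leaf 0x1000002004)) (.node (.leaf 0x100200301d) (.leaf 0))) (.node (.node (.leaf 0x0) (.leaf 0)) (.node (.leaf 0x0) (.leaf 0)))) (.node (.node (.node (.leaf 0x1f) (.leaf 0x1002001000)) (.node (.leaf 0x2005010) (.leaf 0))) (.node (.node (.leaf 0x1000) (.leaf 0)) (.node (.leaf 0x100400000a) (.leaf 0))))) (.node (.node (.node (.node (.leaf 0x1c) (.leaf 0x5)) (.node (.leaf 0x100301b) (.leaf 0))) (.node (.node (.leaf 0x2) (.leaf 0)) (.node (.leaf 0x1002002009) (.leaf 0)))) (.node (.node (.node (.leaf 0x14) (.leaf 0x100400501e)) (.node (.leaf 0x0) (.leaf 0))) (.node (.node (.leaf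 0x1001001020) (.leaf 0)) (.node (.leaf 0x0) (.leaf 0)))))) (.node (.node (.node (.node (.node (.leaf 0x0) (.leaf 0x0)) (.node (.leaf 0x4003019) (.leaf 0))) (.node (.node (.leaf 0x4000008) (.leaf 0)) (.node (.leaf 0x1001000029) (.leaf 0)))) (.node (.node (.node (.leaf 0x0) (.leaf 0x100400400a)) (.node (.leaf 0x1000012) (.leaf 0))) (.node (.node (.leaf 0x1005) (.leaf 0)) (.node (.leaf 0x400101e) (.leaf 0))))) (.node (.node (.node (.node (.leaf 0x29) (.leaf 0x0)) (.node (.leaf 0x100000100f) (.leaf 0))) (.node (.node (.leaf 0x100000101f) (.leaf 0)) (.node (.leaf 0x100300500d) (.leaf 0)))) (.node (.node (.node (.leaf 0x5) (.leaf 0x3003001)) (.node (.leaf 0x0) (.leaf 0))) (.node (.node (.leaf 0x0) (.leaf 0)) (.node (.leaf 0x0) (.leaf 0))))))) (.node (.node (.node (.node (.node (.node (.leaf 0x0) (.leaf 0x100200401e)) (.node (.leaf 0x1000) (.leaf 0))) (.node (.node (.leaf 0x1000012)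 (.leaf 0)) (.node (.leaf 0x1000012) (.leaf 0)))) (.node (.node (.node (.leaf 0x12) (.leaf 0x0)) (.node (.leaf 0x0) (.leaf 0))) (.node (.node (.leaf 0x100d) (.leaf 0)) (.node (.leaf 0x200500c) (.leaf 0))))) (.node (.node (.node (.node (.leaf 0x0) (.leaf 0x100401e)) (.node (.leaf 0x1000) (.leaf 0))) (.node (.node (.leaf 0x16) (.leaf 0)) (.node (.leaf 0x2002024) (.leaf 0)))) (.node (.node (.node (.leaf 0x100000500f) (.leaf 0x1002003015)) (.node (.leaf 0x0) (.leaf 0))) (.node (.node (.leaf 0x100400001c) (.leaf 0)) (.node (.leaf 0x4001000) (.leaf 0)))))) (.node (.node (.node (.node (.node (.leaf 0x0) (.leaf 0x1000003002)) (.node (.leaf 0x1005) (.leaf 0))) (.node (.node (.leaf 0x0) (.leaf 0)) (.node (.leaf 0x100200300a) (.leaf 0)))) (.node (.node (.node (.leaf 0xc) (.leaf 0xd)) (.node (.leaf 0x1003003018) (.leaf 0))) (.node (.node (.leaf 0x0) (.leaf 0)) (.node (.leaf 0x0) (.leaf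 0))))) (.node (.node (.node (.node (.leaf 0x1005) (.leaf 0x0)) (.node (.leaf 0x1001004009) (.leaf 0))) (.node (.node (.leaf 0x4004009) (.leaf 0)) (.node (.leaf 0x0) (.leaf 0)))) (.node (.node (.node (.leaf 0x4004004) (.leaf 0)) (.node (.leaf 0x1002000000) (.leaf 0))) (.node (.node (.leaf 0x0) (.leaf 0)) (.node (.leaf 0x1000000020) (.leaf 0))))))))

/-- part of the cover -/
def covC63 : Trie :=
  (.node (.node (.node (.node (.node (.node (.node (.leaf 0x0) (.leaf 0x0)) (.node (.leaf 0x1026) (.leaf 0))) (.node (.node (.leaf 0x201c) (.leaf 0)) (.node (.leaf 0x4001005) (.leaf 0)))) (.node (.node (.node (.leaf 0x1002001011) (.leaf 0x2002003)) (.node (.leaf 0x1002000029) (.leaf 0))) (.node (.node (.leaf 0x1000001009) (.leaf 0)) (.node (.leaf 0x0) (.leaf 0))))) (.node (.node (.node (.node (.leaf 0x4) (.leaf 0x0)) (.node (.leaf 0x101e) (.leaf 0))) (.node (.node (.leaf 0x1e) (.leaf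 0)) (.node (.leaf 0x1019) (.leaf 0)))) (.node (.node (.node (.leaf 0x1000005011) (.leaf 0x1002004005)) (.node (.leaf 0x4004005) (.leaf 0))) (.node (.node (.leaf 0x0) (.leaf 0)) (.node (.leaf 0x1005021) (.leaf 0)))))) (.node (.node (.node (.node (.node (.leaf 0x0) (.leaf 0x1005028)) (.node (.leaf 0x100200300b) (.leaf 0))) (.node (.node (.leaf 0x4004029) (.leaf 0)) (.node (.leaf 0x100000500f) (.leaf 0)))) (.node (.node (.node (.leaf 0x9) (.leaf 0x1004001017)) (.node (.leaf 0x0) (.leaf 0))) (.node (.node (.leaf 0x1000003029) (.leaf 0)) (.node (.leaf 0x0) (.leaf 0))))) (.node (.node (.node (.node (.leaf 0x0) (.leaf 0x1000029)) (.node (.leaf 0x1018) (.leaf 0))) (.node (.node (.leaf 0x1002002018) (.leaf 0)) (.node (.leaf 0x1000012) (.leaf 0)))) (.node (.node (.node (.leaf 0x15) (.leaf 0)) (.node (.leaf 0x2003026) (.leaf 0))) (.node (.node (.leaf 0x4003019) (.leaf 0)) (.node (.leaf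 0x3004029) (.leaf 0))))))) (.node (.node (.node (.node (.node (.node (.leaf 0x0) (.leaf 0x4002029)) (.node (.leaf 0x300400b) (.leaf 0))) (.node (.node (.leaf 0x0) (.leaf 0)) (.node (.leaf 0x1003000028) (.leaf 0)))) (.node (.node (.node (.leaf 0xb) (.leaf 0x0)) (.node (.leaf 0x1000002009) (.leaf 0))) (.node (.node (.leaf 0xb) (.leaf 0)) (.node (.leaf 0x2003026) (.leaf 0))))) (.node (.node (.node (.node (.leaf 0x19) (.leaf 0x0)) (.node (.leaf 0x3005016) (.leaf 0))) (.node (.node (.leaf 0x1002000012) (.leaf 0)) (.node (.leaf 0x3019) (.leaf 0)))) (.node (.node (.node (.leaf 0x100200300a) (.leaf 0x1002000027)) (.node (.leaf 0x300401e) (.leaf 0))) (.node (.node (.leaf 0x1000012) (.leaf 0)) (.node (.leaf 0x0) (.leaf 0)))))) (.node (.node (.node (.node (.node (.leaf 0x19) (.leaf 0x0)) (.node (.leaf 0x100200200c) (.leaf 0))) (.node (.node (.leaf 0x1005) (.leaf 0)) (.node (.leaf 0x0)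 (.leaf 0)))) (.node (.node (.node (.leaf 0x0) (.leaf 0x0)) (.node (.leaf 0x1001005010) (.leaf 0))) (.node (.node (.leaf 0x1002000019) (.leaf 0)) (.node (.leaf 0x100001c) (.leaf 0))))) (.node (.node (.node (.node (.leaf 0x0) (.leaf 0x0)) (.node (.leaf 0x0) (.leaf 0))) (.node (.node (.leaf 0x100200300c) (.leaf 0)) (.node (.leaf 0x1000003029) (.leaf 0)))) (.node (.node (.node (.leaf 0x1003002020) (.leaf 0)) (.node (.leaf 0x0) (.leaf 0))) (.node (.node (.leaf 0x0) (.leaf 0)) (.node (.leaf 0x1003000028) (.leaf 0))))))))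

/-- the cover -/
def covC : Trie :=
  (.node (.node (.node (.node (.node (.node covC0 covC32) (.node covC16 covC48)) (.node (.node covC8 covC40) (.node covC24 covC56))) (.node (.node (.node covC4 covC36) (.node covC20 covC52)) (.node (.node covC12 covC44) (.node covC28 covC60)))) (.node (.node (.node (.node covC2 covC34) (.node covC18 covC50)) (.node (.node covC10 covC42) (.node covC26 covC58))) (.node (.node (.node covC6 covC38) (.node covC22 covC54)) (.node (.node covC14 covC46) (.node covC30 covC62))))) (.node (.node (.node (.node (.node covC1 covC33) (.node covC17 covC49)) (.node (.node covC9 covC41) (.node covC25 covC57))) (.node (.node (.node covC5 covC37) (.node covC21 covC53)) (.node (.node covC13 covC45) (.node covC29 covC61)))) (.node (.node (.node (.node covC3 covC35) (.node covC19 covC51)) (.node (.node covC11 covC43) (.node covC27 covC59))) (.node (.node (.node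 covC7 covC39) (.node covC23 covC55)) (.node (.node covC15 covC47) (.node covC31 covC63))))))

/-- the moves -/
def moves : List Mv := [
  .t 1 3 [] 0 0, 
  .t 1 9 [] 0 0x52291430c85b, 
  .t 1 10 [] 2 0x52291430c85b, 
  .t 1 11 [] 3 0x1b4cc, 
  .t 1 4 [] 2 0, 
  .t 1 12 [] 0 0, 
  .t 1 13 [] 1 0, 
  .t 1 21 [14, 16, 14, 14, 14, 16, 15, 15, 15, 16, 14, 14, 14, 17, 17, 15, 15, 15, 15, 14, 14, 14, 14, 16, 16, 16, 15, 15, 15, 16, 15, 14, 14, 14, 14, 14] 3 0x216cc859, 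
  .t 1 17 [14, 16, 14, 14, 14, 16, 15, 15, 15, 16, 14, 14, 14, 17, 17, 15, 15, 15, 16, 14, 16, 14, 17, 14, 14, 17, 15, 15, 15, 17, 14, 14, 14, 17, 15, 15, 15, 16, 14, 16, 14, 17, 14, 14, 17, 15, 15, 15, 17, 14, 14, 14, 16, 15, 15, 15, 17, 14, 14, 14, 17, 15, 15, 15, 16, 14, 16, 14, 17, 14, 14, 17, 17, 17, 17, 15, 15, 15, 17, 14, 14, 14, 16, 15, 15, 15, 16, 14, 14, 14, 17, 15, 15, 15, 16, 14, 14, 14, 16, 15, 15, 16, 15, 17, 15, 17, 14, 14, 14, 16, 16, 15, 15, 15, 17, 14, 14, 14, 17, 15, 15, 15, 17, 15, 14, 16, 14, 14, 14, 16, 15, 15, 15, 16, 14, 14, 14, 17, 17, 15, 15, 15, 16, 14, 16, 14, 17, 14, 14, 17, 15, 15, 15, 17, 14, 14, 14, 17, 15, 15, 15, 16, 14, 16, 14, 17, 14, 14, 17, 15, 15, 15, 17, 14, 14, 14, 16, 15, 15, 15, 17, 14, 14, 14, 17, 15, 15, 15, 17, 15, 14, 16, 14, 14, 14, 16, 15, 15, 15, 16, 14, 14, 14, 17, 17, 15, 15, 15, 16, 16, 14, 16, 14, 17, 14, 14, 17, 17, 17,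 17, 15, 15, 15, 17, 17, 15, 14, 14, 14, 14, 16, 15, 15, 15, 16, 14, 14, 14, 16, 15, 15, 16, 14, 17, 15, 15, 14, 14, 14, 14, 14, 16, 16, 16] 2 0x1332186165b, 
  .t 1 30 [] 0 0x2cb659, 
  .t 1 47 [14, 16, 14, 14, 14, 16, 15, 15, 15, 16, 14, 14, 14, 17, 17, 15, 15, 15, 16, 14, 16, 14, 17, 14, 14, 17, 15, 15, 15, 17, 14, 14, 14, 17, 15, 15, 15, 16, 14, 16, 14, 17, 14, 14, 17, 15, 15, 15, 17, 14, 14, 14, 16, 15, 15, 15, 17, 14, 14, 14, 17, 15, 15, 15, 16, 14, 16, 14, 17, 14, 14, 17, 17, 17, 17, 15, 15, 15, 17, 14, 14, 14, 16, 15, 15, 15, 16, 14, 14, 14, 17, 15, 15, 15, 16, 14, 14, 14, 16, 15, 15, 16, 15, 17, 15, 17, 14, 14, 14, 16, 16, 15, 15, 15, 17, 14, 14, 14, 17, 15, 15, 15, 17, 15, 14, 16, 14, 14, 14, 16, 15, 15, 15, 16, 14, 14, 14, 17, 17, 15, 15, 15, 16, 14, 16, 14, 17, 14, 14, 17, 15, 15, 15, 17, 14, 14, 14, 17, 15, 15, 15, 16, 14, 16, 14, 17, 14, 14, 17, 15, 15, 15, 17,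 14, 14, 14, 16, 15, 15, 15, 17, 14, 14, 14, 17, 15, 15, 15, 17, 15, 14, 16, 14, 14, 14, 16, 15, 15, 15, 16, 14, 14, 14, 17, 17, 15, 15, 15, 16, 16, 14, 16, 14, 17, 14, 14, 17, 17, 17, 17, 15, 15, 15, 17, 17, 15, 14, 14, 14, 14, 16, 15, 15, 15, 16, 14, 14, 14, 16, 15, 15, 16, 14, 17, 15, 15, 14, 14, 14, 14, 14, 16, 16, 16] 1 0x144d494c964b25, 
  .t 1 51 [] 0 0, 
  .t 1 27 [] 0 1313, 
  .t 1 19 [] 1 0x1486185b30b, 
  .t 1 14 [] 3 0, 
  .t 1 18 [] 0 0x142db, 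
  .t 1 49 [] 0 1241, 
  .t 1 38 [] 0 0, 
  .t 1 50 [] 0 0x1b4cc, 
  .t 1 48 [32, 32, 32] 3 0x89a9134db2d9859, 
  .t 1 82 [32, 32, 40, 32, 32, 41, 32, 32, 40, 33, 33, 41, 32, 32, 32, 32, 32, 40, 33, 33, 41, 32, 40, 32, 32, 41, 32, 32, 40, 33, 33, 41, 32, 32, 32, 32, 32, 40, 33, 33, 41, 32, 32, 32, 32, 32, 40, 33, 33, 41, 32, 32, 32, 32, 32, 40, 33, 33, 41, 33, 32, 32, 40, 32, 32, 41, 32, 32, 40, 33, 33, 41, 32, 32, 32, 32, 32, 40, 33, 33, 41, 32, 32, 32, 32, 32, 40, 33, 33, 41, 32, 40, 32, 32, 41, 32, 32, 40, 33, 33, 41, 32, 32, 32, 32, 32, 40, 33, 33, 41, 32, 32, 32, 32, 32, 40, 33, 33, 41, 33, 32, 40, 32, 32, 41, 33, 33, 33, 33, 33, 40, 32, 32, 41, 33, 33, 33, 33, 33, 33, 40, 32, 32, 32, 40, 32] 2 0x9d914964a64acc, 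
  .t 1 77 [] 1 0, 
  .t 1 95 [32, 32, 40, 32, 32, 41, 32, 32, 40, 33, 33, 41, 32, 32, 32, 32, 32, 40, 33, 33, 41, 32, 32, 32, 32, 32, 40, 33, 33, 41, 32, 40, 32, 32, 41, 32, 32, 40, 33, 33, 41, 32, 32, 32, 32, 32, 40, 33, 33, 41, 32, 40, 32, 32, 41, 32, 32, 40, 33, 33, 41, 32, 32, 32, 32, 32, 40, 33, 33, 41, 32, 32, 32, 32, 32, 40, 33, 33, 41, 32, 32, 32, 32, 32, 40, 33, 33, 41, 33, 32, 40, 32, 32, 41, 33, 33, 33, 33, 33, 40, 32, 32, 41, 33, 33, 33, 33, 33, 40, 32, 32, 41, 33, 33, 33, 33, 33, 40, 32, 32, 41, 33, 33, 33, 33, 33, 33, 40, 32, 32, 40, 32, 32] 2 0xda9144db2cb664, 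
  .t 1 62 [32, 32, 40, 32, 32, 41, 32, 32, 40, 33, 33, 41, 32, 32, 32, 32, 32, 40, 33, 33, 41, 32, 40, 32, 32, 41, 32, 32, 40, 33, 33, 41, 32, 32, 32, 32, 32, 40, 33, 33, 41, 32, 32, 32, 32, 32, 40, 33, 33, 41, 32, 32, 32, 32, 32, 40, 33, 33, 41, 33, 32, 32, 40, 32, 32, 41, 32, 32, 40, 33, 33, 41, 32, 32, 32, 32, 32, 40, 33, 33, 41, 32, 32, 32, 32, 32, 40, 33, 33, 41, 32, 40, 32, 32, 41, 32, 32, 40, 33, 33, 41, 32, 32, 32, 32, 32, 40, 33, 33, 41, 32, 40, 32, 32, 41, 32, 32, 40, 33, 33, 41, 32, 32, 32, 32, 32, 40, 33, 33, 41, 32, 32, 32, 32, 32, 40, 33, 33, 41, 32, 32, 32, 32, 32, 40, 33, 33, 41, 33, 40, 32, 32, 32, 40, 32] 2 0x15badd6eb50c, 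
  .t 1 37 [40, 32, 32, 32, 32, 32, 32, 40] 2 0x8a452289966190c, 
  .t 1 45 [32, 32, 32, 32, 32, 32] 2 1292, 
  .t 1 28 [52] 2 1313, 
  .t 1 22 [] 1 0, 
  .t 1 108 [46, 46, 52, 92, 46, 46, 93, 93, 93, 46, 92, 92, 46, 93, 93, 93, 53, 46, 93, 93, 47, 92, 46, 92, 47, 93, 47, 47, 47, 47, 52, 92, 92, 92, 47, 93, 93, 47, 47, 47, 47, 46, 46, 52, 92, 92, 46, 92, 92, 46, 46, 46] 1 0x2275b50ca64b25, 
  .t 1 40 [] 0 0, 
  .t 1 44 [] 0 1292, 
  .t 1 36 [64, 68, 86, 64] 0 0x69a6a16cb6cc, 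
  .t 1 35 [] 3 0x1369a69b2cc859, 
  .t 1 31 [] 2 0, 
  .t 1 59 [] 0 0, 
  .t 1 76 [64, 86, 86, 64, 87, 87, 65, 65, 86, 86, 64, 64, 87, 87, 65, 65, 86, 86, 64, 64, 87, 87, 65, 65, 64, 64, 64, 86, 64, 64, 86, 86, 86] 3 0x26a28a42d96d985b, 
  .t 1 88 [64, 86, 86, 64, 87, 87, 65, 65, 64, 64, 68, 86, 86] 0 0x1a8a269966430c, 
  .t 1 70 [] 2 0x14522b2baec953acb, 
  .t 1 125 [] 0 0x2cb659, 
  .t 1 84 [] 0 0x50b661859, 
  .t 1 39 [68] 2 0x11490c2cb321, 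
  .t 1 119 [64, 64, 64, 64, 86, 86] 0 0x75a91352c964acc, 
  .t 1 41 [68] 2 0xb2289a66596174b, 
  .t 1 106 [86, 86, 86] 0 0x36a29144cb2d96cc, 
  .t 1 42 [68] 1 0x15922865864a65, 
  .t 1 110 [] 0 0x148a44da66432190b, 
  .t 1 56 [] 0 0x1a85b, 
  .t 1 57 [] 2 0x29156ec90b32575b, 
  .t 1 58 [] 3 0xc86190b, 
  .t 1 52 [] 2 0, 
  .t 1 61 [] 0 0, 
  .t 1 63 [] 1 0, 
  .t 1 60 [150, 150, 150, 150, 106, 151, 151, 151, 151, 106, 150, 150, 150, 150, 150, 150] 2 0x26a26d350c2cb659, 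
  .t 1 98 [150, 150, 150, 106, 150, 106, 151, 151, 151, 151, 106, 150, 106, 150, 106] 3 0xa44da74b75badd, 
  .t 1 69 [150, 150, 150, 106, 150, 106, 151, 106, 150, 107, 151, 107, 151, 151, 151, 106, 150, 106, 150, 106, 150] 0 0x576292c5256ebacc, 
  .t 1 64 [150, 150, 150, 106, 150, 106, 151, 106, 150, 107, 151, 107, 151, 151, 151, 150, 150, 150, 106, 150, 106, 151, 151, 151, 151, 150, 106, 150, 106, 150, 150] 2 0x2596296432c95d, 
  .t 1 100 [150, 150, 150, 106, 150, 106, 151, 151, 151, 151, 106, 150, 106, 150, 106] 2 0x3524514964b2592a, 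
  .t 1 91 [150, 150, 150, 150, 106, 151, 151, 151, 151, 106, 150, 150, 150, 150, 150, 150] 3 0x4d48a265b2cc85b, 
  .t 1 114 [] 0 0x2cb659, 
  .t 1 136 [150, 150, 150, 150, 106, 151, 151, 151, 151, 150, 150, 150, 150, 150, 106, 150, 150] 2 0xb1589a6cc86532b, 
  .t 1 68 [] 0 0, 
  .t 1 116 [150, 150, 150, 150, 106, 151, 151, 151, 151, 150, 150, 106] 1 0x2b6a4b14964325965, 
  .t 1 85 [] 2 0x1144d34d990b30c, 
  .t 1 86 [] 1 0x135242cb30c30b, 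
  .t 1 78 [] 3 0, 
  .t 1 83 [] 0 0xa44da6a2864321659, 
  .t 1 117 [194, 194, 204, 194, 205, 194, 204, 194, 205, 194, 194, 204, 195, 205, 195, 204, 195, 205, 194, 204, 195, 205, 194, 194, 204, 194, 205, 195, 204, 194, 205, 194, 204, 194, 205, 194] 3 0x2269b5216cb65b, 
  .t 1 96 [] 0 0xda6d3321859659, 
  .t 1 112 [] 2 0x218642cc, 
  .t 1 90 [194] 1 0xb244da66585b765, 
  .t 1 87 [204, 194, 205, 195, 194] 2 0x52cb226cbaebadd, 
  .t 1 101 [] 0 0xd985b321, 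
  .t 1 115 [194, 194, 204, 194, 205, 194, 204, 194, 205, 194, 194, 204, 195, 205, 195, 204, 195, 205, 194, 204, 195, 205, 204, 194, 205, 194, 204, 194, 205, 195, 204, 194, 205, 194, 204, 194, 205, 195, 194, 204] 2 0x36a430b6cb321, 
  .t 1 107 [] 3 0x69a6d486430b, 
  .t 1 89 [] 0 0x2290c, 
  .t 1 138 [204, 194, 205, 195, 194] 3 0x9134d36a430c861, 
  .t 1 120 [194, 194, 204, 194, 205, 194, 204, 194, 205, 194, 194, 204, 195, 205, 195, 204, 195, 205, 194, 204, 195, 205, 204, 194, 205, 194, 204, 194, 205, 195, 204, 194, 205, 195] 2 0xb13ada6ecaa4a65, 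
  .t 1 104 [194, 194, 204, 194, 205, 194, 204, 194, 205, 194, 194, 204, 195, 205, 195, 204, 195, 205, 194, 204, 195, 205, 194, 194, 204, 194, 205, 195, 204, 194, 205, 194, 204, 194, 205, 194, 204, 194, 205, 195, 204, 194, 205, 195, 194, 204] 2 0x6d369a6a185b661, 
  .t 1 103 [194, 194, 204] 1 0x51369b30b664, 
  .t 1 118 [194, 194, 204, 194, 205, 194, 204, 194, 205, 194, 194, 204, 195, 205, 195, 204, 195, 205, 194, 204, 195, 205, 194, 194, 204, 194, 205, 195, 204, 194, 205, 194, 204, 194, 205, 194, 204, 194, 205, 195, 204, 194, 205, 194] 2 0x15913b24b2175d6eb, 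
  .t 1 99 [194, 194, 204, 194, 205, 194, 204, 194, 205, 194, 194, 204, 195, 205, 195, 204, 195, 205, 194, 204, 195, 205, 204, 194, 205, 194] 1 0x5242cb66190c, 
  .t 1 113 [194, 194, 204, 194, 205, 194, 204, 194, 205, 194, 194, 204, 195, 205, 195, 204, 195, 205, 194, 204, 195, 205, 194, 194, 204, 194, 205, 195, 204, 194, 205, 194, 204, 194, 205, 194, 204, 194, 205, 195, 204] 0 0xa28a265b2d96cb, 
  .t 1 111 [] 2 0x145136a16cb2d9, 
  .t 1 129 [] 1 0x859659, 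
  .t 1 109 [] 2 0x2289a6d965b2db, 
  .t 1 140 [] 2 0, 
  .t 1 131 [194, 194, 204, 194, 205, 194, 204, 194, 205, 194, 194, 204, 195, 205, 195, 204, 195, 205, 194, 204, 195, 205, 194, 194, 204, 194, 205, 195, 204, 194, 205, 194, 204, 194, 205, 194, 204, 194, 205, 195, 204, 194, 205, 194] 2 0x1d6ebb24b2275b761, 
  .t 1 105 [] 2 0x2cb30c, 
  .t 1 122 [204, 194, 205, 194, 204, 194, 205, 194, 204, 194, 205, 195, 204, 194, 205, 194, 204, 194, 205, 195, 204] 0 0x9b52289b2d9661, 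
  .t 1 123 [] 0 0, 
  .t 1 121 [204, 194, 205, 194, 204, 194, 205, 194, 204, 194, 205, 195, 204, 194, 205, 194] 2 0x95badd6ec, 
  .t 1 124 [194, 194, 204, 194, 205, 194, 204, 194, 205, 194, 194, 204, 195, 205, 195, 204, 195, 205, 194, 204, 195, 205] 2 0x52430c85b2cc, 
  .t 1 132 [] 0 0x9a8a286430b6cb, 
  .t 1 130 [] 3 0x9148a26998642d9, 
  .t 1 134 [] 3 0x132db30b2cb, 
  .t 1 126 [] 2 0, 
  .t 1 135 [] 0 0x136cb, 
  .t 1 137 [] 1 0x69a9142cb2db, 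
  .t 1 139 [] 0 0x1b564b25859865, 
  .t 1 141 [] 0 0, 
  .t 1 149 [] 0 0x1486190b30c]

/-- all the data -/
def xd : XData :=
  { O := ⟨nodes, reps⟩, D := dd, nfacts := 150, kchain := kchain, cchain := cchain,
    cw := [0, 3, 153, 27, 1689, 1241, 219, 0x3699, 0x34cb, 0x34d9, 9931, 9945, 36, 0x1b699, 0x1b4cb, 0x1b4d9, 0x1365b, 0x2d9659, 0x136cb, 1313, 0x4899, 0xdb4cb, 0xdb4d9, 0xda65b, 0xda6d9, 0x9b2db, 0x16cb2cb, 0x9b65b, 0x16d9659, 0x6da65b, 0x6da6cb, 0x6d36cb, 0xb65b659, 0xb6cb659, 0xb6cb2d9, 0x36d32db, 0xdb2cb659, 0x36d365b, 0x369b65b, 0xd96d9659, 0x5b2db2cb, 0x5b65b2cb, 0x5b6596cb, 0x6d965b2cb, 0x6d965b2d9, 0x1490b2d9659, 0x490b2d965b, 0x1244cb659659, 0x490b2d96cb, 0x1330c86190c],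
    ck := [[(1, 0), (2, 0)], [(3, 0), (4, 0)], [(4, 0x4019), (5, 0)], [(6, 0), (7, 0)], [(8, 0), (9, 0)], [(10, 0), (11, 0)], [(12, 0), (13, 0)], [(14, 0), (15, 0)], [(2, 0x1001012), (0, 0x1000000000)], [(0, 0x400201c), (1, 0x400301d)], [(16, 0), (17, 0)], [(18, 0), (19, 0)], [(9, 0x100400001e), (20, 0)], [(21, 0), (22, 0)], [(23, 0), (23, 0x400300b)], [(15, 0x100100301c), (24, 0)], [(25, 0), (16, 0x200201c)], [(26, 0), (26, 0x100000b)], [(27, 0), (28, 0)], [(20, 0x100200100e), (8, 0x1000000000)], [(5, 0x100400500f), (3, 0x1004001012)], [(29, 0), (27, 0x1000001005)], [(30, 0), (6, 4101)], [(24, 0x1003020), (14, 0x1000003004)], [(31, 0), (12, 0x1002005003)], [(19, 0x1003016), (32, 0)], [(17, 16), (25, 0x1001002000)], [(11, 0x200301b), (33, 0)], [(22, 0x1000011), (34, 0)], [(35, 0), (36, 0)], [(37, 0), (37, 0x100100400a)], [(38, 0), (39, 0)], [(40, 0), (35, 4101)], [(41, 0),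 (41, 0x1005018)], [(42, 0), (38, 0x200301b)], [(33, 0x100200d), (10, 0x1003005016)], [(43, 0), (44, 0)], [(32, 0x1001005026), (18, 0x100400b)], [(7, 0x100400b), (30, 0x1001005002)], [(34, 0x1002001026), (21, 0x100000100f)], [(28, 0x400501c), (29, 0x1005026)], [(13, 0x1001004001), (31, 0x1004002018)], [(44, 0x1004005012), (45, 0)], [(46, 0), (47, 0)], [(48, 0), (48, 0x300400b)], [(47, 0x4019), (49, 0)], [(36, 0x1004001006), (40, 0x1004004005)], [(45, 0x1003003019), (43, 0x1002001000)], [(49, 0x1002000026), (46, 0x100400500b)], [(39, 0x2005003), (42, 0x1003000015)]],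
    five := five, xloop := xloop, base := [base0, base1, base2, base3, base4, base5, base6, base7, base8],
    covB := covB, covV := covV, covC := covC, mv := moves,
    gfacts := [[0, 1, 2], [7, 8], [16, 20], [23, 26, 29, 46], [32, 34, 43], [53, 75], [97, 102], [127, 133], [144, 148]] }

end

end Cfsg.Agent.HN.Dat
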