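import Cfsg.Agent.Lib.HN.A12Data
import Cfsg.Agent.Lib.HN.LoopData

/-! Kernel checks: relations of the ten elements -/

set_option autoImplicit false
set_option maxRecDepth 100000
set_option Elab.async false

namespace Cfsg.Agent.HN.Dat

theorem alt0_0 : xd.okStart altU (altW3 altS 0) altLoop0 0 = true := by decide +kernel

theorem alt0_1 : xd.okStart altU (altW3 altS 0) altLoop0 1 = true := by decide +kernel

theorem alt0_2 : xd.okStart altU (altW3 altS 0) altLoop0 2 = true := by decide +kernel

theorem alt0_3 : xd.okStart altU (altW3 altS 0) altLoop0 3 = true := by decide +kernel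

theorem alt0_4 : xd.okStart altU (altW3 altS 0) altLoop0 4 = true := by decide +kernel

theorem alt0_5 : xd.okStart altU (altW3 altS 0) altLoop0 5 = true := by decide +kernel

theorem alt0_6 : xd.okStart altU (altW3 altS 0) altLoop0 6 = true := by decide +kernel

theorem alt1_0 : xd.okStart altU (altW3 altS 1) altLoop1 0 = true := by decide +kernel

theorem alt1_1 : xd.okStart altU (altW3 altS 1) altLoop1 1 = true := by decide +kernel

theorem alt1_2 : xd.okStart altU (altW3 altS 1) altLoop1 2 = true := by decide +kernel

theorem alt1_3 : xd.okStart altU (altW3 altS 1) altLoop1 3 = true := by decide +kernel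

theorem alt1_4 : xd.okStart altU (altW3 altS 1) altLoop1 4 = true := by decide +kernel

theorem alt1_5 : xd.okStart altU (altW3 altS 1) altLoop1 5 = true := by decide +kernel

theorem alt1_6 : xd.okStart altU (altW3 altS 1) altLoop1 6 = true := by decide +kernel

theorem alt2_0 : xd.okStart altU (altW3 altS 2) altLoop2 0 = true := by decide +kernel

theorem alt2_1 : xd.okStart altU (altW3 altS 2) altLoop2 1 = true := by decide +kernel

theorem alt2_2 : xd.okStart altU (altW3 altS 2) altLoop2 2 = true := by decide +kernel

theorem alt2_3 : xd.okStart altU (altW3 altS 2) altLoop2 3 = true := by decide +kernel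

theorem alt2_4 : xd.okStart altU (altW3 altS 2) altLoop2 4 = true := by decide +kernel

theorem alt2_5 : xd.okStart altU (altW3 altS 2) altLoop2 5 = true := by decide +kernel

theorem alt2_6 : xd.okStart altU (altW3 altS 2) altLoop2 6 = true := by decide +kernel

theorem alt3_0 : xd.okStart altU (altW3 altS 3) altLoop3 0 = true := by decide +kernel

theorem alt3_1 : xd.okStart altU (altW3 altS 3) altLoop3 1 = true := by decide +kernel

theorem alt3_2 : xd.okStart altU (altW3 altS 3) altLoop3 2 = true := by decide +kernel

theorem alt3_3 : xd.okStart altU (altW3 altS 3) altLoop3 3 = true := by decide +kernel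

theorem alt3_4 : xd.okStart altU (altW3 altS 3) altLoop3 4 = true := by decide +kernel

theorem alt3_5 : xd.okStart altU (altW3 altS 3) altLoop3 5 = true := by decide +kernel

theorem alt3_6 : xd.okStart altU (altW3 altS 3) altLoop3 6 = true := by decide +kernel

theorem alt4_0 : xd.okStart altU (altW3 altS 4) altLoop4 0 = true := by decide +kernel

theorem alt4_1 : xd.okStart altU (altW3 altS 4) altLoop4 1 = true := by decide +kernel

theorem alt4_2 : xd.okStart altU (altW3 altS 4) altLoop4 2 = true := by decide +kernel

theorem alt4_3 : xd.okStart altU (altW3 altS 4) altLoop4 3 = true := by decide +kernel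

theorem alt4_4 : xd.okStart altU (altW3 altS 4) altLoop4 4 = true := by decide +kernel

theorem alt4_5 : xd.okStart altU (altW3 altS 4) altLoop4 5 = true := by decide +kernel

theorem alt4_6 : xd.okStart altU (altW3 altS 4) altLoop4 6 = true := by decide +kernel

theorem alt5_0 : xd.okStart altU (altW3 altS 5) altLoop5 0 = true := by decide +kernel

theorem alt5_1 : xd.okStart altU (altW3 altS 5) altLoop5 1 = true := by decide +kernel

theorem alt5_2 : xd.okStart altU (altW3 altS 5) altLoop5 2 = true := by decide +kernel

theorem alt5_3 : xd.okStart altU (altW3 altS 5) altLoop5 3 = true := by decide +kernel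

theorem alt5_4 : xd.okStart altU (altW3 altS 5) altLoop5 4 = true := by decide +kernel

theorem alt5_5 : xd.okStart altU (altW3 altS 5) altLoop5 5 = true := by decide +kernel

theorem alt5_6 : xd.okStart altU (altW3 altS 5) altLoop5 6 = true := by decide +kernel

theorem alt6_0 : xd.okStart altU (altW3 altS 6) altLoop6 0 = true := by decide +kernel

theorem alt6_1 : xd.okStart altU (altW3 altS 6) altLoop6 1 = true := by decide +kernel

theorem alt6_2 : xd.okStart altU (altW3 altS 6) altLoop6 2 = true := by decide +kernel

theorem alt6_3 : xd.okStart altU (altW3 altS 6) altLoop6 3 = true := by decide +kernel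

theorem alt6_4 : xd.okStart altU (altW3 altS 6) altLoop6 4 = true := by decide +kernel

theorem alt6_5 : xd.okStart altU (altW3 altS 6) altLoop6 5 = true := by decide +kernel

theorem alt6_6 : xd.okStart altU (altW3 altS 6) altLoop6 6 = true := by decide +kernel

theorem alt7_0 : xd.okStart altU (altW3 altS 7) altLoop7 0 = true := by decide +kernel

theorem alt7_1 : xd.okStart altU (altW3 altS 7) altLoop7 1 = true := by decide +kernel

theorem alt7_2 : xd.okStart altU (altW3 altS 7) altLoop7 2 = true := by decide +kernel

theorem alt7_3 : xd.okStart altU (altW3 altS 7) altLoop7 3 = true := by decide +kernel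

theorem alt7_4 : xd.okStart altU (altW3 altS 7) altLoop7 4 = true := by decide +kernel

theorem alt7_5 : xd.okStart altU (altW3 altS 7) altLoop7 5 = true := by decide +kernel

theorem alt7_6 : xd.okStart altU (altW3 altS 7) altLoop7 6 = true := by decide +kernel

theorem alt8_0 : xd.okStart altU (altW3 altS 8) altLoop8 0 = true := by decide +kernel

theorem alt8_1 : xd.okStart altU (altW3 altS 8) altLoop8 1 = true := by decide +kernel

theorem alt8_2 : xd.okStart altU (altW3 altS 8) altLoop8 2 = true := by decide +kernel

theorem alt8_3 : xd.okStart altU (altW3 altS 8) altLoop8 3 = true := by decide +kernel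

theorem alt8_4 : xd.okStart altU (altW3 altS 8) altLoop8 4 = true := by decide +kernel

theorem alt8_5 : xd.okStart altU (altW3 altS 8) altLoop8 5 = true := by decide +kernel

theorem alt8_6 : xd.okStart altU (altW3 altS 8) altLoop8 6 = true := by decide +kernel

theorem alt9_0 : xd.okStart altU (altW3 altS 9) altLoop9 0 = true := by decide +kernel

theorem alt9_1 : xd.okStart altU (altW3 altS 9) altLoop9 1 = true := by decide +kernel

theorem alt9_2 : xd.okStart altU (altW3 altS 9) altLoop9 2 = true := by decide +kernel

theorem alt9_3 : xd.okStart altU (altW3 altS 9) altLoop9 3 = true := by decide +kernel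

theorem alt9_4 : xd.okStart altU (altW3 altS 9) altLoop9 4 = true := by decide +kernel

theorem alt9_5 : xd.okStart altU (altW3 altS 9) altLoop9 5 = true := by decide +kernel

theorem alt9_6 : xd.okStart altU (altW3 altS 9) altLoop9 6 = true := by decide +kernel

theorem alt10_0 : xd.okStart altU (altW2 altS 0 1) altLoop10 0 = true := by decide +kernel

theorem alt10_1 : xd.okStart altU (altW2 altS 0 1) altLoop10 1 = true := by decide +kernel

theorem alt10_2 : xd.okStart altU (altW2 altS 0 1) altLoop10 2 = true := by decide +kernel

theorem alt10_3 : xd.okStart altU (altW2 altS 0 1) altLoop10 3 = true := by decide +kernel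

theorem alt10_4 : xd.okStart altU (altW2 altS 0 1) altLoop10 4 = true := by decide +kernel

theorem alt10_5 : xd.okStart altU (altW2 altS 0 1) altLoop10 5 = true := by decide +kernel

theorem alt10_6 : xd.okStart altU (altW2 altS 0 1) altLoop10 6 = true := by decide +kernel

theorem alt11_0 : xd.okStart altU (altW2 altS 0 2) altLoop11 0 = true := by decide +kernel

theorem alt11_1 : xd.okStart altU (altW2 altS 0 2) altLoop11 1 = true := by decide +kernel

theorem alt11_2 : xd.okStart altU (altW2 altS 0 2) altLoop11 2 = true := by decide +kernel

theorem alt11_3 : xd.okStart altU (altW2 altS 0 2) altLoop11 3 = true := by decide +kernel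

theorem alt11_4 : xd.okStart altU (altW2 altS 0 2) altLoop11 4 = true := by decide +kernel

theorem alt11_5 : xd.okStart altU (altW2 altS 0 2) altLoop11 5 = true := by decide +kernel

theorem alt11_6 : xd.okStart altU (altW2 altS 0 2) altLoop11 6 = true := by decide +kernel

theorem alt12_0 : xd.okStart altU (altW2 altS 0 3) altLoop12 0 = true := by decide +kernel

theorem alt12_1 : xd.okStart altU (altW2 altS 0 3) altLoop12 1 = true := by decide +kernel

theorem alt12_2 : xd.okStart altU (altW2 altS 0 3) altLoop12 2 = true := by decide +kernel

theorem alt12_3 : xd.okStart altU (altW2 altS 0 3) altLoop12 3 = true := by decide +kernel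

theorem alt12_4 : xd.okStart altU (altW2 altS 0 3) altLoop12 4 = true := by decide +kernel

theorem alt12_5 : xd.okStart altU (altW2 altS 0 3) altLoop12 5 = true := by decide +kernel

theorem alt12_6 : xd.okStart altU (altW2 altS 0 3) altLoop12 6 = true := by decide +kernel

theorem alt13_0 : xd.okStart altU (altW2 altS 0 4) altLoop13 0 = true := by decide +kernel

theorem alt13_1 : xd.okStart altU (altW2 altS 0 4) altLoop13 1 = true := by decide +kernel

theorem alt13_2 : xd.okStart altU (altW2 altS 0 4) altLoop13 2 = true := by decide +kernel

theorem alt13_3 : xd.okStart altU (altW2 altS 0 4) altLoop13 3 = true := by decide +kernel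

theorem alt13_4 : xd.okStart altU (altW2 altS 0 4) altLoop13 4 = true := by decide +kernel

theorem alt13_5 : xd.okStart altU (altW2 altS 0 4) altLoop13 5 = true := by decide +kernel

theorem alt13_6 : xd.okStart altU (altW2 altS 0 4) altLoop13 6 = true := by decide +kernel

theorem alt14_0 : xd.okStart altU (altW2 altS 0 5) altLoop14 0 = true := by decide +kernel

theorem alt14_1 : xd.okStart altU (altW2 altS 0 5) altLoop14 1 = true := by decide +kernel

theorem alt14_2 : xd.okStart altU (altW2 altS 0 5) altLoop14 2 = true := by decide +kernel

theorem alt14_3 : xd.okStart altU (altW2 altS 0 5) altLoop14 3 = true := by decide +kernel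

theorem alt14_4 : xd.okStart altU (altW2 altS 0 5) altLoop14 4 = true := by decide +kernel

theorem alt14_5 : xd.okStart altU (altW2 altS 0 5) altLoop14 5 = true := by decide +kernel

theorem alt14_6 : xd.okStart altU (altW2 altS 0 5) altLoop14 6 = true := by decide +kernel

theorem alt15_0 : xd.okStart altU (altW2 altS 0 6) altLoop15 0 = true := by decide +kernel

theorem alt15_1 : xd.okStart altU (altW2 altS 0 6) altLoop15 1 = true := by decide +kernel

theorem alt15_2 : xd.okStart altU (altW2 altS 0 6) altLoop15 2 = true := by decide +kernel

theorem alt15_3 : xd.okStart altU (altW2 altS 0 6) altLoop15 3 = true := by decide +kernel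

theorem alt15_4 : xd.okStart altU (altW2 altS 0 6) altLoop15 4 = true := by decide +kernel

theorem alt15_5 : xd.okStart altU (altW2 altS 0 6) altLoop15 5 = true := by decide +kernel

theorem alt15_6 : xd.okStart altU (altW2 altS 0 6) altLoop15 6 = true := by decide +kernel

end Cfsg.Agent.HN.Dat
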