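import Cfsg.Agent.Lib.HN.A12Data
import Cfsg.Agent.Lib.HN.LoopData

/-! Kernel checks: relations of the ten elements -/

set_option autoImplicit false
set_option maxRecDepth 100000
set_option Elab.async false

namespace Cfsg.Agent.HN.Dat

theorem alt16_0 : xd.okStart altU (altW2 altS 0 7) altLoop16 0 = true := by decide +kernel

theorem alt16_1 : xd.okStart altU (altW2 altS 0 7) altLoop16 1 = true := by decide +kernel

theorem alt16_2 : xd.okStart altU (altW2 altS 0 7) altLoop16 2 = true := by decide +kernel

theorem alt16_3 : xd.okStart altU (altW2 altS 0 7) altLoop16 3 = true := by decide +kernel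

theorem alt16_4 : xd.okStart altU (altW2 altS 0 7) altLoop16 4 = true := by decide +kernel

theorem alt16_5 : xd.okStart altU (altW2 altS 0 7) altLoop16 5 = true := by decide +kernel

theorem alt16_6 : xd.okStart altU (altW2 altS 0 7) altLoop16 6 = true := by decide +kernel

theorem alt17_0 : xd.okStart altU (altW2 altS 0 8) altLoop17 0 = true := by decide +kernel

theorem alt17_1 : xd.okStart altU (altW2 altS 0 8) altLoop17 1 = true := by decide +kernel

theorem alt17_2 : xd.okStart altU (altW2 altS 0 8) altLoop17 2 = true := by decide +kernel

theorem alt17_3 : xd.okStart altU (altW2 altS 0 8) altLoop17 3 = true := by decide +kernel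

theorem alt17_4 : xd.okStart altU (altW2 altS 0 8) altLoop17 4 = true := by decide +kernel

theorem alt17_5 : xd.okStart altU (altW2 altS 0 8) altLoop17 5 = true := by decide +kernel

theorem alt17_6 : xd.okStart altU (altW2 altS 0 8) altLoop17 6 = true := by decide +kernel

theorem alt18_0 : xd.okStart altU (altW2 altS 0 9) altLoop18 0 = true := by decide +kernel

theorem alt18_1 : xd.okStart altU (altW2 altS 0 9) altLoop18 1 = true := by decide +kernel

theorem alt18_2 : xd.okStart altU (altW2 altS 0 9) altLoop18 2 = true := by decide +kernel

theorem alt18_3 : xd.okStart altU (altW2 altS 0 9) altLoop18 3 = true := by decide +kernel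

theorem alt18_4 : xd.okStart altU (altW2 altS 0 9) altLoop18 4 = true := by decide +kernel

theorem alt18_5 : xd.okStart altU (altW2 altS 0 9) altLoop18 5 = true := by decide +kernel

theorem alt18_6 : xd.okStart altU (altW2 altS 0 9) altLoop18 6 = true := by decide +kernel

theorem alt19_0 : xd.okStart altU (altW2 altS 1 2) altLoop19 0 = true := by decide +kernel

theorem alt19_1 : xd.okStart altU (altW2 altS 1 2) altLoop19 1 = true := by decide +kernel

theorem alt19_2 : xd.okStart altU (altW2 altS 1 2) altLoop19 2 = true := by decide +kernel

theorem alt19_3 : xd.okStart altU (altW2 altS 1 2) altLoop19 3 = true := by decide +kernel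

theorem alt19_4 : xd.okStart altU (altW2 altS 1 2) altLoop19 4 = true := by decide +kernel

theorem alt19_5 : xd.okStart altU (altW2 altS 1 2) altLoop19 5 = true := by decide +kernel

theorem alt19_6 : xd.okStart altU (altW2 altS 1 2) altLoop19 6 = true := by decide +kernel

theorem alt20_0 : xd.okStart altU (altW2 altS 1 3) altLoop20 0 = true := by decide +kernel

theorem alt20_1 : xd.okStart altU (altW2 altS 1 3) altLoop20 1 = true := by decide +kernel

theorem alt20_2 : xd.okStart altU (altW2 altS 1 3) altLoop20 2 = true := by decide +kernel

theorem alt20_3 : xd.okStart altU (altW2 altS 1 3) altLoop20 3 = true := by decide +kernel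

theorem alt20_4 : xd.okStart altU (altW2 altS 1 3) altLoop20 4 = true := by decide +kernel

theorem alt20_5 : xd.okStart altU (altW2 altS 1 3) altLoop20 5 = true := by decide +kernel

theorem alt20_6 : xd.okStart altU (altW2 altS 1 3) altLoop20 6 = true := by decide +kernel

theorem alt21_0 : xd.okStart altU (altW2 altS 1 4) altLoop21 0 = true := by decide +kernel

theorem alt21_1 : xd.okStart altU (altW2 altS 1 4) altLoop21 1 = true := by decide +kernel

theorem alt21_2 : xd.okStart altU (altW2 altS 1 4) altLoop21 2 = true := by decide +kernel

theorem alt21_3 : xd.okStart altU (altW2 altS 1 4) altLoop21 3 = true := by decide +kernel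

theorem alt21_4 : xd.okStart altU (altW2 altS 1 4) altLoop21 4 = true := by decide +kernel

theorem alt21_5 : xd.okStart altU (altW2 altS 1 4) altLoop21 5 = true := by decide +kernel

theorem alt21_6 : xd.okStart altU (altW2 altS 1 4) altLoop21 6 = true := by decide +kernel

theorem alt22_0 : xd.okStart altU (altW2 altS 1 5) altLoop22 0 = true := by decide +kernel

theorem alt22_1 : xd.okStart altU (altW2 altS 1 5) altLoop22 1 = true := by decide +kernel

theorem alt22_2 : xd.okStart altU (altW2 altS 1 5) altLoop22 2 = true := by decide +kernel

theorem alt22_3 : xd.okStart altU (altW2 altS 1 5) altLoop22 3 = true := by decide +kernel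

theorem alt22_4 : xd.okStart altU (altW2 altS 1 5) altLoop22 4 = true := by decide +kernel

theorem alt22_5 : xd.okStart altU (altW2 altS 1 5) altLoop22 5 = true := by decide +kernel

theorem alt22_6 : xd.okStart altU (altW2 altS 1 5) altLoop22 6 = true := by decide +kernel

theorem alt23_0 : xd.okStart altU (altW2 altS 1 6) altLoop23 0 = true := by decide +kernel

theorem alt23_1 : xd.okStart altU (altW2 altS 1 6) altLoop23 1 = true := by decide +kernel

theorem alt23_2 : xd.okStart altU (altW2 altS 1 6) altLoop23 2 = true := by decide +kernel

theorem alt23_3 : xd.okStart altU (altW2 altS 1 6) altLoop23 3 = true := by decide +kernel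

theorem alt23_4 : xd.okStart altU (altW2 altS 1 6) altLoop23 4 = true := by decide +kernel

theorem alt23_5 : xd.okStart altU (altW2 altS 1 6) altLoop23 5 = true := by decide +kernel

theorem alt23_6 : xd.okStart altU (altW2 altS 1 6) altLoop23 6 = true := by decide +kernel

theorem alt24_0 : xd.okStart altU (altW2 altS 1 7) altLoop24 0 = true := by decide +kernel

theorem alt24_1 : xd.okStart altU (altW2 altS 1 7) altLoop24 1 = true := by decide +kernel

theorem alt24_2 : xd.okStart altU (altW2 altS 1 7) altLoop24 2 = true := by decide +kernel

theorem alt24_3 : xd.okStart altU (altW2 altS 1 7) altLoop24 3 = true := by decide +kernel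

theorem alt24_4 : xd.okStart altU (altW2 altS 1 7) altLoop24 4 = true := by decide +kernel

theorem alt24_5 : xd.okStart altU (altW2 altS 1 7) altLoop24 5 = true := by decide +kernel

theorem alt24_6 : xd.okStart altU (altW2 altS 1 7) altLoop24 6 = true := by decide +kernel

theorem alt25_0 : xd.okStart altU (altW2 altS 1 8) altLoop25 0 = true := by decide +kernel

theorem alt25_1 : xd.okStart altU (altW2 altS 1 8) altLoop25 1 = true := by decide +kernel

theorem alt25_2 : xd.okStart altU (altW2 altS 1 8) altLoop25 2 = true := by decide +kernel

theorem alt25_3 : xd.okStart altU (altW2 altS 1 8) altLoop25 3 = true := by decide +kernel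

theorem alt25_4 : xd.okStart altU (altW2 altS 1 8) altLoop25 4 = true := by decide +kernel

theorem alt25_5 : xd.okStart altU (altW2 altS 1 8) altLoop25 5 = true := by decide +kernel

theorem alt25_6 : xd.okStart altU (altW2 altS 1 8) altLoop25 6 = true := by decide +kernel

theorem alt26_0 : xd.okStart altU (altW2 altS 1 9) altLoop26 0 = true := by decide +kernel

theorem alt26_1 : xd.okStart altU (altW2 altS 1 9) altLoop26 1 = true := by decide +kernel

theorem alt26_2 : xd.okStart altU (altW2 altS 1 9) altLoop26 2 = true := by decide +kernel

theorem alt26_3 : xd.okStart altU (altW2 altS 1 9) altLoop26 3 = true := by decide +kernel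

theorem alt26_4 : xd.okStart altU (altW2 altS 1 9) altLoop26 4 = true := by decide +kernel

theorem alt26_5 : xd.okStart altU (altW2 altS 1 9) altLoop26 5 = true := by decide +kernel

theorem alt26_6 : xd.okStart altU (altW2 altS 1 9) altLoop26 6 = true := by decide +kernel

end Cfsg.Agent.HN.Dat
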