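import Cfsg.Agent.Lib.HN.A12Data
import Cfsg.Agent.Lib.HN.LoopData

/-! Kernel checks: relations of the ten elements -/

set_option autoImplicit false
set_option maxRecDepth 100000
set_option Elab.async false

namespace Cfsg.Agent.HN.Dat

theorem alt27_0 : xd.okStart altU (altW2 altS 2 3) altLoop27 0 = true := by decide +kernel

theorem alt27_1 : xd.okStart altU (altW2 altS 2 3) altLoop27 1 = true := by decide +kernel

theorem alt27_2 : xd.okStart altU (altW2 altS 2 3) altLoop27 2 = true := by decide +kernel

theorem alt27_3 : xd.okStart altU (altW2 altS 2 3) altLoop27 3 = true := by decide +kernel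

theorem alt27_4 : xd.okStart altU (altW2 altS 2 3) altLoop27 4 = true := by decide +kernel

theorem alt27_5 : xd.okStart altU (altW2 altS 2 3) altLoop27 5 = true := by decide +kernel

theorem alt27_6 : xd.okStart altU (altW2 altS 2 3) altLoop27 6 = true := by decide +kernel

theorem alt28_0 : xd.okStart altU (altW2 altS 2 4) altLoop28 0 = true := by decide +kernel

theorem alt28_1 : xd.okStart altU (altW2 altS 2 4) altLoop28 1 = true := by decide +kernel

theorem alt28_2 : xd.okStart altU (altW2 altS 2 4) altLoop28 2 = true := by decide +kernel

theorem alt28_3 : xd.okStart altU (altW2 altS 2 4) altLoop28 3 = true := by decide +kernel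

theorem alt28_4 : xd.okStart altU (altW2 altS 2 4) altLoop28 4 = true := by decide +kernel

theorem alt28_5 : xd.okStart altU (altW2 altS 2 4) altLoop28 5 = true := by decide +kernel

theorem alt28_6 : xd.okStart altU (altW2 altS 2 4) altLoop28 6 = true := by decide +kernel

theorem alt29_0 : xd.okStart altU (altW2 altS 2 5) altLoop29 0 = true := by decide +kernel

theorem alt29_1 : xd.okStart altU (altW2 altS 2 5) altLoop29 1 = true := by decide +kernel

theorem alt29_2 : xd.okStart altU (altW2 altS 2 5) altLoop29 2 = true := by decide +kernel

theorem alt29_3 : xd.okStart altU (altW2 altS 2 5) altLoop29 3 = true := by decide +kernel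

theorem alt29_4 : xd.okStart altU (altW2 altS 2 5) altLoop29 4 = true := by decide +kernel

theorem alt29_5 : xd.okStart altU (altW2 altS 2 5) altLoop29 5 = true := by decide +kernel

theorem alt29_6 : xd.okStart altU (altW2 altS 2 5) altLoop29 6 = true := by decide +kernel

theorem alt30_0 : xd.okStart altU (altW2 altS 2 6) altLoop30 0 = true := by decide +kernel

theorem alt30_1 : xd.okStart altU (altW2 altS 2 6) altLoop30 1 = true := by decide +kernel

theorem alt30_2 : xd.okStart altU (altW2 altS 2 6) altLoop30 2 = true := by decide +kernel

theorem alt30_3 : xd.okStart altU (altW2 altS 2 6) altLoop30 3 = true := by decide +kernel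

theorem alt30_4 : xd.okStart altU (altW2 altS 2 6) altLoop30 4 = true := by decide +kernel

theorem alt30_5 : xd.okStart altU (altW2 altS 2 6) altLoop30 5 = true := by decide +kernel

theorem alt30_6 : xd.okStart altU (altW2 altS 2 6) altLoop30 6 = true := by decide +kernel

theorem alt31_0 : xd.okStart altU (altW2 altS 2 7) altLoop31 0 = true := by decide +kernel

theorem alt31_1 : xd.okStart altU (altW2 altS 2 7) altLoop31 1 = true := by decide +kernel

theorem alt31_2 : xd.okStart altU (altW2 altS 2 7) altLoop31 2 = true := by decide +kernel

theorem alt31_3 : xd.okStart altU (altW2 altS 2 7) altLoop31 3 = true := by decide +kernel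

theorem alt31_4 : xd.okStart altU (altW2 altS 2 7) altLoop31 4 = true := by decide +kernel

theorem alt31_5 : xd.okStart altU (altW2 altS 2 7) altLoop31 5 = true := by decide +kernel

theorem alt31_6 : xd.okStart altU (altW2 altS 2 7) altLoop31 6 = true := by decide +kernel

theorem alt32_0 : xd.okStart altU (altW2 altS 2 8) altLoop32 0 = true := by decide +kernel

theorem alt32_1 : xd.okStart altU (altW2 altS 2 8) altLoop32 1 = true := by decide +kernel

theorem alt32_2 : xd.okStart altU (altW2 altS 2 8) altLoop32 2 = true := by decide +kernel

theorem alt32_3 : xd.okStart altU (altW2 altS 2 8) altLoop32 3 = true := by decide +kernel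

theorem alt32_4 : xd.okStart altU (altW2 altS 2 8) altLoop32 4 = true := by decide +kernel

theorem alt32_5 : xd.okStart altU (altW2 altS 2 8) altLoop32 5 = true := by decide +kernel

theorem alt32_6 : xd.okStart altU (altW2 altS 2 8) altLoop32 6 = true := by decide +kernel

theorem alt33_0 : xd.okStart altU (altW2 altS 2 9) altLoop33 0 = true := by decide +kernel

theorem alt33_1 : xd.okStart altU (altW2 altS 2 9) altLoop33 1 = true := by decide +kernel

theorem alt33_2 : xd.okStart altU (altW2 altS 2 9) altLoop33 2 = true := by decide +kernel

theorem alt33_3 : xd.okStart altU (altW2 altS 2 9) altLoop33 3 = true := by decide +kernel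

theorem alt33_4 : xd.okStart altU (altW2 altS 2 9) altLoop33 4 = true := by decide +kernel

theorem alt33_5 : xd.okStart altU (altW2 altS 2 9) altLoop33 5 = true := by decide +kernel

theorem alt33_6 : xd.okStart altU (altW2 altS 2 9) altLoop33 6 = true := by decide +kernel

theorem alt34_0 : xd.okStart altU (altW2 altS 3 4) altLoop34 0 = true := by decide +kernel

theorem alt34_1 : xd.okStart altU (altW2 altS 3 4) altLoop34 1 = true := by decide +kernel

theorem alt34_2 : xd.okStart altU (altW2 altS 3 4) altLoop34 2 = true := by decide +kernel

theorem alt34_3 : xd.okStart altU (altW2 altS 3 4) altLoop34 3 = true := by decide +kernel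

theorem alt34_4 : xd.okStart altU (altW2 altS 3 4) altLoop34 4 = true := by decide +kernel

theorem alt34_5 : xd.okStart altU (altW2 altS 3 4) altLoop34 5 = true := by decide +kernel

theorem alt34_6 : xd.okStart altU (altW2 altS 3 4) altLoop34 6 = true := by decide +kernel

theorem alt35_0 : xd.okStart altU (altW2 altS 3 5) altLoop35 0 = true := by decide +kernel

theorem alt35_1 : xd.okStart altU (altW2 altS 3 5) altLoop35 1 = true := by decide +kernel

theorem alt35_2 : xd.okStart altU (altW2 altS 3 5) altLoop35 2 = true := by decide +kernel

theorem alt35_3 : xd.okStart altU (altW2 altS 3 5) altLoop35 3 = true := by decide +kernel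

theorem alt35_4 : xd.okStart altU (altW2 altS 3 5) altLoop35 4 = true := by decide +kernel

theorem alt35_5 : xd.okStart altU (altW2 altS 3 5) altLoop35 5 = true := by decide +kernel

theorem alt35_6 : xd.okStart altU (altW2 altS 3 5) altLoop35 6 = true := by decide +kernel

theorem alt36_0 : xd.okStart altU (altW2 altS 3 6) altLoop36 0 = true := by decide +kernel

theorem alt36_1 : xd.okStart altU (altW2 altS 3 6) altLoop36 1 = true := by decide +kernel

theorem alt36_2 : xd.okStart altU (altW2 altS 3 6) altLoop36 2 = true := by decide +kernel

theorem alt36_3 : xd.okStart altU (altW2 altS 3 6) altLoop36 3 = true := by decide +kernel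

theorem alt36_4 : xd.okStart altU (altW2 altS 3 6) altLoop36 4 = true := by decide +kernel

theorem alt36_5 : xd.okStart altU (altW2 altS 3 6) altLoop36 5 = true := by decide +kernel

theorem alt36_6 : xd.okStart altU (altW2 altS 3 6) altLoop36 6 = true := by decide +kernel

theorem alt37_0 : xd.okStart altU (altW2 altS 3 7) altLoop37 0 = true := by decide +kernel

theorem alt37_1 : xd.okStart altU (altW2 altS 3 7) altLoop37 1 = true := by decide +kernel

theorem alt37_2 : xd.okStart altU (altW2 altS 3 7) altLoop37 2 = true := by decide +kernel

theorem alt37_3 : xd.okStart altU (altW2 altS 3 7) altLoop37 3 = true := by decide +kernel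

theorem alt37_4 : xd.okStart altU (altW2 altS 3 7) altLoop37 4 = true := by decide +kernel

theorem alt37_5 : xd.okStart altU (altW2 altS 3 7) altLoop37 5 = true := by decide +kernel

theorem alt37_6 : xd.okStart altU (altW2 altS 3 7) altLoop37 6 = true := by decide +kernel

theorem alt38_0 : xd.okStart altU (altW2 altS 3 8) altLoop38 0 = true := by decide +kernel

theorem alt38_1 : xd.okStart altU (altW2 altS 3 8) altLoop38 1 = true := by decide +kernel

theorem alt38_2 : xd.okStart altU (altW2 altS 3 8) altLoop38 2 = true := by decide +kernel

theorem alt38_3 : xd.okStart altU (altW2 altS 3 8) altLoop38 3 = true := by decide +kernel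

theorem alt38_4 : xd.okStart altU (altW2 altS 3 8) altLoop38 4 = true := by decide +kernel

theorem alt38_5 : xd.okStart altU (altW2 altS 3 8) altLoop38 5 = true := by decide +kernel

theorem alt38_6 : xd.okStart altU (altW2 altS 3 8) altLoop38 6 = true := by decide +kernel

end Cfsg.Agent.HN.Dat
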