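import Cfsg.Agent.Lib.HN.A12Data
import Cfsg.Agent.Lib.HN.LoopData

/-! Kernel checks: relations of the ten elements -/

set_option autoImplicit false
set_option maxRecDepth 100000
set_option Elab.async false

namespace Cfsg.Agent.HN.Dat

theorem alt39_0 : xd.okStart altU (altW2 altS 3 9) altLoop39 0 = true := by decide +kernel

theorem alt39_1 : xd.okStart altU (altW2 altS 3 9) altLoop39 1 = true := by decide +kernel

theorem alt39_2 : xd.okStart altU (altW2 altS 3 9) altLoop39 2 = true := by decide +kernel

theorem alt39_3 : xd.okStart altU (altW2 altS 3 9) altLoop39 3 = true := by decide +kernel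

theorem alt39_4 : xd.okStart altU (altW2 altS 3 9) altLoop39 4 = true := by decide +kernel

theorem alt39_5 : xd.okStart altU (altW2 altS 3 9) altLoop39 5 = true := by decide +kernel

theorem alt39_6 : xd.okStart altU (altW2 altS 3 9) altLoop39 6 = true := by decide +kernel

theorem alt40_0 : xd.okStart altU (altW2 altS 4 5) altLoop40 0 = true := by decide +kernel

theorem alt40_1 : xd.okStart altU (altW2 altS 4 5) altLoop40 1 = true := by decide +kernel

theorem alt40_2 : xd.okStart altU (altW2 altS 4 5) altLoop40 2 = true := by decide +kernel

theorem alt40_3 : xd.okStart altU (altW2 altS 4 5) altLoop40 3 = true := by decide +kernel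

theorem alt40_4 : xd.okStart altU (altW2 altS 4 5) altLoop40 4 = true := by decide +kernel

theorem alt40_5 : xd.okStart altU (altW2 altS 4 5) altLoop40 5 = true := by decide +kernel

theorem alt40_6 : xd.okStart altU (altW2 altS 4 5) altLoop40 6 = true := by decide +kernel

theorem alt41_0 : xd.okStart altU (altW2 altS 4 6) altLoop41 0 = true := by decide +kernel

theorem alt41_1 : xd.okStart altU (altW2 altS 4 6) altLoop41 1 = true := by decide +kernel

theorem alt41_2 : xd.okStart altU (altW2 altS 4 6) altLoop41 2 = true := by decide +kernel

theorem alt41_3 : xd.okStart altU (altW2 altS 4 6) altLoop41 3 = true := by decide +kernel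

theorem alt41_4 : xd.okStart altU (altW2 altS 4 6) altLoop41 4 = true := by decide +kernel

theorem alt41_5 : xd.okStart altU (altW2 altS 4 6) altLoop41 5 = true := by decide +kernel

theorem alt41_6 : xd.okStart altU (altW2 altS 4 6) altLoop41 6 = true := by decide +kernel

theorem alt42_0 : xd.okStart altU (altW2 altS 4 7) altLoop42 0 = true := by decide +kernel

theorem alt42_1 : xd.okStart altU (altW2 altS 4 7) altLoop42 1 = true := by decide +kernel

theorem alt42_2 : xd.okStart altU (altW2 altS 4 7) altLoop42 2 = true := by decide +kernel

theorem alt42_3 : xd.okStart altU (altW2 altS 4 7) altLoop42 3 = true := by decide +kernel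

theorem alt42_4 : xd.okStart altU (altW2 altS 4 7) altLoop42 4 = true := by decide +kernel

theorem alt42_5 : xd.okStart altU (altW2 altS 4 7) altLoop42 5 = true := by decide +kernel

theorem alt42_6 : xd.okStart altU (altW2 altS 4 7) altLoop42 6 = true := by decide +kernel

theorem alt43_0 : xd.okStart altU (altW2 altS 4 8) altLoop43 0 = true := by decide +kernel

theorem alt43_1 : xd.okStart altU (altW2 altS 4 8) altLoop43 1 = true := by decide +kernel

theorem alt43_2 : xd.okStart altU (altW2 altS 4 8) altLoop43 2 = true := by decide +kernel

theorem alt43_3 : xd.okStart altU (altW2 altS 4 8) altLoop43 3 = true := by decide +kernel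

theorem alt43_4 : xd.okStart altU (altW2 altS 4 8) altLoop43 4 = true := by decide +kernel

theorem alt43_5 : xd.okStart altU (altW2 altS 4 8) altLoop43 5 = true := by decide +kernel

theorem alt43_6 : xd.okStart altU (altW2 altS 4 8) altLoop43 6 = true := by decide +kernel

theorem alt44_0 : xd.okStart altU (altW2 altS 4 9) altLoop44 0 = true := by decide +kernel

theorem alt44_1 : xd.okStart altU (altW2 altS 4 9) altLoop44 1 = true := by decide +kernel

theorem alt44_2 : xd.okStart altU (altW2 altS 4 9) altLoop44 2 = true := by decide +kernel

theorem alt44_3 : xd.okStart altU (altW2 altS 4 9) altLoop44 3 = true := by decide +kernel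

theorem alt44_4 : xd.okStart altU (altW2 altS 4 9) altLoop44 4 = true := by decide +kernel

theorem alt44_5 : xd.okStart altU (altW2 altS 4 9) altLoop44 5 = true := by decide +kernel

theorem alt44_6 : xd.okStart altU (altW2 altS 4 9) altLoop44 6 = true := by decide +kernel

theorem alt45_0 : xd.okStart altU (altW2 altS 5 6) altLoop45 0 = true := by decide +kernel

theorem alt45_1 : xd.okStart altU (altW2 altS 5 6) altLoop45 1 = true := by decide +kernel

theorem alt45_2 : xd.okStart altU (altW2 altS 5 6) altLoop45 2 = true := by decide +kernel

theorem alt45_3 : xd.okStart altU (altW2 altS 5 6) altLoop45 3 = true := by decide +kernel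

theorem alt45_4 : xd.okStart altU (altW2 altS 5 6) altLoop45 4 = true := by decide +kernel

theorem alt45_5 : xd.okStart altU (altW2 altS 5 6) altLoop45 5 = true := by decide +kernel

theorem alt45_6 : xd.okStart altU (altW2 altS 5 6) altLoop45 6 = true := by decide +kernel

theorem alt46_0 : xd.okStart altU (altW2 altS 5 7) altLoop46 0 = true := by decide +kernel

theorem alt46_1 : xd.okStart altU (altW2 altS 5 7) altLoop46 1 = true := by decide +kernel

theorem alt46_2 : xd.okStart altU (altW2 altS 5 7) altLoop46 2 = true := by decide +kernel

theorem alt46_3 : xd.okStart altU (altW2 altS 5 7) altLoop46 3 = true := by decide +kernel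

theorem alt46_4 : xd.okStart altU (altW2 altS 5 7) altLoop46 4 = true := by decide +kernel

theorem alt46_5 : xd.okStart altU (altW2 altS 5 7) altLoop46 5 = true := by decide +kernel

theorem alt46_6 : xd.okStart altU (altW2 altS 5 7) altLoop46 6 = true := by decide +kernel

end Cfsg.Agent.HN.Dat
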