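import Cfsg.Agent.Lib.HN.A12Data
import Cfsg.Agent.Lib.HN.LoopData

/-! Kernel checks: relations of the ten elements -/

set_option autoImplicit false
set_option maxRecDepth 100000
set_option Elab.async false

namespace Cfsg.Agent.HN.Dat

theorem alt47_0 : xd.okStart altU (altW2 altS 5 8) altLoop47 0 = true := by decide +kernel

theorem alt47_1 : xd.okStart altU (altW2 altS 5 8) altLoop47 1 = true := by decide +kernel

theorem alt47_2 : xd.okStart altU (altW2 altS 5 8) altLoop47 2 = true := by decide +kernel

theorem alt47_3 : xd.okStart altU (altW2 altS 5 8) altLoop47 3 = true := by decide +kernel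

theorem alt47_4 : xd.okStart altU (altW2 altS 5 8) altLoop47 4 = true := by decide +kernel

theorem alt47_5 : xd.okStart altU (altW2 altS 5 8) altLoop47 5 = true := by decide +kernel

theorem alt47_6 : xd.okStart altU (altW2 altS 5 8) altLoop47 6 = true := by decide +kernel

theorem alt48_0 : xd.okStart altU (altW2 altS 5 9) altLoop48 0 = true := by decide +kernel

theorem alt48_1 : xd.okStart altU (altW2 altS 5 9) altLoop48 1 = true := by decide +kernel

theorem alt48_2 : xd.okStart altU (altW2 altS 5 9) altLoop48 2 = true := by decide +kernel

theorem alt48_3 : xd.okStart altU (altW2 altS 5 9) altLoop48 3 = true := by decide +kernel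

theorem alt48_4 : xd.okStart altU (altW2 altS 5 9) altLoop48 4 = true := by decide +kernel

theorem alt48_5 : xd.okStart altU (altW2 altS 5 9) altLoop48 5 = true := by decide +kernel

theorem alt48_6 : xd.okStart altU (altW2 altS 5 9) altLoop48 6 = true := by decide +kernel

theorem alt49_0 : xd.okStart altU (altW2 altS 6 7) altLoop49 0 = true := by decide +kernel

theorem alt49_1 : xd.okStart altU (altW2 altS 6 7) altLoop49 1 = true := by decide +kernel

theorem alt49_2 : xd.okStart altU (altW2 altS 6 7) altLoop49 2 = true := by decide +kernel

theorem alt49_3 : xd.okStart altU (altW2 altS 6 7) altLoop49 3 = true := by decide +kernel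

theorem alt49_4 : xd.okStart altU (altW2 altS 6 7) altLoop49 4 = true := by decide +kernel

theorem alt49_5 : xd.okStart altU (altW2 altS 6 7) altLoop49 5 = true := by decide +kernel

theorem alt49_6 : xd.okStart altU (altW2 altS 6 7) altLoop49 6 = true := by decide +kernel

theorem alt50_0 : xd.okStart altU (altW2 altS 6 8) altLoop50 0 = true := by decide +kernel

theorem alt50_1 : xd.okStart altU (altW2 altS 6 8) altLoop50 1 = true := by decide +kernel

theorem alt50_2 : xd.okStart altU (altW2 altS 6 8) altLoop50 2 = true := by decide +kernel

theorem alt50_3 : xd.okStart altU (altW2 altS 6 8) altLoop50 3 = true := by decide +kernel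

theorem alt50_4 : xd.okStart altU (altW2 altS 6 8) altLoop50 4 = true := by decide +kernel

theorem alt50_5 : xd.okStart altU (altW2 altS 6 8) altLoop50 5 = true := by decide +kernel

theorem alt50_6 : xd.okStart altU (altW2 altS 6 8) altLoop50 6 = true := by decide +kernel

theorem alt51_0 : xd.okStart altU (altW2 altS 6 9) altLoop51 0 = true := by decide +kernel

theorem alt51_1 : xd.okStart altU (altW2 altS 6 9) altLoop51 1 = true := by decide +kernel

theorem alt51_2 : xd.okStart altU (altW2 altS 6 9) altLoop51 2 = true := by decide +kernel

theorem alt51_3 : xd.okStart altU (altW2 altS 6 9) altLoop51 3 = true := by decide +kernel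

theorem alt51_4 : xd.okStart altU (altW2 altS 6 9) altLoop51 4 = true := by decide +kernel

theorem alt51_5 : xd.okStart altU (altW2 altS 6 9) altLoop51 5 = true := by decide +kernel

theorem alt51_6 : xd.okStart altU (altW2 altS 6 9) altLoop51 6 = true := by decide +kernel

end Cfsg.Agent.HN.Dat
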