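import Cfsg.Agent.Lib.HN.A12Data
import Cfsg.Agent.Lib.HN.LoopData

/-! Kernel checks: relations of the ten elements -/

set_option autoImplicit false
set_option maxRecDepth 100000
set_option Elab.async false

namespace Cfsg.Agent.HN.Dat

theorem alt52_0 : xd.okStart altU (altW2 altS 7 8) altLoop52 0 = true := by decide +kernel

theorem alt52_1 : xd.okStart altU (altW2 altS 7 8) altLoop52 1 = true := by decide +kernel

theorem alt52_2 : xd.okStart altU (altW2 altS 7 8) altLoop52 2 = true := by decide +kernel

theorem alt52_3 : xd.okStart altU (altW2 altS 7 8) altLoop52 3 = true := by decide +kernel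

theorem alt52_4 : xd.okStart altU (altW2 altS 7 8) altLoop52 4 = true := by decide +kernel

theorem alt52_5 : xd.okStart altU (altW2 altS 7 8) altLoop52 5 = true := by decide +kernel

theorem alt52_6 : xd.okStart altU (altW2 altS 7 8) altLoop52 6 = true := by decide +kernel

theorem alt53_0 : xd.okStart altU (altW2 altS 7 9) altLoop53 0 = true := by decide +kernel

theorem alt53_1 : xd.okStart altU (altW2 altS 7 9) altLoop53 1 = true := by decide +kernel

theorem alt53_2 : xd.okStart altU (altW2 altS 7 9) altLoop53 2 = true := by decide +kernel

theorem alt53_3 : xd.okStart altU (altW2 altS 7 9) altLoop53 3 = true := by decide +kernel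

theorem alt53_4 : xd.okStart altU (altW2 altS 7 9) altLoop53 4 = true := by decide +kernel

theorem alt53_5 : xd.okStart altU (altW2 altS 7 9) altLoop53 5 = true := by decide +kernel

theorem alt53_6 : xd.okStart altU (altW2 altS 7 9) altLoop53 6 = true := by decide +kernel

theorem alt54_0 : xd.okStart altU (altW2 altS 8 9) altLoop54 0 = true := by decide +kernel

theorem alt54_1 : xd.okStart altU (altW2 altS 8 9) altLoop54 1 = true := by decide +kernel

theorem alt54_2 : xd.okStart altU (altW2 altS 8 9) altLoop54 2 = true := by decide +kernel

theorem alt54_3 : xd.okStart altU (altW2 altS 8 9) altLoop54 3 = true := by decide +kernel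

theorem alt54_4 : xd.okStart altU (altW2 altS 8 9) altLoop54 4 = true := by decide +kernel

theorem alt54_5 : xd.okStart altU (altW2 altS 8 9) altLoop54 5 = true := by decide +kernel

theorem alt54_6 : xd.okStart altU (altW2 altS 8 9) altLoop54 6 = true := by decide +kernel

end Cfsg.Agent.HN.Dat
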