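import Cfsg.Agent.Lib.HN.Main
import Cfsg.Agent.Lib.HN.A12Check0
import Cfsg.Agent.Lib.HN.A12Check1
import Cfsg.Agent.Lib.HN.A12Check2
import Cfsg.Agent.Lib.HN.A12Check3
import Cfsg.Agent.Lib.HN.A12Check4
import Cfsg.Agent.Lib.HN.A12Check5

/-! The ten elements obey the relations. -/

set_option autoImplicit false
set_option maxRecDepth 100000

namespace Cfsg.Agent.HN.Dat

theorem altWord0 : xd.okWord altU (altW3 altS 0) altLoop0 = true :=
  okWord_intro alt0_0 alt0_1 alt0_2 alt0_3 alt0_4 alt0_5 alt0_6

theorem altWord1 : xd.okWord altU (altW3 altS 1) altLoop1 = true :=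
  okWord_intro alt1_0 alt1_1 alt1_2 alt1_3 alt1_4 alt1_5 alt1_6

theorem altWord2 : xd.okWord altU (altW3 altS 2) altLoop2 = true :=
  okWord_intro alt2_0 alt2_1 alt2_2 alt2_3 alt2_4 alt2_5 alt2_6

theorem altWord3 : xd.okWord altU (altW3 altS 3) altLoop3 = true :=
  okWord_intro alt3_0 alt3_1 alt3_2 alt3_3 alt3_4 alt3_5 alt3_6

theorem altWord4 : xd.okWord altU (altW3 altS 4) altLoop4 = true :=
  okWord_intro alt4_0 alt4_1 alt4_2 alt4_3 alt4_4 alt4_5 alt4_6

theorem altWord5 : xd.okWord altU (altW3 altS 5) altLoop5 = true :=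
  okWord_intro alt5_0 alt5_1 alt5_2 alt5_3 alt5_4 alt5_5 alt5_6

theorem altWord6 : xd.okWord altU (altW3 altS 6) altLoop6 = true :=
  okWord_intro alt6_0 alt6_1 alt6_2 alt6_3 alt6_4 alt6_5 alt6_6

theorem altWord7 : xd.okWord altU (altW3 altS 7) altLoop7 = true :=
  okWord_intro alt7_0 alt7_1 alt7_2 alt7_3 alt7_4 alt7_5 alt7_6

theorem altWord8 : xd.okWord altU (altW3 altS 8) altLoop8 = true :=
  okWord_intro alt8_0 alt8_1 alt8_2 alt8_3 alt8_4 alt8_5 alt8_6

theorem altWord9 : xd.okWord altU (altW3 altS 9) altLoop9 = true :=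
  okWord_intro alt9_0 alt9_1 alt9_2 alt9_3 alt9_4 alt9_5 alt9_6

theorem altWord10 : xd.okWord altU (altW2 altS 0 1) altLoop10 = true :=
  okWord_intro alt10_0 alt10_1 alt10_2 alt10_3 alt10_4 alt10_5 alt10_6

theorem altWord11 : xd.okWord altU (altW2 altS 0 2) altLoop11 = true :=
  okWord_intro alt11_0 alt11_1 alt11_2 alt11_3 alt11_4 alt11_5 alt11_6

theorem altWord12 : xd.okWord altU (altW2 altS 0 3) altLoop12 = true :=
  okWord_intro alt12_0 alt12_1 alt12_2 alt12_3 alt12_4 alt12_5 alt12_6

theorem altWord13 : xd.okWord altU (altW2 altS 0 4) altLoop13 = true :=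
  okWord_intro alt13_0 alt13_1 alt13_2 alt13_3 alt13_4 alt13_5 alt13_6

theorem altWord14 : xd.okWord altU (altW2 altS 0 5) altLoop14 = true :=
  okWord_intro alt14_0 alt14_1 alt14_2 alt14_3 alt14_4 alt14_5 alt14_6

theorem altWord15 : xd.okWord altU (altW2 altS 0 6) altLoop15 = true :=
  okWord_intro alt15_0 alt15_1 alt15_2 alt15_3 alt15_4 alt15_5 alt15_6

theorem altWord16 : xd.okWord altU (altW2 altS 0 7) altLoop16 = true :=
  okWord_intro alt16_0 alt16_1 alt16_2 alt16_3 alt16_4 alt16_5 alt16_6

theorem altWord17 : xd.okWord altU (altW2 altS 0 8) altLoop17 = true :=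
  okWord_intro alt17_0 alt17_1 alt17_2 alt17_3 alt17_4 alt17_5 alt17_6

theorem altWord18 : xd.okWord altU (altW2 altS 0 9) altLoop18 = true :=
  okWord_intro alt18_0 alt18_1 alt18_2 alt18_3 alt18_4 alt18_5 alt18_6

theorem altWord19 : xd.okWord altU (altW2 altS 1 2) altLoop19 = true :=
  okWord_intro alt19_0 alt19_1 alt19_2 alt19_3 alt19_4 alt19_5 alt19_6

theorem altWord20 : xd.okWord altU (altW2 altS 1 3) altLoop20 = true :=
  okWord_intro alt20_0 alt20_1 alt20_2 alt20_3 alt20_4 alt20_5 alt20_6

theorem altWord21 : xd.okWord altU (altW2 altS 1 4) altLoop21 = true :=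
  okWord_intro alt21_0 alt21_1 alt21_2 alt21_3 alt21_4 alt21_5 alt21_6

theorem altWord22 : xd.okWord altU (altW2 altS 1 5) altLoop22 = true :=
  okWord_intro alt22_0 alt22_1 alt22_2 alt22_3 alt22_4 alt22_5 alt22_6

theorem altWord23 : xd.okWord altU (altW2 altS 1 6) altLoop23 = true :=
  okWord_intro alt23_0 alt23_1 alt23_2 alt23_3 alt23_4 alt23_5 alt23_6

theorem altWord24 : xd.okWord altU (altW2 altS 1 7) altLoop24 = true :=
  okWord_intro alt24_0 alt24_1 alt24_2 alt24_3 alt24_4 alt24_5 alt24_6

theorem altWord25 : xd.okWord altU (altW2 altS 1 8) altLoop25 = true :=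
  okWord_intro alt25_0 alt25_1 alt25_2 alt25_3 alt25_4 alt25_5 alt25_6

theorem altWord26 : xd.okWord altU (altW2 altS 1 9) altLoop26 = true :=
  okWord_intro alt26_0 alt26_1 alt26_2 alt26_3 alt26_4 alt26_5 alt26_6

theorem altWord27 : xd.okWord altU (altW2 altS 2 3) altLoop27 = true :=
  okWord_intro alt27_0 alt27_1 alt27_2 alt27_3 alt27_4 alt27_5 alt27_6

theorem altWord28 : xd.okWord altU (altW2 altS 2 4) altLoop28 = true :=
  okWord_intro alt28_0 alt28_1 alt28_2 alt28_3 alt28_4 alt28_5 alt28_6

theorem altWord29 : xd.okWord altU (altW2 altS 2 5) altLoop29 = true :=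
  okWord_intro alt29_0 alt29_1 alt29_2 alt29_3 alt29_4 alt29_5 alt29_6

theorem altWord30 : xd.okWord altU (altW2 altS 2 6) altLoop30 = true :=
  okWord_intro alt30_0 alt30_1 alt30_2 alt30_3 alt30_4 alt30_5 alt30_6

theorem altWord31 : xd.okWord altU (altW2 altS 2 7) altLoop31 = true :=
  okWord_intro alt31_0 alt31_1 alt31_2 alt31_3 alt31_4 alt31_5 alt31_6

theorem altWord32 : xd.okWord altU (altW2 altS 2 8) altLoop32 = true :=
  okWord_intro alt32_0 alt32_1 alt32_2 alt32_3 alt32_4 alt32_5 alt32_6

theorem altWord33 : xd.okWord altU (altW2 altS 2 9) altLoop33 = true :=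
  okWord_intro alt33_0 alt33_1 alt33_2 alt33_3 alt33_4 alt33_5 alt33_6

theorem altWord34 : xd.okWord altU (altW2 altS 3 4) altLoop34 = true :=
  okWord_intro alt34_0 alt34_1 alt34_2 alt34_3 alt34_4 alt34_5 alt34_6

theorem altWord35 : xd.okWord altU (altW2 altS 3 5) altLoop35 = true :=
  okWord_intro alt35_0 alt35_1 alt35_2 alt35_3 alt35_4 alt35_5 alt35_6

theorem altWord36 : xd.okWord altU (altW2 altS 3 6) altLoop36 = true :=
  okWord_intro alt36_0 alt36_1 alt36_2 alt36_3 alt36_4 alt36_5 alt36_6

theorem altWord37 : xd.okWord altU (altW2 altS 3 7) altLoop37 = true :=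
  okWord_intro alt37_0 alt37_1 alt37_2 alt37_3 alt37_4 alt37_5 alt37_6

theorem altWord38 : xd.okWord altU (altW2 altS 3 8) altLoop38 = true :=
  okWord_intro alt38_0 alt38_1 alt38_2 alt38_3 alt38_4 alt38_5 alt38_6

theorem altWord39 : xd.okWord altU (altW2 altS 3 9) altLoop39 = true :=
  okWord_intro alt39_0 alt39_1 alt39_2 alt39_3 alt39_4 alt39_5 alt39_6

theorem altWord40 : xd.okWord altU (altW2 altS 4 5) altLoop40 = true :=
  okWord_intro alt40_0 alt40_1 alt40_2 alt40_3 alt40_4 alt40_5 alt40_6

theorem altWord41 : xd.okWord altU (altW2 altS 4 6) altLoop41 = true :=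
  okWord_intro alt41_0 alt41_1 alt41_2 alt41_3 alt41_4 alt41_5 alt41_6

theorem altWord42 : xd.okWord altU (altW2 altS 4 7) altLoop42 = true :=
  okWord_intro alt42_0 alt42_1 alt42_2 alt42_3 alt42_4 alt42_5 alt42_6

theorem altWord43 : xd.okWord altU (altW2 altS 4 8) altLoop43 = true :=
  okWord_intro alt43_0 alt43_1 alt43_2 alt43_3 alt43_4 alt43_5 alt43_6

theorem altWord44 : xd.okWord altU (altW2 altS 4 9) altLoop44 = true :=
  okWord_intro alt44_0 alt44_1 alt44_2 alt44_3 alt44_4 alt44_5 alt44_6

theorem altWord45 : xd.okWord altU (altW2 altS 5 6) altLoop45 = true :=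
  okWord_intro alt45_0 alt45_1 alt45_2 alt45_3 alt45_4 alt45_5 alt45_6

theorem altWord46 : xd.okWord altU (altW2 altS 5 7) altLoop46 = true :=
  okWord_intro alt46_0 alt46_1 alt46_2 alt46_3 alt46_4 alt46_5 alt46_6

theorem altWord47 : xd.okWord altU (altW2 altS 5 8) altLoop47 = true :=
  okWord_intro alt47_0 alt47_1 alt47_2 alt47_3 alt47_4 alt47_5 alt47_6

theorem altWord48 : xd.okWord altU (altW2 altS 5 9) altLoop48 = true :=
  okWord_intro alt48_0 alt48_1 alt48_2 alt48_3 alt48_4 alt48_5 alt48_6

theorem altWord49 : xd.okWord altU (altW2 altS 6 7) altLoop49 = true :=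
  okWord_intro alt49_0 alt49_1 alt49_2 alt49_3 alt49_4 alt49_5 alt49_6

theorem altWord50 : xd.okWord altU (altW2 altS 6 8) altLoop50 = true :=
  okWord_intro alt50_0 alt50_1 alt50_2 alt50_3 alt50_4 alt50_5 alt50_6

theorem altWord51 : xd.okWord altU (altW2 altS 6 9) altLoop51 = true :=
  okWord_intro alt51_0 alt51_1 alt51_2 alt51_3 alt51_4 alt51_5 alt51_6

theorem altWord52 : xd.okWord altU (altW2 altS 7 8) altLoop52 = true :=
  okWord_intro alt52_0 alt52_1 alt52_2 alt52_3 alt52_4 alt52_5 alt52_6

theorem altWord53 : xd.okWord altU (altW2 altS 7 9) altLoop53 = true :=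
  okWord_intro alt53_0 alt53_1 alt53_2 alt53_3 alt53_4 alt53_5 alt53_6

theorem altWord54 : xd.okWord altU (altW2 altS 8 9) altLoop54 = true :=
  okWord_intro alt54_0 alt54_1 alt54_2 alt54_3 alt54_4 alt54_5 alt54_6

/-- the loops for the cubes -/
def cubeLoops : List (List (List Hint × ℕ)) := [altLoop0, altLoop1, altLoop2, altLoop3, altLoop4, altLoop5, altLoop6, altLoop7, altLoop8, altLoop9]

/-- the loops for the pairs -/
def pairLoops : List (List (List (List Hint × ℕ))) := [[[], altLoop10, altLoop11, altLoop12, altLoop13, altLoop14, altLoop15, altLoop16, altLoop17, altLoop18], [[], [], altLoop19, altLoop20, altLoop21, altLoop22, altLoop23, altLoop24, altLoop25, altLoop26], [[], [], [], altLoop27, altLoop28, altLoop29, altLoop30, altLoop31, altLoop32, altLoop33], [[], [], [], [], altLoop34, altLoop35, altLoop36, altLoop37, altLoop38, altLoop39], [[], [], [], [], [], altLoop40, altLoop41, altLoop42, altLoop43, altLoop44], [[], [], [], [], [], [], altLoop45, altLoop46, altLoop47, altLoop48], [[], [], [],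 [], [], [], [], altLoop49, altLoop50, altLoop51], [[], [], [], [], [], [], [], [], altLoop52, altLoop53], [[], [], [], [], [], [], [], [], [], altLoop54], [[], [], [], [], [], [], [], [], [], []]]

theorem cubes_ok : ∀ i < 10, xd.okWord altU (altW3 altS i) (cubeLoops.getD i []) = true := by
  intro i hi
  interval_cases i
  · exact altWord0
  · exact altWord1
  · exact altWord2
  · exact altWord3
  · exact altWord4
  · exact altWord5
  · exact altWord6
  · exact altWord7
  · exact altWord8
  · exact altWord9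

theorem pairs0 : ∀ j < 10, 0 < j →
    xd.okWord altU (altW2 altS 0 j) ((pairLoops.getD 0 []).getD j []) = true := by
  intro j hj hij
  interval_cases j
  · exact altWord10
  · exact altWord11
  · exact altWord12
  · exact altWord13
  · exact altWord14
  · exact altWord15
  · exact altWord16
  · exact altWord17
  · exact altWord18

theorem pairs1 : ∀ j < 10, 1 < j →
    xd.okWord altU (altW2 altS 1 j) ((pairLoops.getD 1 []).getD j []) = true := by
  intro j hj hij
  interval_cases j
  · exact altWord19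
  · exact altWord20
  · exact altWord21
  · exact altWord22
  · exact altWord23
  · exact altWord24
  · exact altWord25
  · exact altWord26

theorem pairs2 : ∀ j < 10, 2 < j →
    xd.okWord altU (altW2 altS 2 j) ((pairLoops.getD 2 []).getD j []) = true := by
  intro j hj hij
  interval_cases j
  · exact altWord27
  · exact altWord28
  · exact altWord29
  · exact altWord30
  · exact altWord31
  · exact altWord32
  · exact altWord33

theorem pairs3 : ∀ j < 10, 3 < j →
    xd.okWord altU (altW2 altS 3 j) ((pairLoops.getD 3 []).getD j []) = true := by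
  intro j hj hij
  interval_cases j
  · exact altWord34
  · exact altWord35
  · exact altWord36
  · exact altWord37
  · exact altWord38
  · exact altWord39

theorem pairs4 : ∀ j < 10, 4 < j →
    xd.okWord altU (altW2 altS 4 j) ((pairLoops.getD 4 []).getD j []) = true := by
  intro j hj hij
  interval_cases j
  · exact altWord40
  · exact altWord41
  · exact altWord42
  · exact altWord43
  · exact altWord44

theorem pairs5 : ∀ j < 10, 5 < j →
    xd.okWord altU (altW2 altS 5 j) ((pairLoops.getD 5 []).getD j []) = true := by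
  intro j hj hij
  interval_cases j
  · exact altWord45
  · exact altWord46
  · exact altWord47
  · exact altWord48

theorem pairs6 : ∀ j < 10, 6 < j →
    xd.okWord altU (altW2 altS 6 j) ((pairLoops.getD 6 []).getD j []) = true := by
  intro j hj hij
  interval_cases j
  · exact altWord49
  · exact altWord50
  · exact altWord51

theorem pairs7 : ∀ j < 10, 7 < j →
    xd.okWord altU (altW2 altS 7 j) ((pairLoops.getD 7 []).getD j []) = true := by
  intro j hj hij
  interval_cases j
  · exact altWord52
  · exact altWord53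

theorem pairs8 : ∀ j < 10, 8 < j →
    xd.okWord altU (altW2 altS 8 j) ((pairLoops.getD 8 []).getD j []) = true := by
  intro j hj hij
  interval_cases j
  · exact altWord54

theorem pairs_ok : ∀ i < 10, ∀ j < 10, i < j →
    xd.okWord altU (altW2 altS i j) ((pairLoops.getD i []).getD j []) = true := by
  intro i hi j hj hij
  interval_cases i
  · exact pairs0 j hj hij
  · exact pairs1 j hj hij
  · exact pairs2 j hj hij
  · exact pairs3 j hj hij
  · exact pairs4 j hj hij
  · exact pairs5 j hj hij
  · exact pairs6 j hj hij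
  · exact pairs7 j hj hij
  · exact pairs8 j hj hij
  · omega

theorem altU_ok : okU altU = true := by decide +kernel

theorem altRun_ok : xd.okMoved (altS.getD 6 []) altRun = true := by decide +kernel

theorem altS_ok : altS.all okAtoms = true := by decide +kernel

end Cfsg.Agent.HN.Dat
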