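import Cfsg.Agent.Lib.HN.LoopData

/-! Kernel checks: the base loops -/

set_option autoImplicit false
set_option maxRecDepth 100000
set_option Elab.async false

namespace Cfsg.Agent.HN.Dat

theorem baseOK0 : allLo (fun i => xd.okBase (Nat.add 0 i)) 64 = true := by decide +kernel

theorem baseOK1 : allLo (fun i => xd.okBase (Nat.add 64 i)) 64 = true := by decide +kernel

theorem baseOK2 : allLo (fun i => xd.okBase (Nat.add 128 i)) 64 = true := by decide +kernel

theorem baseOK3 : allLo (fun i => xd.okBase (Nat.add 192 i)) 64 = true := by decide +kernel

theorem baseOK4 : allLo (fun i => xd.okBase (Nat.add 256 i)) 64 = true := by decide +kernel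

theorem baseOK5 : allLo (fun i => xd.okBase (Nat.add 320 i)) 64 = true := by decide +kernel

theorem baseOK6 : allLo (fun i => xd.okBase (Nat.add 384 i)) 64 = true := by decide +kernel

theorem baseOK7 : allLo (fun i => xd.okBase (Nat.add 448 i)) 64 = true := by decide +kernel

theorem baseOK8 : allLo (fun i => xd.okBase (Nat.add 512 i)) 64 = true := by decide +kernel

theorem baseOK9 : allLo (fun i => xd.okBase (Nat.add 576 i)) 64 = true := by decide +kernel

theorem baseOK10 : allLo (fun i => xd.okBase (Nat.add 640 i)) 64 = true := by decide +kernel

theorem baseOK11 : allLo (fun i => xd.okBase (Nat.add 704 i)) 64 = true := by decide +kernel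

theorem baseOK12 : allLo (fun i => xd.okBase (Nat.add 768 i)) 64 = true := by decide +kernel

theorem baseOK13 : allLo (fun i => xd.okBase (Nat.add 832 i)) 64 = true := by decide +kernel

theorem baseOK14 : allLo (fun i => xd.okBase (Nat.add 896 i)) 64 = true := by decide +kernel

theorem baseOK15 : allLo (fun i => xd.okBase (Nat.add 960 i)) 64 = true := by decide +kernel

theorem baseOK16 : allLo (fun i => xd.okBase (Nat.add 1024 i)) 64 = true := by decide +kernel

theorem baseOK17 : allLo (fun i => xd.okBase (Nat.add 1088 i)) 39 = true := by decide +kernel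

end Cfsg.Agent.HN.Dat
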