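import Cfsg.Agent.Lib.HN.TC

/-! x has order 4 and its square centralises y -/

set_option autoImplicit false
set_option maxRecDepth 100000
set_option maxHeartbeats 4000000
set_option Elab.async false

namespace Cfsg.Agent.HN.Centre

noncomputable section

/-- the tree -/
def nodes : Trie :=
  (.node (.node (.node (.node (.node (.node (.node (.leaf 0x0) (.leaf 0x20003f)) (.node (.leaf 0x200003) (.leaf 0))) (.node (.node (.leaf 0x20000f) (.leaf 0x20004f)) (.node (.leaf 0x20002f) (.leaf 0)))) (.node (.node (.node (.leaf 0x200007) (.leaf 0x200047)) (.node (.leaf 0x200027) (.leaf 0))) (.node (.node (.leaf 0x200017) (.leaf 0x200057)) (.node (.leaf 0x37) (.leaf 0))))) (.node (.node (.node (.node (.leaf 0x3) (.leaf 0x200043)) (.node (.leaf 0x200023) (.leaf 0))) (.node (.node (.leaf 0x200013) (.leaf 0x200053)) (.node (.leaf 0x200033) (.leaf 0)))) (.node (.node (.node (.leaf 0x100000) (.leaf 0x200038)) (.node (.leaf 0x20002b) (.leaf 0))) (.node (.node (.leaf 0x20001b) (.leaf 0x11)) (.node (.leaf 0x20003b) (.leaf 0)))))) (.node (.node (.node (.node (.node (.leaf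 0x1) (.leaf 0x100041)) (.node (.leaf 0x200021) (.leaf 0))) (.node (.node (.leaf 0x200011) (.leaf 0x200051)) (.node (.leaf 0x100031) (.leaf 0)))) (.node (.node (.node (.leaf 0x200009) (.leaf 0x200049)) (.node (.leaf 0x200029) (.leaf 0))) (.node (.node (.leaf 0x100019) (.leaf 0x200059)) (.node (.leaf 0x200025) (.leaf 0))))) (.node (.node (.node (.node (.leaf 0x5) (.leaf 0x200045)) (.node (.leaf 0x25) (.leaf 0))) (.node (.node (.leaf 0x15) (.leaf 0x200055)) (.node (.leaf 0x4) (.leaf 0)))) (.node (.node (.node (.leaf 0x20000d) (.leaf 0x20004d)) (.node (.leaf 0x2d) (.leaf 0))) (.node (.node (.leaf 0x1d) (.leaf 0x30)) (.node (.leaf 0x35) (.leaf 0))))))) (.node (.node (.node (.node (.node (.node (.leaf 0x0) (.leaf 0x200040)) (.node (.leaf 0x200005) (.leaf 0))) (.node (.node (.leaf 0x200010) (.leaf 0x50)) (.node (.leaf 0x200030) (.leaf 0)))) (.node (.node (.node (.leaf 0x200008) (.leaf 0x100048)) (.node (.leaf 0x200028) (.leaf 0))) (.node (.node (.leaf 0x200018) (.leaf 0x200058)) (.node (.leaf 0x21) (.leaf 0))))) (.node (.node (.node (.node (.leaf 0x200002) (.leaf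 0x44)) (.node (.leaf 0x200004) (.leaf 0))) (.node (.node (.leaf 0x200014) (.leaf 0x54)) (.node (.leaf 0x200020) (.leaf 0)))) (.node (.node (.node (.leaf 0x20000c) (.leaf 0x20004c)) (.node (.leaf 0x20002c) (.leaf 0))) (.node (.node (.leaf 0x200001) (.leaf 0x14)) (.node (.leaf 0x20003c) (.leaf 0)))))) (.node (.node (.node (.node (.node (.leaf 0x2) (.leaf 0x200042)) (.node (.leaf 0x200022) (.leaf 0))) (.node (.node (.leaf 0x100012) (.leaf 0x200052)) (.node (.leaf 0x200032) (.leaf 0)))) (.node (.node (.node (.leaf 0x20000a) (.leaf 0x20004a)) (.node (.leaf 0x10002a) (.leaf 0))) (.node (.node (.leaf 0x20001a) (.leaf 0x28)) (.node (.leaf 0x20003a) (.leaf 0))))) (.node (.node (.node (.node (.leaf 0x6) (.leaf 0x200046)) (.node (.leaf 0x1f) (.leaf 0))) (.node (.node (.leaf 0x200016) (.leaf 0x56)) (.node (.leaf 0x200036) (.leaf 0)))) (.node (.node (.node (.leaf 0xe) (.leaf 0x4e)) (.node (.leaf 0x20002e) (.leaf 0))) (.node (.node (.leaf 0x20001d) (.leaf 0x17)) (.node (.leaf 0x20003e) (.leaf 0))))))))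

/-- the facts -/
def facts : Trie :=
  (.node (.node (.node (.node (.node (.node (.node (.node (.leaf 0x1000000000100000) (.leaf 0x8a000fe0000000002000000000000000000000003c000090000300001)) (.node (.leaf 0x39000210000100000) (.leaf 0))) (.node (.node (.leaf 0x1e0001d0000100000) (.leaf 0)) (.node (.leaf 0x55000540000100000) (.leaf 0)))) (.node (.node (.node (.leaf 0xf0000e0000100000) (.leaf 0)) (.node (.leaf 0x46000450000300000) (.leaf 0))) (.node (.node (.leaf 0x2a000290000300000) (.leaf 0)) (.node (.leaf 0x6800066000de0002c000dd00003000020000100005000010005d0002e000150000200002) (.leaf 0))))) (.node (.node (.node (.node (.leaf 0x8000070000300000) (.leaf 0x1b0010f00000000020000000000000000000000000000030000100001)) (.node (.leaf 0x3e000350000100000) (.leaf 0))) (.node (.node (.leaf 0x24000230000300000) (.leaf 0)) (.node (.leaf 0x73000cf000a7000a9000cc00002000030000000004000010005a00032000480000100002) (.leaf 0)))) (.node (.node (.node (.leaf 0x17000160000300000) (.leaf 0)) (.node (.leaf 0x4d0004c0000300000) (.leaf 0))) (.node (.node (.leaf 0x32000310000200000)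 (.leaf 0)) (.node (.leaf 0xa6000ee00000000020000000000000000000000049000190000200001) (.leaf 0)))))) (.node (.node (.node (.node (.node (.leaf 0x5000020000300000) (.leaf 0x8e00106000000000200000000000000000000000040000b0000300001)) (.node (.leaf 0x770004c00081000840008600004000010000000002000010003a000340003b0000100002) (.leaf 0))) (.node (.node (.leaf 0x20000030000300000) (.leaf 0)) (.node (.leaf 0x59000580000300000) (.leaf 0)))) (.node (.node (.node (.leaf 0x13000120000200000) (.leaf 0)) (.node (.leaf 0x4a000490000300000) (.leaf 0))) (.node (.node (.leaf 0x2e0002d0000100000) (.leaf 0)) (.node (.leaf 0x6a000e00002f00031000e60000400001000000000300001000170002f0005f0000100002) (.leaf 0))))) (.node (.node (.node (.node (.leaf 0xe0001100013000150001600004000010000000000000000000a000000000b0000300002) (.leaf 0)) (.node (.leaf 0x42000410000200000) (.leaf 0))) (.node (.node (.leaf 0x80000500007000550005600004000010000000003000010002500005000260000100002) (.leaf 0)) (.node (.leaf 0x5e000d3000d500025000d6000040000100000000030000100011000290005c0000100002) (.leaf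 0)))) (.node (.node (.node (.leaf 0x1b0001a0000300000) (.leaf 0)) (.node (.leaf 0x51000500000100000) (.leaf 0))) (.node (.node (.leaf 0x35000200000300000) (.leaf 0)) (.node (.leaf 0xaa000f60000000002000000000000000000000004b0001b0000300001) (.leaf 0))))))) (.node (.node (.node (.node (.node (.node (.leaf 0x3000020000100000) (.leaf 0x8c001020000000002000000000000000000000003d0000a0000300001)) (.node (.leaf 0x800004a000580005600082000040000100001000000000100025000390003a0000200002) (.leaf 0))) (.node (.node (.leaf 0x1f0001d0000300000) (.leaf 0)) (.node (.leaf 0x57000560000100000) (.leaf 0)))) (.node (.node (.node (.leaf 0x11000100000300000) (.leaf 0)) (.node (.leaf 0x48000470000300000) (.leaf 0))) (.node (.node (.leaf 0x2c0002b0000300000) (.leaf 0)) (.node (.leaf 0xa5000d1000700006e000e2000040000100000000000000100030000470005e0000100002) (.leaf 0))))) (.node (.node (.node (.node (.leaf 0xa000090000300000) (.leaf 0)) (.node (.leaf 0x400003f0000300000) (.leaf 0))) (.node (.node (.leaf 0x25000040000300000) (.leaf 0)) (.node (.leaf 0x22000460005b0005d000d2000040000100000000030000100028000100005b0000100002)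 (.leaf 0)))) (.node (.node (.node (.leaf 0x19000180000300000) (.leaf 0)) (.node (.leaf 0x4f0004e0000100000) (.leaf 0))) (.node (.node (.leaf 0x34000330000300000) (.leaf 0)) (.node (.leaf 0xa8000f20000000002000000000000000000000004a0001a0000300001) (.leaf 0)))))) (.node (.node (.node (.node (.node (.leaf 0x7000060000100000) (.leaf 0x70010a00000000020000000000000000000000003000000000200001)) (.node (.leaf 0x3d0003c0000300000) (.leaf 0))) (.node (.node (.leaf 0x22000210000300000) (.leaf 0)) (.node (.leaf 0xab000ad0008b0008d0008f0007b0007d0007f000af000b1000b3000b5000b7000b9000bb000bd000bf000c1000c3000c5000c7000c9000ca0001600001000000000500005000590004a0005a0000100002) (.leaf 0)))) (.node (.node (.node (.leaf 0x15000140000300000) (.leaf 0)) (.node (.leaf 0x8b0008d0008f00006000490007900091000930009500097000990009b0009d0009f000a1000a3000a5000a7000a9000aa00013000010000000002000030004a0003b0004b0000100002) (.leaf 0))) (.node (.node (.leaf 0x300002f0000300000) (.leaf 0)) (.node (.leaf 0xa4000ea00000000020000000000000000000000048000180000300001) (.leaf 0))))) (.node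 (.node (.node (.node (.leaf 0xd0000c0000300000) (.leaf 0)) (.node (.leaf 0x44000430000300000) (.leaf 0))) (.node (.node (.leaf 0x28000270000300000) (.leaf 0)) (.node (.leaf 0x5d000140000100000) (.leaf 0)))) (.node (.node (.node (.leaf 0x1500017000190001b0001d0001f00021000230002500027000290002b0002d0002f00031000330003500037000390003a00013000010000000002000030001b000090001c0000100002) (.leaf 0)) (.node (.leaf 0x53000520000300000) (.leaf 0))) (.node (.node (.leaf 0x37000360000300000) (.leaf 0)) (.node (.leaf 0xac000fa0000000002000000000000000000000003b0001c0000100001) (.leaf 0)))))))) (.node (.node (.node (.node (.node (.node (.node (.leaf 0x2000010000100000) (.leaf 0x100000150000000002000000000000000000000003c0000a0000000001)) (.node (.leaf 0x3a000250000300000) (.leaf 0))) (.node (.node (.leaf 0x1c0001a000010003f0004000004000010000000003000010001d0000d0001e0000100002) (.leaf 0)) (.node (.leaf 0x56000550000300000) (.leaf 0)))) (.node (.node (.node (.leaf 0x100000f0000300000) (.leaf 0)) (.node (.leaf 0x47000460000300000) (.leaf 0))) (.node (.node (.leaf 0x2b0002a0000200000)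 (.leaf 0)) (.node (.leaf 0x5e000300000100000) (.leaf 0))))) (.node (.node (.node (.node (.leaf 0x9000080000300000) (.leaf 0)) (.node (.leaf 0x3f0003e0000300000) (.leaf 0))) (.node (.node (.leaf 0x90004b0004d0004f0005000004000010000000000000000002300002000240000300002) (.leaf 0)) (.node (.leaf 0x5b000280000100000) (.leaf 0)))) (.node (.node (.node (.leaf 0x18000170000300000) (.leaf 0)) (.node (.leaf 0x4e0004d0000300000) (.leaf 0))) (.node (.node (.leaf 0x33000320000300000) (.leaf 0)) (.node (.leaf 0xf000037000000000200000000000000000000000490001a0000000001) (.leaf 0)))))) (.node (.node (.node (.node (.node (.leaf 0x6000050000100000) (.leaf 0x1080001900000000020000000000000000000000004000000000000001)) (.node (.leaf 0x3c0003b0000300000) (.leaf 0))) (.node (.node (.leaf 0x21000050000300000) (.leaf 0)) (.node (.leaf 0x5a000590000300000) (.leaf 0)))) (.node (.node (.node (.leaf 0x14000130000300000) (.leaf 0)) (.node (.leaf 0x4b0004a0000300000) (.leaf 0))) (.node (.node (.leaf 0x2f0002e0000300000) (.leaf 0)) (.node (.leaf 0xe4000e20006c000e800032000e700004000020000100005000010005f00047000180000000002)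 (.leaf 0))))) (.node (.node (.node (.node (.leaf 0xc000000000200000) (.leaf 0)) (.node (.leaf 0x43000420000300000) (.leaf 0))) (.node (.node (.leaf 0x270001f0000100000) (.leaf 0)) (.node (.leaf 0x60000d80002800026000d700002000030000100005000010005c0002a000130000200002) (.leaf 0)))) (.node (.node (.node (.leaf 0x1c0001b0000300000) (.leaf 0)) (.node (.leaf 0x52000510000300000) (.leaf 0))) (.node (.node (.leaf 0x36000040000100000) (.leaf 0)) (.node (.leaf 0xf80003b0000000002000000000000000000000004b0001c0000000001) (.leaf 0))))))) (.node (.node (.node (.node (.node (.node (.leaf 0x4000030000100000) (.leaf 0x104000170000000002000000000000000000000003d0000b0000000001)) (.node (.leaf 0x3b0003a0000300000) (.leaf 0))) (.node (.node (.leaf 0x200001e00042000400004400004000010000100000000010001d0000f0001f0000200002) (.leaf 0)) (.node (.leaf 0x58000570000300000) (.leaf 0)))) (.node (.node (.node (.leaf 0x12000110000300000) (.leaf 0)) (.node (.leaf 0x49000480000200000) (.leaf 0))) (.node (.node (.leaf 0x2d0002c0000300000) (.leaf 0)) (.node (.leaf 0x5f000170000100000)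 (.leaf 0))))) (.node (.node (.node (.node (.leaf 0xb0000a0000300000) (.leaf 0)) (.node (.leaf 0x41000400000300000) (.leaf 0))) (.node (.node (.leaf 0x26000250000100000) (.leaf 0)) (.node (.leaf 0x5c000110000100000) (.leaf 0)))) (.node (.node (.node (.leaf 0x1a000190000200000) (.leaf 0)) (.node (.leaf 0x500004f0000300000) (.leaf 0))) (.node (.node (.leaf 0x4f0005100053000020003f000450005b0005d0005f00061000630006500067000690006b0006d0006f00071000730007400013000010000000002000030003300022000340000100002) (.leaf 0)) (.node (.leaf 0xf4000390000000002000000000000000000000004a0001b0000000001) (.leaf 0)))))) (.node (.node (.node (.node (.node (.leaf 0x100003000090000b0000c00004000010000000004000010000600000000070000400002) (.leaf 0x10c0001b000000000200000000000000000000000030000c0000000001)) (.node (.leaf 0x5500083000870008b0008c00004000010000000000000000003c000040003d0000300002) (.leaf 0))) (.node (.node (.leaf 0x23000220000300000) (.leaf 0)) (.node (.leaf 0x7500088000ac000aa000cc00000000050000000001000010005a0005a000330000100002) (.leaf 0)))) (.node (.node (.node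 (.leaf 0x16000150000100000) (.leaf 0)) (.node (.leaf 0x4c000380000300000) (.leaf 0))) (.node (.node (.leaf 0x31000300000300000) (.leaf 0)) (.node (.leaf 0xec0003500000000020000000000000000000000048000190000000001) (.leaf 0))))) (.node (.node (.node (.node (.leaf 0xe0000d0000300000) (.leaf 0)) (.node (.leaf 0x45000440000100000) (.leaf 0))) (.node (.node (.leaf 0x29000280000300000) (.leaf 0)) (.node (.leaf 0x6400062000da0002b000dc0000400001000000000300001000140002c0005d0000100002) (.leaf 0)))) (.node (.node (.node (.leaf 0x1d000010000300000) (.leaf 0)) (.node (.leaf 0x54000530000300000) (.leaf 0))) (.node (.node (.leaf 0x38000370000100000) (.leaf 0)) (.node (.leaf 0xfc0003d0000000002000000000000000000000003b000090000000001) (.leaf 0)))))))))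

/-- the final cosets -/
def fin : Trie :=
  (.node (.leaf 0x0) (.leaf 0))

/-- the inverse of a letter -/
def ivl (l : ℕ) : ℕ := ([1, 0, 3, 2] : List ℕ).getD l l

/-- the certificate -/
def cert : TC.Cert :=
  ⟨4, ivl, nodes, facts, [[2, 2, 2, 2, 2, 2], [0, 0, 2, 0, 0, 3], [1, 3, 0, 2, 1, 3, 0, 2, 1, 3, 0, 2], [1, 2, 2, 0, 2, 2, 2, 1, 2, 2, 0, 2, 2, 2, 1, 2, 2, 0, 2, 2, 2], [0, 2, 0, 2, 0, 2, 0, 2, 0, 2, 0, 2, 0, 2, 0, 2], [0, 2, 0, 2, 2, 2, 0, 2, 0, 2, 2, 2, 0, 2, 0, 2, 2, 2, 0, 2, 0, 2, 2, 2]], [], fin, 0⟩

/-- the number of facts -/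
def numFacts : ℕ := 137

/-- the path of target 0 -/
def path0 : List ℕ := [0, 2, 4, 272]

/-- the path of target 1 -/
def path1 : List ℕ := [0, 2, 8, 10, 12, 14]

end

end Cfsg.Agent.HN.Centre
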