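import Cfsg.Agent.Lib.HN.ChainCheckTop
import Cfsg.Agent.Lib.HN.LoopData
import Cfsg.Agent.Lib.HN.ChainSplit

/-! Kernel checks: the chains of the nodes -/

set_option autoImplicit false
set_option maxRecDepth 100000
set_option Elab.async false

namespace Cfsg.Agent.HN.Dat

theorem chain1 : schainOK (xd.O.node 1).chain = true := by decide +kernel

theorem chain2 : schainOK (xd.O.node 2).chain = true := by decide +kernel

theorem chain3 : schainOK (xd.O.node 3).chain = true := by decide +kernel

theorem chain4 : schainOK (xd.O.node 4).chain = true := by decide +kernel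

theorem chain5 : schainOK (xd.O.node 5).chain = true := by decide +kernel

theorem chain6 : schainOK (xd.O.node 6).chain = true := by decide +kernel

theorem chain7 : schainOK (xd.O.node 7).chain = true := by decide +kernel

theorem head8 : okHead node8L0 [node8L1, node8L2, node8L3] = true := by decide +kernel

theorem tail8 : schainOK [node8L1, node8L2, node8L3] = true := by decide +kernel

theorem rows8_0 : okRows node8L0 [node8L1, node8L2, node8L3] 0 64 = true := by decide +kernel

theorem rows8_1 : okRows node8L0 [node8L1, node8L2, node8L3] 64 64 = true := by decide +kernel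

theorem rows8_2 : okRows node8L0 [node8L1, node8L2, node8L3] 128 64 = true := by decide +kernel

theorem rows8_3 : okRows node8L0 [node8L1, node8L2, node8L3] 192 64 = true := by decide +kernel

theorem rows8_4 : okRows node8L0 [node8L1, node8L2, node8L3] 256 64 = true := by decide +kernel

theorem rows8_5 : okRows node8L0 [node8L1, node8L2, node8L3] 320 64 = true := by decide +kernel

theorem rows8_6 : okRows node8L0 [node8L1, node8L2, node8L3] 384 64 = true := by decide +kernel

theorem rows8_7 : okRows node8L0 [node8L1, node8L2, node8L3] 448 64 = true := by decide +kernel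

theorem rows8_8 : okRows node8L0 [node8L1, node8L2, node8L3] 512 64 = true := by decide +kernel

theorem rows8_9 : okRows node8L0 [node8L1, node8L2, node8L3] 576 64 = true := by decide +kernel

theorem rows8_10 : okRows node8L0 [node8L1, node8L2, node8L3] 640 64 = true := by decide +kernel

theorem rows8_11 : okRows node8L0 [node8L1, node8L2, node8L3] 704 64 = true := by decide +kernel

theorem rows8_12 : okRows node8L0 [node8L1, node8L2, node8L3] 768 64 = true := by decide +kernel

theorem rows8_13 : okRows node8L0 [node8L1, node8L2, node8L3] 832 64 = true := by decide +kernel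

theorem rows8_14 : okRows node8L0 [node8L1, node8L2, node8L3] 896 64 = true := by decide +kernel

theorem rows8_15 : okRows node8L0 [node8L1, node8L2, node8L3] 960 64 = true := by decide +kernel

theorem rows8_16 : okRows node8L0 [node8L1, node8L2, node8L3] 1024 64 = true := by decide +kernel

theorem rows8_17 : okRows node8L0 [node8L1, node8L2, node8L3] 1088 64 = true := by decide +kernel

theorem rows8_18 : okRows node8L0 [node8L1, node8L2, node8L3] 1152 64 = true := by decide +kernel

theorem rows8_19 : okRows node8L0 [node8L1, node8L2, node8L3] 1216 64 = true := by decide +kernel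

theorem chain8 : schainOK (xd.O.node 8).chain = true := by
  show schainOK (node8L0 :: [node8L1, node8L2, node8L3]) = true
  refine schainOK_cons head8 (fun i hi => ?_) tail8
  replace hi : i < 1280 := hi
  by_cases h0 : i < 64
  · exact ⟨_, _, rows8_0, by omega, by omega⟩
  by_cases h1 : i < 128
  · exact ⟨_, _, rows8_1, by omega, by omega⟩
  by_cases h2 : i < 192
  · exact ⟨_, _, rows8_2, by omega, by omega⟩
  by_cases h3 : i < 256
  · exact ⟨_, _, rows8_3, by omega, by omega⟩
  by_cases h4 : i < 320
  · exact ⟨_, _, rows8_4, by omega, by omega⟩
  by_cases h5 : i < 384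
  · exact ⟨_, _, rows8_5, by omega, by omega⟩
  by_cases h6 : i < 448
  · exact ⟨_, _, rows8_6, by omega, by omega⟩
  by_cases h7 : i < 512
  · exact ⟨_, _, rows8_7, by omega, by omega⟩
  by_cases h8 : i < 576
  · exact ⟨_, _, rows8_8, by omega, by omega⟩
  by_cases h9 : i < 640
  · exact ⟨_, _, rows8_9, by omega, by omega⟩
  by_cases h10 : i < 704
  · exact ⟨_, _, rows8_10, by omega, by omega⟩
  by_cases h11 : i < 768
  · exact ⟨_, _, rows8_11, by omega, by omega⟩
  by_cases h12 : i < 832
  · exact ⟨_, _, rows8_12, by omega, by omega⟩
  by_cases h13 : i < 896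
  · exact ⟨_, _, rows8_13, by omega, by omega⟩
  by_cases h14 : i < 960
  · exact ⟨_, _, rows8_14, by omega, by omega⟩
  by_cases h15 : i < 1024
  · exact ⟨_, _, rows8_15, by omega, by omega⟩
  by_cases h16 : i < 1088
  · exact ⟨_, _, rows8_16, by omega, by omega⟩
  by_cases h17 : i < 1152
  · exact ⟨_, _, rows8_17, by omega, by omega⟩
  by_cases h18 : i < 1216
  · exact ⟨_, _, rows8_18, by omega, by omega⟩
  exact ⟨_, _, rows8_19, by omega, by omega⟩

end Cfsg.Agent.HN.Dat
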