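import Cfsg.Agent.Lib.HN.LoopData
import Cfsg.Agent.Lib.HN.ChainSplit

/-! Kernel checks: the chains of the nodes -/

set_option autoImplicit false
set_option maxRecDepth 100000
set_option Elab.async false

namespace Cfsg.Agent.HN.Dat

theorem head0 : okHead node0L0 [node0L1, node0L2, node0L3, node0L4, node0L5] = true := by decide +kernel

theorem tail0 : schainOK [node0L1, node0L2, node0L3, node0L4, node0L5] = true := by decide +kernel

theorem rows0_0 : okRows node0L0 [node0L1, node0L2, node0L3, node0L4, node0L5] 0 64 = true := by decide +kernel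

theorem rows0_1 : okRows node0L0 [node0L1, node0L2, node0L3, node0L4, node0L5] 64 64 = true := by decide +kernel

theorem rows0_2 : okRows node0L0 [node0L1, node0L2, node0L3, node0L4, node0L5] 128 64 = true := by decide +kernel

theorem rows0_3 : okRows node0L0 [node0L1, node0L2, node0L3, node0L4, node0L5] 192 64 = true := by decide +kernel

theorem rows0_4 : okRows node0L0 [node0L1, node0L2, node0L3, node0L4, node0L5] 256 64 = true := by decide +kernel

theorem rows0_5 : okRows node0L0 [node0L1, node0L2, node0L3, node0L4, node0L5] 320 64 = true := by decide +kernel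

theorem rows0_6 : okRows node0L0 [node0L1, node0L2, node0L3, node0L4, node0L5] 384 64 = true := by decide +kernel

theorem rows0_7 : okRows node0L0 [node0L1, node0L2, node0L3, node0L4, node0L5] 448 64 = true := by decide +kernel

theorem rows0_8 : okRows node0L0 [node0L1, node0L2, node0L3, node0L4, node0L5] 512 64 = true := by decide +kernel

theorem rows0_9 : okRows node0L0 [node0L1, node0L2, node0L3, node0L4, node0L5] 576 64 = true := by decide +kernel

theorem rows0_10 : okRows node0L0 [node0L1, node0L2, node0L3, node0L4, node0L5] 640 64 = true := by decide +kernel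

theorem rows0_11 : okRows node0L0 [node0L1, node0L2, node0L3, node0L4, node0L5] 704 64 = true := by decide +kernel

theorem rows0_12 : okRows node0L0 [node0L1, node0L2, node0L3, node0L4, node0L5] 768 64 = true := by decide +kernel

theorem rows0_13 : okRows node0L0 [node0L1, node0L2, node0L3, node0L4, node0L5] 832 64 = true := by decide +kernel

theorem rows0_14 : okRows node0L0 [node0L1, node0L2, node0L3, node0L4, node0L5] 896 64 = true := by decide +kernel

theorem rows0_15 : okRows node0L0 [node0L1, node0L2, node0L3, node0L4, node0L5] 960 64 = true := by decide +kernel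

theorem rows0_16 : okRows node0L0 [node0L1, node0L2, node0L3, node0L4, node0L5] 1024 64 = true := by decide +kernel

theorem rows0_17 : okRows node0L0 [node0L1, node0L2, node0L3, node0L4, node0L5] 1088 64 = true := by decide +kernel

theorem rows0_18 : okRows node0L0 [node0L1, node0L2, node0L3, node0L4, node0L5] 1152 64 = true := by decide +kernel

theorem rows0_19 : okRows node0L0 [node0L1, node0L2, node0L3, node0L4, node0L5] 1216 64 = true := by decide +kernel

theorem rows0_20 : okRows node0L0 [node0L1, node0L2, node0L3, node0L4, node0L5] 1280 64 = true := by decide +kernel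

theorem rows0_21 : okRows node0L0 [node0L1, node0L2, node0L3, node0L4, node0L5] 1344 64 = true := by decide +kernel

theorem chain0 : schainOK (xd.O.node 0).chain = true := by
  show schainOK (node0L0 :: [node0L1, node0L2, node0L3, node0L4, node0L5]) = true
  refine schainOK_cons head0 (fun i hi => ?_) tail0
  replace hi : i < 1408 := hi
  by_cases h0 : i < 64
  · exact ⟨_, _, rows0_0, by omega, by omega⟩
  by_cases h1 : i < 128
  · exact ⟨_, _, rows0_1, by omega, by omega⟩
  by_cases h2 : i < 192
  · exact ⟨_, _, rows0_2, by omega, by omega⟩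
  by_cases h3 : i < 256
  · exact ⟨_, _, rows0_3, by omega, by omega⟩
  by_cases h4 : i < 320
  · exact ⟨_, _, rows0_4, by omega, by omega⟩
  by_cases h5 : i < 384
  · exact ⟨_, _, rows0_5, by omega, by omega⟩
  by_cases h6 : i < 448
  · exact ⟨_, _, rows0_6, by omega, by omega⟩
  by_cases h7 : i < 512
  · exact ⟨_, _, rows0_7, by omega, by omega⟩
  by_cases h8 : i < 576
  · exact ⟨_, _, rows0_8, by omega, by omega⟩
  by_cases h9 : i < 640
  · exact ⟨_, _, rows0_9, by omega, by omega⟩
  by_cases h10 : i < 704
  · exact ⟨_, _, rows0_10, by omega, by omega⟩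
  by_cases h11 : i < 768
  · exact ⟨_, _, rows0_11, by omega, by omega⟩
  by_cases h12 : i < 832
  · exact ⟨_, _, rows0_12, by omega, by omega⟩
  by_cases h13 : i < 896
  · exact ⟨_, _, rows0_13, by omega, by omega⟩
  by_cases h14 : i < 960
  · exact ⟨_, _, rows0_14, by omega, by omega⟩
  by_cases h15 : i < 1024
  · exact ⟨_, _, rows0_15, by omega, by omega⟩
  by_cases h16 : i < 1088
  · exact ⟨_, _, rows0_16, by omega, by omega⟩
  by_cases h17 : i < 1152
  · exact ⟨_, _, rows0_17, by omega, by omega⟩
  by_cases h18 : i < 1216
  · exact ⟨_, _, rows0_18, by omega, by omega⟩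
  by_cases h19 : i < 1280
  · exact ⟨_, _, rows0_19, by omega, by omega⟩
  by_cases h20 : i < 1344
  · exact ⟨_, _, rows0_20, by omega, by omega⟩
  exact ⟨_, _, rows0_21, by omega, by omega⟩

end Cfsg.Agent.HN.Dat
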