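import Cfsg.Agent.Lib.HN.Model

/-! The checks that make the cosets a model of the rules, and those that bound the index from above. -/

set_option autoImplicit false
set_option maxRecDepth 100000

namespace Cfsg.Agent.HN

noncomputable section

/-- A loop checked from the element `h i * κ r`. -/
structure BaseE where
  i : ℕ
  r : ℕ
  hs : List Hint
  v : ℕ

/-- The data for the checks. -/
structure XData where
  O : OData
  D : DData
  nfacts : ℕ
  kchain : List SLev
  cchain : List SLev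
  cw : List ℕ
  ck : List (List (ℕ × ℕ))
  five : List (List Hint × ℕ)
  xloop : List (List Hint × ℕ)
  base : List (List BaseE)
  covB : Trie
  covV : Trie
  covC : Trie
  mv : List Mv
  gfacts : List (List ℕ)

variable (X : XData)

/-- Coset representative `r` of the smaller group in the stabiliser of `0`. -/
def XData.kap (r : ℕ) : List ℕ := unp (X.cw.getD r 0)

/-- Base loop `b`. -/
def XData.baseE (b : ℕ) : BaseE :=
  (X.base.getD (Nat.div b 128) []).getD (Nat.mod b 128) ⟨0, 0, [], 0⟩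

/-- The number of base loops. -/
def XData.nbase : ℕ := (X.base.map List.length).sum

/-- The checks on the stabiliser of `0`, the smaller group and its cosets. -/
def XData.okGroups : Bool :=
  schainOK X.kchain && Nat.beq (schainSize X.kchain) 126000 &&
    eqW (topGens X.kchain) [3, 90] && eqW (unp 3) [2] && eqW (unp 90) [1, 2, 0] &&
    ((topGens X.kchain).all fun g => letOK 5 (unp g) && Nat.beq (lact (unp g) 0) 0 &&
      Nat.beq (lact ([1] ++ unp g ++ [0]) 0) 0 && Nat.beq (lact ([0] ++ unp g ++ [1]) 0) 0) &&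
    schainOK X.cchain &&
    ((topGens X.cchain).all fun g => letOK 5 (unp g) && Nat.beq (lact (unp g) 0) 0 &&
      eqH (unp g ++ [4]) ([4] ++ unp g)) &&
    eqH (X.kap 0) [] && Nat.beq X.cw.length 50 &&
    allLo (fun r => letOK 5 (X.kap r) && Nat.beq (lact (X.kap r) 0) 0 &&
      allLo (fun g =>
        let d := (X.ck.getD r []).getD g (0, 0)
        Nat.blt d.1 50 && codeOK X.cchain d.2 &&
          eqH (unp ((topGens X.kchain).getD g 0) ++ X.kap r) (X.kap d.1 ++ prodW X.cchain d.2))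
        (topGens X.kchain).length) 50

/-- The loops at representative `i`. -/
def XData.okLoops (i : ℕ) : Bool :=
  let R := X.O.rep i
  X.O.okLoop [5, 5, 5, 5, 5] (X.five.getD i ([], 0)).1 (X.five.getD i ([], 0)).2 R.k (unp R.h) &&
    X.O.okLoop [1, 5, 0, 5, 5] (X.xloop.getD i ([], 0)).1 (X.xloop.getD i ([], 0)).2 R.k (unp R.h)

/-- Base loop `b`. -/
def XData.okBase (b : ℕ) : Bool :=
  let B := X.baseE b
  Nat.blt B.i X.O.reps.length && Nat.blt B.r 50 &&
    X.O.okLoop [4, 5, 4, 5, 4, 5] B.hs B.v (X.O.rep B.i).k (unp (X.O.rep B.i).h ++ X.kap B.r)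

/-- The element `c` of the cover, `c = 50 * i + r`. -/
def XData.okCov (c : ℕ) : Bool :=
  let b := X.covB.get c
  let B := X.baseE b
  let R := X.O.rep (Nat.div c 50)
  Nat.blt b X.nbase && Nat.beq (X.O.rep B.i).k R.k && codeOK (X.O.node R.k).chain (X.covV.get c) &&
    codeOK X.cchain (X.covC.get c) &&
    eqH (unp R.h ++ X.kap (Nat.mod c 50))
      (prodW (X.O.node R.k).chain (X.covV.get c) ++ unp (X.O.rep B.i).h ++ X.kap B.r ++
        prodW X.cchain (X.covC.get c))

/-- Some representative in an earlier node leads to node `j`. -/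
def XData.okReach (j : ℕ) : Bool :=
  Nat.beq j 0 || (List.range X.O.reps.length).any fun i => Nat.blt (X.O.rep i).k j && Nat.beq (X.O.rep i).j j

/-- The generators of node `k` come from stabiliser facts. -/
def XData.okGFacts (k : ℕ) : Bool :=
  let G := topGens (X.O.node k).chain
  let F := X.gfacts.getD k []
  Nat.beq F.length G.length && allLo (fun g =>
    let f := X.D.fact (F.getD g 0)
    Nat.blt (F.getD g 0) X.nfacts && Nat.beq f.e 0 && Nat.beq f.k k && Nat.beq f.j k &&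
      eqH (unp f.h) (unp (G.getD g 0))) G.length

/-- The move of representative `i`. -/
def XData.okMove (i : ℕ) : Bool :=
  let R := X.O.rep i
  match X.mv.getD i .z with
  | .t e f sig m k0 =>
    Nat.beq e 1 &&
    (match X.D.mv X.nfacts ⟨[], R.k, unp R.h, []⟩ (.t e f sig m k0) with
    | some st => Nat.beq st.k R.j && eqH st.u (unp R.hp)
    | none => false)
  | .z => false

/-- Every check. -/
structure XOK : Prop where
  omega : OOK X.O
  groups : X.okGroups = true
  loops : ∀ i < X.O.reps.length, X.okLoops i = true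
  base : ∀ b < X.nbase, X.okBase b = true
  cover : ∀ c < 50 * X.O.reps.length, X.okCov c = true
  reach : ∀ j < X.O.nodes.length, X.okReach j = true
  facts : ∀ n < X.nfacts, X.D.okFact n = true
  stabs : ∀ n, (X.D.fact n).e = 0 → (X.D.fact n).j = (X.D.fact n).k
  gfacts : ∀ k < X.O.nodes.length, X.okGFacts k = true
  moves : ∀ i < X.O.reps.length, X.okMove i = true
  sizes : (∑ k : Fin X.O.nodes.length, 177408000 / schainSize (X.O.node k).chain) = 1539000
  node0 : 0 < X.O.nodes.length ∧ schainSize (X.O.node 0).chain = 177408000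
  node1 : 1 < X.O.nodes.length ∧
    ((topGens (X.O.node 1).chain).all fun g => Nat.beq (lact (unp g) 0) 0 && letOK 5 (unp g)) = true

variable {X} (hX : XOK X)

include hX

/-! ### The stabiliser of `0` -/

theorem stab0_eq : stab0 = grp X.kchain := by
  have hg := hX.groups
  simp only [XData.okGroups, Bool.and_eq_true, List.all_eq_true, Nat.beq_eq] at hg
  obtain ⟨⟨⟨⟨⟨⟨⟨⟨⟨⟨hk, hsz⟩, -⟩, -⟩, -⟩, hgens⟩, -⟩, -⟩, -⟩, -⟩, -⟩ := hg
  have hle : grp X.kchain ≤ stab0 := by
    rw [grp, Subgroup.closure_le]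
    rintro a ⟨g, hg, rfl⟩
    obtain ⟨⟨⟨hl, hf⟩, -⟩, -⟩ := hgens g hg
    exact mem_stab0.2 (Fin.ext (by rw [pi_el hl, hf]; simp [pi]))
  have hk0 := hX.node0.1
  have hO := hX.omega
  have hsurj : Function.Surjective fun a : H0 => pi a := fun q => by
    obtain ⟨s, -, e⟩ := orbit_reach hO hk0 _ q rfl
    exact ⟨_, e⟩
  let e : H0 ⧸ stab0 → Fin big.n := fun c => pi c.out
  have he : Function.Surjective e := fun q => by
    obtain ⟨a, rfl⟩ := hsurj q
    refine ⟨QuotientGroup.mk a, pi_eq_iff.2 ?_⟩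
    rw [← QuotientGroup.eq]
    exact QuotientGroup.out_eq' _
  have h1408 : 1408 ≤ Nat.card (H0 ⧸ stab0) := by
    have := Nat.card_le_card_of_surjective e he
    rwa [Nat.card_fin, big_n] at this
  have hcard := Subgroup.card_eq_card_quotient_mul_card_subgroup stab0
  rw [card_H0] at hcard
  refine (Subgroup.eq_of_le_of_card_ge hle ?_).symm
  rw [(schain_exact hk).2, hsz]
  have := Nat.mul_le_mul_right (Nat.card stab0) h1408
  omega

theorem kgens : topGens X.kchain = [3, 90] ∧ unp 3 = [2] ∧ unp 90 = [1, 2, 0] := by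
  have hg := hX.groups
  simp only [XData.okGroups, Bool.and_eq_true] at hg
  exact ⟨eq_of_eqW hg.1.1.1.1.1.1.1.1.2, eq_of_eqW hg.1.1.1.1.1.1.1.2, eq_of_eqW hg.1.1.1.1.1.1.2⟩

omit hX in
theorem el_x : el [0] = hx ∧ el [1] = hx⁻¹ ∧ el [2] = hy ∧ el [4] = hz := by
  simp [el, wv, g5]

theorem x_normalises {a : H0} (ha : a ∈ stab0) : hx * a * hx⁻¹ ∈ stab0 ∧ hx⁻¹ * a * hx ∈ stab0 := by
  have hg := hX.groups
  simp only [XData.okGroups, Bool.and_eq_true, List.all_eq_true, Nat.beq_eq] at hg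
  obtain ⟨⟨⟨⟨⟨-, hgens⟩, -⟩, -⟩, -⟩, -⟩ :=
    (⟨⟨⟨⟨⟨hg.1.1.1.1.1.1, hg.1.1.1.1.1.2⟩, hg.1.1.1.1.2⟩, hg.1.1.1.2⟩, hg.1.1.2⟩, hg.1.2⟩ :
      ((((_ ∧ _) ∧ _) ∧ _) ∧ _) ∧ _)
  rw [stab0_eq hX] at ha
  have hsub : grp X.kchain ≤
      stab0.comap (MulAut.conj hx).toMonoidHom ⊓ stab0.comap (MulAut.conj hx⁻¹).toMonoidHom := by
    rw [grp, Subgroup.closure_le]
    rintro b ⟨g, hg', rfl⟩
    obtain ⟨⟨⟨hl, -⟩, h1⟩, h0⟩ := hgens g hg'
    obtain ⟨e0, e1, -, -⟩ := el_x
    have hl1 : letOK 5 ([1] ++ unp g ++ [0]) = true := by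
      simp [letOK, List.all_append] at hl ⊢; exact hl
    have hl0 : letOK 5 ([0] ++ unp g ++ [1]) = true := by
      simp [letOK, List.all_append] at hl ⊢; exact hl
    constructor
    · show hx * el (unp g) * hx⁻¹ ∈ stab0
      rw [← e1, ← e0, ← el_append, ← el_append]
      exact mem_stab0.2 (Fin.ext (by rw [pi_el hl0, h0]; simp [pi]))
    · show hx⁻¹ * el (unp g) * (hx⁻¹)⁻¹ ∈ stab0
      rw [inv_inv, ← e1, ← e0, ← el_append, ← el_append]
      exact mem_stab0.2 (Fin.ext (by rw [pi_el hl1, h1]; simp [pi]))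
  obtain ⟨p, q⟩ := hsub ha
  change hx * a * hx⁻¹ ∈ stab0 at p
  change hx⁻¹ * a * (hx⁻¹)⁻¹ ∈ stab0 at q
  rw [inv_inv] at q
  exact ⟨p, q⟩

theorem c_facts {c : H0} (hc : c ∈ grp X.cchain) : c ∈ stab0 ∧ c * hz = hz * c := by
  have hg := hX.groups
  simp only [XData.okGroups, Bool.and_eq_true, List.all_eq_true, Nat.beq_eq] at hg
  have hgens := hg.1.1.1.2
  have hsub : grp X.cchain ≤ stab0 ⊓ Subgroup.centralizer {hz} := by
    rw [grp, Subgroup.closure_le]
    rintro b ⟨g, hg', rfl⟩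
    obtain ⟨⟨hl, hf⟩, he⟩ := hgens g hg'
    refine ⟨mem_stab0.2 (Fin.ext (by rw [pi_el hl, hf]; simp [pi])), ?_⟩
    have e := el_eq he
    rw [el_append, el_append, el_x.2.2.2] at e
    exact Subgroup.mem_centralizer_singleton_iff.2 e
  obtain ⟨h1, h2⟩ := hsub hc
  exact ⟨h1, Subgroup.mem_centralizer_singleton_iff.1 h2⟩

theorem kap_cosets {a : H0} (ha : a ∈ stab0) :
    ∃ r < 50, ∃ c ∈ grp X.cchain, a = el (X.kap r) * c := by
  have hg := hX.groups
  simp only [XData.okGroups, Bool.and_eq_true] at hg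
  obtain ⟨⟨⟨⟨⟨-, hC⟩, -⟩, h0⟩, -⟩, hall⟩ :=
    (⟨⟨⟨⟨⟨hg.1.1.1.1.1, hg.1.1.1.1.2⟩, hg.1.1.1.2⟩, hg.1.1.2⟩, hg.1.2⟩, hg.2⟩ :
      ((((_ ∧ _) ∧ _) ∧ _) ∧ _) ∧ _)
  rw [stab0_eq hX, grp, ← Subgroup.mem_toSubmonoid, Subgroup.closure_toSubmonoid_of_finite] at ha
  induction ha using Submonoid.closure_induction_left with
  | one => exact ⟨0, by norm_num, 1, one_mem _, by rw [el_eq h0, el_nil, one_mul]⟩
  | mul_left b hb a _ ih =>
    obtain ⟨g, hgm, rfl⟩ := hb
    obtain ⟨r, hr, c, hc, rfl⟩ := ih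
    obtain ⟨n, hn, rfl⟩ := List.mem_iff_getElem.1 hgm
    have h := allLo_spec hall hr
    simp only [Bool.and_eq_true] at h
    have h := allLo_spec h.2 hn
    simp only [Bool.and_eq_true, Nat.blt_eq, List.getD_eq_getElem _ _ hn] at h
    refine ⟨_, h.1.1, el (prodW X.cchain ((X.ck.getD r []).getD n (0, 0)).2) * c,
      mul_mem (prodW_mem hC h.1.2) hc, ?_⟩
    rw [← mul_assoc, ← el_append, el_eq h.2, el_append, mul_assoc]

omit hX

end

end Cfsg.Agent.HN
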