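import Cfsg.Agent.Lib.HN.HGroup

/-!
Elements of the group of order 177408000 as packed words, and chains of transversals giving the exact order
and the membership in the subgroups generated by listed elements.
-/

set_option autoImplicit false
set_option maxRecDepth 100000

namespace Cfsg.Agent.HN

noncomputable section

/-- The letters of a packed word: three bits to a letter, a letter `l` stored as `l + 1`. -/
def unp (v : ℕ) : List ℕ :=
  Nat.rec (fun _ => [])
    (fun _ r v => Bool.rec (Nat.sub (Nat.land v 7) 1 :: r (Nat.shiftRight v 3)) [] (Nat.beq v 0)) 64 v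

/-- The element of a word. -/
def el (w : List ℕ) : H0 := wv g5 w

theorem el_append (u v : List ℕ) : el (u ++ v) = el u * el v := wv_append _ u v

theorem el_nil : el [] = 1 := rfl

theorem el_winv (w : List ℕ) : el (winv iv5 w) = (el w)⁻¹ := wv_winv g5 g5_inv w

/-- Two words give the same element. -/
def eqH (u v : List ℕ) : Bool := big.eqOn base6 u v

theorem el_eq {u v : List ℕ} (h : eqH u v = true) : el u = el v := eq_of_eqOn h

/-- The point of the cosets of the stabiliser of `0` reached by an element. -/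
def pi (a : H0) : Fin big.n := rep a ⟨0, by decide +kernel⟩

/-- The image of a point under a word acting from the left. -/
def lact (w : List ℕ) (q : ℕ) : ℕ := big.actW (winv iv5 w) q

theorem rep_el_apply {w : List ℕ} (hw : letOK 5 w = true) (q : Fin big.n) :
    ((rep (el w) q : Fin big.n) : ℕ) = lact w q.1 := by
  have hw' : ∀ l ∈ winv iv5 w, l < big.k := by
    intro l hl
    simp only [winv, List.mem_reverse, List.mem_map] at hl
    obtain ⟨m, hm, rfl⟩ := hl
    have := letOK_spec hw m hm
    change iv5 m < 5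
    interval_cases m <;> decide
  have h := wv_sig_inv_apply big_ok (winv iv5 w) hw' q
  rw [wv_winv (big.sig big_ok) big_sig_inv, inv_inv] at h
  rw [el, rep_wv]
  exact h

theorem pi_mul (a b : H0) : pi (a * b) = rep a (pi b) := by
  rw [pi, map_mul, Equiv.Perm.mul_apply]; rfl

theorem pi_el {w : List ℕ} (hw : letOK 5 w = true) : ((pi (el w) : Fin big.n) : ℕ) = lact w 0 :=
  rep_el_apply hw _

/-! ### Chains of transversals -/

/-- A level: the point, generators, transversal words with tree, closing hints and the sources of the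
generators of the next level. -/
structure SLev where
  pt : ℕ
  gens : List ℕ
  tree : Trie
  word : Trie
  len : ℕ
  close : Trie
  src : List (ℕ × ℕ)

/-- Generator `g` of a level. -/
def SLev.gen (L : SLev) (g : ℕ) : List ℕ := unp (L.gens.getD g 0)

/-- Representative `i` of a level. -/
def SLev.rep' (L : SLev) (i : ℕ) : List ℕ := unp (L.word.get i)

/-- The closing hint of representative `i` and generator `g`. -/
def SLev.hint (L : SLev) (i g : ℕ) : ℕ := L.close.get (Nat.add (Nat.mul i L.gens.length) g)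

/-- The product coded by a number, twelve bits to a level. -/
def prodW (Ls : List SLev) (v : ℕ) : List ℕ :=
  List.rec (fun _ => []) (fun L _ r v => r (Nat.shiftRight v 12) ++ L.rep' (Nat.land v 4095)) Ls v

/-- The code is in range. -/
def codeOK (Ls : List SLev) (v : ℕ) : Bool :=
  List.rec (fun v => Nat.beq v 0)
    (fun L _ r v => Nat.blt (Nat.land v 4095) L.len && r (Nat.shiftRight v 12)) Ls v

/-- The generators of the first level. -/
def topGens : List SLev → List ℕ
  | [] => []
  | L :: _ => L.gens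

/-- The subgroup of the first level. -/
def grp (Ls : List SLev) : Subgroup H0 := Subgroup.closure {a | ∃ g ∈ topGens Ls, a = el (unp g)}

/-- The set of products along a chain. -/
def prods (Ls : List SLev) : Set H0 := {a | ∃ v, codeOK Ls v = true ∧ a = el (prodW Ls v)}

/-- The product of the lengths. -/
def schainSize : List SLev → ℕ
  | [] => 1
  | L :: Ls => L.len * schainSize Ls

/-- One entry of the tree of a level. -/
def SLev.okTree (L : SLev) (i : ℕ) : Bool :=
  let v := L.tree.get i
  bif Nat.beq i 0 then eqH (L.rep' 0) []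
  else Nat.blt (fld v 0) i && Nat.blt (fld v 1) L.gens.length &&
    eqH (L.rep' i) (L.rep' (fld v 0) ++ L.gen (fld v 1))

/-- The images of the point. -/
def SLev.ptBits (L : SLev) : ℕ :=
  Nat.rec 0 (fun i r => Nat.lor r (Nat.shiftLeft 1 (big.actW (L.rep' i) L.pt))) L.len

/-- The checks on a chain. -/
def schainOK (Ls : List SLev) : Bool :=
  List.rec true
    (fun L rest r =>
      Nat.blt 0 L.len && Nat.blt L.len 4096 && Nat.blt L.pt 1408 &&
      allLo (fun i => L.okTree i &&
        allLo (fun g => codeOK (L :: rest) (L.hint i g) &&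
          eqH (L.rep' i ++ L.gen g) (prodW (L :: rest) (L.hint i g))) L.gens.length &&
        letOK 5 (L.rep' i)) L.len &&
      Nat.beq (popc L.ptBits 1408) L.len &&
      Nat.beq L.src.length (topGens rest).length &&
      allLo (fun s =>
        let ig := L.src.getD s (0, 0)
        let g' := unp ((topGens rest).getD s 0)
        Nat.blt ig.1 L.len && Nat.blt ig.2 L.gens.length && letOK 5 g' &&
          Nat.beq (lact g' L.pt) L.pt &&
          eqH g' (L.rep' ig.1 ++ L.gen ig.2 ++ winv iv5 (L.rep' (Nat.land (L.hint ig.1 ig.2) 4095))))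
        L.src.length &&
      r) Ls

theorem land_4095 (n : ℕ) : Nat.land n 4095 = n % 4096 := by
  show n &&& 4095 = _
  rw [show (4095 : ℕ) = 2 ^ 12 - 1 by norm_num, Nat.and_two_pow_sub_one_eq_mod]

theorem shiftRight_12 (n : ℕ) : Nat.shiftRight n 12 = n / 4096 := by
  show n >>> 12 = _
  rw [Nat.shiftRight_eq_div_pow]

/-- What a checked level says. -/
structure LevelSpec (L : SLev) (rest : List SLev) : Prop where
  len_pos : 0 < L.len
  len_lt : L.len < 4096
  pt_lt : L.pt < big.n
  tree : ∀ i < L.len, L.okTree i = true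
  close : ∀ i < L.len, ∀ g < L.gens.length, ∃ v, codeOK (L :: rest) v = true ∧
    el (L.rep' i ++ L.gen g) = el (prodW (L :: rest) v)
  lett : ∀ i < L.len, letOK 5 (L.rep' i) = true
  pts : popc L.ptBits 1408 = L.len
  next : ∀ g ∈ topGens rest, rep (el (unp g)) ⟨L.pt, pt_lt⟩ = ⟨L.pt, pt_lt⟩ ∧
    ∃ i < L.len, ∃ j < L.gens.length, ∃ i' < L.len,
      el (unp g) = el (L.rep' i) * el (L.gen j) * (el (L.rep' i'))⁻¹

theorem levelSpec {L : SLev} {rest : List SLev} (h : schainOK (L :: rest) = true) :
    LevelSpec L rest ∧ schainOK rest = true := by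
  change (_ && schainOK rest) = true at h
  simp only [Bool.and_eq_true, Nat.blt_eq, Nat.beq_eq] at h
  obtain ⟨⟨⟨⟨⟨⟨⟨h0, h1⟩, hp⟩, hall⟩, hpts⟩, hlen⟩, hsrc⟩, hrest⟩ := h
  have hall' : ∀ i < L.len, L.okTree i = true ∧ (allLo (fun g => codeOK (L :: rest) (L.hint i g) &&
          eqH (L.rep' i ++ L.gen g) (prodW (L :: rest) (L.hint i g))) L.gens.length = true) ∧
        letOK 5 (L.rep' i) = true := fun i hi => by
    have := allLo_spec hall hi
    simp only [Bool.and_eq_true] at this
    exact ⟨this.1.1, this.1.2, this.2⟩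
  refine ⟨⟨h0, h1, hp, fun i hi => (hall' i hi).1, fun i hi g hg => ?_, fun i hi => (hall' i hi).2.2,
    hpts, fun g hg => ?_⟩, hrest⟩
  · have := allLo_spec (hall' i hi).2.1 hg
    simp only [Bool.and_eq_true] at this
    exact ⟨_, this.1, el_eq this.2⟩
  · obtain ⟨s, hs, rfl⟩ := List.mem_iff_getElem.1 hg
    have := allLo_spec hsrc (hlen ▸ hs)
    simp only [Bool.and_eq_true, Nat.blt_eq, Nat.beq_eq] at this
    obtain ⟨⟨⟨⟨hi, hj⟩, hl⟩, hfix⟩, he⟩ := this
    rw [List.getD_eq_getElem _ _ hs] at hl hfix he
    refine ⟨Fin.ext ((rep_el_apply hl _).trans hfix), _, hi, _, hj, Nat.land (L.hint (L.src.getD s (0, 0)).1 (L.src.getD s (0, 0)).2) 4095, ?_, ?_⟩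
    · have := allLo_spec (hall' _ hi).2.1 hj
      simp only [Bool.and_eq_true] at this
      have hc := this.1
      change (Nat.blt _ L.len && _) = true at hc
      simp only [Bool.and_eq_true, Nat.blt_eq] at hc
      exact hc.1
    · rw [el_eq he, el_append, el_append, el_winv]

theorem rep'_zero {L : SLev} {rest : List SLev} (h : LevelSpec L rest) : el (L.rep' 0) = 1 := by
  have := h.tree 0 h.len_pos
  rw [SLev.okTree, show Nat.beq 0 0 = true from rfl] at this
  exact el_eq this

theorem rep'_mem {L : SLev} {rest : List SLev} (h : LevelSpec L rest) :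
    ∀ i < L.len, el (L.rep' i) ∈ grp (L :: rest) := by
  intro i
  induction i using Nat.strongRecOn with
  | _ i ih =>
    intro hi
    rcases Nat.eq_zero_or_pos i with rfl | hpos
    · rw [rep'_zero h]; exact one_mem _
    have := h.tree i hi
    rw [SLev.okTree, show Nat.beq i 0 = false by rw [← Bool.not_eq_true, Nat.beq_eq]; omega] at this
    simp only [cond_false, Bool.and_eq_true, Nat.blt_eq] at this
    obtain ⟨⟨hp, hg⟩, he⟩ := this
    rw [el_eq he, el_append]
    refine mul_mem (ih _ hp (hp.trans hi)) (Subgroup.subset_closure ⟨_, ?_, rfl⟩)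
    show L.gens.getD _ 0 ∈ L.gens
    rw [List.getD_eq_getElem _ _ hg]
    exact List.getElem_mem hg

theorem prods_cons (L : SLev) (rest : List SLev) (hlen : L.len < 4096) :
    prods (L :: rest) = {a | ∃ b ∈ prods rest, ∃ i < L.len, a = b * el (L.rep' i)} := by
  ext a
  constructor
  · rintro ⟨v, hv, rfl⟩
    change (Nat.blt _ L.len && codeOK rest _) = true at hv
    simp only [Bool.and_eq_true, Nat.blt_eq] at hv
    exact ⟨_, ⟨_, hv.2, rfl⟩, _, hv.1, el_append _ _⟩
  · rintro ⟨_, ⟨v, hv, rfl⟩, i, hi, rfl⟩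
    have hi' : i < 4096 := hi.trans hlen
    have e1 : Nat.land (v * 4096 + i) 4095 = i := by
      rw [land_4095, Nat.mul_add_mod_of_lt hi']
    have e2 : Nat.shiftRight (v * 4096 + i) 12 = v := by
      rw [shiftRight_12]; omega
    refine ⟨v * 4096 + i, ?_, ?_⟩
    · show (Nat.blt (Nat.land _ 4095) L.len && codeOK rest (Nat.shiftRight _ 12)) = true
      rw [e1, e2, hv, Bool.and_true, Nat.blt_eq]
      exact hi
    · show _ = el (prodW rest (Nat.shiftRight _ 12) ++ L.rep' (Nat.land _ 4095))
      rw [e1, e2, el_append]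

theorem card_distinct (L : SLev) {rest : List SLev} (h : LevelSpec L rest) {i j : ℕ} (hi : i < L.len)
    (hj : j < L.len)
    (e : (rep (el (L.rep' i)))⁻¹ ⟨L.pt, h.pt_lt⟩ = (rep (el (L.rep' j)))⁻¹ ⟨L.pt, h.pt_lt⟩) : i = j := by
  classical
  have key : ∀ a, a < L.len → (((rep (el (L.rep' a)))⁻¹ ⟨L.pt, h.pt_lt⟩ : Fin big.n) : ℕ) =
      big.actW (L.rep' a) L.pt := fun a ha => by
    rw [el, rep_wv, wv_sig_inv_apply big_ok _ (letOK_spec (h.lett a ha))]
  have e' : big.actW (L.rep' i) L.pt = big.actW (L.rep' j) L.pt := by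
    rw [← key i hi, ← key j hj, e]
  let f : ℕ → ℕ := fun a => big.actW (L.rep' a) L.pt
  have hsub : ((Finset.range 1408).filter fun b => L.ptBits.testBit b = true) ⊆
      (Finset.range L.len).image f := by
    intro b hb
    rw [Finset.mem_filter] at hb
    have hgen : ∀ n, (Nat.rec (motive := fun _ => ℕ) 0
        (fun a r => Nat.lor r (Nat.shiftLeft 1 (f a))) n).testBit b = true → ∃ a < n, f a = b := by
      intro n
      induction n with
      | zero => intro hh; simp at hh
      | succ n ihn =>
        intro hh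
        change (Nat.lor _ _).testBit b = true at hh
        rw [show ∀ a c : ℕ, Nat.lor a c = a ||| c from fun _ _ => rfl, Nat.testBit_or, Bool.or_eq_true,
          shiftLeft_one_testBit, decide_eq_true_eq] at hh
        rcases hh with hh | hh
        · obtain ⟨a, ha, hfa⟩ := ihn hh; exact ⟨a, ha.trans n.lt_succ_self, hfa⟩
        · exact ⟨n, n.lt_succ_self, hh⟩
    obtain ⟨a, ha, hfa⟩ := hgen L.len hb.2
    exact Finset.mem_image.2 ⟨a, Finset.mem_range.2 ha, hfa⟩
  have hc : L.len ≤ ((Finset.range L.len).image f).card :=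
    le_trans (h.pts ▸ popc_le 1408 L.ptBits) (Finset.card_le_card hsub)
  have hinj : Set.InjOn f (Finset.range L.len) :=
    Finset.card_image_iff.1 (le_antisymm Finset.card_image_le (by simpa using hc))
  exact hinj (Finset.mem_coe.2 (Finset.mem_range.2 hi)) (Finset.mem_coe.2 (Finset.mem_range.2 hj)) e'

/-- **A checked chain gives the subgroup and its order.** -/
theorem schain_exact : ∀ {Ls : List SLev}, schainOK Ls = true →
    (grp Ls : Set H0) = prods Ls ∧ Nat.card (grp Ls) = schainSize Ls := by
  intro Ls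
  induction Ls with
  | nil =>
    intro _
    have hbot : grp [] = ⊥ := by
      rw [grp, Subgroup.closure_eq_bot_iff]
      rintro a ⟨g, hg, -⟩
      simp [topGens] at hg
    refine ⟨?_, by rw [hbot, Subgroup.card_bot]; rfl⟩
    ext a
    rw [hbot, SetLike.mem_coe, Subgroup.mem_bot]
    exact ⟨fun e => ⟨0, rfl, e⟩, fun ⟨_, _, e⟩ => e⟩
  | cons L rest ih =>
    intro hc
    obtain ⟨h, hrest⟩ := levelSpec hc
    obtain ⟨hset, hcard⟩ := ih hrest
    have hle : grp rest ≤ grp (L :: rest) := by
      rw [grp, Subgroup.closure_le]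
      rintro a ⟨g, hg, rfl⟩
      obtain ⟨-, i, hi, j, hj, i', hi', e⟩ := h.next g hg
      rw [SetLike.mem_coe, e]
      refine mul_mem (mul_mem (rep'_mem h i hi) (Subgroup.subset_closure ⟨_, ?_, rfl⟩))
        (inv_mem (rep'_mem h i' hi'))
      show L.gens.getD j 0 ∈ L.gens
      rw [List.getD_eq_getElem _ _ hj]
      exact List.getElem_mem hj
    have hfix : ∀ b ∈ grp rest, rep b ⟨L.pt, h.pt_lt⟩ = ⟨L.pt, h.pt_lt⟩ := by
      intro b hb
      have hsub : grp rest ≤ (MulAction.stabilizer (Equiv.Perm (Fin big.n))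
          (⟨L.pt, h.pt_lt⟩ : Fin big.n)).comap rep := by
        rw [grp, Subgroup.closure_le]
        rintro a ⟨g, hg, rfl⟩
        exact (h.next g hg).1
      exact hsub hb
    have hX : prods (L :: rest) = {a | ∃ b ∈ grp rest, ∃ i < L.len, a = b * el (L.rep' i)} := by
      rw [prods_cons L rest h.len_lt, ← hset]; rfl
    have hclosed : ∀ a ∈ prods (L :: rest), ∀ g ∈ L.gens, a * el (unp g) ∈ prods (L :: rest) := by
      rw [hX]
      rintro _ ⟨b, hb, i, hi, rfl⟩ g hg
      obtain ⟨j, hj, rfl⟩ := List.mem_iff_getElem.1 hg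
      obtain ⟨v, hv, e⟩ := h.close i hi j hj
      have : el (prodW (L :: rest) v) ∈ prods (L :: rest) := ⟨v, hv, rfl⟩
      rw [hX] at this
      obtain ⟨b', hb', i', hi', e'⟩ := this
      refine ⟨b * b', mul_mem hb hb', i', hi', ?_⟩
      rw [SLev.gen, List.getD_eq_getElem _ _ hj, el_append, e'] at e
      rw [mul_assoc, e, mul_assoc]
    have hone : (1 : H0) ∈ prods (L :: rest) := by
      rw [hX]; exact ⟨1, one_mem _, 0, h.len_pos, by rw [rep'_zero h, mul_one]⟩
    have heq : (grp (L :: rest) : Set H0) = prods (L :: rest) := by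
      refine Set.Subset.antisymm (fun a ha => ?_) ?_
      · have hfin : Subgroup.closure {a | ∃ g ∈ topGens (L :: rest), a = el (unp g)} = grp (L :: rest) := rfl
        rw [SetLike.mem_coe, ← hfin, ← Subgroup.mem_toSubmonoid,
          Subgroup.closure_toSubmonoid_of_finite] at ha
        induction ha using Submonoid.closure_induction_right with
        | one => exact hone
        | mul_right x _ y hy hx =>
          obtain ⟨g, hg, rfl⟩ := hy
          exact hclosed x hx g hg
      · rw [hX]
        rintro _ ⟨b, hb, i, hi, rfl⟩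
        exact mul_mem (hle hb) (rep'_mem h i hi)
    refine ⟨heq, ?_⟩
    let F : grp rest × Fin L.len → grp (L :: rest) := fun p =>
      ⟨p.1.1 * el (L.rep' p.2.1), mul_mem (hle p.1.2) (rep'_mem h _ p.2.2)⟩
    have hF : Function.Bijective F := by
      constructor
      · rintro ⟨b, i⟩ ⟨b', i'⟩ e
        have e : b.1 * el (L.rep' i.1) = b'.1 * el (L.rep' i'.1) := congrArg Subtype.val e
        have hii : i.1 = i'.1 := by
          refine card_distinct L h i.2 i'.2 ?_
          have h1 : ∀ c : grp rest, (rep c.1)⁻¹ ⟨L.pt, h.pt_lt⟩ = ⟨L.pt, h.pt_lt⟩ := fun c => by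
            rw [← map_inv]; exact hfix _ (inv_mem c.2)
          have h2 := congrArg (fun a => (rep a)⁻¹ ⟨L.pt, h.pt_lt⟩) e
          simpa [map_mul, mul_inv_rev, Equiv.Perm.mul_apply, h1] using h2
        obtain rfl : i = i' := Fin.ext hii
        exact Prod.ext (Subtype.ext (mul_right_cancel e)) rfl
      · rintro ⟨a, ha⟩
        rw [← SetLike.mem_coe, heq, hX] at ha
        obtain ⟨b, hb, i, hi, rfl⟩ := ha
        exact ⟨(⟨b, hb⟩, ⟨i, hi⟩), rfl⟩
    rw [← Nat.card_congr (Equiv.ofBijective F hF), Nat.card_prod, Nat.card_fin, hcard, schainSize,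
      mul_comm]

/-- A product along a checked chain lies in the subgroup. -/
theorem prodW_mem {Ls : List SLev} (h : schainOK Ls = true) {v : ℕ} (hv : codeOK Ls v = true) :
    el (prodW Ls v) ∈ grp Ls := by
  rw [← SetLike.mem_coe, (schain_exact h).1]
  exact ⟨v, hv, rfl⟩

end

end Cfsg.Agent.HN
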