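import Cfsg.Agent.Lib.HN.Hundred
import Cfsg.Agent.Lib.HN.Elem
import Cfsg.Prelude.Def_SporadicB

/-! The index 2 subgroup of the group of `x, y, z`, a double cover of HS. -/

set_option autoImplicit false
set_option maxRecDepth 100000

namespace Cfsg.Agent.HN

open Cfsg.Agent.PermCert Cfsg.Agent.SporPerm

noncomputable section

theorem hx_sq_ne : hx ^ 2 ≠ 1 := by
  intro h
  have h1 : rep (el [0, 0]) = 1 := by
    rw [show el [0, 0] = hx ^ 2 by simp [el, wv, g5, sq], h, map_one]
  have hne : allLo (fun q => Nat.beq (lact [0, 0] q) q) 1408 = false := by decide +kernel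
  have hall : allLo (fun q => Nat.beq (lact [0, 0] q) q) 1408 = true := by
    have hid : ∀ q : Fin big.n, lact [0, 0] q.1 = q.1 := fun q => by
      have := rep_el_apply (w := [0, 0]) (by decide +kernel) q
      rw [h1] at this
      exact this.symm
    have gen : ∀ n, n ≤ 1408 → allLo (fun q => Nat.beq (lact [0, 0] q) q) n = true := by
      intro n
      induction n with
      | zero => intro _; rfl
      | succ n ih =>
        intro hn
        show Bool.rec false (allLo _ n) (Nat.beq (lact [0, 0] n) n) = true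
        rw [show Nat.beq (lact [0, 0] n) n = true from Nat.beq_eq.symm ▸ hid ⟨n, by change n < 1408; omega⟩]
        exact ih (by omega)
    exact gen 1408 le_rfl
  rw [hne] at hall
  exact Bool.false_ne_true hall

theorem hs_facts : Nat.card (genGroup 7 100 hsGens) = 44352000 ∧
    IsSimpleGroup (genGroup 7 100 hsGens) := by
  refine ⟨by rw [cert_card hs_cert, hs_order], ?_⟩
  obtain ⟨e⟩ := hs_equiv
  haveI : IsSimpleGroup Cfsg.Spor.HS := Leech.isHS_spor.1
  haveI : Nontrivial (genGroup 7 100 hsGens) := e.symm.toEquiv.nontrivial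
  exact IsSimpleGroup.isSimpleGroup_of_surjective e.toMonoidHom e.surjective

theorem hs_centre : Subgroup.center (genGroup 7 100 hsGens) = ⊥ := by
  obtain ⟨hc, hs⟩ := hs_facts
  haveI := hs
  refine ((Subgroup.Normal.eq_bot_or_eq_top
    (inferInstance : (Subgroup.center (genGroup 7 100 hsGens)).Normal))).resolve_right fun h => ?_
  letI : CommGroup (genGroup 7 100 hsGens) :=
    { (inferInstance : Group _) with
      mul_comm := fun a b => (Subgroup.mem_center_iff.1 (h ▸ Subgroup.mem_top b : b ∈ Subgroup.center _) a) }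
  have hp := IsSimpleGroup.prime_card (α := genGroup 7 100 hsGens)
  rw [hc] at hp
  exact absurd hp (by norm_num)

theorem z_not_hs : rep100 hz ∉ genGroup 7 100 hsGens := by
  intro h
  obtain ⟨hc, hs⟩ := hs_facts
  haveI := hs
  set σ : genGroup 7 100 hsGens →* ℤˣ := Equiv.Perm.sign.comp (genGroup 7 100 hsGens).subtype
  rcases Subgroup.Normal.eq_bot_or_eq_top (inferInstance : σ.ker.Normal) with hk | hk
  · have := Nat.card_le_card_of_injective σ ((MonoidHom.ker_eq_bot_iff σ).1 hk)
    rw [hc, Nat.card_eq_fintype_card, Fintype.card_units_int] at this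
    omega
  · have : σ ⟨_, h⟩ = 1 := MonoidHom.mem_ker.1 (hk ▸ Subgroup.mem_top _)
    rw [show σ ⟨_, h⟩ = Equiv.Perm.sign (rep100 hz) from rfl, sign_z] at this
    exact absurd this (by decide)

variable {G : Type*} [Group G] (e : H0 ≃* G)

include e

theorem double_cover :
    ∃ K : Subgroup G, K.Normal ∧ K.index = 2 ∧ Cfsg.IsNonsplitDoubleCover K Cfsg.Spor.HS := by
  classical
  have hG : Nat.card G = 177408000 := by rw [← Nat.card_congr e.toEquiv, card_H0]
  haveI : Finite G := Nat.finite_of_card_ne_zero (by rw [hG]; norm_num)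
  set f : G →* Equiv.Perm (Fin 100) := rep100.comp e.symm.toMonoidHom
  set S := genGroup 7 100 hsGens
  obtain ⟨hS, -⟩ := hs_facts
  have hrange : S ≤ f.range := fun σ hσ => by
    obtain ⟨a, rfl⟩ := hs_le_range hσ
    exact ⟨e a, by simp [f]⟩
  set c := e (hx ^ 2) with hc
  have hfc : c ∈ f.ker := MonoidHom.mem_ker.2
    (show rep100 (e.symm (e (hx ^ 2))) = 1 by rw [e.symm_apply_apply, x_sq_trivial])
  have hc1 : c ≠ 1 := fun h => hx_sq_ne (e.injective (by rw [← hc, h, map_one]))
  have hker2 : 2 ≤ Nat.card f.ker := Finite.one_lt_card_iff_nontrivial.2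
    ⟨⟨1, one_mem _⟩, ⟨c, hfc⟩, fun h => hc1 (Subtype.ext_iff.1 h).symm⟩
  have hmul : Nat.card G = Nat.card f.range * Nat.card f.ker := by
    rw [Subgroup.card_eq_card_quotient_mul_card_subgroup f.ker,
      Nat.card_congr (QuotientGroup.quotientKerEquivRange f).toEquiv]
  have hz' : f (e hz) ∈ f.range := ⟨_, rfl⟩
  have hlt : 2 * 44352000 ≤ Nat.card f.range := by
    obtain ⟨k, hk⟩ := Subgroup.card_dvd_of_le hrange
    rw [hS] at hk
    rcases Nat.lt_or_ge k 2 with h2 | h2
    · have hle : Nat.card f.range ≤ Nat.card S := by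
        rw [hk, hS]
        exact (Nat.mul_le_mul_left _ (show k ≤ 1 by omega)).trans_eq (mul_one _)
      have := Subgroup.eq_of_le_of_card_ge hrange hle
      exact absurd (this ▸ hz' : f (e hz) ∈ S) (by simpa [f] using z_not_hs)
    · rw [hk, mul_comm]; exact Nat.mul_le_mul_left _ h2
  rw [hG] at hmul
  have hker : Nat.card f.ker = 2 := by
    have := Nat.mul_le_mul_right (Nat.card f.ker) hlt
    omega
  have hker_eq : ∀ a ∈ f.ker, a = 1 ∨ a = c := by
    intro a ha
    obtain ⟨x, y, hxy, huniv⟩ := Nat.card_eq_two_iff.1 hker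
    have m : ∀ b : f.ker, b = x ∨ b = y := fun b => by
      have : b ∈ ({x, y} : Set f.ker) := huniv ▸ Set.mem_univ b
      simpa using this
    rcases m ⟨a, ha⟩ with h1 | h1 <;> rcases m ⟨1, one_mem _⟩ with h2 | h2 <;>
      rcases m ⟨c, hfc⟩ with h3 | h3
    all_goals first
      | exact Or.inl (Subtype.ext_iff.1 (h1.trans h2.symm))
      | exact Or.inr (Subtype.ext_iff.1 (h1.trans h3.symm))
      | exact absurd (Subtype.ext_iff.1 (h3.trans h2.symm)) hc1
  have hcc : ∀ b : G, b * c = c * b := fun b => by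
    obtain ⟨a, rfl⟩ := e.surjective b
    rw [hc, ← map_mul, ← map_mul, Subgroup.mem_center_iff.1 hx_sq_central a]
  set K := S.comap f
  let g : K →* S := (f.comp K.subtype).codRestrict S fun k => k.2
  have hg : Function.Surjective g := fun σ => by
    obtain ⟨a, ha⟩ := hrange σ.2
    exact ⟨⟨a, by rw [Subgroup.mem_comap, ha]; exact σ.2⟩, Subtype.ext ha⟩
  have hcK : c ∈ K := by rw [Subgroup.mem_comap, MonoidHom.mem_ker.1 hfc]; exact one_mem _
  have hgker : g.ker = Subgroup.center K := by
    refine le_antisymm (fun k hk => ?_) fun k hk => ?_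
    · rw [Subgroup.mem_center_iff]
      intro b
      have : f k.1 = 1 := congrArg Subtype.val (MonoidHom.mem_ker.1 hk)
      refine Subtype.ext ?_
      rcases hker_eq _ this with h | h <;> simp [h, hcc]
    · have : g k ∈ Subgroup.center S := by
        rw [Subgroup.mem_center_iff]
        intro σ
        obtain ⟨b, rfl⟩ := hg σ
        rw [← map_mul, ← map_mul, Subgroup.mem_center_iff.1 hk b]
      rw [hs_centre, Subgroup.mem_bot] at this
      exact MonoidHom.mem_ker.2 this
  have hkcard : Nat.card g.ker = 2 := by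
    rw [← hker]
    exact Nat.card_congr
      { toFun := fun k => ⟨k.1.1, congrArg Subtype.val (MonoidHom.mem_ker.1 k.2)⟩
        invFun := fun a => ⟨⟨a.1, by rw [Subgroup.mem_comap, MonoidHom.mem_ker.1 a.2]; exact one_mem _⟩,
          MonoidHom.mem_ker.2 (Subtype.ext (MonoidHom.mem_ker.1 a.2))⟩
        left_inv := fun _ => rfl
        right_inv := fun _ => rfl }
  have hK : Nat.card K = 88704000 := by
    rw [Subgroup.card_eq_card_quotient_mul_card_subgroup g.ker,
      Nat.card_congr (QuotientGroup.quotientKerEquivOfSurjective g hg).toEquiv, hS, hkcard]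
  have hindex : K.index = 2 := by
    have := K.card_mul_index
    rw [hK, hG] at this
    omega
  refine ⟨K, Subgroup.normal_of_index_eq_two hindex, hindex, hgker ▸ hkcard, ?_, ?_⟩
  · obtain ⟨i⟩ := hs_equiv
    exact ⟨((QuotientGroup.quotientMulEquivOfEq hgker.symm).trans
      (QuotientGroup.quotientKerEquivOfSurjective g hg)).trans i.symm⟩
  · intro L hL
    set k : K := ⟨e hx, by rw [Subgroup.mem_comap]; simpa [f] using x_in_hs⟩
    obtain ⟨⟨⟨u, hu⟩, ⟨l, hl⟩⟩, hkl⟩ := hL.2 k
    change u * l = k at hkl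
    have hu2 : u * u = 1 := by
      have h := pow_card_eq_one' (x := (⟨u, hu⟩ : Subgroup.center K))
      rw [show Nat.card (Subgroup.center K) = 2 from hgker ▸ hkcard, sq] at h
      exact congrArg Subtype.val h
    have hk2 : k * k = l * l := by
      rw [← hkl, mul_assoc, ← mul_assoc l u l, Subgroup.mem_center_iff.1 hu l, mul_assoc, ← mul_assoc, hu2,
        one_mul]
    have hkc : k * k = ⟨c, hcK⟩ := Subtype.ext (by
      show e hx * e hx = c
      rw [hc, sq, map_mul])
    have hmem : (⟨c, hcK⟩ : K) ∈ Subgroup.center K :=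
      Subgroup.mem_center_iff.2 fun b => Subtype.ext (hcc b.1)
    have h1 := Subgroup.disjoint_def.1 hL.disjoint hmem (by rw [← hkc, hk2]; exact mul_mem hl hl)
    exact hc1 (congrArg Subtype.val h1)

end

end Cfsg.Agent.HN
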