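import Cfsg.Agent.Lib.HN.LoopData

/-! Kernel checks: the cover -/

set_option autoImplicit false
set_option maxRecDepth 100000
set_option Elab.async false

namespace Cfsg.Agent.HN.Dat

theorem cov0 : allLo (fun i => xd.okCov (Nat.add 0 i)) 202 = true := by decide +kernel

theorem cov1 : allLo (fun i => xd.okCov (Nat.add 202 i)) 202 = true := by decide +kernel

theorem cov2 : allLo (fun i => xd.okCov (Nat.add 404 i)) 202 = true := by decide +kernel

theorem cov3 : allLo (fun i => xd.okCov (Nat.add 606 i)) 202 = true := by decide +kernel

theorem cov4 : allLo (fun i => xd.okCov (Nat.add 808 i)) 202 = true := by decide +kernel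

theorem cov5 : allLo (fun i => xd.okCov (Nat.add 1010 i)) 202 = true := by decide +kernel

theorem cov6 : allLo (fun i => xd.okCov (Nat.add 1212 i)) 202 = true := by decide +kernel

theorem cov7 : allLo (fun i => xd.okCov (Nat.add 1414 i)) 202 = true := by decide +kernel

theorem cov8 : allLo (fun i => xd.okCov (Nat.add 1616 i)) 202 = true := by decide +kernel

theorem cov9 : allLo (fun i => xd.okCov (Nat.add 1818 i)) 202 = true := by decide +kernel

theorem cov10 : allLo (fun i => xd.okCov (Nat.add 2020 i)) 202 = true := by decide +kernel

theorem cov11 : allLo (fun i => xd.okCov (Nat.add 2222 i)) 202 = true := by decide +kernel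

theorem cov12 : allLo (fun i => xd.okCov (Nat.add 2424 i)) 202 = true := by decide +kernel

theorem cov13 : allLo (fun i => xd.okCov (Nat.add 2626 i)) 202 = true := by decide +kernel

theorem cov14 : allLo (fun i => xd.okCov (Nat.add 2828 i)) 202 = true := by decide +kernel

theorem cov15 : allLo (fun i => xd.okCov (Nat.add 3030 i)) 202 = true := by decide +kernel

theorem cov16 : allLo (fun i => xd.okCov (Nat.add 3232 i)) 202 = true := by decide +kernel

theorem cov17 : allLo (fun i => xd.okCov (Nat.add 3434 i)) 202 = true := by decide +kernel

theorem cov18 : allLo (fun i => xd.okCov (Nat.add 3636 i)) 202 = true := by decide +kernel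

theorem cov19 : allLo (fun i => xd.okCov (Nat.add 3838 i)) 202 = true := by decide +kernel

theorem cov20 : allLo (fun i => xd.okCov (Nat.add 4040 i)) 202 = true := by decide +kernel

theorem cov21 : allLo (fun i => xd.okCov (Nat.add 4242 i)) 202 = true := by decide +kernel

theorem cov22 : allLo (fun i => xd.okCov (Nat.add 4444 i)) 202 = true := by decide +kernel

theorem cov23 : allLo (fun i => xd.okCov (Nat.add 4646 i)) 202 = true := by decide +kernel

theorem cov24 : allLo (fun i => xd.okCov (Nat.add 4848 i)) 202 = true := by decide +kernel

end Cfsg.Agent.HN.Dat
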