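import Cfsg.Agent.Lib.HN.Elem

/-!
Checking deductions among double cosets: facts `x k * h * t ^ e = A * x j * h'` and `x k * s = a * x k`
with `h, A, h', s, a` in the group of order 177408000, each with a proof from earlier facts.
-/

set_option autoImplicit false
set_option maxRecDepth 100000

namespace Cfsg.Agent.HN

noncomputable section

/-- A move: append the letter `z`, or a step `t ^ e` by a fact, with the stabiliser facts applied, the power
of `x` and the element fixing `0`. -/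
inductive Mv where
  | z
  | t (e f : ℕ) (sig : List ℕ) (m k0 : ℕ)

/-- The proof of a fact. -/
inductive Prf where
  | own
  | defn
  | inv (f : ℕ)
  | chain (ms : List Mv)
  | two (k h : ℕ) (ms ms' : List Mv)

/-- A fact: an edge `x k * h * t ^ e = A * x j * h'`, or with `e = 0` a stabiliser fact `x k * h = A * x k`. -/
structure Fact where
  e : ℕ
  k : ℕ
  h : ℕ
  A : ℕ
  j : ℕ
  hp : ℕ
  prf : Prf

/-- The facts. -/
structure DData where
  facts : List Fact
  defs : List (ℕ × ℕ × ℕ)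

variable (D : DData)

/-- Fact `n`. -/
def DData.fact (n : ℕ) : Fact := D.facts.getD n ⟨1, 0, 0, 0, 0, 0, .own⟩

/-- The side `h` of a signed reference to a stabiliser fact. -/
def DData.sW (r : ℕ) : List ℕ :=
  bif Nat.beq (Nat.land r 1) 0 then unp (D.fact (Nat.shiftRight r 1)).h
  else winv iv5 (unp (D.fact (Nat.shiftRight r 1)).h)

/-- The side `A` of a signed reference to a stabiliser fact. -/
def DData.aW (r : ℕ) : List ℕ :=
  bif Nat.beq (Nat.land r 1) 0 then unp (D.fact (Nat.shiftRight r 1)).A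
  else winv iv5 (unp (D.fact (Nat.shiftRight r 1)).A)

/-- A state `A * x k * u`, with the atoms read so far: `10 + e` stands for `t ^ e`, `4` for `z`. -/
structure St where
  A : List ℕ
  k : ℕ
  u : List ℕ
  W : List ℕ

/-- `x ^ m`. -/
def xpow (m : ℕ) : List ℕ := List.replicate m 0

/-- One move, using facts before `n`. -/
def DData.mv (n : ℕ) (st : St) : Mv → Option St
  | .z => some ⟨st.A, st.k, st.u ++ [4], st.W ++ [4]⟩
  | .t e f sig m k0 =>
    let F := D.fact f
    bif Nat.blt f n && Nat.blt 0 F.e && Nat.beq F.k st.k &&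
        (sig.all fun r => Nat.blt (Nat.shiftRight r 1) n && Nat.beq (D.fact (Nat.shiftRight r 1)).e 0 &&
          Nat.beq (D.fact (Nat.shiftRight r 1)).k st.k) &&
        Nat.beq (Nat.mod (Nat.mul e (Nat.pow 2 m)) 5) (Nat.mod F.e 5) &&
        letOK 5 (unp k0) && Nat.beq (lact (unp k0) 0) 0 &&
        eqH st.u (sig.flatMap D.sW ++ unp F.h ++ xpow m ++ unp k0) then
      some ⟨st.A ++ sig.flatMap D.aW ++ unp F.A, F.j, unp F.hp ++ xpow m ++ unp k0, st.W ++ [Nat.add 10 e]⟩
    else none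

/-- A list of moves. -/
def DData.run (n : ℕ) : List Mv → St → Option St
  | [], st => some st
  | m :: ms, st => match D.mv n st m with
    | some st' => DData.run n ms st'
    | none => none

/-- The atoms of two equal products. -/
def atomsEq (u v : List ℕ) : Bool :=
  eqW u v ||
  (match u, v with
  | [a], [b, c] => Nat.ble 10 a && Nat.ble 10 b && Nat.ble 10 c &&
      Nat.beq (Nat.mod (Nat.sub a 10) 5) (Nat.mod (Nat.add (Nat.sub b 10) (Nat.sub c 10)) 5)
  | [b, c], [d, e] => Nat.ble 10 b && Nat.ble 10 c && Nat.ble 10 d && Nat.ble 10 e &&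
      Nat.beq (Nat.mod (Nat.add (Nat.sub b 10) (Nat.sub c 10)) 5)
        (Nat.mod (Nat.add (Nat.sub d 10) (Nat.sub e 10)) 5)
  | [b, c], [a] => Nat.ble 10 a && Nat.ble 10 b && Nat.ble 10 c &&
      Nat.beq (Nat.mod (Nat.sub a 10) 5) (Nat.mod (Nat.add (Nat.sub b 10) (Nat.sub c 10)) 5)
  | [a], [4, b, 4, c, 4] => (Nat.beq a 11 && Nat.beq b 14 && Nat.beq c 14) ||
      (Nat.beq a 14 && Nat.beq b 11 && Nat.beq c 11)
  | [4, b, 4, c, 4], [a] => (Nat.beq a 11 && Nat.beq b 14 && Nat.beq c 14) ||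
      (Nat.beq a 14 && Nat.beq b 11 && Nat.beq c 11)
  | [4, b, 4, c, 4], [d, e] => Nat.ble 10 d && Nat.ble 10 e &&
      ((Nat.beq (Nat.mod (Nat.add (Nat.sub d 10) (Nat.sub e 10)) 5) 1 && Nat.beq b 14 && Nat.beq c 14) ||
        (Nat.beq (Nat.mod (Nat.add (Nat.sub d 10) (Nat.sub e 10)) 5) 4 && Nat.beq b 11 && Nat.beq c 11))
  | [d, e], [4, b, 4, c, 4] => Nat.ble 10 d && Nat.ble 10 e &&
      ((Nat.beq (Nat.mod (Nat.add (Nat.sub d 10) (Nat.sub e 10)) 5) 1 && Nat.beq b 14 && Nat.beq c 14) ||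
        (Nat.beq (Nat.mod (Nat.add (Nat.sub d 10) (Nat.sub e 10)) 5) 4 && Nat.beq b 11 && Nat.beq c 11))
  | _, _ => false)

/-- Check fact `n`. -/
def DData.okFact (n : ℕ) : Bool :=
  let F := D.fact n
  match F.prf with
  | .own => Nat.beq F.e 0 && Nat.beq F.k 0 && Nat.beq F.j 0 && eqH (unp F.h) (unp F.A)
  | .defn =>
    !(Nat.beq F.e 0) && Nat.blt F.k F.j &&
      (let d := D.defs.getD F.j (0, 0, 0)
       Nat.beq d.1 F.k && Nat.beq d.2.1 F.h && Nat.beq d.2.2 F.e) &&
      eqH (unp F.A) [] && eqH (unp F.hp) []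
  | .inv f =>
    let P := D.fact f
    Nat.blt f n && Nat.blt 0 P.e && Nat.blt 0 F.e && Nat.beq (Nat.mod (Nat.add F.e P.e) 5) 0 &&
      Nat.beq F.k P.j && Nat.beq F.j P.k && eqH (unp F.h) (unp P.hp) && eqH (unp F.hp) (unp P.h) &&
      eqH (unp F.A) (winv iv5 (unp P.A))
  | .chain ms =>
    match D.run n ms ⟨[], F.k, unp F.h, []⟩ with
    | some st => Nat.blt 0 F.e && atomsEq [Nat.add 10 F.e] st.W && Nat.beq st.k F.j &&
        eqH (unp F.A) st.A && eqH (unp F.hp) st.u
    | none => false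
  | .two k h ms ms' =>
    match D.run n ms ⟨[], k, unp h, []⟩, D.run n ms' ⟨[], k, unp h, []⟩ with
    | some s, some s' => Nat.beq F.e 0 && Nat.beq F.j F.k && Nat.beq s.k F.k && Nat.beq s'.k F.k &&
        atomsEq s.W s'.W && eqH (unp F.h) (s.u ++ winv iv5 s'.u) &&
        eqH (unp F.A) (winv iv5 s.A ++ s'.A)
    | _, _ => false

/-- Check `len` facts from `base` on. -/
def DData.okRange (base len : ℕ) : Bool := allLo (fun i => D.okFact (Nat.add base i)) len

section sound

variable {G : Type*} [Group G] (ψ : H0 →* G) (t : G)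

/-- The rules obeyed by the images of `x, y, z` and the further element. -/
structure GRules : Prop where
  pow5 : t ^ 5 = 1
  conjx : (ψ hx)⁻¹ * t * ψ hx * t ^ 2 = 1
  commy : Commute t (ψ hy)
  cube : (ψ hz * t) ^ 3 = 1

/-- The named representatives. -/
def nodeX : ℕ → G
  | j =>
    if h : (D.defs.getD j (0, 0, 0)).1 < j then
      nodeX (D.defs.getD j (0, 0, 0)).1 * ψ (el (unp (D.defs.getD j (0, 0, 0)).2.1)) *
        t ^ (D.defs.getD j (0, 0, 0)).2.2
    else 1
  termination_by j => j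

theorem nodeX_zero : nodeX D ψ t 0 = 1 := by rw [nodeX, dif_neg (Nat.not_lt_zero _)]

/-- What a fact asserts. -/
def Holds (n : ℕ) : Prop :=
  let F := D.fact n
  nodeX D ψ t F.k * ψ (el (unp F.h)) * t ^ F.e =
    ψ (el (unp F.A)) * nodeX D ψ t F.j * (if F.e = 0 then 1 else ψ (el (unp F.hp)))

/-- The value of an atom. -/
def atomVal (a : ℕ) : G := if a = 4 then ψ hz else t ^ (a - 10)

variable {D ψ t}

section

variable (R : GRules ψ t)

include R

theorem GRules.pow_mod (a : ℕ) : t ^ (a % 5) = t ^ a := by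
  conv_rhs => rw [← Nat.mod_add_div a 5, pow_add, pow_mul, R.pow5, one_pow, mul_one]

theorem GRules.pow_congr {a b : ℕ} (h : a % 5 = b % 5) : t ^ a = t ^ b := by
  rw [← R.pow_mod a, ← R.pow_mod b, h]

theorem GRules.x_pow (e : ℕ) : ψ hx * t ^ e = t ^ (2 * e) * ψ hx := by
  have h3 : (ψ hx)⁻¹ * t * ψ hx = t ^ 3 := by
    have h := eq_inv_of_mul_eq_one_left R.conjx
    rw [h]
    exact inv_eq_of_mul_eq_one_right (by rw [← pow_add]; exact R.pow5)
  have key : t * ψ hx = ψ hx * t ^ 3 := by rw [← h3]; group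
  have key' : ∀ i : ℕ, t ^ i * ψ hx = ψ hx * t ^ (3 * i) := by
    intro i
    induction i with
    | zero => simp
    | succ i ih => rw [pow_succ', mul_assoc, ih, ← mul_assoc, key, mul_assoc, ← pow_add]; congr 2; ring
  rw [key' (2 * e)]
  congr 1
  exact R.pow_congr (by omega)

theorem GRules.xpow_pow (m e : ℕ) : ψ (el (xpow m)) * t ^ e = t ^ (e * 2 ^ m) * ψ (el (xpow m)) := by
  induction m generalizing e with
  | zero => simp [xpow, el_nil]
  | succ m ih =>
    have h : el (xpow (m + 1)) = el (xpow m) * hx := by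
      rw [xpow, List.replicate_succ', el_append]; simp [el, wv, g5, xpow]
    rw [h, map_mul, mul_assoc, R.x_pow, ← mul_assoc, ih, mul_assoc,
      show 2 * e * 2 ^ m = e * 2 ^ (m + 1) by ring]

theorem GRules.z_inv : (ψ hz)⁻¹ = ψ hz := by rw [← map_inv, hz_inv]

theorem GRules.ztz : t = ψ hz * t⁻¹ * ψ hz * t⁻¹ * ψ hz := by
  have e' : ψ hz * t * (ψ hz * t * (ψ hz * t)) = 1 := by
    rw [← R.cube, pow_succ', pow_two]
  have e2 : ψ hz * t = (ψ hz * t * (ψ hz * t))⁻¹ := eq_inv_of_mul_eq_one_left e'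
  calc t = (ψ hz)⁻¹ * (ψ hz * t) := by group
    _ = (ψ hz)⁻¹ * (t⁻¹ * (ψ hz)⁻¹ * (t⁻¹ * (ψ hz)⁻¹)) := by
        conv_lhs => rw [e2]
        group
    _ = _ := by rw [R.z_inv]; group

theorem GRules.zTz : t⁻¹ = ψ hz * t * ψ hz * t * ψ hz := by
  have h := congrArg (·⁻¹) R.ztz
  simp only [mul_inv_rev, inv_inv, R.z_inv] at h
  rw [h]; group

theorem GRules.pow4 : t ^ 4 = t⁻¹ := eq_inv_of_mul_eq_one_left (by rw [← pow_succ]; exact R.pow5)

end

/-- The atom words that are compared have equal values. -/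
theorem atomsEq_spec (R : GRules ψ t) {u v : List ℕ} (h : atomsEq u v = true) :
    wv (atomVal ψ t) u = wv (atomVal ψ t) v := by
  have hv : ∀ a, 10 ≤ a → atomVal ψ t a = t ^ (a - 10) := fun a ha => by
    rw [atomVal, if_neg (by omega)]
  have h4 : atomVal ψ t 4 = ψ hz := if_pos rfl
  have h11 : atomVal ψ t 11 = t := by rw [hv 11 (by norm_num)]; simp
  have h14 : atomVal ψ t 14 = t⁻¹ := by rw [hv 14 (by norm_num)]; exact R.pow4
  have one : ∀ a b c, (a = 11 ∧ b = 14 ∧ c = 14) ∨ (a = 14 ∧ b = 11 ∧ c = 11) →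
      wv (atomVal ψ t) [a] = wv (atomVal ψ t) [4, b, 4, c, 4] := by
    rintro a b c (⟨rfl, rfl, rfl⟩ | ⟨rfl, rfl, rfl⟩)
    · simp only [wv, h4, h11, h14, mul_one]
      conv_lhs => rw [R.ztz]
      simp only [mul_assoc]
    · simp only [wv, h4, h11, h14, mul_one]
      conv_lhs => rw [R.zTz]
      simp only [mul_assoc]
  have two : ∀ a b, 10 ≤ a → 10 ≤ b →
      wv (atomVal ψ t) [a, b] = t ^ ((a - 10) + (b - 10)) := fun a b ha hb => by
    simp only [wv, hv a ha, hv b hb, mul_one, ← pow_add]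
  unfold atomsEq at h
  rw [Bool.or_eq_true] at h
  rcases h with h | h
  · rw [eq_of_eqW h]
  split at h
  all_goals try simp only [Bool.and_eq_true, Bool.or_eq_true, Nat.ble_eq, Nat.beq_eq] at h
  · obtain ⟨⟨⟨ha, hb⟩, hc⟩, hm⟩ := h
    rw [two _ _ hb hc, wv_singleton, hv _ ha]
    exact R.pow_congr hm
  · obtain ⟨⟨⟨⟨hb, hc⟩, hd⟩, he⟩, hm⟩ := h
    rw [two _ _ hb hc, two _ _ hd he]
    exact R.pow_congr hm
  · obtain ⟨⟨⟨ha, hb⟩, hc⟩, hm⟩ := h
    rw [two _ _ hb hc, wv_singleton, hv _ ha]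
    exact (R.pow_congr hm).symm
  · exact one _ _ _ (by omega)
  · exact (one _ _ _ (by omega)).symm
  · rename_i b c d e
    obtain ⟨⟨hd, he⟩, hm⟩ := h
    rw [two _ _ hd he]
    rcases hm with ⟨⟨hm, hb⟩, hc⟩ | ⟨⟨hm, hb⟩, hc⟩
    · rw [← one 11 b c (Or.inl ⟨rfl, hb, hc⟩), wv_singleton, h11]
      exact ((R.pow_congr (b := 1) hm).trans (pow_one t)).symm
    · rw [← one 14 b c (Or.inr ⟨rfl, hb, hc⟩), wv_singleton, h14]
      exact ((R.pow_congr (b := 4) hm).trans R.pow4).symm
  · rename_i d e b c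
    obtain ⟨⟨hd, he⟩, hm⟩ := h
    rw [two _ _ hd he]
    rcases hm with ⟨⟨hm, hb⟩, hc⟩ | ⟨⟨hm, hb⟩, hc⟩
    · rw [← one 11 b c (Or.inl ⟨rfl, hb, hc⟩), wv_singleton, h11]
      exact (R.pow_congr (b := 1) hm).trans (pow_one t)
    · rw [← one 14 b c (Or.inr ⟨rfl, hb, hc⟩), wv_singleton, h14]
      exact (R.pow_congr (b := 4) hm).trans R.pow4
  · exact absurd h Bool.false_ne_true

/-- What a state says: the start times the atoms read is `A * x k * u`. -/
def DData.Inv (D : DData) (ψ : H0 →* G) (t : G) (start : G) (st : St) : Prop :=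
  start * wv (atomVal ψ t) st.W = ψ (el st.A) * nodeX D ψ t st.k * ψ (el st.u)

theorem el_four : el [4] = hz := by simp [el, wv, g5]

theorem holds_stab {n : ℕ} (h : Holds D ψ t n) (he : (D.fact n).e = 0) :
    nodeX D ψ t (D.fact n).k * ψ (el (unp (D.fact n).h)) =
      ψ (el (unp (D.fact n).A)) * nodeX D ψ t (D.fact n).j := by
  simpa [Holds, he] using h

theorem holds_edge {n : ℕ} (h : Holds D ψ t n) (he : 0 < (D.fact n).e) :
    nodeX D ψ t (D.fact n).k * ψ (el (unp (D.fact n).h)) * t ^ (D.fact n).e =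
      ψ (el (unp (D.fact n).A)) * nodeX D ψ t (D.fact n).j * ψ (el (unp (D.fact n).hp)) := by
  have : ¬ (D.fact n).e = 0 := by omega
  simpa [Holds, this] using h

/-- A stabiliser fact is one with equal nodes. -/
def DData.stabRef (D : DData) (n k r : ℕ) : Prop :=
  r / 2 < n ∧ (D.fact (r / 2)).e = 0 ∧ (D.fact (r / 2)).k = k ∧ (D.fact (r / 2)).j = k

theorem sW_push {n k : ℕ} (hn : ∀ m < n, Holds D ψ t m) :
    ∀ sig : List ℕ, (∀ r ∈ sig, D.stabRef n k r) →
      nodeX D ψ t k * ψ (el (sig.flatMap D.sW)) = ψ (el (sig.flatMap D.aW)) * nodeX D ψ t k := by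
  intro sig
  induction sig with
  | nil => intro _; simp [el_nil]
  | cons r sig ih =>
    intro h
    obtain ⟨hr, he, hk, hj⟩ := h r List.mem_cons_self
    have hh := holds_stab (hn _ hr) he
    rw [hk, hj] at hh
    have hstep : nodeX D ψ t k * ψ (el (D.sW r)) = ψ (el (D.aW r)) * nodeX D ψ t k := by
      have e : Nat.shiftRight r 1 = r / 2 := by show r >>> 1 = _; rw [Nat.shiftRight_eq_div_pow, pow_one]
      unfold DData.sW DData.aW
      rw [e]
      cases Nat.beq (Nat.land r 1) 0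
      · simp only [cond_false, el_winv, map_inv]
        rw [eq_inv_mul_iff_mul_eq, ← mul_assoc, ← hh, mul_inv_cancel_right]
      · exact hh
    rw [List.flatMap_cons, List.flatMap_cons, el_append, el_append, map_mul, map_mul, ← mul_assoc, hstep,
      mul_assoc, ih fun m hm => h m (List.mem_cons_of_mem _ hm), ← mul_assoc]

/-- Elements fixing the point `0` commute with the further element. -/
def FixComm (ψ : H0 →* G) (t : G) : Prop := ∀ a : H0, pi a = pi 1 → Commute t (ψ a)

variable (R : GRules ψ t) (hK : FixComm ψ t) (hJ : ∀ n, (D.fact n).e = 0 → (D.fact n).j = (D.fact n).k)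

include R hK hJ

theorem mv_spec {n : ℕ} (hn : ∀ m < n, Holds D ψ t m) {start : G} {st st' : St} {m : Mv}
    (hi : D.Inv ψ t start st) (h : D.mv n st m = some st') : D.Inv ψ t start st' := by
  cases m with
  | z =>
    simp only [DData.mv, Option.some.injEq] at h
    subst h
    unfold DData.Inv at *
    rw [wv_append, ← mul_assoc, hi, wv_singleton, el_append, map_mul, el_four]
    simp only [atomVal, if_pos, mul_assoc]
  | t e f sig m k0 =>
    simp only [DData.mv] at h
    cases hc : (Nat.blt f n && Nat.blt 0 (D.fact f).e && Nat.beq (D.fact f).k st.k &&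
        (sig.all fun r => Nat.blt (Nat.shiftRight r 1) n && Nat.beq (D.fact (Nat.shiftRight r 1)).e 0 &&
          Nat.beq (D.fact (Nat.shiftRight r 1)).k st.k) &&
        Nat.beq (Nat.mod (Nat.mul e (Nat.pow 2 m)) 5) (Nat.mod (D.fact f).e 5) &&
        letOK 5 (unp k0) && Nat.beq (lact (unp k0) 0) 0 &&
        eqH st.u (sig.flatMap D.sW ++ unp (D.fact f).h ++ xpow m ++ unp k0)) with
    | false => rw [hc, cond_false] at h; exact absurd h (by simp)
    | true =>
      rw [hc, cond_true, Option.some.injEq] at h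
      subst h
      simp only [Bool.and_eq_true, Nat.blt_eq, Nat.beq_eq, List.all_eq_true] at hc
      obtain ⟨⟨⟨⟨⟨⟨⟨hf, hfe⟩, hfk⟩, hsig⟩, hmod⟩, hlet⟩, hfix⟩, heq⟩ := hc
      have hsig' : ∀ r ∈ sig, D.stabRef n st.k r := fun r hr => by
        obtain ⟨⟨h1, h2⟩, h3⟩ := hsig r hr
        have e : Nat.shiftRight r 1 = r / 2 := by show r >>> 1 = _; rw [Nat.shiftRight_eq_div_pow, pow_one]
        rw [e] at h1 h2 h3
        exact ⟨h1, h2, h3, (hJ _ h2).trans h3⟩
      have hk0 : Commute t (ψ (el (unp k0))) := hK _ (Fin.ext (by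
        rw [pi_el hlet, hfix]; simp [pi]))
      have hs := sW_push hn sig hsig'
      have hE := holds_edge (hn _ hf) hfe
      rw [hfk] at hE
      have hexp : t ^ e * 1 = t ^ e := mul_one _
      have hx : ψ (el (xpow m)) * t ^ e = t ^ (D.fact f).e * ψ (el (xpow m)) := by
        rw [R.xpow_pow]; congr 1; exact R.pow_congr hmod
      unfold DData.Inv at *
      rw [wv_append, ← mul_assoc, hi, el_eq heq, wv_singleton, atomVal,
        if_neg (show ¬ Nat.add 10 e = 4 by show ¬ 10 + e = 4; omega),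
        show Nat.add 10 e - 10 = e from Nat.add_sub_cancel_left 10 e]
      simp only [el_append, map_mul]
      calc ψ (el st.A) * nodeX D ψ t st.k *
            (ψ (el (sig.flatMap D.sW)) * ψ (el (unp (D.fact f).h)) * ψ (el (xpow m)) * ψ (el (unp k0))) * t ^ e
          = ψ (el st.A) * (nodeX D ψ t st.k * ψ (el (sig.flatMap D.sW))) * ψ (el (unp (D.fact f).h)) *
            (ψ (el (xpow m)) * (ψ (el (unp k0)) * t ^ e)) := by group
        _ = ψ (el st.A) * (ψ (el (sig.flatMap D.aW)) * nodeX D ψ t st.k) * ψ (el (unp (D.fact f).h)) *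
            ((t ^ (D.fact f).e * ψ (el (xpow m))) * ψ (el (unp k0))) := by
            rw [hs, (hk0.pow_left e).symm.eq, ← mul_assoc (ψ (el (xpow m))) (t ^ e), hx]
        _ = ψ (el st.A) * ψ (el (sig.flatMap D.aW)) *
            (nodeX D ψ t st.k * ψ (el (unp (D.fact f).h)) * t ^ (D.fact f).e) *
            (ψ (el (xpow m)) * ψ (el (unp k0))) := by group
        _ = _ := by rw [hE]; group

theorem run_spec {n : ℕ} (hn : ∀ m < n, Holds D ψ t m) {start : G} :
    ∀ (ms : List Mv) {st st' : St}, D.Inv ψ t start st → D.run n ms st = some st' →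
      D.Inv ψ t start st' := by
  intro ms
  induction ms with
  | nil => intro st st' hi h; simp only [DData.run, Option.some.injEq] at h; exact h ▸ hi
  | cons m ms ih =>
    intro st st' hi h
    simp only [DData.run] at h
    cases hm : D.mv n st m with
    | none => rw [hm] at h; simp at h
    | some s => rw [hm] at h; exact ih (mv_spec R hK hJ hn hi hm) h

theorem start_inv (k h : ℕ) :
    D.Inv ψ t (nodeX D ψ t k * ψ (el (unp h))) ⟨[], k, unp h, []⟩ := by
  simp [DData.Inv, wv_nil, el_nil]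

theorem okFact_holds {n : ℕ} (hn : ∀ m < n, Holds D ψ t m) (h : D.okFact n = true) : Holds D ψ t n := by
  unfold DData.okFact at h
  simp only at h
  set F := D.fact n with hF
  unfold Holds
  simp only [← hF]
  split at h
  · simp only [Bool.and_eq_true, Nat.beq_eq] at h
    obtain ⟨⟨⟨he, hk⟩, hj⟩, heq⟩ := h
    simp [he, hk, hj, nodeX_zero, el_eq heq]
  · simp only [Bool.and_eq_true, Nat.beq_eq, Nat.blt_eq, Bool.not_eq_true'] at h
    obtain ⟨⟨⟨⟨he, hlt⟩, ⟨hd1, hd2⟩, hd3⟩, hA⟩, hhp⟩ := h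
    have he' : ¬ F.e = 0 := fun e => by rw [e] at he; simp at he
    rw [if_neg he', el_eq hA, el_eq hhp]
    conv_rhs => rw [nodeX, dif_pos (hd1.symm ▸ hlt)]
    rw [hd1, hd2, hd3]
    simp [el_nil]
  · rename_i f _
    simp only [Bool.and_eq_true, Nat.beq_eq, Nat.blt_eq] at h
    obtain ⟨⟨⟨⟨⟨⟨⟨⟨hf, hPe⟩, hFe⟩, hm⟩, hk⟩, hj⟩, hh⟩, hhp⟩, hA⟩ := h
    have hP := holds_edge (hn f hf) hPe
    have he' : ¬ F.e = 0 := by omega
    rw [if_neg he', el_eq hh, el_eq hhp, el_eq hA, hk, hj, el_winv, map_inv]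
    have hinv : t ^ F.e = (t ^ (D.fact f).e)⁻¹ := by
      refine eq_inv_of_mul_eq_one_left ?_
      rw [← pow_add, ← R.pow_mod, show (F.e + (D.fact f).e) % 5 = 0 from hm, pow_zero]
    rw [hinv, mul_assoc (ψ (el (unp (D.fact f).A)))⁻¹, eq_inv_mul_iff_mul_eq, ← mul_assoc,
      ← mul_assoc (ψ (el (unp (D.fact f).A))), ← hP, mul_inv_cancel_right]
  · rename_i ms _
    split at h
    · rename_i st hst
      simp only [Bool.and_eq_true, Nat.beq_eq, Nat.blt_eq] at h
      obtain ⟨⟨⟨⟨he, hW⟩, hj⟩, hA⟩, hhp⟩ := h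
      have hi := run_spec R hK hJ hn ms (start_inv R hK hJ F.k F.h) hst
      have he' : ¬ F.e = 0 := by omega
      have hw := atomsEq_spec R hW
      rw [wv_singleton, atomVal, if_neg (show ¬ Nat.add 10 F.e = 4 by show ¬ 10 + F.e = 4; omega),
        show Nat.add 10 F.e - 10 = F.e from Nat.add_sub_cancel_left 10 F.e] at hw
      rw [if_neg he', el_eq hA, el_eq hhp, hw, ← hj]
      exact hi
    · exact absurd h Bool.false_ne_true
  · rename_i k hh ms ms' _
    split at h
    · rename_i s s' hs hs'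
      simp only [Bool.and_eq_true, Nat.beq_eq] at h
      obtain ⟨⟨⟨⟨⟨⟨he, hj⟩, hk⟩, hk'⟩, hW⟩, hu⟩, hA⟩ := h
      have i1 := run_spec R hK hJ hn ms (start_inv R hK hJ k hh) hs
      have i2 := run_spec R hK hJ hn ms' (start_inv R hK hJ k hh) hs'
      unfold DData.Inv at i1 i2
      rw [atomsEq_spec R hW] at i1
      rw [i1, hk, hk'] at i2
      rw [he, pow_zero, mul_one, if_pos rfl, mul_one, el_eq hu, el_eq hA, hj, el_append, el_append,
        el_winv, el_winv, map_mul, map_mul, map_inv, map_inv, mul_assoc (ψ (el s.A))⁻¹,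
        eq_inv_mul_iff_mul_eq, ← mul_assoc, ← mul_assoc, i2, mul_inv_cancel_right]
    · exact absurd h Bool.false_ne_true

/-- **All facts checked in order hold.** -/
theorem all_hold {N : ℕ} (h : ∀ n < N, D.okFact n = true) : ∀ n < N, Holds D ψ t n := by
  intro n
  induction n using Nat.strongRecOn with
  | _ n ih => intro hn; exact okFact_holds R hK hJ (fun m hm => ih m hm (by omega)) (h n hn)

end sound

end

end Cfsg.Agent.HN
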