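import Cfsg.Agent.Lib.HN.LoopData

/-! Kernel checks: the facts -/

set_option autoImplicit false
set_option maxRecDepth 100000
set_option Elab.async false

namespace Cfsg.Agent.HN.Dat

theorem fact0 : allLo (fun i => xd.D.okFact (Nat.add 0 i)) 50 = true := by decide +kernel

theorem fact1 : allLo (fun i => xd.D.okFact (Nat.add 50 i)) 50 = true := by decide +kernel

theorem fact2 : allLo (fun i => xd.D.okFact (Nat.add 100 i)) 50 = true := by decide +kernel

theorem stabsOK : (xd.D.facts.all fun f => !(Nat.beq f.e 0) || Nat.beq f.j f.k) = true := by decide +kernel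

end Cfsg.Agent.HN.Dat
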