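import Mathlib.Init

/-! Words for the 120 elements of the small subgroup, and the words used in the argument. -/

set_option autoImplicit false

namespace Cfsg.Agent.HN

noncomputable section

/-- words in the two elements and their inverses -/
def sWords : List (List Nat) := [[], [0], [2], [3], [0, 2], [0, 3], [2, 0], [2, 2], [3, 0], [3, 3], [0, 2, 0], [0, 2, 2], [0, 3, 0], [0, 3, 3], [2, 0, 2], [2, 0, 3], [2, 2, 0], [2, 2, 2], [3, 0, 2], [3, 0, 3], [3, 3, 0], [0, 2, 0, 2], [0, 2, 0, 3], [0, 2, 2, 0], [0, 2, 2, 2], [0, 3, 0, 2], [0, 3, 0, 3], [0, 3, 3, 0], [2, 0, 2, 2], [2, 0, 3, 0], [2, 0, 3, 3], [2, 2, 0, 2], [2, 2, 0, 3], [2, 2, 2, 0], [3, 0, 2, 0], [3, 0, 2, 2], [3, 0, 3, 3], [3, 3, 0, 2], [3, 3, 0, 3], [0,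 2, 0, 2, 2], [0, 2, 0, 3, 0], [0, 2, 0, 3, 3], [0, 2, 2, 0, 3], [0, 2, 2, 2, 0], [0, 3, 0, 2, 0], [0, 3, 0, 2, 2], [0, 3, 0, 3, 3], [0, 3, 3, 0, 2], [2, 0, 2, 2, 2], [2, 0, 3, 0, 2], [2, 0, 3, 0, 3], [2, 0, 3, 3, 0], [2, 2, 0, 3, 0], [2, 2, 0, 3, 3], [2, 2, 2, 0, 2], [2, 2, 2, 0, 3], [3, 0, 2, 0, 2], [3, 0, 2, 0, 3], [3, 0, 2, 2, 0], [3, 0, 2, 2, 2], [3, 3, 0, 2, 0], [3, 3, 0, 2, 2], [0, 2, 0, 2, 2, 2], [0, 2, 0, 3, 0, 2], [0, 2, 0, 3, 3, 0], [0, 2, 2, 0, 3, 0], [0, 2, 2, 2, 0, 2], [0, 2, 2, 2, 0, 3], [0, 3, 0, 2, 0, 3], [0, 3, 0, 2, 2, 0], [0, 3, 0, 2, 2, 2], [0, 3, 3, 0, 2, 0], [2, 0, 2, 2, 2, 0], [2, 0, 3, 0, 2, 0], [2, 0, 3, 0, 2, 2], [2, 0, 3, 3, 0, 2], [2, 2, 0, 3, 0, 2], [2, 2, 0, 3, 0, 3], [2, 2, 2, 0, 3,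 0], [3, 0, 2, 0, 3, 0], [3, 0, 2, 0, 3, 3], [3, 0, 2, 2, 2, 0], [3, 3, 0, 2, 0, 3], [0, 2, 0, 2, 2, 2, 0], [0, 2, 0, 3, 0, 2, 0], [0, 2, 0, 3, 3, 0, 2], [0, 2, 2, 0, 3, 0, 2], [0, 2, 2, 0, 3, 0, 3], [0, 2, 2, 2, 0, 3, 0], [0, 3, 0, 2, 0, 3, 0], [0, 3, 0, 2, 2, 2, 0], [0, 3, 3, 0, 2, 0, 3], [2, 0, 2, 2, 2, 0, 2], [2, 0, 2, 2, 2, 0, 3], [2, 0, 3, 0, 2, 0, 3], [2, 0, 3, 0, 2, 2, 0], [2, 0, 3, 3, 0, 2, 0], [2, 2, 0, 3, 0, 2, 2], [3, 0, 2, 0, 3, 0, 2], [3, 0, 2, 0, 3, 3, 0], [3, 0, 2, 2, 2, 0, 2], [3, 0, 2, 2, 2, 0, 3], [3, 3, 0, 2, 0, 3, 3], [0, 2, 0, 2, 2, 2, 0, 3], [0, 2, 0, 3, 0, 2, 0, 3], [0, 2, 0, 3, 3, 0, 2, 0], [0, 2, 2, 0, 3, 0, 2, 2], [0, 3, 0, 2, 0, 3, 0, 2], [0, 3, 0, 2, 2, 2, 0, 2], [0, 3, 3, 0, 2, 0, 3,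 3], [2, 0, 2, 2, 2, 0, 3, 0], [2, 0, 3, 0, 2, 0, 3, 0], [2, 0, 3, 3, 0, 2, 0, 3], [3, 0, 2, 0, 3, 0, 2, 0], [0, 2, 0, 2, 2, 2, 0, 3, 0], [0, 2, 0, 3, 0, 2, 0, 3, 0], [0, 2, 0, 3, 3, 0, 2, 0, 3], [0, 3, 0, 2, 0, 3, 0, 2, 0], [2, 0, 3, 0, 2, 0, 3, 0, 2], [0, 2, 0, 3, 0, 2, 0, 3, 0, 2]]

/-- three points -/
def sBase : List Nat := [0, 1, 8]

/-- a word -/
def q_u : List Nat := [1, 1, 1]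

/-- a word -/
def q_v : List Nat := [2, 0, 1, 0, 1]

/-- a word -/
def q_c0 : List Nat := [0, 1, 1, 0, 2, 0, 2, 0, 1, 1, 0, 2, 2, 0, 1, 0, 1, 0, 2, 2]

/-- a word -/
def q_cw : List Nat := [1, 0, 1, 0, 1, 1, 0, 2, 0, 1, 0, 1, 0, 1, 1, 0, 2, 0, 1, 0, 1, 0, 1, 1, 0, 2, 0, 1, 0, 1, 0, 1, 1, 0, 2, 0, 1, 0, 1, 0, 1, 1, 0, 2, 0, 1, 0, 1, 0, 1, 1, 0, 2, 0, 1, 0, 1, 0, 1, 1, 0, 2, 0]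

/-- a word -/
def q_w : List Nat := [1, 0, 1, 0, 1, 1, 0, 2]

/-- a word -/
def q_p : List Nat := [1, 1, 1, 0, 1, 0, 1]

/-- the relators of the subgroup of x, y, z on x, x⁻¹, y, y⁻¹, z, z⁻¹ -/
def relF : List (List Nat) := [[2, 2, 2, 2, 2, 2], [0, 0, 2, 0, 0, 3], [1, 3, 0, 2, 1, 3, 0, 2, 1, 3, 0, 2], [1, 2, 2, 0, 2, 2, 2, 1, 2, 2, 0, 2, 2, 2, 1, 2, 2, 0, 2, 2, 2], [0, 2, 0, 2, 0, 2, 0, 2, 0, 2, 0, 2, 0, 2, 0, 2], [0, 2, 0, 2, 2, 2, 0, 2, 0, 2, 2, 2, 0, 2, 0, 2, 2, 2, 0, 2, 0, 2, 2, 2], [4, 4], [4, 0, 4, 0], [5, 2, 1, 3, 3, 1, 3, 1, 3, 4, 2, 0, 2, 0, 2, 2, 0, 3, 1, 1], [4, 3, 1, 3, 1, 3, 3, 3, 4, 2, 2, 2, 0, 2, 0, 2, 0, 3, 1, 3, 1, 3, 3, 3, 4, 2, 2, 2, 0, 2, 0, 2, 0, 3, 1, 3, 1, 3, 3, 3, 4, 2, 2, 2, 0, 2, 0, 2,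 0]]

end

end Cfsg.Agent.HN
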