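import Cfsg.Agent.Lib.HN.TC
import Cfsg.Agent.Lib.HN.PermData
import Cfsg.Agent.Lib.HN.Words
import Cfsg.Agent.Lib.HN.CentreCheck
import Mathlib.GroupTheory.PresentedGroup
import Mathlib.GroupTheory.QuotientGroup.Basic
import Mathlib.Tactic.IntervalCases
import Mathlib.Tactic.FinCases

/-!
The group presented by the relators in `x, y, z`: `x` has order dividing 4, its square is central, and the
quotient by the square is read on the letters `x, y, y⁻¹, z`.
-/

set_option autoImplicit false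
set_option maxRecDepth 100000

namespace Cfsg.Agent.HN

noncomputable section

/-- The letters `x, x⁻¹, y, y⁻¹, z, z⁻¹` in a free group. -/
def fgen6 (l : ℕ) : FreeGroup (Fin 3) :=
  [FreeGroup.of 0, (FreeGroup.of 0)⁻¹, FreeGroup.of 1, (FreeGroup.of 1)⁻¹, FreeGroup.of 2,
    (FreeGroup.of 2)⁻¹].getD l 1

/-- The relators as elements of the free group. -/
def relSet : Set (FreeGroup (Fin 3)) := {r | ∃ w ∈ relF, r = wv fgen6 w}

/-- The group presented by `x, y, z` and the relators without `t`. -/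
abbrev H0 : Type := PresentedGroup relSet

/-- `x`. -/
def hx : H0 := PresentedGroup.of 0

/-- `y`. -/
def hy : H0 := PresentedGroup.of 1

/-- `z`. -/
def hz : H0 := PresentedGroup.of 2

/-- The letters `x, x⁻¹, y, y⁻¹, z, z⁻¹`. -/
def g6 (l : ℕ) : H0 := [hx, hx⁻¹, hy, hy⁻¹, hz, hz⁻¹].getD l 1

/-- The letters `x, x⁻¹, y, y⁻¹, z`. -/
def g5 (l : ℕ) : H0 := [hx, hx⁻¹, hy, hy⁻¹, hz].getD l 1

theorem mk_fgen6 (l : ℕ) : PresentedGroup.mk relSet (fgen6 l) = g6 l := by
  match l with
  | 0 | 1 | 2 | 3 | 4 | 5 => simp [fgen6, g6, hx, hy, hz, PresentedGroup.of]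
  | _ + 6 => simp [fgen6, g6]

theorem relH6 {w : List ℕ} (h : w ∈ relF) : wv g6 w = 1 := by
  rw [← funext mk_fgen6, ← map_wv]
  exact PresentedGroup.one_of_mem ⟨w, h, rfl⟩

theorem hz_sq : hz * hz = 1 := by
  have := relH6 (w := [4, 4]) (by decide +kernel)
  simpa [wv, g6] using this

theorem hz_inv : hz⁻¹ = hz := inv_eq_of_mul_eq_one_right hz_sq

theorem g5_inv (l : ℕ) : g5 (iv5 l) = (g5 l)⁻¹ := by
  match l with
  | 0 | 1 | 2 | 3 => simp [g5, iv5]
  | 4 => simp [g5, iv5, hz_inv]
  | _ + 5 => simp [g5, iv5]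

/-- Rename the letter `z⁻¹` to `z`. -/
def to5 (w : List ℕ) : List ℕ := w.map fun l => Bool.rec l 4 (Nat.beq l 5)

theorem wv_to5 (w : List ℕ) : wv g5 (to5 w) = wv g6 w := by
  induction w with
  | nil => rfl
  | cons l w ih =>
    show g5 _ * wv g5 (to5 w) = g6 l * wv g6 w
    rw [ih]
    congr 1
    match l with
    | 0 | 1 | 2 | 3 | 4 => rfl
    | 5 => exact hz_inv.symm
    | _ + 6 => rfl

theorem relH5 {w : List ℕ} (h : w ∈ relF) : wv g5 (to5 w) = 1 := by rw [wv_to5, relH6 h]

/-- A word that is a rotation of one of the listed words or of the inverse of one. -/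
def derivedFrom (iv : ℕ → ℕ) (base : List (List ℕ)) (r : List ℕ) : Bool :=
  base.any fun b => (List.range (b.length + 1)).any fun i =>
    sameW iv r (b.drop i ++ b.take i) || sameW iv r ((winv iv b).drop i ++ (winv iv b).take i)

theorem derivedFrom_spec {G : Type*} [Group G] {g : ℕ → G} {iv : ℕ → ℕ}
    (hinv : ∀ l, g (iv l) = (g l)⁻¹) {base : List (List ℕ)} (hbase : ∀ b ∈ base, wv g b = 1)
    {r : List ℕ} (h : derivedFrom iv base r = true) : wv g r = 1 := by
  simp only [derivedFrom, List.any_eq_true, Bool.or_eq_true] at h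
  obtain ⟨b, hb, i, -, h | h⟩ := h
  · rw [wv_of_sameW g hinv h, wv_drop_append_take g (hbase b hb)]
  · rw [wv_of_sameW g hinv h,
      wv_drop_append_take g (by rw [wv_winv g hinv, hbase b hb, inv_one])]

/-! ### `x` has order dividing 4 and its square is central -/

theorem centre_iv (l : ℕ) : Centre.cert.iv l = if l < 4 then iv5 l else l := by
  match l with
  | 0 | 1 | 2 | 3 => rfl
  | _ + 4 => simp [Centre.cert, Centre.ivl]

/-- The letters `x, x⁻¹, y, y⁻¹`. -/
def g4 (l : ℕ) : H0 := [hx, hx⁻¹, hy, hy⁻¹].getD l 1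

theorem g4_inv (l : ℕ) : g4 (Centre.cert.iv l) = (g4 l)⁻¹ := by
  match l with
  | 0 | 1 | 2 | 3 => simp [g4, Centre.cert, Centre.ivl]
  | _ + 4 => simp [g4, Centre.cert, Centre.ivl]

theorem wv_g4 {w : List ℕ} (h : ∀ l ∈ w, l < 4) : wv g4 w = wv g5 w :=
  wv_congr _ fun l hl => by
    have := h l hl
    interval_cases l <;> rfl

theorem centre_rules : TC.Rules Centre.cert g4 ⊥ where
  inv := g4_inv
  rel r hr := by
    have hc : (Centre.cert.rels.all fun r => (r.all fun l => Nat.blt l 4) &&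
        derivedFrom iv5 (relF.map to5) r) = true := by decide +kernel
    simp only [List.all_eq_true, Bool.and_eq_true, Nat.blt_eq] at hc
    obtain ⟨h1, h2⟩ := hc r hr
    rw [wv_g4 h1, derivedFrom_spec g5_inv (fun b hb => ?_) h2]
    obtain ⟨w, hw, rfl⟩ := List.mem_map.1 hb
    exact relH5 hw
  sub s hs := by simp [Centre.cert] at hs

theorem hx_pow_four : hx ^ 4 = 1 := by
  have := TC.trace_mem centre_rules (TC.all_good centre_rules Centre.ok_all) Centre.trace0
  rw [Subgroup.mem_bot] at this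
  simpa [wv, g4, pow_succ, mul_assoc] using this

theorem hx_sq_comm_y : Commute (hx ^ 2) hy := by
  have := TC.trace_mem centre_rules (TC.all_good centre_rules Centre.ok_all) Centre.trace1
  rw [Subgroup.mem_bot] at this
  have h : hx ^ 2 * hy * (hx ^ 2 * hy⁻¹) = 1 := by simpa [wv, g4, sq, mul_assoc] using this
  have h4 : (hx ^ 2)⁻¹ = hx ^ 2 := inv_eq_of_mul_eq_one_right (by rw [← pow_add, hx_pow_four])
  show hx ^ 2 * hy = hy * hx ^ 2
  have := eq_inv_of_mul_eq_one_left h
  rw [mul_inv_rev, inv_inv, h4] at this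
  exact this

theorem hx_sq_comm_z : Commute (hx ^ 2) hz := by
  have h := relH6 (w := [4, 0, 4, 0]) (by decide +kernel)
  simp only [wv, g6, List.getD_cons_succ, List.getD_cons_zero, mul_one] at h
  have e : hz * hx * hz = hx⁻¹ := eq_inv_of_mul_eq_one_left (by simpa [mul_assoc] using h)
  have e2 : hz * hx ^ 2 * hz = (hx ^ 2)⁻¹ := by
    calc hz * hx ^ 2 * hz = (hz * hx * hz) * (hz * hx * hz) := by
          rw [sq]; simp [mul_assoc, ← mul_assoc hz hz, hz_sq]
      _ = _ := by rw [e, sq, mul_inv_rev]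
  have h4 : (hx ^ 2)⁻¹ = hx ^ 2 := inv_eq_of_mul_eq_one_right (by rw [← pow_add, hx_pow_four])
  rw [h4] at e2
  show hx ^ 2 * hz = hz * hx ^ 2
  calc hx ^ 2 * hz = hz * hx ^ 2 * hz * hz := by rw [e2]
    _ = _ := by rw [mul_assoc, hz_sq, mul_one]

theorem closure_top : Subgroup.closure ({hx, hy, hz} : Set H0) = ⊤ := by
  rw [eq_top_iff, ← PresentedGroup.closure_range_of relSet, Subgroup.closure_le]
  rintro _ ⟨i, rfl⟩
  fin_cases i
  · exact Subgroup.subset_closure (Or.inl rfl)
  · exact Subgroup.subset_closure (Or.inr (Or.inl rfl))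
  · exact Subgroup.subset_closure (Or.inr (Or.inr rfl))

theorem hx_sq_central : hx ^ 2 ∈ Subgroup.center H0 := by
  rw [Subgroup.mem_center_iff]
  intro g
  have : g ∈ Subgroup.centralizer ({hx ^ 2} : Set H0) := by
    have hle : Subgroup.closure ({hx, hy, hz} : Set H0) ≤ Subgroup.centralizer {hx ^ 2} := by
      rw [Subgroup.closure_le]
      intro a ha
      rw [SetLike.mem_coe, Subgroup.mem_centralizer_singleton_iff]
      rcases ha with rfl | rfl | rfl
      · exact (Commute.self_pow hx 2).eq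
      · exact hx_sq_comm_y.symm.eq
      · exact hx_sq_comm_z.symm.eq
    exact hle (closure_top ▸ Subgroup.mem_top g)
  rwa [Subgroup.mem_centralizer_singleton_iff] at this

/-! ### The quotient by the square of `x` -/

/-- The subgroup generated by the square of `x`. -/
def Zs : Subgroup H0 := Subgroup.zpowers (hx ^ 2)

theorem Zs_le_center : Zs ≤ Subgroup.center H0 := by
  rw [Zs, Subgroup.zpowers_le]; exact hx_sq_central

instance Zs_normal : Zs.Normal :=
  ⟨fun a ha g => by rw [Subgroup.mem_center_iff.1 (Zs_le_center ha) g, mul_inv_cancel_right]; exact ha⟩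

/-- The quotient by the square of `x`. -/
abbrev Q : Type := H0 ⧸ Zs

/-- The map onto the quotient. -/
def toQ : H0 →* Q := QuotientGroup.mk' Zs

/-- The letters `x, y, y⁻¹, z` in the quotient. -/
def gQ (l : ℕ) : Q := [toQ hx, toQ hy, (toQ hy)⁻¹, toQ hz].getD l 1

theorem qx_sq : toQ hx * toQ hx = 1 := by
  rw [← map_mul, ← sq]
  exact (QuotientGroup.eq_one_iff _).2 (Subgroup.mem_zpowers _)

theorem gQ_inv (l : ℕ) : gQ (iv4 l) = (gQ l)⁻¹ := by
  match l with
  | 0 => simpa [gQ, iv4] using (inv_eq_of_mul_eq_one_right qx_sq).symm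
  | 1 | 2 => simp [gQ, iv4]
  | 3 =>
    show toQ hz = (toQ hz)⁻¹
    rw [← map_inv, hz_inv]
  | _ + 4 => simp [gQ, iv4]

/-- Read a word in six letters in the quotient. -/
def toQW (w : List ℕ) : List ℕ := w.map fun l => ([0, 0, 1, 2, 3, 3] : List ℕ).getD l 4

theorem wv_toQW (w : List ℕ) : wv gQ (toQW w) = toQ (wv g6 w) := by
  rw [map_wv]
  induction w with
  | nil => rfl
  | cons l w ih =>
    show gQ _ * wv gQ (toQW w) = toQ (g6 l) * _
    rw [ih]
    congr 1
    match l with
    | 0 => rfl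
    | 1 => simpa [gQ, g6] using (inv_eq_of_mul_eq_one_right qx_sq).symm
    | 2 => rfl
    | 3 => simp [gQ, g6]
    | 4 => rfl
    | 5 => simp only [g6, gQ, List.getD_cons_succ, List.getD_cons_zero]; rw [hz_inv]
    | _ + 6 => simp [gQ, g6]

/-- The relators in the quotient. -/
def relQ : List (List ℕ) := [0, 0] :: relF.map toQW

theorem relQ_spec : ∀ r ∈ relQ, wv gQ r = 1 := by
  intro r hr
  rcases List.mem_cons.1 hr with rfl | hr
  · simpa [wv, gQ] using qx_sq
  · obtain ⟨w, hw, rfl⟩ := List.mem_map.1 hr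
    rw [wv_toQW, relH6 hw, map_one]

end

end Cfsg.Agent.HN
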