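import Cfsg.Agent.Lib.HN.HCosetsCheck0
import Cfsg.Agent.Lib.HN.HCosetsCheck1

/-! Kernel checks: cosets of the group of x and y in the group of x, y and z -/

set_option autoImplicit false
set_option maxRecDepth 100000
set_option Elab.async false

namespace Cfsg.Agent.HN.HCosets

/-- every fact checks -/
theorem ok_all : ∀ n < numFacts, TC.okFact cert n = true := by
  intro n hn
  unfold numFacts at hn
  by_cases h0 : n < 1500
  · have := allLo_spec ok0 (i := n - 0) (by omega); rwa [show Nat.add 0 (n - 0) = n from by show 0 + (n - 0) = n; omega] at this
  by_cases h1 : n < 3000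
  · have := allLo_spec ok1 (i := n - 1500) (by omega); rwa [show Nat.add 1500 (n - 1500) = n from by show 1500 + (n - 1500) = n; omega] at this
  by_cases h2 : n < 4500
  · have := allLo_spec ok2 (i := n - 3000) (by omega); rwa [show Nat.add 3000 (n - 3000) = n from by show 3000 + (n - 3000) = n; omega] at this
  by_cases h3 : n < 6000
  · have := allLo_spec ok3 (i := n - 4500) (by omega); rwa [show Nat.add 4500 (n - 4500) = n from by show 4500 + (n - 4500) = n; omega] at this
  by_cases h4 : n < 7500
  · have := allLo_spec ok4 (i := n - 6000) (by omega); rwa [show Nat.add 6000 (n - 6000) = n from by show 6000 + (n - 6000) = n; omega] at this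
  have := allLo_spec ok5 (i := n - 7500) (by omega); rwa [show Nat.add 7500 (n - 7500) = n from by show 7500 + (n - 7500) = n; omega] at this

theorem fin_ok : TC.okFin cert numFacts = true := by decide +kernel

end Cfsg.Agent.HN.HCosets
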