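import Cfsg.Agent.Lib.HN.HCosetsData

/-! Kernel checks: cosets of the group of x and y in the group of x, y and z -/

set_option autoImplicit false
set_option maxRecDepth 100000
set_option Elab.async false

namespace Cfsg.Agent.HN.HCosets

theorem ok0 : TC.okRange cert 0 1500 = true := by decide +kernel

theorem ok1 : TC.okRange cert 1500 1500 = true := by decide +kernel

theorem ok2 : TC.okRange cert 3000 1500 = true := by decide +kernel

theorem ok3 : TC.okRange cert 4500 1500 = true := by decide +kernel

end Cfsg.Agent.HN.HCosets
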