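import Cfsg.Agent.Lib.HN.KTableData

/-! Kernel checks: cosets in the group of x and y, without the extra relator -/

set_option autoImplicit false
set_option maxRecDepth 100000
set_option Elab.async false

namespace Cfsg.Agent.HN.KTable

theorem ok16 : TC.okRange cert 19200 1200 = true := by decide +kernel

theorem ok17 : TC.okRange cert 20400 1200 = true := by decide +kernel

theorem ok18 : TC.okRange cert 21600 783 = true := by decide +kernel

end Cfsg.Agent.HN.KTable
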