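import Cfsg.Agent.Lib.HN.KTableCheck0
import Cfsg.Agent.Lib.HN.KTableCheck1
import Cfsg.Agent.Lib.HN.KTableCheck2
import Cfsg.Agent.Lib.HN.KTableCheck3
import Cfsg.Agent.Lib.HN.KTableCheck4

/-! Kernel checks: cosets in the group of x and y, without the extra relator -/

set_option autoImplicit false
set_option maxRecDepth 100000
set_option Elab.async false

namespace Cfsg.Agent.HN.KTable

/-- every fact checks -/
theorem ok_all : ∀ n < numFacts, TC.okFact cert n = true := by
  intro n hn
  unfold numFacts at hn
  by_cases h0 : n < 1200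
  · have := allLo_spec ok0 (i := n - 0) (by omega); rwa [show Nat.add 0 (n - 0) = n from by show 0 + (n - 0) = n; omega] at this
  by_cases h1 : n < 2400
  · have := allLo_spec ok1 (i := n - 1200) (by omega); rwa [show Nat.add 1200 (n - 1200) = n from by show 1200 + (n - 1200) = n; omega] at this
  by_cases h2 : n < 3600
  · have := allLo_spec ok2 (i := n - 2400) (by omega); rwa [show Nat.add 2400 (n - 2400) = n from by show 2400 + (n - 2400) = n; omega] at this
  by_cases h3 : n < 4800
  · have := allLo_spec ok3 (i := n - 3600) (by omega); rwa [show Nat.add 3600 (n - 3600) = n from by show 3600 + (n - 3600) = n; omega] at this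
  by_cases h4 : n < 6000
  · have := allLo_spec ok4 (i := n - 4800) (by omega); rwa [show Nat.add 4800 (n - 4800) = n from by show 4800 + (n - 4800) = n; omega] at this
  by_cases h5 : n < 7200
  · have := allLo_spec ok5 (i := n - 6000) (by omega); rwa [show Nat.add 6000 (n - 6000) = n from by show 6000 + (n - 6000) = n; omega] at this
  by_cases h6 : n < 8400
  · have := allLo_spec ok6 (i := n - 7200) (by omega); rwa [show Nat.add 7200 (n - 7200) = n from by show 7200 + (n - 7200) = n; omega] at this
  by_cases h7 : n < 9600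
  · have := allLo_spec ok7 (i := n - 8400) (by omega); rwa [show Nat.add 8400 (n - 8400) = n from by show 8400 + (n - 8400) = n; omega] at this
  by_cases h8 : n < 10800
  · have := allLo_spec ok8 (i := n - 9600) (by omega); rwa [show Nat.add 9600 (n - 9600) = n from by show 9600 + (n - 9600) = n; omega] at this
  by_cases h9 : n < 12000
  · have := allLo_spec ok9 (i := n - 10800) (by omega); rwa [show Nat.add 10800 (n - 10800) = n from by show 10800 + (n - 10800) = n; omega] at this
  by_cases h10 : n < 13200
  · have := allLo_spec ok10 (i := n - 12000) (by omega); rwa [show Nat.add 12000 (n - 12000) = n from by show 12000 + (n - 12000) = n; omega] at this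
  by_cases h11 : n < 14400
  · have := allLo_spec ok11 (i := n - 13200) (by omega); rwa [show Nat.add 13200 (n - 13200) = n from by show 13200 + (n - 13200) = n; omega] at this
  by_cases h12 : n < 15600
  · have := allLo_spec ok12 (i := n - 14400) (by omega); rwa [show Nat.add 14400 (n - 14400) = n from by show 14400 + (n - 14400) = n; omega] at this
  by_cases h13 : n < 16800
  · have := allLo_spec ok13 (i := n - 15600) (by omega); rwa [show Nat.add 15600 (n - 15600) = n from by show 15600 + (n - 15600) = n; omega] at this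
  by_cases h14 : n < 18000
  · have := allLo_spec ok14 (i := n - 16800) (by omega); rwa [show Nat.add 16800 (n - 16800) = n from by show 16800 + (n - 16800) = n; omega] at this
  by_cases h15 : n < 19200
  · have := allLo_spec ok15 (i := n - 18000) (by omega); rwa [show Nat.add 18000 (n - 18000) = n from by show 18000 + (n - 18000) = n; omega] at this
  by_cases h16 : n < 20400
  · have := allLo_spec ok16 (i := n - 19200) (by omega); rwa [show Nat.add 19200 (n - 19200) = n from by show 19200 + (n - 19200) = n; omega] at this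
  by_cases h17 : n < 21600
  · have := allLo_spec ok17 (i := n - 20400) (by omega); rwa [show Nat.add 20400 (n - 20400) = n from by show 20400 + (n - 20400) = n; omega] at this
  have := allLo_spec ok18 (i := n - 21600) (by omega); rwa [show Nat.add 21600 (n - 21600) = n from by show 21600 + (n - 21600) = n; omega] at this

theorem fin_ok : TC.okFin cert numFacts = true := by decide +kernel

theorem wtrace0 : TC.okTrace cert numFacts [0, 1, 1, 0, 2, 0, 2, 0, 1, 1, 0, 2, 2, 0, 1, 0, 1, 0, 2, 2, 0, 1, 1, 0, 2, 0, 2, 0, 1, 1, 0, 2, 2, 0, 1, 0, 1, 0, 2, 2, 0, 1, 1, 0, 2, 0, 2, 0, 1, 1, 0, 2, 2, 0, 1, 0, 1, 0, 2, 2] wpath0 = true := by decide +kernel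

theorem wtrace1 : TC.okTrace cert numFacts [] wpath1 = true := by decide +kernel

theorem wtrace2 : TC.okTrace cert numFacts [1, 1, 0, 2, 0, 2, 0, 1, 1, 0, 2, 2, 0, 1, 0, 1, 0, 2, 2, 0, 2, 0, 1, 1, 0, 2, 0, 2, 0, 1, 1, 0, 2, 2, 0, 1, 0, 1, 0, 2] wpath2 = true := by decide +kernel

theorem wtrace3 : TC.okTrace cert numFacts [1, 1, 0, 2, 0, 2, 0, 1, 1, 0, 2, 2, 0, 1, 0, 1, 0, 2, 2, 0, 1, 0, 1, 0, 1, 1, 0, 2, 0, 1, 0, 1, 0, 1, 1, 0, 2, 0, 1, 0, 1, 0, 1, 1, 0, 2, 0, 1, 0, 1, 0, 1, 1, 0, 2, 0, 1, 0, 1, 0, 1, 1, 0, 2, 0, 1, 0, 1, 0, 1, 1, 0, 2, 0, 1, 0, 1, 0, 1, 1, 0, 2, 0] wpath3 = true := by decide +kernel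

end Cfsg.Agent.HN.KTable
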