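import Mathlib.Init

/-! The words traced in the coset table of the group of x and y. -/

set_option autoImplicit false

namespace Cfsg.Agent.HN.KWords

noncomputable section

/-- a word -/
def w0 : List Nat := [0, 1, 1, 0, 2, 0, 2, 0, 1, 1, 0, 2, 2, 0, 1, 0, 1, 0, 2, 2, 0, 1, 1, 0, 2, 0, 2, 0, 1, 1, 0, 2, 2, 0, 1, 0, 1, 0, 2, 2, 0, 1, 1, 0, 2, 0, 2, 0, 1, 1, 0, 2, 2, 0, 1, 0, 1, 0, 2, 2]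

/-- a word -/
def w1 : List Nat := []

/-- a word -/
def w2 : List Nat := [1, 1, 0, 2, 0, 2, 0, 1, 1, 0, 2, 2, 0, 1, 0, 1, 0, 2, 2, 0, 2, 0, 1, 1, 0, 2, 0, 2, 0, 1, 1, 0, 2, 2, 0, 1, 0, 1, 0, 2]

/-- a word -/
def w3 : List Nat := [1, 1, 0, 2, 0, 2, 0, 1, 1, 0, 2, 2, 0, 1, 0, 1, 0, 2, 2, 0, 1, 0, 1, 0, 1, 1, 0, 2, 0, 1, 0, 1, 0, 1, 1, 0, 2, 0, 1, 0, 1, 0, 1, 1, 0, 2, 0, 1, 0, 1, 0, 1, 1, 0, 2, 0, 1, 0, 1, 0, 1, 1, 0, 2, 0, 1, 0, 1, 0, 1, 1, 0, 2, 0, 1, 0, 1, 0, 1, 1, 0, 2, 0]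

end

end Cfsg.Agent.HN.KWords
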