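import Cfsg.Agent.Lib.HN.HBase
import Cfsg.Agent.Lib.HN.SubRelCheck
import Cfsg.Agent.Lib.HN.SOneTwentyCheck
import Cfsg.Agent.Lib.HN.KTableCheck
import Cfsg.Agent.Lib.HN.KThreeCheck
import Cfsg.Agent.Lib.HN.HCosetsCheck
import Cfsg.Agent.Lib.HN.KWords
import Mathlib.Data.Fin.VecNotation
import Mathlib.GroupTheory.OrderOfElement
import Mathlib.Data.ZMod.QuotientGroup

/-!
The group presented by `x, y, z` has order 177408000 and acts faithfully on 1408 points.
-/

set_option autoImplicit false
set_option maxRecDepth 100000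

namespace Cfsg.Agent.HN

noncomputable section

theorem big_ok : big.ok = true := by decide +kernel

theorem big_rels : big.fixAll (relF.map to5) = true := by decide +kernel

theorem small_ok : small.ok = true := by decide +kernel

theorem small_rels : small.fixAll ([0, 0] :: relF.map toQW) = true := by decide +kernel

theorem chain_ok : chainOK big [] bigChain = true := by decide +kernel

theorem chain_size : chainSize bigChain = 177408000 := by decide +kernel

/-! ### The two permutation representations -/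

/-- The images of `x, y, z` on 1408 points. -/
def repGen : Fin 3 → Equiv.Perm (Fin big.n) :=
  ![big.sig big_ok 0, big.sig big_ok 2, big.sig big_ok 4]

theorem big_sig_inv (l : ℕ) : big.sig big_ok (iv5 l) = (big.sig big_ok l)⁻¹ := by
  rcases Nat.lt_or_ge l 5 with h | h
  · exact sig_inv big_ok h
  · have : iv5 l = l := by
      obtain ⟨m, rfl⟩ : ∃ m, l = m + 5 := ⟨l - 5, by omega⟩
      simp [iv5]
    rw [this, PModel.sig, dif_neg (by simp [big]; omega), inv_one]

theorem lift_fgen6 (w : List ℕ) :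
    FreeGroup.lift repGen (wv fgen6 w) = wv (big.sig big_ok) (to5 w) := by
  induction w with
  | nil => exact map_one _
  | cons l w ih =>
    rw [wv_cons, map_mul, ih]
    show _ = big.sig big_ok _ * wv (big.sig big_ok) (to5 w)
    congr 1
    match l with
    | 0 => simp [fgen6, repGen]; rfl
    | 1 => simp [fgen6, repGen]; exact (big_sig_inv 0).symm
    | 2 => simp [fgen6, repGen]; rfl
    | 3 => simp [fgen6, repGen]; exact (big_sig_inv 2).symm
    | 4 => simp [fgen6, repGen]; rfl
    | 5 => simp [fgen6, repGen]; exact (big_sig_inv 4).symm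
    | l + 6 =>
      have h : (fun l => Bool.rec (motive := fun _ => ℕ) l 4 (Nat.beq l 5)) (l + 6) = l + 6 := rfl
      simp only [h]
      rw [PModel.sig, dif_neg (by simp [big])]
      simp [fgen6]

/-- The action on 1408 points. -/
def rep : H0 →* Equiv.Perm (Fin big.n) :=
  PresentedGroup.toGroup (f := repGen) (by
    rintro r ⟨w, hw, rfl⟩
    rw [lift_fgen6]
    exact wv_sig_eq_one big_ok big_rels (List.mem_map.2 ⟨w, hw, rfl⟩))

theorem rep_g5 (l : ℕ) : rep (g5 l) = big.sig big_ok l := by
  match l with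
  | 0 => simp [g5, hx, rep, repGen]
  | 1 => rw [show g5 1 = (g5 0)⁻¹ from rfl, map_inv, rep_g5 0]; exact (big_sig_inv 0).symm
  | 2 => simp [g5, hy, rep, repGen]
  | 3 => rw [show g5 3 = (g5 2)⁻¹ from rfl, map_inv, rep_g5 2]; exact (big_sig_inv 2).symm
  | 4 => simp [g5, hz, rep, repGen]
  | l + 5 =>
    rw [PModel.sig, dif_neg (by simp [big]), show g5 (l + 5) = 1 by simp [g5], map_one]

theorem rep_wv (w : List ℕ) : rep (wv g5 w) = wv (big.sig big_ok) w := by
  rw [map_wv]
  exact wv_congr _ fun l _ => rep_g5 l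

theorem range_ge : 177408000 ≤ Nat.card rep.range := by
  rw [← chain_size]
  refine chain_le big_ok bigChain [] chain_ok rep.range fun w _ _ => ?_
  exact ⟨wv g5 w, rep_wv w⟩

theorem small_sig_inv (l : ℕ) : small.sig small_ok (iv4 l) = (small.sig small_ok l)⁻¹ := by
  rcases Nat.lt_or_ge l 4 with h | h
  · exact sig_inv small_ok h
  · have : iv4 l = l := by
      obtain ⟨m, rfl⟩ : ∃ m, l = m + 4 := ⟨l - 4, by omega⟩
      simp [iv4]
    rw [this, PModel.sig, dif_neg (by simp [small]; omega), inv_one]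

/-- The images of `x, y, z` on 352 points. -/
def rep3Gen : Fin 3 → Equiv.Perm (Fin small.n) :=
  ![small.sig small_ok 0, small.sig small_ok 1, small.sig small_ok 3]

theorem lift3_fgen6 (w : List ℕ) :
    FreeGroup.lift rep3Gen (wv fgen6 w) = wv (small.sig small_ok) (toQW w) := by
  induction w with
  | nil => exact map_one _
  | cons l w ih =>
    rw [wv_cons, map_mul, ih]
    show _ = small.sig small_ok _ * wv (small.sig small_ok) (toQW w)
    congr 1
    match l with
    | 0 => simp [fgen6, rep3Gen]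
    | 1 => simp [fgen6, rep3Gen]; exact (small_sig_inv 0).symm
    | 2 => simp [fgen6, rep3Gen]
    | 3 => simp [fgen6, rep3Gen]; exact (small_sig_inv 1).symm
    | 4 => simp [fgen6, rep3Gen]
    | 5 => simp [fgen6, rep3Gen]; exact (small_sig_inv 3).symm
    | l + 6 =>
      have h : ([0, 0, 1, 2, 3, 3] : List ℕ).getD (l + 6) 4 = 4 := by simp
      simp only [h]
      rw [PModel.sig, dif_neg (by simp [small])]
      simp [fgen6]

/-- The action on 352 points, before passing to the quotient. -/
def rep3 : H0 →* Equiv.Perm (Fin small.n) :=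
  PresentedGroup.toGroup (f := rep3Gen) (by
    rintro r ⟨w, hw, rfl⟩
    rw [lift3_fgen6]
    exact wv_sig_eq_one small_ok small_rels (List.mem_cons_of_mem _ (List.mem_map.2 ⟨w, hw, rfl⟩)))

/-- The action of the quotient on 352 points. -/
def repQ : Q →* Equiv.Perm (Fin small.n) :=
  QuotientGroup.lift Zs rep3 (by
    rw [Zs, Subgroup.zpowers_le, MonoidHom.mem_ker, map_pow]
    have := wv_sig_eq_one small_ok small_rels (w := [0, 0]) List.mem_cons_self
    simpa [sq, rep3, hx, rep3Gen, wv] using this)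

theorem repQ_gQ (l : ℕ) : repQ (gQ l) = small.sig small_ok l := by
  match l with
  | 0 => simp [gQ, repQ, toQ, rep3, hx, rep3Gen]
  | 1 => simp [gQ, repQ, toQ, rep3, hy, rep3Gen]
  | 2 => rw [show gQ 2 = (gQ 1)⁻¹ from rfl, map_inv, repQ_gQ 1]; exact (small_sig_inv 1).symm
  | 3 => simp [gQ, repQ, toQ, rep3, hz, rep3Gen]
  | l + 4 => rw [PModel.sig, dif_neg (by simp [small]), show gQ (l + 4) = 1 by simp [gQ], map_one]

theorem repQ_wv (w : List ℕ) : repQ (wv gQ w) = wv (small.sig small_ok) w := by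
  rw [map_wv]
  exact wv_congr _ fun l _ => repQ_gQ l

/-! ### The subgroup of order at most 120 -/

/-- The two elements and their inverses, as words. -/
def blk (l : ℕ) : List ℕ := [q_u, winv iv4 q_u, q_v, winv iv4 q_v].getD l []

/-- The two elements and their inverses. -/
def gS (l : ℕ) : Q := wv gQ (blk l)

/-- A word in the two elements, written out. -/
def expand (w : List ℕ) : List ℕ := w.flatMap blk

theorem wv_expand (w : List ℕ) : wv gQ (expand w) = wv gS w := by
  induction w with
  | nil => rfl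
  | cons l w ih => rw [expand, List.flatMap_cons, wv_append, ← expand, ih]; rfl

theorem gS_inv (l : ℕ) : gS (SOneTwenty.cert.iv l) = (gS l)⁻¹ := by
  match l with
  | 0 | 2 => exact wv_winv gQ gQ_inv _
  | 1 | 3 => simp [gS, blk, SOneTwenty.cert, SOneTwenty.ivl, wv_winv gQ gQ_inv]
  | _ + 4 => simp [gS, blk, wv, SOneTwenty.cert, SOneTwenty.ivl]

theorem subRel_rules : TC.Rules SubRel.cert gQ ⊥ where
  inv l := by
    rw [← gQ_inv]
    congr 1
    match l with
    | 0 | 1 | 2 | 3 => rfl
    | _ + 4 => simp [SubRel.cert, SubRel.ivl, iv4]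
  rel r hr := by
    have hc : (SubRel.cert.rels.all fun r => derivedFrom iv4 relQ r) = true := by decide +kernel
    exact derivedFrom_spec gQ_inv relQ_spec (List.all_eq_true.1 hc r hr)
  sub s hs := by simp [SubRel.cert] at hs

/-- The relations proved between the two elements. -/
def extraQ : List (List ℕ) :=
  [[1, 1, 1, 1, 1, 1], [2, 0, 2, 2, 2, 2, 2, 2, 0, 1],
    [2, 0, 1, 0, 1, 1, 1, 0, 1, 0, 1, 1, 1, 0, 1, 0, 2, 2, 2, 0, 1, 0, 2, 2],
    [1, 1, 0, 1, 1, 0, 1, 1, 1, 0, 1, 1, 0, 2, 2, 2, 0, 1, 1, 0, 1]]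

theorem extraQ_spec : ∀ r ∈ extraQ, wv gQ r = 1 := by
  intro r hr
  have hG := TC.all_good subRel_rules SubRel.ok_all
  have h0 := Subgroup.mem_bot.1 (TC.trace_mem subRel_rules hG SubRel.trace0)
  have h1 := Subgroup.mem_bot.1 (TC.trace_mem subRel_rules hG SubRel.trace1)
  have h2 := Subgroup.mem_bot.1 (TC.trace_mem subRel_rules hG SubRel.trace2)
  have h3 := Subgroup.mem_bot.1 (TC.trace_mem subRel_rules hG SubRel.trace3)
  simp only [extraQ, List.mem_cons, List.not_mem_nil, or_false] at hr
  rcases hr with rfl | rfl | rfl | rfl <;> assumption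

/-- All relations at hand in the quotient. -/
def relQ' : List (List ℕ) := relQ ++ extraQ

theorem relQ'_spec : ∀ r ∈ relQ', wv gQ r = 1 := fun r hr =>
  (List.mem_append.1 hr).elim (relQ_spec r) (extraQ_spec r)

theorem s120_rules : TC.Rules SOneTwenty.cert gS ⊥ where
  inv := gS_inv
  rel r hr := by
    have hc : (SOneTwenty.cert.rels.all fun r => derivedFrom iv4 relQ' (expand r)) = true := by
      decide +kernel
    rw [← wv_expand]
    exact derivedFrom_spec gQ_inv relQ'_spec (List.all_eq_true.1 hc r hr)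
  sub s hs := by simp [SOneTwenty.cert] at hs

/-- The subgroup generated by the two elements. -/
def S120 : Subgroup Q := Subgroup.closure (gS '' {l | l < SOneTwenty.cert.k})

theorem S120_card : Finite S120 ∧ Nat.card S120 ≤ 120 :=
  TC.card_le s120_rules (TC.all_good s120_rules SOneTwenty.ok_all) SOneTwenty.fin_ok (m := 1) (by simp)

theorem sWords_check : (sWords.all fun w => letOK 4 w && letOK 4 (expand w)) = true ∧
    (sBase.all fun q => Nat.blt q 352) = true ∧
    (sWords.map fun w => sBase.map (small.actW (expand w))).Nodup ∧ sWords.length = 120 := by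
  decide +kernel

theorem repQ_injOn {a : Q} (ha : a ∈ S120) (h : repQ a = 1) : a = 1 := by
  obtain ⟨hfin, hcard⟩ := S120_card
  obtain ⟨h1, h2, h3, h4⟩ := sWords_check
  simp only [List.all_eq_true, Bool.and_eq_true, Nat.blt_eq] at h1 h2
  let f : S120 →* Equiv.Perm (Fin small.n) := repQ.comp S120.subtype
  let el : Fin sWords.length → S120 := fun i => ⟨wv gS sWords[i], wv_mem _ fun l hl =>
    Subgroup.subset_closure ⟨l, letOK_spec (h1 _ (List.getElem_mem i.2)).1 l hl, rfl⟩⟩
  have hinj : Function.Injective fun i => f (el i) := by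
    intro i j e
    change repQ (wv gS sWords[i]) = repQ (wv gS sWords[j]) at e
    rw [← wv_expand, ← wv_expand, repQ_wv, repQ_wv] at e
    refine Fin.ext ((h3.getElem_inj_iff (hi := by simp) (hj := by simp)).1 ?_)
    simp only [List.getElem_map]
    refine List.map_congr_left fun q hq => ?_
    have hi := wv_sig_inv_apply small_ok (expand sWords[i]) (letOK_spec (h1 _ (List.getElem_mem i.2)).2)
      ⟨q, h2 q hq⟩
    have hj := wv_sig_inv_apply small_ok (expand sWords[j]) (letOK_spec (h1 _ (List.getElem_mem j.2)).2)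
      ⟨q, h2 q hq⟩
    rw [e, hj] at hi
    exact hi.symm
  have hel : Function.Bijective el := by
    have hi : Function.Injective el := fun i j e => hinj (congrArg f e)
    refine (Nat.bijective_iff_injective_and_card el).2 ⟨hi, le_antisymm ?_ ?_⟩
    · exact Nat.card_le_card_of_injective el hi
    · rw [Nat.card_fin, h4]; exact hcard
  obtain ⟨i, hi⟩ := hel.2 ⟨a, ha⟩
  obtain ⟨j, hj⟩ := hel.2 1
  have : f (el i) = f (el j) := by rw [hi, hj, map_one]; exact h
  rw [hinj this, hj] at hi
  exact (congrArg Subtype.val hi).symm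

/-! ### The extra relation -/

theorem gS_mem (l : ℕ) (hl : l < 4) : gS l ∈ S120 := Subgroup.subset_closure ⟨l, hl, rfl⟩

theorem ktable_rules : TC.Rules KTable.cert gQ S120 where
  inv l := by
    rw [← gQ_inv]
    congr 1
    match l with
    | 0 | 1 | 2 => rfl
    | 3 => rfl
    | _ + 4 => simp [KTable.cert, KTable.ivl, iv4]
  rel r hr := by
    have hc : (KTable.cert.rels.all fun r => derivedFrom iv4 relQ' r) = true := by decide +kernel
    exact derivedFrom_spec gQ_inv relQ'_spec (List.all_eq_true.1 hc r hr)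
  sub s hs := by
    have hc : (KTable.cert.subs.all fun s => eqW s (blk 0) || eqW s (blk 2)) = true := by decide +kernel
    rcases Bool.or_eq_true_iff.1 (List.all_eq_true.1 hc s hs) with h | h <;> rw [eq_of_eqW h]
    exacts [gS_mem 0 (by norm_num), gS_mem 2 (by norm_num)]

theorem kfix : small.fixAll [KWords.w0, KWords.w2, KWords.w3] = true := by decide +kernel

theorem eq_one_of_trace {w refs : List ℕ}
    (ht : TC.okTrace KTable.cert KTable.numFacts w refs = true)
    (hw : w ∈ [KWords.w0, KWords.w2, KWords.w3]) : wv gQ w = 1 := by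
  refine repQ_injOn (TC.trace_mem ktable_rules (TC.all_good ktable_rules KTable.ok_all) ht) ?_
  rw [repQ_wv]
  exact wv_sig_eq_one small_ok kfix hw

/-- The element that has to vanish. -/
def cQ : Q := wv gQ q_c0

theorem cQ_cube : cQ * cQ * cQ = 1 := by
  have h := eq_one_of_trace (w := KWords.w0) KTable.wtrace0 (by simp)
  have hc : sameW iv4 KWords.w0 (q_c0 ++ q_c0 ++ q_c0) = true := by decide +kernel
  rw [wv_of_sameW gQ gQ_inv hc, wv_append, wv_append] at h
  exact h

theorem cQ_x : gQ 0 * cQ * gQ 0 = cQ⁻¹ := by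
  have hc : sameW iv4 ([0] ++ q_c0 ++ [0]) (winv iv4 q_c0) = true := by decide +kernel
  have := wv_of_sameW gQ gQ_inv hc
  rw [wv_append, wv_append, wv_singleton, wv_winv gQ gQ_inv] at this
  exact this

theorem cQ_y : Commute cQ (gQ 1) := by
  have h := eq_one_of_trace (w := KWords.w2) KTable.wtrace2 (by simp)
  have hc : sameW iv4 KWords.w2 (winv iv4 q_c0 ++ [2] ++ q_c0 ++ [1]) = true := by decide +kernel
  rw [wv_of_sameW gQ gQ_inv hc, wv_append, wv_append, wv_append, wv_singleton, wv_singleton,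
    wv_winv gQ gQ_inv, show gQ 2 = (gQ 1)⁻¹ from rfl] at h
  show cQ * gQ 1 = gQ 1 * cQ
  have h' : cQ⁻¹ * (gQ 1)⁻¹ * cQ * gQ 1 = 1 := h
  calc cQ * gQ 1 = gQ 1 * cQ * (cQ⁻¹ * (gQ 1)⁻¹ * cQ * gQ 1) := by group
    _ = _ := by rw [h', mul_one]

theorem cQ_eq : cQ = wv gQ q_cw := by
  have h := eq_one_of_trace (w := KWords.w3) KTable.wtrace3 (by simp)
  have hc : sameW iv4 KWords.w3 (winv iv4 q_c0 ++ q_cw) = true := by decide +kernel
  rw [wv_of_sameW gQ gQ_inv hc, wv_append, wv_winv gQ gQ_inv, inv_mul_eq_one] at h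
  exact h

theorem z_comm_w : Commute (gQ 3) (wv gQ q_w) := by
  have hm : (3 :: winv iv4 q_w ++ (3 :: q_w)) ∈ relQ.map (fred iv4) := by decide +kernel
  obtain ⟨r, hr, he⟩ := List.mem_map.1 hm
  have h : wv gQ (3 :: winv iv4 q_w ++ (3 :: q_w)) = 1 := by
    rw [← he, wv_fred gQ gQ_inv, relQ_spec r hr]
  rw [wv_append, wv_cons, wv_cons, wv_winv gQ gQ_inv] at h
  have hz : gQ 3 * gQ 3 = 1 := by
    rw [← mul_inv_cancel (gQ 3)]
    exact congrArg (gQ 3 * ·) (gQ_inv 3)
  show gQ 3 * wv gQ q_w = wv gQ q_w * gQ 3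
  have hz' : (gQ 3)⁻¹ = gQ 3 := inv_eq_of_mul_eq_one_right hz
  calc gQ 3 * wv gQ q_w = wv gQ q_w * (gQ 3)⁻¹ * (gQ 3 * (wv gQ q_w)⁻¹ * (gQ 3 * wv gQ q_w)) := by group
    _ = _ := by rw [h, mul_one, hz']

theorem z_comm_c : Commute (gQ 3) cQ := by
  have hx : Commute (gQ 3) (gQ 0) := by
    have h := relQ_spec [3, 0, 3, 0] (by decide +kernel)
    simp only [wv, mul_one] at h
    show gQ 3 * gQ 0 = gQ 0 * gQ 3
    have h0 : (gQ 0)⁻¹ = gQ 0 := (gQ_inv 0).symm
    have h3 : (gQ 3)⁻¹ = gQ 3 := (gQ_inv 3).symm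
    calc gQ 3 * gQ 0 = (gQ 3 * (gQ 0 * (gQ 3 * gQ 0))) * ((gQ 0)⁻¹ * (gQ 3)⁻¹) := by group
      _ = _ := by rw [h, one_mul, h0, h3]
  rw [cQ_eq]
  have hcw : q_cw = fred iv4 (([0] ++ q_w) ++ ([0] ++ q_w) ++ ([0] ++ q_w) ++ ([0] ++ q_w) ++
      ([0] ++ q_w) ++ ([0] ++ q_w) ++ ([0] ++ q_w)) ∨ q_cw = fred iv4 ((q_w ++ [0]) ++ (q_w ++ [0]) ++
      (q_w ++ [0]) ++ (q_w ++ [0]) ++ (q_w ++ [0]) ++ (q_w ++ [0]) ++ (q_w ++ [0])) := by decide +kernel
  have hA : Commute (gQ 3) (wv gQ ([0] ++ q_w)) := by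
    rw [wv_append, wv_singleton]; exact hx.mul_right z_comm_w
  have hB : Commute (gQ 3) (wv gQ (q_w ++ [0])) := by
    rw [wv_append, wv_singleton]; exact z_comm_w.mul_right hx
  rcases hcw with h | h <;> rw [h, wv_fred gQ gQ_inv] <;> simp only [wv_append _ (_ ++ _) (_ ++ _)]
  · exact ((((((hA.mul_right hA).mul_right hA).mul_right hA).mul_right hA).mul_right hA).mul_right hA)
  · exact ((((((hB.mul_right hB).mul_right hB).mul_right hB).mul_right hB).mul_right hB).mul_right hB)

/-- The relation forced by the last relator. -/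
theorem cQ_one : cQ = 1 := by
  set x := gQ 0
  set z := gQ 3
  set p := wv gQ q_p with hp
  have hx2 : x * x = 1 := qx_sq
  have hx1 : x * cQ = cQ⁻¹ * x := by
    calc x * cQ = (x * cQ * x) * x := by rw [mul_assoc, hx2, mul_one]
      _ = _ := by rw [cQ_x]
  have hx1' : x * cQ⁻¹ = cQ * x := by
    calc x * cQ⁻¹ = x * (x * cQ * x) := by rw [cQ_x]
      _ = _ := by rw [← mul_assoc, ← mul_assoc, hx2, one_mul]
  have hy := cQ_y
  have hpc : Commute cQ p := by
    have e : p = gQ 1 * gQ 1 * gQ 1 * (x * (gQ 1 * x)) * gQ 1 := by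
      rw [hp]; simp [q_p, wv, x, mul_assoc]
    have hxyx : Commute cQ (x * (gQ 1 * x)) := by
      show cQ * (x * (gQ 1 * x)) = x * (gQ 1 * x) * cQ
      rw [← mul_assoc, ← hx1', mul_assoc, ← mul_assoc cQ⁻¹, hy.inv_left.eq, mul_assoc, ← hx1,
        ← mul_assoc, ← mul_assoc, ← mul_assoc]
    rw [e]
    exact (((hy.mul_right hy).mul_right hy).mul_right hxyx).mul_right hy
  set u := p⁻¹ * z * p with hu
  have huc : Commute cQ u := (hpc.inv_right.mul_right z_comm_c.symm).mul_right hpc
  have hz : Commute cQ z := z_comm_c.symm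
  have hrel : z * (u * x * (u * x) * (u * x)) = 1 := by
    have hm : fred iv4 (3 :: ((winv iv4 q_p ++ [3] ++ q_p ++ [0]) ++ (winv iv4 q_p ++ [3] ++ q_p ++ [0]) ++
        (winv iv4 q_p ++ [3] ++ q_p ++ [0]))) ∈ relQ.map (fred iv4) := by decide +kernel
    obtain ⟨r, hr, he⟩ := List.mem_map.1 hm
    have h := congrArg (wv gQ) he
    rw [wv_fred gQ gQ_inv, wv_fred gQ gQ_inv, relQ_spec r hr] at h
    simp only [wv_cons, wv_append, wv_winv gQ gQ_inv, wv_nil, mul_one] at h
    rw [hu]
    exact h.symm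
  have hux : (u * x) * cQ = cQ⁻¹ * (u * x) := by
    rw [mul_assoc, hx1, ← mul_assoc, ← huc.inv_left.eq, mul_assoc]
  have hux' : (u * x) * cQ⁻¹ = cQ * (u * x) := by
    rw [mul_assoc, hx1', ← mul_assoc, ← huc.eq, mul_assoc]
  have key : z * (u * x * (u * x) * (u * x)) * cQ = cQ⁻¹ * (z * (u * x * (u * x) * (u * x))) := by
    calc z * (u * x * (u * x) * (u * x)) * cQ = z * (u * x * ((u * x) * ((u * x) * cQ))) := by group
      _ = z * (u * x * (((u * x) * cQ⁻¹) * (u * x))) := by rw [hux]; group
      _ = z * (((u * x) * cQ) * ((u * x) * (u * x))) := by rw [hux']; group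
      _ = (z * cQ⁻¹) * ((u * x) * ((u * x) * (u * x))) := by rw [hux]; group
      _ = _ := by rw [← hz.inv_left.eq]; group
  rw [hrel, one_mul, mul_one] at key
  have h2 : cQ * cQ = 1 := by nth_rw 1 [key]; exact inv_mul_cancel cQ
  calc cQ = cQ * cQ * cQ := by rw [h2, one_mul]
    _ = 1 := cQ_cube

/-! ### The order -/

theorem c_rel : ∀ r ∈ q_c0 :: relQ', wv gQ r = 1 := by
  intro r hr
  rcases List.mem_cons.1 hr with rfl | hr
  · exact cQ_one
  · exact relQ'_spec r hr

theorem k3_rules : TC.Rules KThree.cert gQ S120 where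
  inv l := by
    rw [← gQ_inv]
    congr 1
    match l with
    | 0 | 1 | 2 | 3 => rfl
    | _ + 4 => simp [KThree.cert, KThree.ivl, iv4]
  rel r hr := by
    have hc : (KThree.cert.rels.all fun r => derivedFrom iv4 (q_c0 :: relQ') r) = true := by decide +kernel
    exact derivedFrom_spec gQ_inv c_rel (List.all_eq_true.1 hc r hr)
  sub s hs := by
    have hc : (KThree.cert.subs.all fun s => eqW s (blk 0) || eqW s (blk 2)) = true := by decide +kernel
    rcases Bool.or_eq_true_iff.1 (List.all_eq_true.1 hc s hs) with h | h <;> rw [eq_of_eqW h]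
    exacts [gS_mem 0 (by norm_num), gS_mem 2 (by norm_num)]

/-- The subgroup generated by the images of `x` and `y`. -/
def KQ : Subgroup Q := Subgroup.closure (gQ '' {l | l < KThree.cert.k})

theorem KQ_card : Finite KQ ∧ Nat.card KQ ≤ 2100 * 120 :=
  have := S120_card.1
  TC.card_le k3_rules (TC.all_good k3_rules KThree.ok_all) KThree.fin_ok S120_card.2

theorem hcos_rules : TC.Rules HCosets.cert gQ KQ where
  inv l := by
    rw [← gQ_inv]
    congr 1
  rel r hr := by
    have hc : (HCosets.cert.rels.all fun r => derivedFrom iv4 (q_c0 :: relQ') r) = true := by decide +kernel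
    exact derivedFrom_spec gQ_inv c_rel (List.all_eq_true.1 hc r hr)
  sub s hs := by
    have hc : (HCosets.cert.subs.all fun s => s.all fun l => Nat.blt l 3) = true := by decide +kernel
    simp only [List.all_eq_true, Nat.blt_eq] at hc
    exact wv_mem _ fun l hl => Subgroup.subset_closure ⟨l, hc s hs l hl, rfl⟩

theorem Q_card : Finite Q ∧ Nat.card Q ≤ 88704000 := by
  have := KQ_card.1
  have h := TC.card_le hcos_rules (TC.all_good hcos_rules HCosets.ok_all) HCosets.fin_ok KQ_card.2
  have htop : Subgroup.closure (gQ '' {l | l < HCosets.cert.k}) = ⊤ := by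
    rw [eq_top_iff, ← Subgroup.map_top_of_surjective toQ (QuotientGroup.mk'_surjective Zs), ← closure_top,
      MonoidHom.map_closure, Subgroup.closure_le]
    rintro _ ⟨a, ha, rfl⟩
    rcases ha with rfl | rfl | rfl
    · exact Subgroup.subset_closure ⟨0, by decide +kernel, rfl⟩
    · exact Subgroup.subset_closure ⟨1, by decide +kernel, rfl⟩
    · exact Subgroup.subset_closure ⟨3, by decide +kernel, rfl⟩
  rw [htop] at h
  have := h.1
  refine ⟨Finite.of_equiv _ Subgroup.topEquiv.toEquiv, ?_⟩
  rw [← Nat.card_congr (Subgroup.topEquiv (G := Q)).toEquiv]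
  exact h.2.trans (by decide +kernel)

instance H0_finite : Finite H0 := by
  have hQ : Finite (H0 ⧸ Zs) := Q_card.1
  have hZ : Finite Zs := by
    have : IsOfFinOrder (hx ^ 2) := isOfFinOrder_iff_pow_eq_one.2 ⟨2, by norm_num, by
      rw [← pow_mul]; exact hx_pow_four⟩
    exact this.finite_zpowers.to_subtype
  exact Finite.of_equiv _ (Subgroup.groupEquivQuotientProdSubgroup (s := Zs)).symm

theorem card_H0_le : Nat.card H0 ≤ 177408000 := by
  have hz : Nat.card Zs ≤ 2 := by
    rw [Zs, Nat.card_zpowers]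
    refine orderOf_le_of_pow_eq_one (by norm_num) ?_
    rw [← pow_mul]
    exact hx_pow_four
  calc Nat.card H0 = Nat.card Q * Nat.card Zs := Subgroup.card_eq_card_quotient_mul_card_subgroup _
    _ ≤ 88704000 * 2 := Nat.mul_le_mul Q_card.2 hz
    _ = _ := by norm_num

/-- **The action on 1408 points is faithful.** -/
theorem rep_injective : Function.Injective rep := by
  have h : Nat.card rep.range = Nat.card H0 :=
    le_antisymm (Nat.card_le_card_of_surjective _ rep.rangeRestrict_surjective) (card_H0_le.trans range_ge)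
  exact MonoidHom.rangeRestrict_injective_iff.1
    (((Nat.bijective_iff_surjective_and_card rep.rangeRestrict).2
      ⟨rep.rangeRestrict_surjective, h.symm⟩).1)

/-- **The group has order 177408000.** -/
theorem card_H0 : Nat.card H0 = 177408000 :=
  le_antisymm card_H0_le (range_ge.trans (Nat.card_le_card_of_surjective _ rep.rangeRestrict_surjective))

theorem chain_pts : bigChain.map Level.pt = base6 := by decide +kernel

theorem fix_trivial {a : H0} (h : rep a ∈ fixPts big bigChain) : a = 1 := by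
  apply rep_injective
  rw [map_one]
  have hle := chain_le' big_ok bigChain [] chain_ok rep.range fun w _ _ => ⟨wv g5 w, rep_wv w⟩
  rw [chain_size] at hle
  have hr : Nat.card rep.range ≤ 177408000 :=
    (Nat.card_le_card_of_surjective _ rep.rangeRestrict_surjective).trans card_H0_le
  have h1 : Nat.card (rep.range ⊓ fixPts big bigChain : Subgroup _) = 1 := by
    refine le_antisymm ?_ Nat.card_pos
    by_contra hlt
    push Not at hlt
    have := Nat.mul_le_mul_left 177408000 (Nat.succ_le_of_lt hlt)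
    omega
  rw [Subgroup.card_eq_one] at h1
  have : rep a ∈ (rep.range ⊓ fixPts big bigChain : Subgroup _) := ⟨⟨a, rfl⟩, h⟩
  rwa [h1, Subgroup.mem_bot] at this

/-- **Words are equal when they move the base points alike.** -/
theorem eq_of_eqOn {u v : List ℕ} (h : big.eqOn base6 u v = true) : wv g5 u = wv g5 v := by
  simp only [PModel.eqOn, Bool.and_eq_true, List.all_eq_true, Nat.blt_eq, Nat.beq_eq] at h
  obtain ⟨⟨hu, hv⟩, hb⟩ := h
  have hu : ∀ l ∈ u, l < big.k := letOK_spec hu
  have hv : ∀ l ∈ v, l < big.k := letOK_spec hv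
  have key : wv g5 v * (wv g5 u)⁻¹ = 1 := fix_trivial (fun q hq => ?_)
  · exact (eq_of_mul_inv_eq_one key).symm
  rw [chain_pts] at hq
  rw [map_mul, map_inv, rep_wv, rep_wv]
  have h1 := wv_sig_inv_apply big_ok u hu q
  have h2 := wv_sig_inv_apply big_ok v hv q
  have e : (wv (big.sig big_ok) u)⁻¹ q = (wv (big.sig big_ok) v)⁻¹ q :=
    Fin.ext (by rw [h1, h2]; exact (hb q.1 hq).2)
  rw [Equiv.Perm.mul_apply, e]
  simp

end

end Cfsg.Agent.HN
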