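import Cfsg.Agent.Lib.HN.HundredData
import Cfsg.Agent.Lib.SporPerm.HSModel
import Mathlib.GroupTheory.Perm.Sign

/-! The map of the group of `x, y, z` onto permutations of 100 points, with the permutation model of HS in
its image. -/

set_option autoImplicit false
set_option maxRecDepth 100000
set_option Elab.async false

namespace Cfsg.Agent.HN

open Cfsg.Agent.PermCert Cfsg.Agent.SporPerm

noncomputable section

theorem hund_ok : hund.ok = true := by decide +kernel

theorem hund_rels : hund.fixAll ([0, 0] :: relF.map to5) = true := by decide +kernel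

/-- The images of `x, y, z` on 100 points. -/
def hundGen : Fin 3 → Equiv.Perm (Fin hund.n) :=
  ![hund.sig hund_ok 0, hund.sig hund_ok 2, hund.sig hund_ok 4]

theorem hund_sig_inv (l : ℕ) : hund.sig hund_ok (iv5 l) = (hund.sig hund_ok l)⁻¹ := by
  rcases Nat.lt_or_ge l 5 with h | h
  · exact sig_inv hund_ok h
  · have : iv5 l = l := by
      obtain ⟨m, rfl⟩ : ∃ m, l = m + 5 := ⟨l - 5, by omega⟩
      simp [iv5]
    rw [this, PModel.sig, dif_neg (by simp; omega), inv_one]

theorem hund_lift (w : List ℕ) :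
    FreeGroup.lift hundGen (wv fgen6 w) = wv (hund.sig hund_ok) (to5 w) := by
  induction w with
  | nil => exact map_one _
  | cons l w ih =>
    rw [wv_cons, map_mul, ih]
    show _ = hund.sig hund_ok _ * wv (hund.sig hund_ok) (to5 w)
    congr 1
    match l with
    | 0 => simp [fgen6, hundGen]; rfl
    | 1 => simp [fgen6, hundGen]; exact (hund_sig_inv 0).symm
    | 2 => simp [fgen6, hundGen]; rfl
    | 3 => simp [fgen6, hundGen]; exact (hund_sig_inv 2).symm
    | 4 => simp [fgen6, hundGen]; rfl
    | 5 => simp [fgen6, hundGen]; exact (hund_sig_inv 4).symm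
    | l + 6 =>
      have h : (fun l => Bool.rec (motive := fun _ => ℕ) l 4 (Nat.beq l 5)) (l + 6) = l + 6 := rfl
      simp only [h]
      rw [PModel.sig, dif_neg (by simp)]
      simp [fgen6]

/-- The action on 100 points. -/
def rep100 : H0 →* Equiv.Perm (Fin 100) :=
  PresentedGroup.toGroup (f := hundGen) (by
    rintro r ⟨w, hw, rfl⟩
    rw [hund_lift]
    exact wv_sig_eq_one hund_ok hund_rels (List.mem_cons_of_mem _ (List.mem_map.2 ⟨w, hw, rfl⟩)))

theorem rep100_g5 (l : ℕ) : rep100 (g5 l) = hund.sig hund_ok l := by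
  match l with
  | 0 => simp [g5, hx, rep100, hundGen]
  | 1 => rw [show g5 1 = (g5 0)⁻¹ from rfl, map_inv, rep100_g5 0]; exact (hund_sig_inv 0).symm
  | 2 => simp [g5, hy, rep100, hundGen]
  | 3 => rw [show g5 3 = (g5 2)⁻¹ from rfl, map_inv, rep100_g5 2]; exact (hund_sig_inv 2).symm
  | 4 => simp [g5, hz, rep100, hundGen]
  | l + 5 =>
    rw [PModel.sig, dif_neg (by simp), show g5 (l + 5) = 1 by simp [g5], map_one]

theorem rep100_wv (w : List ℕ) : rep100 (wv g5 w) = wv (hund.sig hund_ok) w := by
  rw [map_wv]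
  exact wv_congr _ fun l _ => rep100_g5 l

/-- A word gives the coded permutation. -/
def isWord (w : List ℕ) (e : Elt) : Bool :=
  letOK 5 w && validElt 7 100 e && allLo (fun q => Nat.beq (hund.actW w q) (get 7 e.2 q)) 100

theorem rep100_toPerm {w : List ℕ} {e : Elt} (h : isWord w e = true) :
    rep100 (wv g5 w) = toPerm 7 100 e := by
  simp only [isWord, Bool.and_eq_true] at h
  obtain ⟨⟨hl, hv⟩, hall⟩ := h
  rw [rep100_wv, ← inv_inj]
  refine Equiv.ext fun q => Fin.ext ?_
  have e1 := allLo_spec hall q.2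
  rw [Nat.beq_eq] at e1
  exact ((wv_sig_inv_apply hund_ok w (letOK_spec hl) q).trans e1).trans (rep_toPerm hv q).2

theorem words_ok : hsGens.length = 2 ∧ isWord hundWord0 (hsGens.getD 0 (0, 0)) = true ∧
    isWord hundWord1 (hsGens.getD 1 (0, 0)) = true := by decide +kernel

theorem hs_le_range : genGroup 7 100 hsGens ≤ rep100.range := by
  rw [genGroup, Subgroup.closure_le]
  intro σ hσ
  obtain ⟨e, he, rfl⟩ := List.mem_map.1 hσ
  obtain ⟨hlen, h0, h1⟩ := words_ok
  obtain ⟨i, hi, rfl⟩ := List.mem_iff_getElem.1 he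
  rw [← List.getD_eq_getElem _ (0, 0) hi]
  have : i = 0 ∨ i = 1 := by omega
  rcases this with rfl | rfl
  exacts [⟨_, rep100_toPerm h0⟩, ⟨_, rep100_toPerm h1⟩]

theorem x_in_hs : rep100 hx ∈ genGroup 7 100 hsGens := by
  have h : isWord [0] hundX = true ∧ sift 7 100 hsLevels hundX.1 = true := by decide +kernel
  have e := rep100_toPerm h.1
  rw [wv_singleton] at e
  rw [show hx = g5 0 from rfl, e]
  refine cert_mem hs_cert ?_ h.2
  have := h.1
  simp only [isWord, Bool.and_eq_true] at this
  exact this.1.2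

theorem x_sq_trivial : rep100 (hx ^ 2) = 1 := by
  have h := wv_sig_eq_one hund_ok hund_rels (w := [0, 0]) List.mem_cons_self
  rw [← rep100_wv] at h
  rw [← h, sq]
  simp [wv, g5]

theorem z_swaps : rep100 hz = (hundSwaps.map fun p => Equiv.swap p.1 p.2).prod := by
  rw [show hz = g5 4 from rfl, rep100_g5]
  refine Equiv.ext fun q => Fin.ext ?_
  have h : allLo (fun q => Nat.beq (ap (hund.perm 4) q)
      (if h : q < 100 then ((hundSwaps.map fun p => Equiv.swap p.1 p.2).prod ⟨q, h⟩).1 else 0)) 100 = true := by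
    decide +kernel
  have e := allLo_spec h q.2
  rw [Nat.beq_eq, dif_pos (show q.1 < 100 from q.2)] at e
  rw [← e]
  have := sig_inv_apply hund_ok (l := 4) (by decide +kernel) q
  rwa [← hund_sig_inv 4] at this

theorem sign_z : Equiv.Perm.sign (rep100 hz) = -1 := by
  have hd : hundSwaps.all (fun p => decide (p.1 ≠ p.2)) = true ∧ hundSwaps.length = 35 := by decide +kernel
  rw [z_swaps, Equiv.Perm.sign_prod_list_swap, List.length_map, hd.2]
  · decide
  · intro g hg
    obtain ⟨p, hp, rfl⟩ := List.mem_map.1 hg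
    exact ⟨p.1, p.2, of_decide_eq_true (List.all_eq_true.1 hd.1 p hp), rfl⟩

end

end Cfsg.Agent.HN
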