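import Cfsg.Agent.Lib.HN.Deduce
import Cfsg.Prelude.Def_Spor_HN

/-!
The presented Harada–Norton group receives the group of `x, y, z` and satisfies the rules; conversely the rules
give a map out of the presented group.
-/

set_option autoImplicit false
set_option maxRecDepth 100000

namespace Cfsg.Agent.HN

open Cfsg.Spor

noncomputable section

/-- The presented group. -/
abbrev relHN : Set (FreeGroup Cfsg.Spor.HN.Gen) :=
  coxRelators Cfsg.Spor.HN.edges ∪ {r | r ∈ Cfsg.Spor.HN.extra}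

/-- The letters `x, x⁻¹, y, y⁻¹, z, z⁻¹` among the free generators of the presentation. -/
def fgenHN (l : ℕ) : FreeGroup Cfsg.Spor.HN.Gen :=
  [Cfsg.Spor.HN.x, Cfsg.Spor.HN.x⁻¹, Cfsg.Spor.HN.y, Cfsg.Spor.HN.y⁻¹, Cfsg.Spor.HN.z,
    Cfsg.Spor.HN.z⁻¹].getD l 1

theorem rels_without_t : ∀ w ∈ relF, wv fgenHN w ∈ Cfsg.Spor.HN.extra := by decide +kernel

theorem extra_split : Cfsg.Spor.HN.extra = relF.map (wv fgenHN) ++
    [Cfsg.Spor.HN.t ^ 5, (Cfsg.Spor.HN.x⁻¹ * Cfsg.Spor.HN.t * Cfsg.Spor.HN.x) * (Cfsg.Spor.HN.t ^ 2),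
      Cfsg.Spor.HN.t⁻¹ * Cfsg.Spor.HN.y⁻¹ * Cfsg.Spor.HN.t * Cfsg.Spor.HN.y,
      (Cfsg.Spor.HN.z * Cfsg.Spor.HN.t) ^ 3] := by decide +kernel

/-- The generators of the group of `x, y, z` in the presented group. -/
def genHN : Fin 3 → Cfsg.Spor.HN :=
  ![PresentedGroup.of .x, PresentedGroup.of .y, PresentedGroup.of .z]

theorem lift_fgenHN (l : ℕ) :
    FreeGroup.lift genHN (fgen6 l) = PresentedGroup.mk relHN (fgenHN l) := by
  match l with
  | 0 | 1 | 2 | 3 | 4 | 5 => simp [fgen6, fgenHN, genHN, PresentedGroup.of]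
  | _ + 6 => simp [fgen6, fgenHN]

/-- The map of the group of `x, y, z`. -/
def psiHN : H0 →* Cfsg.Spor.HN :=
  PresentedGroup.toGroup (f := genHN) (by
    rintro r ⟨w, hw, rfl⟩
    rw [map_wv, funext lift_fgenHN, ← map_wv]
    exact PresentedGroup.one_of_mem (Or.inr (rels_without_t w hw)))

/-- The further generator. -/
def tHN : Cfsg.Spor.HN := PresentedGroup.of .t

theorem psiHN_gens : psiHN hx = PresentedGroup.of .x ∧ psiHN hy = PresentedGroup.of .y ∧
    psiHN hz = PresentedGroup.of .z := by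
  refine ⟨?_, ?_, ?_⟩ <;> simp [psiHN, hx, hy, hz, genHN]

theorem extra_one {r : FreeGroup Cfsg.Spor.HN.Gen} (h : r ∈ Cfsg.Spor.HN.extra) :
    PresentedGroup.mk relHN r = 1 :=
  PresentedGroup.one_of_mem (Or.inr h)

theorem rulesHN : GRules psiHN tHN := by
  obtain ⟨ex, ey, ez⟩ := psiHN_gens
  refine ⟨?_, ?_, ?_, ?_⟩
  · have h := extra_one (r := Cfsg.Spor.HN.t ^ 5) (by rw [extra_split]; simp)
    rw [map_pow] at h
    exact h
  · have h := extra_one
      (r := (Cfsg.Spor.HN.x⁻¹ * Cfsg.Spor.HN.t * Cfsg.Spor.HN.x) * (Cfsg.Spor.HN.t ^ 2))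
      (by rw [extra_split]; simp)
    simp only [map_mul, map_inv, map_pow] at h
    rw [ex]
    exact h
  · have h := extra_one (r := Cfsg.Spor.HN.t⁻¹ * Cfsg.Spor.HN.y⁻¹ * Cfsg.Spor.HN.t * Cfsg.Spor.HN.y)
      (by rw [extra_split]; simp)
    simp only [map_mul, map_inv] at h
    rw [ey]
    show tHN * PresentedGroup.of .y = PresentedGroup.of .y * tHN
    have h' : tHN⁻¹ * (PresentedGroup.of .y)⁻¹ * tHN * PresentedGroup.of .y = 1 := h
    calc tHN * PresentedGroup.of .y
        = PresentedGroup.of .y * tHN * (tHN⁻¹ * (PresentedGroup.of .y)⁻¹ * tHN * PresentedGroup.of .y) := by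
          group
      _ = _ := by rw [h', mul_one]
  · have h := extra_one (r := (Cfsg.Spor.HN.z * Cfsg.Spor.HN.t) ^ 3) (by rw [extra_split]; simp)
    rw [map_pow, map_mul] at h
    rw [ez]
    exact h

theorem top_eq : Subgroup.closure (Set.range psiHN ∪ {tHN}) = ⊤ := by
  rw [eq_top_iff, ← PresentedGroup.closure_range_of relHN, Subgroup.closure_le]
  obtain ⟨ex, ey, ez⟩ := psiHN_gens
  rintro _ ⟨a, rfl⟩
  cases a
  · exact Subgroup.subset_closure (Or.inl ⟨hx, ex⟩)
  · exact Subgroup.subset_closure (Or.inl ⟨hy, ey⟩)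
  · exact Subgroup.subset_closure (Or.inl ⟨hz, ez⟩)
  · exact Subgroup.subset_closure (Or.inr rfl)

theorem range_psiHN : psiHN.range = ((Subgroup.closure ({Cfsg.Spor.HN.x, Cfsg.Spor.HN.y, Cfsg.Spor.HN.z} :
    Set (FreeGroup Cfsg.Spor.HN.Gen))).map (PresentedGroup.mk relHN)) := by
  rw [MonoidHom.range_eq_map, ← closure_top, MonoidHom.map_closure, MonoidHom.map_closure]
  congr 1
  obtain ⟨ex, ey, ez⟩ := psiHN_gens
  simp only [Set.image_insert_eq, Set.image_singleton, ex, ey, ez]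
  rfl

variable {G : Type*} [Group G] {ψ : H0 →* G} {t : G}

/-- The images of the four generators. -/
def genOut (ψ : H0 →* G) (t : G) : Cfsg.Spor.HN.Gen → G
  | .x => ψ hx
  | .y => ψ hy
  | .z => ψ hz
  | .t => t

theorem lift_genOut (l : ℕ) : FreeGroup.lift (genOut ψ t) (fgenHN l) = ψ (g6 l) := by
  match l with
  | 0 | 1 | 2 | 3 | 4 | 5 => simp [fgenHN, g6, genOut]
  | _ + 6 => simp [fgenHN, g6]

/-- The map out of the presented group given by the rules. -/
def outHN (R : GRules ψ t) : Cfsg.Spor.HN →* G :=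
  PresentedGroup.toGroup (f := genOut ψ t) (by
    rintro r (⟨a, ha, -⟩ | hr)
    · simp [coxNodes, Cfsg.Spor.HN.edges] at ha
    · rw [Set.mem_ofPred_eq, extra_split, List.mem_append] at hr
      rcases hr with hr | hr
      · obtain ⟨w, hw, rfl⟩ := List.mem_map.1 hr
        rw [map_wv, funext lift_genOut, ← map_wv, relH6 hw, map_one]
      · simp only [List.mem_cons, List.not_mem_nil, or_false] at hr
        rcases hr with rfl | rfl | rfl | rfl
        · simpa [genOut] using R.pow5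
        · simpa [genOut] using R.conjx
        · simp only [map_mul, map_inv, FreeGroup.lift_apply_of, genOut]
          rw [mul_assoc _ t (ψ hy), R.commy.eq]
          group
        · simpa [genOut] using R.cube)

theorem outHN_gen (R : GRules ψ t) : outHN R tHN = t ∧ (outHN R).comp psiHN = ψ := by
  refine ⟨by simp [outHN, tHN, genOut], PresentedGroup.ext fun i => ?_⟩
  fin_cases i <;> simp [outHN, psiHN, genHN, genOut, hx, hy, hz]

end

end Cfsg.Agent.HN
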