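import Cfsg.Agent.Lib.HN.Checks
import Cfsg.Agent.Lib.HN.Presentation

/-!
The cosets form a transitive set for the presented group, on which the group of `x, y, z` acts faithfully
and fixes the first coset.
-/

set_option autoImplicit false
set_option maxRecDepth 100000

namespace Cfsg.Agent.HN

noncomputable section

variable {X : XData} (hX : XOK X)

include hX

theorem atom_rho {a : ℕ} (ha : a < 5) (p : X.O.Pt) : hX.omega.atom a p = X.O.rho (el [a])⁻¹ p := by
  rw [OOK.atom, if_pos ha]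

theorem atom_five (p : X.O.Pt) : hX.omega.atom 5 p = hX.omega.step p := by
  rw [OOK.atom, if_neg (by norm_num)]

theorem five_comm {b : H0} (hb : b ∈ stab0) (p : X.O.Pt) :
    hX.omega.atom 5 (X.O.rho b⁻¹ p) = X.O.rho b⁻¹ (hX.omega.atom 5 p) :=
  atom_comm hX.omega (by rw [if_neg (by norm_num)]; exact ⟨hb, rfl⟩) p

theorem loop_five (p : X.O.Pt) : hX.omega.act [5, 5, 5, 5, 5] p = p := by
  obtain ⟨k, hk, a, rfl⟩ := OData.pt_surj p
  obtain ⟨s, hs, b, hb, e⟩ := decomp hX.omega hk a
  obtain ⟨hi, hik, -⟩ := point_spec hX.omega hk (pi_lt a)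
  rw [e, mul_assoc, OData.pt_mul_left hk hs]
  obtain ⟨i, hidef⟩ : ∃ i, i = X.O.root k (pi a).1 := ⟨_, rfl⟩
  rw [← hidef] at hi hik ⊢
  subst hik
  have h := hX.loops i hi
  simp only [XData.okLoops, Bool.and_eq_true] at h
  refine loop_mul hX.omega hk (okLoop_spec hX.omega hk h.1) fun q => ?_
  simp only [OOK.act, five_comm hX hb]

theorem loop_x (p : X.O.Pt) : hX.omega.act [1, 5, 0, 5, 5] p = p := by
  obtain ⟨k, hk, a, rfl⟩ := OData.pt_surj p
  obtain ⟨s, hs, b, hb, e⟩ := decomp hX.omega hk a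
  obtain ⟨hi, hik, -⟩ := point_spec hX.omega hk (pi_lt a)
  rw [e, mul_assoc, OData.pt_mul_left hk hs]
  obtain ⟨i, hidef⟩ : ∃ i, i = X.O.root k (pi a).1 := ⟨_, rfl⟩
  rw [← hidef] at hi hik ⊢
  subst hik
  have h := hX.loops i hi
  simp only [XData.okLoops, Bool.and_eq_true] at h
  refine loop_mul hX.omega hk (okLoop_spec hX.omega hk h.2) fun q => ?_
  have hb' := (x_normalises hX hb).1
  have e1 : ∀ q, hX.omega.atom 1 (X.O.rho b⁻¹ q) = X.O.rho (hx * b * hx⁻¹)⁻¹ (hX.omega.atom 1 q) :=
    fun q => atom_comm hX.omega (by rw [if_pos (by norm_num), el_x.2.1]; group) q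
  have e0 : ∀ q, hX.omega.atom 0 (X.O.rho (hx * b * hx⁻¹)⁻¹ q) = X.O.rho b⁻¹ (hX.omega.atom 0 q) :=
    fun q => atom_comm hX.omega (by rw [if_pos (by norm_num), el_x.1]; group) q
  simp only [OOK.act, e1, five_comm hX hb', e0, five_comm hX hb]

theorem loop_z (p : X.O.Pt) : hX.omega.act [4, 5, 4, 5, 4, 5] p = p := by
  obtain ⟨k, hk, a, rfl⟩ := OData.pt_surj p
  obtain ⟨s, hs, b, hb, e⟩ := decomp hX.omega hk a
  obtain ⟨r, hr, c, hc, rfl⟩ := kap_cosets hX hb
  obtain ⟨hi, hik, -⟩ := point_spec hX.omega hk (pi_lt a)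
  rw [e, mul_assoc, OData.pt_mul_left hk hs]
  obtain ⟨i, hidef⟩ : ∃ i, i = X.O.root k (pi a).1 := ⟨_, rfl⟩
  rw [← hidef] at hi hik ⊢
  subst hik
  have hg := hX.groups
  simp only [XData.okGroups, Bool.and_eq_true] at hg
  have hC : schainOK X.cchain = true := hg.1.1.1.1.2
  have h := hX.cover (50 * i + r) (by omega)
  simp only [XData.okCov, Bool.and_eq_true, Nat.blt_eq, Nat.beq_eq] at h
  rw [show Nat.div (50 * i + r) 50 = i by show (50 * i + r) / 50 = i; omega,
    show Nat.mod (50 * i + r) 50 = r by show (50 * i + r) % 50 = r; omega] at h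
  obtain ⟨⟨⟨⟨hbl, hk'⟩, hv⟩, hcc⟩, he⟩ := h
  set B := X.baseE (X.covB.get (50 * i + r))
  have e' := el_eq he
  simp only [el_append] at e'
  rw [← mul_assoc, e', mul_assoc, mul_assoc, mul_assoc, OData.pt_mul_left hk (prodW_mem (hX.omega.chain _ hk) hv),
    ← mul_assoc, ← el_append]
  have hB := hX.base _ hbl
  simp only [XData.okBase, Bool.and_eq_true, Nat.blt_eq] at hB
  have hloop := hB.2
  rw [hk'] at hloop
  have hmem : el (prodW X.cchain (X.covC.get (50 * i + r))) * c ∈ grp X.cchain :=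
    mul_mem (prodW_mem hC hcc) hc
  obtain ⟨h0, hz⟩ := c_facts hX hmem
  refine loop_mul hX.omega hk (okLoop_spec hX.omega hk hloop) fun q => ?_
  have e4 : ∀ q, hX.omega.atom 4 (X.O.rho (el (prodW X.cchain (X.covC.get (50 * i + r))) * c)⁻¹ q) =
      X.O.rho (el (prodW X.cchain (X.covC.get (50 * i + r))) * c)⁻¹ (hX.omega.atom 4 q) :=
    fun q => atom_comm hX.omega (by rw [if_pos (by norm_num), el_x.2.2.2]; exact hz) q
  simp only [OOK.act, e4, five_comm hX h0]

/-- The step as a permutation. -/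
def stepPerm : Equiv.Perm X.O.Pt where
  toFun := hX.omega.step
  invFun p := hX.omega.step (hX.omega.step (hX.omega.step (hX.omega.step p)))
  left_inv p := by
    have := loop_five hX p
    simpa [OOK.act, atom_five hX] using this
  right_inv p := by
    have := loop_five hX p
    simpa [OOK.act, atom_five hX] using this

theorem stepPerm_apply (p : X.O.Pt) : stepPerm hX p = hX.omega.step p := rfl

theorem model_rules : GRules X.O.rho (stepPerm hX)⁻¹ := by
  obtain ⟨e0, e1, -, e4⟩ := el_x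
  refine ⟨?_, ?_, ?_, ?_⟩
  · rw [inv_pow, inv_eq_one]
    refine Equiv.ext fun p => ?_
    have := loop_five hX p
    simpa [OOK.act, atom_five hX, pow_succ, stepPerm_apply] using this
  · rw [← inv_eq_one]
    refine Equiv.ext fun p => ?_
    have := loop_x hX p
    simp only [mul_inv_rev, inv_inv, inv_pow, sq, ← map_inv]
    simp only [OOK.act, atom_five hX, atom_rho hX (show 1 < 5 by norm_num),
      atom_rho hX (show 0 < 5 by norm_num), e0, e1, inv_inv] at this
    simpa [stepPerm_apply, Equiv.Perm.mul_apply] using this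
  · refine Commute.inv_left ?_
    refine Equiv.ext fun p => ?_
    have hy : hy⁻¹ ∈ stab0 := by
      rw [stab0_eq hX]
      refine inv_mem (Subgroup.subset_closure ⟨3, ?_, ?_⟩)
      · rw [(kgens hX).1]; simp
      · rw [(kgens hX).2.1, el_x.2.2.1]
    rw [Equiv.Perm.mul_apply, Equiv.Perm.mul_apply, stepPerm_apply, stepPerm_apply]
    have := step_rho hX.omega hy p
    rwa [inv_inv] at this
  · rw [← inv_eq_one]
    refine Equiv.ext fun p => ?_
    have := loop_z hX p
    simp only [OOK.act, atom_five hX, atom_rho hX (show 4 < 5 by norm_num), e4] at this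
    simpa [pow_succ, mul_inv_rev, stepPerm_apply, Equiv.Perm.mul_apply, ← map_inv] using this

/-- The action of the presented group. -/
def modelHom : Cfsg.Spor.HN →* Equiv.Perm X.O.Pt := outHN (model_rules hX)

/-- The first coset. -/
def basePt : X.O.Pt := X.O.pt 0 hX.node0.1 1

theorem node0_top : X.O.sgrp 0 = ⊤ := by
  refine Subgroup.eq_top_of_card_eq _ ?_
  rw [card_H0, OData.sgrp, (schain_exact (hX.omega.chain 0 hX.node0.1)).2]
  exact hX.node0.2

theorem modelHom_psi (b : H0) : modelHom hX (psiHN b) = X.O.rho b :=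
  DFunLike.congr_fun (outHN_gen (model_rules hX)).2 b

theorem psi_fix (b : H0) : modelHom hX (psiHN b) (basePt hX) = basePt hX := by
  rw [modelHom_psi]
  have := OData.rho_pt (O := X.O) hX.node0.1 b⁻¹ 1
  rw [inv_inv, one_mul] at this
  rw [basePt, this]
  exact OData.pt_eq _ (by rw [node0_top hX]; exact Subgroup.mem_top _)

theorem orbit_full : ∀ p : X.O.Pt, ∃ g, modelHom hX g (basePt hX) = p := by
  suffices h : ∀ j, ∀ hj : j < X.O.nodes.length, ∀ a, ∃ g, modelHom hX g (basePt hX) = X.O.pt j hj a by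
    intro p
    obtain ⟨k, hk, a, rfl⟩ := OData.pt_surj p
    exact h k hk a
  intro j
  induction j using Nat.strongRecOn with
  | _ j ih =>
    intro hj a
    have key : ∀ a' : H0, (∃ g, modelHom hX g (basePt hX) = X.O.pt j hj a') →
        ∀ b : H0, ∃ g, modelHom hX g (basePt hX) = X.O.pt j hj (a' * b) := by
      rintro a' ⟨g, hg⟩ b
      refine ⟨psiHN b⁻¹ * g, ?_⟩
      rw [map_mul, Equiv.Perm.mul_apply, hg, modelHom_psi, OData.rho_pt]
    have h := hX.reach j hj
    simp only [XData.okReach, Bool.or_eq_true, Nat.beq_eq, List.any_eq_true, List.mem_range,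
      Bool.and_eq_true, Nat.blt_eq] at h
    rcases h with rfl | ⟨i, hi, hlt, hji⟩
    · simpa using key 1 ⟨1, by rw [map_one, Equiv.Perm.one_apply]; rfl⟩ a
    · obtain ⟨g, hg⟩ := ih _ hlt (rep_spec hX.omega hi).1 (el (unp (X.O.rep i).h))
      subst hji
      have hstep := hX.omega.step_pt hi (one_mem _) (one_mem stab0)
      rw [one_mul, mul_one, mul_one] at hstep
      have hmem : ∃ g, modelHom hX g (basePt hX) = X.O.pt (X.O.rep i).j hj (el (unp (X.O.rep i).hp)) := by
        refine ⟨tHN⁻¹ * g, ?_⟩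
        rw [map_mul, Equiv.Perm.mul_apply, hg, map_inv,
          show modelHom hX tHN = (stepPerm hX)⁻¹ from (outHN_gen (model_rules hX)).1, inv_inv]
        exact hstep
      have := key _ hmem ((el (unp (X.O.rep i).hp))⁻¹ * a)
      rwa [mul_inv_cancel_left] at this

/-- **The subgroup of `x, y, z` has index at least 1539000.** -/
theorem index_ge (hfin : psiHN.range.index ≠ 0) : 1539000 ≤ psiHN.range.index := by
  rw [← hX.sizes, ← OData.card_pt hX.omega]
  let f : Cfsg.Spor.HN ⧸ psiHN.range → X.O.Pt := fun c => modelHom hX c.out (basePt hX)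
  have : Finite (Cfsg.Spor.HN ⧸ psiHN.range) := Nat.finite_of_card_ne_zero hfin
  refine Nat.card_le_card_of_surjective f fun p => ?_
  obtain ⟨g, rfl⟩ := orbit_full hX p
  refine ⟨QuotientGroup.mk g, ?_⟩
  obtain ⟨⟨_, b, rfl⟩, hb⟩ := QuotientGroup.mk_out_eq_mul psiHN.range g
  show modelHom hX (QuotientGroup.mk g : Cfsg.Spor.HN ⧸ psiHN.range).out (basePt hX) = _
  rw [hb, map_mul, Equiv.Perm.mul_apply, psi_fix hX]

/-- An element fixing every coset is trivial. -/
theorem eq_one_of_rho {b : H0} (hfix : ∀ p : X.O.Pt, X.O.rho b p = p) : b = 1 := by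
  obtain ⟨hn, hg⟩ := hX.node1
  simp only [List.all_eq_true, Bool.and_eq_true, Nat.beq_eq] at hg
  have hle : X.O.sgrp 1 ≤ stab0 := by
    rw [OData.sgrp, grp, Subgroup.closure_le]
    rintro a ⟨g, hgm, rfl⟩
    exact mem_stab0.2 (Fin.ext (by rw [pi_el (hg g hgm).2, (hg g hgm).1]; simp [pi]))
  apply rep_injective
  rw [map_one]
  refine Equiv.ext fun q => ?_
  obtain ⟨s, -, e⟩ := orbit_reach hX.omega hX.node0.1 _ q rfl
  set h := s * el (unp (X.O.rep (X.O.root 0 q.1)).h) with hh
  have := hfix (X.O.pt 1 hn h⁻¹)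
  have e' := OData.rho_pt (O := X.O) hn b⁻¹ h⁻¹
  rw [inv_inv, this] at e'
  have hm := hle (OData.pt_mem hn e')
  rw [Equiv.Perm.one_apply, ← e, ← pi_mul]
  refine (pi_eq_iff.2 ?_).symm
  convert hm using 1
  group

/-- **The group of `x, y, z` embeds.** -/
theorem psiHN_injective : Function.Injective psiHN := by
  rw [injective_iff_map_eq_one]
  intro b hb
  refine eq_one_of_rho hX fun p => ?_
  rw [← modelHom_psi hX, hb, map_one, Equiv.Perm.one_apply]

end

end Cfsg.Agent.HN
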