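import Cfsg.Agent.Lib.HN.Maximal

/-! The entries for maximality. -/

set_option autoImplicit false
set_option maxRecDepth 100000
set_option maxHeartbeats 4000000
set_option Elab.async false

namespace Cfsg.Agent.HN.Dat

noncomputable section

/-- the entries -/
def maxEs : List MaxE := [
  ⟨2, 0, [⟨12, 0, 0⟩, ⟨26, 2, 0⟩, ⟨15, 0, 0⟩], 1⟩, 
  ⟨3, 0x6a594b, [⟨28, 0x3004012002, 0x1a86430c859⟩, ⟨78, 0x1000001, 0x52452291430b2cb⟩, ⟨71, 0, 0x6d35145216cb2cb⟩, ⟨50, 0, 0x289a6d48596cc85b⟩], 2⟩, 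
  ⟨4, 0, [⟨30, 0, 0⟩, ⟨12, 1, 0x1b52269b2db2cb⟩], 3⟩, 
  ⟨5, 811, [⟨57, 0xe000, 0xda6d369b3216cc⟩, ⟨79, 8193, 0x6a28a44cb6cc2cb⟩], 4⟩, 
  ⟨6, 0, [⟨62, 0, 0⟩, ⟨31, 1, 0x4da89b30b6cc⟩, ⟨19, 0xf000, 0x13b229256eb75d753⟩, ⟨11, 0x1004007004, 0x2489a6d430c864⟩, ⟨46, 0, 0x2489a6d430c864⟩], 5⟩, 
  ⟨7, 0, [⟨92, 0, 0⟩, ⟨78, 0x1001001, 0x58a4b29964b25⟩, ⟨68, 0x1002000, 0x91489a6d3661861⟩], 6⟩, 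
  ⟨8, 0, [⟨99, 0, 0⟩, ⟨63, 0, 3⟩, ⟨64, 0, 0x8a29149132cb659⟩, ⟨25, 0x7001, 0x2c9644ec89baeb2eb⟩, ⟨33, 0, 0x2c9644ec89baeb2eb⟩, ⟨6, 0x1002024009, 0x452c92c4eb764a65⟩, ⟨13, 0, 0x452c92c4eb764a65⟩, ⟨14, 0, 0x452c92c4eb764a65⟩, ⟨7, 45, 0x296275aaeb2dbb25⟩], 3⟩]

end

end Cfsg.Agent.HN.Dat
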