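import Cfsg.Agent.Lib.HN.LoopData
import Cfsg.Agent.Lib.HN.MaxData

/-! Kernel checks: the rest -/

set_option autoImplicit false
set_option maxRecDepth 100000
set_option Elab.async false

namespace Cfsg.Agent.HN.Dat

theorem groupsOK : xd.okGroups = true := by decide +kernel

theorem reachOK : allLo xd.okReach 9 = true := by decide +kernel

theorem gfactsOK : allLo xd.okGFacts 9 = true := by decide +kernel

theorem movesOK : allLo xd.okMove 101 = true := by decide +kernel

theorem sizesOK : (∑ k : Fin xd.O.nodes.length, 177408000 / schainSize (xd.O.node k).chain) = 1539000 := by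
  decide +kernel

theorem node0OK : 0 < xd.O.nodes.length ∧ schainSize (xd.O.node 0).chain = 177408000 := by decide +kernel

theorem node1OK : 1 < xd.O.nodes.length ∧
    ((topGens (xd.O.node 1).chain).all fun g => Nat.beq (lact (unp g) 0) 0 && letOK 5 (unp g)) = true := by
  decide +kernel

theorem nbase_eq : xd.nbase = 1127 := by decide +kernel

theorem lengths : xd.O.nodes.length = 9 ∧ xd.O.reps.length = 101 ∧ xd.nfacts = 150 := by decide +kernel

/-- the definitions check -/
theorem defsOK : xd.okDefs = true := by decide +kernel

/-- the entries for maximality check -/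
theorem maxOK : xd.okMax maxEs [1] = true := by decide +kernel

end Cfsg.Agent.HN.Dat
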