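import Cfsg.Agent.Lib.HN.LoopData

/-! Kernel checks: the points -/

set_option autoImplicit false
set_option maxRecDepth 100000
set_option Elab.async false

namespace Cfsg.Agent.HN.Dat

theorem point0_0 : allLo (fun i => xd.O.okPoint 0 (Nat.add 0 i)) 176 = true := by decide +kernel

theorem point0_1 : allLo (fun i => xd.O.okPoint 0 (Nat.add 176 i)) 176 = true := by decide +kernel

theorem point0_2 : allLo (fun i => xd.O.okPoint 0 (Nat.add 352 i)) 176 = true := by decide +kernel

theorem point0_3 : allLo (fun i => xd.O.okPoint 0 (Nat.add 528 i)) 176 = true := by decide +kernel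

theorem point0_4 : allLo (fun i => xd.O.okPoint 0 (Nat.add 704 i)) 176 = true := by decide +kernel

theorem point0_5 : allLo (fun i => xd.O.okPoint 0 (Nat.add 880 i)) 176 = true := by decide +kernel

theorem point0_6 : allLo (fun i => xd.O.okPoint 0 (Nat.add 1056 i)) 176 = true := by decide +kernel

theorem point0_7 : allLo (fun i => xd.O.okPoint 0 (Nat.add 1232 i)) 176 = true := by decide +kernel

theorem point1_0 : allLo (fun i => xd.O.okPoint 1 (Nat.add 0 i)) 176 = true := by decide +kernel

theorem point1_1 : allLo (fun i => xd.O.okPoint 1 (Nat.add 176 i)) 176 = true := by decide +kernel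

theorem point1_2 : allLo (fun i => xd.O.okPoint 1 (Nat.add 352 i)) 176 = true := by decide +kernel

theorem point1_3 : allLo (fun i => xd.O.okPoint 1 (Nat.add 528 i)) 176 = true := by decide +kernel

theorem point1_4 : allLo (fun i => xd.O.okPoint 1 (Nat.add 704 i)) 176 = true := by decide +kernel

theorem point1_5 : allLo (fun i => xd.O.okPoint 1 (Nat.add 880 i)) 176 = true := by decide +kernel

theorem point1_6 : allLo (fun i => xd.O.okPoint 1 (Nat.add 1056 i)) 176 = true := by decide +kernel

theorem point1_7 : allLo (fun i => xd.O.okPoint 1 (Nat.add 1232 i)) 176 = true := by decide +kernel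

theorem point2_0 : allLo (fun i => xd.O.okPoint 2 (Nat.add 0 i)) 176 = true := by decide +kernel

theorem point2_1 : allLo (fun i => xd.O.okPoint 2 (Nat.add 176 i)) 176 = true := by decide +kernel

theorem point2_2 : allLo (fun i => xd.O.okPoint 2 (Nat.add 352 i)) 176 = true := by decide +kernel

theorem point2_3 : allLo (fun i => xd.O.okPoint 2 (Nat.add 528 i)) 176 = true := by decide +kernel

theorem point2_4 : allLo (fun i => xd.O.okPoint 2 (Nat.add 704 i)) 176 = true := by decide +kernel

theorem point2_5 : allLo (fun i => xd.O.okPoint 2 (Nat.add 880 i)) 176 = true := by decide +kernel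

theorem point2_6 : allLo (fun i => xd.O.okPoint 2 (Nat.add 1056 i)) 176 = true := by decide +kernel

theorem point2_7 : allLo (fun i => xd.O.okPoint 2 (Nat.add 1232 i)) 176 = true := by decide +kernel

end Cfsg.Agent.HN.Dat
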