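import Cfsg.Agent.Lib.HN.LoopData

/-! Kernel checks: the points -/

set_option autoImplicit false
set_option maxRecDepth 100000
set_option Elab.async false

namespace Cfsg.Agent.HN.Dat

theorem point3_0 : allLo (fun i => xd.O.okPoint 3 (Nat.add 0 i)) 176 = true := by decide +kernel

theorem point3_1 : allLo (fun i => xd.O.okPoint 3 (Nat.add 176 i)) 176 = true := by decide +kernel

theorem point3_2 : allLo (fun i => xd.O.okPoint 3 (Nat.add 352 i)) 176 = true := by decide +kernel

theorem point3_3 : allLo (fun i => xd.O.okPoint 3 (Nat.add 528 i)) 176 = true := by decide +kernel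

theorem point3_4 : allLo (fun i => xd.O.okPoint 3 (Nat.add 704 i)) 176 = true := by decide +kernel

theorem point3_5 : allLo (fun i => xd.O.okPoint 3 (Nat.add 880 i)) 176 = true := by decide +kernel

theorem point3_6 : allLo (fun i => xd.O.okPoint 3 (Nat.add 1056 i)) 176 = true := by decide +kernel

theorem point3_7 : allLo (fun i => xd.O.okPoint 3 (Nat.add 1232 i)) 176 = true := by decide +kernel

theorem point4_0 : allLo (fun i => xd.O.okPoint 4 (Nat.add 0 i)) 176 = true := by decide +kernel

theorem point4_1 : allLo (fun i => xd.O.okPoint 4 (Nat.add 176 i)) 176 = true := by decide +kernel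

theorem point4_2 : allLo (fun i => xd.O.okPoint 4 (Nat.add 352 i)) 176 = true := by decide +kernel

theorem point4_3 : allLo (fun i => xd.O.okPoint 4 (Nat.add 528 i)) 176 = true := by decide +kernel

theorem point4_4 : allLo (fun i => xd.O.okPoint 4 (Nat.add 704 i)) 176 = true := by decide +kernel

theorem point4_5 : allLo (fun i => xd.O.okPoint 4 (Nat.add 880 i)) 176 = true := by decide +kernel

theorem point4_6 : allLo (fun i => xd.O.okPoint 4 (Nat.add 1056 i)) 176 = true := by decide +kernel

theorem point4_7 : allLo (fun i => xd.O.okPoint 4 (Nat.add 1232 i)) 176 = true := by decide +kernel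

theorem point5_0 : allLo (fun i => xd.O.okPoint 5 (Nat.add 0 i)) 176 = true := by decide +kernel

theorem point5_1 : allLo (fun i => xd.O.okPoint 5 (Nat.add 176 i)) 176 = true := by decide +kernel

theorem point5_2 : allLo (fun i => xd.O.okPoint 5 (Nat.add 352 i)) 176 = true := by decide +kernel

theorem point5_3 : allLo (fun i => xd.O.okPoint 5 (Nat.add 528 i)) 176 = true := by decide +kernel

theorem point5_4 : allLo (fun i => xd.O.okPoint 5 (Nat.add 704 i)) 176 = true := by decide +kernel

theorem point5_5 : allLo (fun i => xd.O.okPoint 5 (Nat.add 880 i)) 176 = true := by decide +kernel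

theorem point5_6 : allLo (fun i => xd.O.okPoint 5 (Nat.add 1056 i)) 176 = true := by decide +kernel

theorem point5_7 : allLo (fun i => xd.O.okPoint 5 (Nat.add 1232 i)) 176 = true := by decide +kernel

end Cfsg.Agent.HN.Dat
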