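import Cfsg.Agent.Lib.HN.LoopData

/-! Kernel checks: the points -/

set_option autoImplicit false
set_option maxRecDepth 100000
set_option Elab.async false

namespace Cfsg.Agent.HN.Dat

theorem point6_0 : allLo (fun i => xd.O.okPoint 6 (Nat.add 0 i)) 176 = true := by decide +kernel

theorem point6_1 : allLo (fun i => xd.O.okPoint 6 (Nat.add 176 i)) 176 = true := by decide +kernel

theorem point6_2 : allLo (fun i => xd.O.okPoint 6 (Nat.add 352 i)) 176 = true := by decide +kernel

theorem point6_3 : allLo (fun i => xd.O.okPoint 6 (Nat.add 528 i)) 176 = true := by decide +kernel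

theorem point6_4 : allLo (fun i => xd.O.okPoint 6 (Nat.add 704 i)) 176 = true := by decide +kernel

theorem point6_5 : allLo (fun i => xd.O.okPoint 6 (Nat.add 880 i)) 176 = true := by decide +kernel

theorem point6_6 : allLo (fun i => xd.O.okPoint 6 (Nat.add 1056 i)) 176 = true := by decide +kernel

theorem point6_7 : allLo (fun i => xd.O.okPoint 6 (Nat.add 1232 i)) 176 = true := by decide +kernel

theorem point7_0 : allLo (fun i => xd.O.okPoint 7 (Nat.add 0 i)) 176 = true := by decide +kernel

theorem point7_1 : allLo (fun i => xd.O.okPoint 7 (Nat.add 176 i)) 176 = true := by decide +kernel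

theorem point7_2 : allLo (fun i => xd.O.okPoint 7 (Nat.add 352 i)) 176 = true := by decide +kernel

theorem point7_3 : allLo (fun i => xd.O.okPoint 7 (Nat.add 528 i)) 176 = true := by decide +kernel

theorem point7_4 : allLo (fun i => xd.O.okPoint 7 (Nat.add 704 i)) 176 = true := by decide +kernel

theorem point7_5 : allLo (fun i => xd.O.okPoint 7 (Nat.add 880 i)) 176 = true := by decide +kernel

theorem point7_6 : allLo (fun i => xd.O.okPoint 7 (Nat.add 1056 i)) 176 = true := by decide +kernel

theorem point7_7 : allLo (fun i => xd.O.okPoint 7 (Nat.add 1232 i)) 176 = true := by decide +kernel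

theorem point8_0 : allLo (fun i => xd.O.okPoint 8 (Nat.add 0 i)) 176 = true := by decide +kernel

theorem point8_1 : allLo (fun i => xd.O.okPoint 8 (Nat.add 176 i)) 176 = true := by decide +kernel

theorem point8_2 : allLo (fun i => xd.O.okPoint 8 (Nat.add 352 i)) 176 = true := by decide +kernel

theorem point8_3 : allLo (fun i => xd.O.okPoint 8 (Nat.add 528 i)) 176 = true := by decide +kernel

theorem point8_4 : allLo (fun i => xd.O.okPoint 8 (Nat.add 704 i)) 176 = true := by decide +kernel

theorem point8_5 : allLo (fun i => xd.O.okPoint 8 (Nat.add 880 i)) 176 = true := by decide +kernel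

theorem point8_6 : allLo (fun i => xd.O.okPoint 8 (Nat.add 1056 i)) 176 = true := by decide +kernel

theorem point8_7 : allLo (fun i => xd.O.okPoint 8 (Nat.add 1232 i)) 176 = true := by decide +kernel

end Cfsg.Agent.HN.Dat
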