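import Cfsg.Agent.Lib.HN.LoopData

/-! Kernel checks: the representatives -/

set_option autoImplicit false
set_option maxRecDepth 100000
set_option Elab.async false

namespace Cfsg.Agent.HN.Dat

theorem rep0 : allLo (fun i => xd.O.okRep (Nat.add 0 i)) 3 = true := by decide +kernel

theorem rep1 : allLo (fun i => xd.O.okRep (Nat.add 3 i)) 3 = true := by decide +kernel

theorem rep2 : allLo (fun i => xd.O.okRep (Nat.add 6 i)) 3 = true := by decide +kernel

theorem rep3 : allLo (fun i => xd.O.okRep (Nat.add 9 i)) 3 = true := by decide +kernel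

theorem rep4 : allLo (fun i => xd.O.okRep (Nat.add 12 i)) 3 = true := by decide +kernel

theorem rep5 : allLo (fun i => xd.O.okRep (Nat.add 15 i)) 3 = true := by decide +kernel

theorem rep6 : allLo (fun i => xd.O.okRep (Nat.add 18 i)) 3 = true := by decide +kernel

theorem rep7 : allLo (fun i => xd.O.okRep (Nat.add 21 i)) 3 = true := by decide +kernel

theorem rep8 : allLo (fun i => xd.O.okRep (Nat.add 24 i)) 3 = true := by decide +kernel

theorem rep9 : allLo (fun i => xd.O.okRep (Nat.add 27 i)) 3 = true := by decide +kernel

theorem rep10 : allLo (fun i => xd.O.okRep (Nat.add 30 i)) 3 = true := by decide +kernel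

theorem rep11 : allLo (fun i => xd.O.okRep (Nat.add 33 i)) 3 = true := by decide +kernel

theorem rep12 : allLo (fun i => xd.O.okRep (Nat.add 36 i)) 3 = true := by decide +kernel

theorem rep13 : allLo (fun i => xd.O.okRep (Nat.add 39 i)) 3 = true := by decide +kernel

theorem rep14 : allLo (fun i => xd.O.okRep (Nat.add 42 i)) 3 = true := by decide +kernel

theorem rep15 : allLo (fun i => xd.O.okRep (Nat.add 45 i)) 3 = true := by decide +kernel

theorem rep16 : allLo (fun i => xd.O.okRep (Nat.add 48 i)) 3 = true := by decide +kernel

theorem rep17 : allLo (fun i => xd.O.okRep (Nat.add 51 i)) 3 = true := by decide +kernel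

theorem rep18 : allLo (fun i => xd.O.okRep (Nat.add 54 i)) 3 = true := by decide +kernel

theorem rep19 : allLo (fun i => xd.O.okRep (Nat.add 57 i)) 3 = true := by decide +kernel

theorem rep20 : allLo (fun i => xd.O.okRep (Nat.add 60 i)) 3 = true := by decide +kernel

theorem rep21 : allLo (fun i => xd.O.okRep (Nat.add 63 i)) 3 = true := by decide +kernel

theorem rep22 : allLo (fun i => xd.O.okRep (Nat.add 66 i)) 3 = true := by decide +kernel

theorem rep23 : allLo (fun i => xd.O.okRep (Nat.add 69 i)) 3 = true := by decide +kernel

theorem rep24 : allLo (fun i => xd.O.okRep (Nat.add 72 i)) 3 = true := by decide +kernel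

theorem rep25 : allLo (fun i => xd.O.okRep (Nat.add 75 i)) 3 = true := by decide +kernel

theorem rep26 : allLo (fun i => xd.O.okRep (Nat.add 78 i)) 3 = true := by decide +kernel

theorem rep27 : allLo (fun i => xd.O.okRep (Nat.add 81 i)) 3 = true := by decide +kernel

theorem rep28 : allLo (fun i => xd.O.okRep (Nat.add 84 i)) 3 = true := by decide +kernel

theorem rep29 : allLo (fun i => xd.O.okRep (Nat.add 87 i)) 3 = true := by decide +kernel

theorem rep30 : allLo (fun i => xd.O.okRep (Nat.add 90 i)) 3 = true := by decide +kernel

theorem rep31 : allLo (fun i => xd.O.okRep (Nat.add 93 i)) 3 = true := by decide +kernel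

theorem rep32 : allLo (fun i => xd.O.okRep (Nat.add 96 i)) 3 = true := by decide +kernel

theorem rep33 : allLo (fun i => xd.O.okRep (Nat.add 99 i)) 2 = true := by decide +kernel

end Cfsg.Agent.HN.Dat
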