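import Cfsg.Agent.Lib.HN.Upper

/-!
A subgroup above the group of `x, y, z` is that group or everything: from each further representative a
product of the shape `x k * u * x k` leads to a representative already known to generate.
-/

set_option autoImplicit false
set_option maxRecDepth 100000

namespace Cfsg.Agent.HN

noncomputable section

/-- An entry `(node, u, hints, node reached)`. -/
structure MaxE where
  k : ℕ
  u : ℕ
  hs : List Hint
  k2 : ℕ

/-- The atoms of the representative of node `j`. -/
def DData.nodeAtoms (D : DData) : ℕ → ℕ → List ℕ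
  | 0, _ => []
  | fuel + 1, j =>
    let d := D.defs.getD j (0, 0, 0)
    bif Nat.blt d.1 j then D.nodeAtoms fuel d.1 ++ unp d.2.1 ++ List.replicate d.2.2 5 else []

/-- The checks: each entry reaches node `1` or the node of an earlier entry. -/
def XData.okMax (X : XData) : List MaxE → List ℕ → Bool
  | [], known => (List.range X.O.nodes.length).all fun k =>
      Nat.beq k 0 || known.any fun q => Nat.beq q k
  | E :: Es, known =>
    Nat.blt E.k X.O.nodes.length && letOK 5 (unp E.u) && known.any (fun q => Nat.beq q E.k2) &&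
      (match X.O.runH (X.D.nodeAtoms 9 E.k) E.hs E.k (unp E.u) with
      | some (k', _) => Nat.beq k' E.k2
      | none => false) &&
      XData.okMax X Es (E.k :: known)

/-- The checks on the depth of the definitions and the first one. -/
def XData.okDefs (X : XData) : Bool :=
  allLo (fun j => Nat.beq j 0 ||
    (Nat.blt (X.D.defs.getD j (0, 0, 0)).1 j && letOK 5 (unp (X.D.defs.getD j (0, 0, 0)).2.1))) X.O.nodes.length &&
    Nat.ble X.O.nodes.length 9 &&
    Nat.beq (X.D.defs.getD 1 (0, 0, 0)).2.2 1 && Nat.beq (X.D.defs.getD 1 (0, 0, 0)).1 0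

variable {X : XData} (hX : XOK X) {G : Type*} [Group G] {ψ : H0 →* G} {t : G} (R : GRules ψ t)

/-- The value of an atom in the group. -/
def atomG (ψ : H0 →* G) (t : G) (a : ℕ) : G := if a < 5 then ψ (el [a]) else t

theorem wv_atomG_letters {w : List ℕ} (h : ∀ l ∈ w, l < 5) : wv (atomG ψ t) w = ψ (el w) := by
  rw [el, map_wv]
  exact wv_congr _ fun l hl => by rw [atomG, if_pos (h l hl), el, wv_singleton]

include hX

theorem nodeAtoms_spec (hd : X.okDefs = true) :
    ∀ fuel j, j < fuel → j < X.O.nodes.length →
      wv (atomG ψ t) (X.D.nodeAtoms fuel j) = X.node ψ t j := by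
  simp only [XData.okDefs, Bool.and_eq_true] at hd
  intro fuel
  induction fuel with
  | zero => intro j h; omega
  | succ fuel ih =>
    intro j hj hjn
    rw [DData.nodeAtoms, XData.node, nodeX]
    cases hc : Nat.blt (X.D.defs.getD j (0, 0, 0)).1 j with
    | false =>
      rw [dif_neg (by rw [← Nat.blt_eq, hc]; simp), cond_false, wv_nil]
    | true =>
      rw [Nat.blt_eq] at hc
      rw [dif_pos hc, cond_true, wv_append, wv_append, ih _ (by omega) (hc.trans hjn)]
      have h := allLo_spec hd.1.1.1 hjn
      simp only [Bool.or_eq_true, Bool.and_eq_true, Nat.beq_eq] at h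
      rcases h with h | h
      · omega
      · rw [wv_atomG_letters (letOK_spec h.2)]
        congr 1
        generalize (X.D.defs.getD j (0, 0, 0)).2.2 = e
        induction e with
        | zero => simp [wv]
        | succ e ihe => rw [List.replicate_succ, wv_cons, ihe, atomG, if_neg (by norm_num), pow_succ']

include R

theorem runH_group : ∀ (W : List ℕ) (hs : List Hint) (k : ℕ), k < X.O.nodes.length → ∀ (u : List ℕ)
    (k' : ℕ) (u' : List ℕ), X.O.runH W hs k u = some (k', u') →
      ∃ a : H0, X.node ψ t k * ψ (el u) * wv (atomG ψ t) W = ψ a * X.node ψ t k' * ψ (el u') := by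
  intro W
  induction W with
  | nil =>
    intro hs k _ u k' u' h
    cases hs with
    | nil =>
      simp only [OData.runH, List.isEmpty_nil, cond_true, Option.some.injEq, Prod.mk.injEq] at h
      obtain ⟨rfl, rfl⟩ := h
      exact ⟨1, by simp [wv]⟩
    | cons _ _ => simp [OData.runH] at h
  | cons a W ih =>
    intro hs k hk u k' u' h
    cases ha : Nat.blt a 5 with
    | true =>
      rw [OData.runH.eq_def] at h
      simp only [ha, cond_true] at h
      rw [Nat.blt_eq] at ha
      obtain ⟨c, e⟩ := ih hs k hk _ k' u' h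
      refine ⟨c, ?_⟩
      rw [el_append, map_mul] at e
      rw [← e, wv_cons, atomG, if_pos ha]
      group
    | false =>
      cases hs with
      | nil => rw [OData.runH.eq_def] at h; simp [ha] at h
      | cons H hs =>
        rw [OData.runH.eq_def] at h
        simp only [ha, cond_false] at h
        cases hc : (Nat.beq a 5 && Nat.blt H.i X.O.reps.length && Nat.beq (X.O.rep H.i).k k &&
            codeOK (X.O.node k).chain H.w && letOK 5 (unp H.kap) && Nat.beq (lact (unp H.kap) 0) 0 &&
            eqH u (prodW (X.O.node k).chain H.w ++ unp (X.O.rep H.i).h ++ unp H.kap)) with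
        | false => simp only [hc, cond_false] at h; exact absurd h (by simp)
        | true =>
          simp only [hc, cond_true] at h
          simp only [Bool.and_eq_true, Nat.beq_eq, Nat.blt_eq] at hc
          obtain ⟨⟨⟨⟨⟨⟨ha', hi⟩, hik⟩, hw⟩, hl⟩, hf⟩, he⟩ := hc
          subst hik
          obtain ⟨c, e⟩ := ih hs _ (rep_spec hX.omega hi).2.1 _ k' u' h
          obtain ⟨a₁, e₁⟩ := edge hX R hi
          obtain ⟨a₂, e₂⟩ := stab_push hX R hk (prodW_mem (hX.omega.chain _ hk) hw)
          have hk0 : Commute t (ψ (el (unp H.kap))) :=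
            fixComm hX R _ (Fin.ext (by rw [pi_el hl, hf]; simp [pi]))
          refine ⟨a₂ * a₁ * c, ?_⟩
          rw [el_eq he, wv_cons, atomG, if_neg (by omega)]
          simp only [el_append, map_mul]
          calc X.node ψ t (X.O.rep H.i).k *
                (ψ (el (prodW (X.O.node (X.O.rep H.i).k).chain H.w)) * ψ (el (unp (X.O.rep H.i).h)) *
                  ψ (el (unp H.kap))) * (t * wv (atomG ψ t) W)
              = (X.node ψ t (X.O.rep H.i).k * ψ (el (prodW (X.O.node (X.O.rep H.i).k).chain H.w))) *
                  ψ (el (unp (X.O.rep H.i).h)) * (ψ (el (unp H.kap)) * t) * wv (atomG ψ t) W := by group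
            _ = ψ a₂ * (X.node ψ t (X.O.rep H.i).k * ψ (el (unp (X.O.rep H.i).h)) * t) *
                  ψ (el (unp H.kap)) * wv (atomG ψ t) W := by rw [e₂, ← hk0.eq]; group
            _ = ψ a₂ * ψ a₁ * (X.node ψ t (X.O.rep H.i).j *
                  ψ (el (unp (X.O.rep H.i).hp ++ unp H.kap)) * wv (atomG ψ t) W) := by
                rw [e₁, el_append, map_mul]; group
            _ = _ := by rw [e]; group

variable (htop : Subgroup.closure (Set.range ψ ∪ {t}) = ⊤) {Es : List MaxE} (hd : X.okDefs = true)
  (hm : X.okMax Es [1] = true)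

include htop hd hm

/-- **The image of the group of `x, y, z` is maximal.** -/
theorem maximal {M : Subgroup G} (hle : ψ.range ≤ M) : M ≤ ψ.range ∨ M = ⊤ := by
  have hd' := hd
  simp only [XData.okDefs, Bool.and_eq_true, Nat.ble_eq, Nat.beq_eq] at hd'
  obtain ⟨⟨⟨-, h9⟩, he1⟩, hp1⟩ := hd'
  have key : ∀ (Es : List MaxE) (known : List ℕ), X.okMax Es known = true →
      (∀ q ∈ known, X.node ψ t q ∈ M → M = ⊤) →
        ∀ k < X.O.nodes.length, k = 0 ∨ (X.node ψ t k ∈ M → M = ⊤) := by
    intro Es
    induction Es with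
    | nil =>
      intro known h hk k hkn
      simp only [XData.okMax, List.all_eq_true, List.mem_range, Bool.or_eq_true, Nat.beq_eq,
        List.any_eq_true] at h
      rcases h k hkn with h | ⟨q, hq, rfl⟩
      · exact Or.inl h
      · exact Or.inr (hk q hq)
    | cons E Es ih =>
      intro known h hk
      simp only [XData.okMax, Bool.and_eq_true, Nat.blt_eq, List.any_eq_true, Nat.beq_eq] at h
      obtain ⟨⟨⟨⟨hEk, -⟩, q, hq, hq2⟩, hrun⟩, hrest⟩ := h
      refine ih _ hrest fun p hp hpM => ?_
      rcases List.mem_cons.1 hp with rfl | hp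
      · split at hrun
        · rename_i k' u' hr
          rw [Nat.beq_eq] at hrun
          obtain ⟨a, e⟩ := runH_group hX R _ _ _ hEk _ k' u' hr
          rw [nodeAtoms_spec hX hd 9 _ (by omega) hEk] at e
          refine hk q hq ?_
          have hx : X.node ψ t k' = (ψ a)⁻¹ * (X.node ψ t E.k * ψ (el (unp E.u)) * X.node ψ t E.k) *
              (ψ (el u'))⁻¹ := by rw [e]; group
          rw [hq2, ← hrun, hx]
          exact mul_mem (mul_mem (inv_mem (hle ⟨a, rfl⟩)) (mul_mem (mul_mem hpM (hle ⟨_, rfl⟩)) hpM))
            (inv_mem (hle ⟨_, rfl⟩))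
        · exact absurd hrun Bool.false_ne_true
      · exact hk p hp hpM
  have h1 : ∀ q ∈ [1], X.node ψ t q ∈ M → M = ⊤ := by
    intro q hq hqM
    rw [List.mem_singleton.1 hq, XData.node, nodeX, dif_pos (by rw [hp1]; norm_num), hp1, nodeX_zero, he1,
      one_mul, pow_one] at hqM
    have ht : t ∈ M := (Subgroup.mul_mem_cancel_left M (hle ⟨_, rfl⟩)).1 hqM
    rw [eq_top_iff, ← htop, Subgroup.closure_le]
    rintro g (⟨b, rfl⟩ | hg)
    · exact hle ⟨b, rfl⟩
    · rw [Set.mem_singleton_iff.1 hg]; exact ht
  by_cases hbig : M ≤ ψ.range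
  · exact Or.inl hbig
  · refine Or.inr ?_
    obtain ⟨g, hgM, hg⟩ := SetLike.not_le_iff_exists.1 hbig
    obtain ⟨k, hk, a, b, rfl⟩ := union_univ hX R htop g
    rcases key Es [1] hm h1 k hk with rfl | h
    · exact absurd (by rw [XData.node, nodeX_zero, mul_one]; exact ⟨a * b, map_mul ψ a b⟩) hg
    · refine h ?_
      have := mul_mem (mul_mem (inv_mem (hle ⟨a, rfl⟩)) hgM) (inv_mem (hle ⟨b, rfl⟩))
      simpa [mul_assoc] using this

end

end Cfsg.Agent.HN
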