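import Cfsg.Agent.Lib.HN.Lower
import Cfsg.Agent.Lib.HN.Maximal
import Mathlib.GroupTheory.QuotientGroup.Basic
import Cfsg.Prelude.Def_Sporadic

/-!
From the checks: the order of the presented group and its simplicity.
-/

set_option autoImplicit false
set_option maxRecDepth 100000

namespace Cfsg.Agent.HN

noncomputable section

variable {X : XData} (hX : XOK X)

include hX

theorem index_eq : psiHN.range.index = 1539000 := by
  obtain ⟨h0, h1⟩ := index_le hX rulesHN top_eq
  exact le_antisymm h1 (index_ge hX h0)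

theorem card_range : Nat.card psiHN.range = 177408000 := by
  rw [← card_H0]
  exact (Nat.card_congr (MonoidHom.ofInjective (psiHN_injective hX)).toEquiv).symm

theorem card_HN : Nat.card Cfsg.Spor.HN = 273030912000000 := by
  rw [← Subgroup.card_mul_index psiHN.range, index_eq hX, card_range hX]

theorem finite_HN : Finite Cfsg.Spor.HN :=
  Nat.finite_of_card_ne_zero (by rw [card_HN hX]; norm_num)

/-- A quotient in which the further element dies is trivial. -/
theorem kills {N : Subgroup Cfsg.Spor.HN} [N.Normal] (ht : tHN ∈ N) : N = ⊤ := by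
  set π := QuotientGroup.mk' N
  set φ : H0 →* Cfsg.Spor.HN ⧸ N := π.comp psiHN with hφ
  have hπt : π tHN = 1 := (QuotientGroup.eq_one_iff _).2 ht
  have hz : φ hz = 1 := by
    have h := congrArg π rulesHN.cube
    rw [map_pow, map_mul, hπt, mul_one, map_one] at h
    have h2 : φ hz * φ hz = 1 := by rw [← map_mul, hz_sq, map_one]
    have h3 : φ hz ^ 3 = 1 := h
    rw [pow_succ, pow_two, h2, one_mul] at h3
    exact h3
  have e8 : ∀ w ∈ relF, wv (fun l => φ (g6 l)) w = 1 := fun w hw => by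
    rw [← map_wv, relH6 hw, map_one]
  have hx' : φ hx = 1 := by
    have r8 := e8 [5, 2, 1, 3, 3, 1, 3, 1, 3, 4, 2, 0, 2, 0, 2, 2, 0, 3, 1, 1] (by decide +kernel)
    have r9 := e8 [4, 3, 1, 3, 1, 3, 3, 3, 4, 2, 2, 2, 0, 2, 0, 2, 0, 3, 1, 3, 1, 3, 3, 3, 4, 2, 2, 2, 0, 2,
      0, 2, 0, 3, 1, 3, 1, 3, 3, 3, 4, 2, 2, 2, 0, 2, 0, 2, 0] (by decide +kernel)
    simp only [wv, g6, List.getD_cons_succ, List.getD_cons_zero, map_inv, hz, inv_one, one_mul,
      mul_one] at r8 r9
    have h2 : φ hx * φ hx = 1 := by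
      rw [← inv_eq_one, ← r8]; group
    have h3 : φ hx * φ hx * φ hx = 1 := by
      rw [← r9]; group
    rwa [h2, one_mul] at h3
  have hy' : φ hy = 1 := by
    have r0 := e8 [2, 2, 2, 2, 2, 2] (by decide +kernel)
    have r4 := e8 [0, 2, 0, 2, 0, 2, 0, 2, 0, 2, 0, 2, 0, 2, 0, 2] (by decide +kernel)
    have r3 := e8 [1, 2, 2, 0, 2, 2, 2, 1, 2, 2, 0, 2, 2, 2, 1, 2, 2, 0, 2, 2, 2] (by decide +kernel)
    simp only [wv, g6, List.getD_cons_succ, List.getD_cons_zero, map_inv, hx', inv_one, one_mul,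
      mul_one] at r0 r3 r4
    have p6 : φ hy ^ 6 = 1 := by simp only [pow_succ', pow_zero, mul_one]; exact r0
    have p8 : φ hy ^ 8 = 1 := by simp only [pow_succ', pow_zero, mul_one]; exact r4
    have p15 : φ hy ^ 15 = 1 := by simp only [pow_succ', pow_zero, mul_one]; exact r3
    have p2 : φ hy ^ 2 = 1 := by
      rw [show (8 : ℕ) = 6 + 2 by norm_num, pow_add, p6, one_mul] at p8; exact p8
    rw [show (15 : ℕ) = 2 * 7 + 1 by norm_num, pow_succ, pow_mul, p2, one_pow, one_mul] at p15
    exact p15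
  rw [eq_top_iff, ← top_eq, Subgroup.closure_le]
  rintro g (⟨b, rfl⟩ | hg)
  · have hb : b ∈ φ.ker := by
      have hle : Subgroup.closure ({hx, hy, Cfsg.Agent.HN.hz} : Set H0) ≤ φ.ker := by
        rw [Subgroup.closure_le]
        rintro a (rfl | rfl | rfl)
        exacts [hx', hy', hz]
      exact hle (closure_top ▸ Subgroup.mem_top b)
    exact (QuotientGroup.eq_one_iff _).1 hb
  · rw [Set.mem_singleton_iff.1 hg]; exact ht

variable {Es : List MaxE} (hd : X.okDefs = true) (hm : X.okMax Es [1] = true)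

include hd hm

theorem isSimple : IsSimpleGroup Cfsg.Spor.HN := by
  have := finite_HN hX
  have hnt : Nontrivial Cfsg.Spor.HN := by
    rw [← Finite.one_lt_card_iff_nontrivial, card_HN hX]; norm_num
  refine ⟨fun N hN => ?_⟩
  rcases maximal hX rulesHN top_eq hd hm (le_sup_left : psiHN.range ≤ psiHN.range ⊔ N) with hle | htop
  · -- the kernel of the faithful action
    left
    have hNle : N ≤ psiHN.range := le_sup_right.trans hle
    rw [eq_bot_iff]
    intro n hn
    obtain ⟨b, rfl⟩ := hNle hn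
    rw [Subgroup.mem_bot]
    suffices hb : modelHom hX (psiHN b) = 1 by
      rw [modelHom_psi] at hb
      have h1 := hX.node1
      obtain ⟨hn1, -⟩ := h1
      have hker : ∀ p, X.O.rho b p = p := fun p => by rw [hb, Equiv.Perm.one_apply]
      have : b = 1 := eq_one_of_rho hX hker
      rw [this, map_one]
    refine Equiv.ext fun p => ?_
    obtain ⟨g, rfl⟩ := orbit_full hX p
    obtain ⟨c, hc⟩ := hNle (hN.conj_mem _ hn g⁻¹)
    rw [inv_inv] at hc
    have e : psiHN b * g = g * psiHN c := by rw [hc]; group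
    rw [Equiv.Perm.one_apply, ← Equiv.Perm.mul_apply, ← map_mul, e, map_mul, Equiv.Perm.mul_apply,
      psi_fix hX]
  · right
    refine kills hX ?_
    set π := QuotientGroup.mk' N
    have hsurj : ∀ q : Cfsg.Spor.HN ⧸ N, ∃ c, π (psiHN c) = q := by
      intro q
      obtain ⟨g, rfl⟩ := QuotientGroup.mk'_surjective N q
      have hg : g ∈ psiHN.range ⊔ N := htop ▸ Subgroup.mem_top g
      obtain ⟨_, ⟨c, rfl⟩, n, hn, rfl⟩ := Subgroup.mem_sup_of_normal_right.1 hg
      exact ⟨c, by rw [map_mul]; rw [show π n = 1 from (QuotientGroup.eq_one_iff _).2 hn, mul_one]⟩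
    obtain ⟨c, hc⟩ := hsurj (π tHN)
    have hcomm : π tHN * π (psiHN (hx ^ 2)) = π (psiHN (hx ^ 2)) * π tHN := by
      rw [← hc, ← map_mul, ← map_mul, ← map_mul, ← map_mul, Subgroup.mem_center_iff.1 hx_sq_central c]
    have h2 := rulesHN.x_pow 1
    rw [pow_one, mul_one] at h2
    have h4 : psiHN (hx ^ 2) * tHN = tHN ^ 4 * psiHN (hx ^ 2) := by
      have h22 := rulesHN.x_pow 2
      rw [map_pow, sq, mul_assoc, h2, ← mul_assoc, h22, show 2 * 2 = 4 by norm_num, mul_assoc]
    have h5 := congrArg π h4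
    rw [map_mul, map_mul, ← hcomm, map_pow, mul_left_inj] at h5
    have h6 : π tHN ^ 5 = 1 := by rw [← map_pow, rulesHN.pow5, map_one]
    have h7 : π tHN ^ 3 = 1 := by
      have : π tHN * 1 = π tHN * π tHN ^ 3 := by rw [mul_one, ← pow_succ']; exact h5
      exact (mul_left_cancel this).symm
    have h8 : π tHN = 1 := by
      calc π tHN = (π tHN ^ 3) ^ 2 * ((π tHN ^ 5))⁻¹ := by group
        _ = 1 := by rw [h7, h6]; simp
    exact (QuotientGroup.eq_one_iff _).1 h8

/-- **The presented group is simple of the right order.** -/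
theorem isHN : Cfsg.IsHN Cfsg.Spor.HN := ⟨isSimple hX hd hm, card_HN hX⟩

end

end Cfsg.Agent.HN
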