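import Cfsg.Agent.Lib.HN.ChainCheck
import Cfsg.Agent.Lib.HN.PointCheck0
import Cfsg.Agent.Lib.HN.PointCheck1
import Cfsg.Agent.Lib.HN.PointCheck2
import Cfsg.Agent.Lib.HN.RepCheck
import Cfsg.Agent.Lib.HN.LoopCheck
import Cfsg.Agent.Lib.HN.BaseCheck
import Cfsg.Agent.Lib.HN.CoverCheck
import Cfsg.Agent.Lib.HN.FactCheck
import Cfsg.Agent.Lib.HN.MiscCheck
import Cfsg.Agent.Lib.HN.Theory

/-! All checks hold on the data. -/

set_option autoImplicit false
set_option maxRecDepth 100000

namespace Cfsg.Agent.HN.Dat

theorem chunk {f : ℕ → Bool} {b len n : ℕ} (h : allLo (fun i => f (Nat.add b i)) len = true) (h1 : b ≤ n)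
    (h2 : n < b + len) : f n = true := by
  have := allLo_spec h (i := n - b) (by omega)
  rwa [show Nat.add b (n - b) = n from by show b + (n - b) = n; omega] at this

theorem chains : ∀ k < xd.O.nodes.length, schainOK (xd.O.node k).chain = true := by
  intro k hk
  rw [lengths.1] at hk
  interval_cases k
  · exact chain0
  · exact chain1
  · exact chain2
  · exact chain3
  · exact chain4
  · exact chain5
  · exact chain6
  · exact chain7
  · exact chain8

theorem points : ∀ k < xd.O.nodes.length, ∀ q < 1408, xd.O.okPoint k q = true := by
  intro k hk q hq
  rw [lengths.1] at hk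
  interval_cases k
  · by_cases h0 : q < 176
    · exact chunk point0_0 (by omega) (by omega)
    by_cases h1 : q < 352
    · exact chunk point0_1 (by omega) (by omega)
    by_cases h2 : q < 528
    · exact chunk point0_2 (by omega) (by omega)
    by_cases h3 : q < 704
    · exact chunk point0_3 (by omega) (by omega)
    by_cases h4 : q < 880
    · exact chunk point0_4 (by omega) (by omega)
    by_cases h5 : q < 1056
    · exact chunk point0_5 (by omega) (by omega)
    by_cases h6 : q < 1232
    · exact chunk point0_6 (by omega) (by omega)
    exact chunk point0_7 (by omega) (by omega)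
  · by_cases h0 : q < 176
    · exact chunk point1_0 (by omega) (by omega)
    by_cases h1 : q < 352
    · exact chunk point1_1 (by omega) (by omega)
    by_cases h2 : q < 528
    · exact chunk point1_2 (by omega) (by omega)
    by_cases h3 : q < 704
    · exact chunk point1_3 (by omega) (by omega)
    by_cases h4 : q < 880
    · exact chunk point1_4 (by omega) (by omega)
    by_cases h5 : q < 1056
    · exact chunk point1_5 (by omega) (by omega)
    by_cases h6 : q < 1232
    · exact chunk point1_6 (by omega) (by omega)
    exact chunk point1_7 (by omega) (by omega)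
  · by_cases h0 : q < 176
    · exact chunk point2_0 (by omega) (by omega)
    by_cases h1 : q < 352
    · exact chunk point2_1 (by omega) (by omega)
    by_cases h2 : q < 528
    · exact chunk point2_2 (by omega) (by omega)
    by_cases h3 : q < 704
    · exact chunk point2_3 (by omega) (by omega)
    by_cases h4 : q < 880
    · exact chunk point2_4 (by omega) (by omega)
    by_cases h5 : q < 1056
    · exact chunk point2_5 (by omega) (by omega)
    by_cases h6 : q < 1232
    · exact chunk point2_6 (by omega) (by omega)
    exact chunk point2_7 (by omega) (by omega)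
  · by_cases h0 : q < 176
    · exact chunk point3_0 (by omega) (by omega)
    by_cases h1 : q < 352
    · exact chunk point3_1 (by omega) (by omega)
    by_cases h2 : q < 528
    · exact chunk point3_2 (by omega) (by omega)
    by_cases h3 : q < 704
    · exact chunk point3_3 (by omega) (by omega)
    by_cases h4 : q < 880
    · exact chunk point3_4 (by omega) (by omega)
    by_cases h5 : q < 1056
    · exact chunk point3_5 (by omega) (by omega)
    by_cases h6 : q < 1232
    · exact chunk point3_6 (by omega) (by omega)
    exact chunk point3_7 (by omega) (by omega)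
  · by_cases h0 : q < 176
    · exact chunk point4_0 (by omega) (by omega)
    by_cases h1 : q < 352
    · exact chunk point4_1 (by omega) (by omega)
    by_cases h2 : q < 528
    · exact chunk point4_2 (by omega) (by omega)
    by_cases h3 : q < 704
    · exact chunk point4_3 (by omega) (by omega)
    by_cases h4 : q < 880
    · exact chunk point4_4 (by omega) (by omega)
    by_cases h5 : q < 1056
    · exact chunk point4_5 (by omega) (by omega)
    by_cases h6 : q < 1232
    · exact chunk point4_6 (by omega) (by omega)
    exact chunk point4_7 (by omega) (by omega)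
  · by_cases h0 : q < 176
    · exact chunk point5_0 (by omega) (by omega)
    by_cases h1 : q < 352
    · exact chunk point5_1 (by omega) (by omega)
    by_cases h2 : q < 528
    · exact chunk point5_2 (by omega) (by omega)
    by_cases h3 : q < 704
    · exact chunk point5_3 (by omega) (by omega)
    by_cases h4 : q < 880
    · exact chunk point5_4 (by omega) (by omega)
    by_cases h5 : q < 1056
    · exact chunk point5_5 (by omega) (by omega)
    by_cases h6 : q < 1232
    · exact chunk point5_6 (by omega) (by omega)
    exact chunk point5_7 (by omega) (by omega)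
  · by_cases h0 : q < 176
    · exact chunk point6_0 (by omega) (by omega)
    by_cases h1 : q < 352
    · exact chunk point6_1 (by omega) (by omega)
    by_cases h2 : q < 528
    · exact chunk point6_2 (by omega) (by omega)
    by_cases h3 : q < 704
    · exact chunk point6_3 (by omega) (by omega)
    by_cases h4 : q < 880
    · exact chunk point6_4 (by omega) (by omega)
    by_cases h5 : q < 1056
    · exact chunk point6_5 (by omega) (by omega)
    by_cases h6 : q < 1232
    · exact chunk point6_6 (by omega) (by omega)
    exact chunk point6_7 (by omega) (by omega)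
  · by_cases h0 : q < 176
    · exact chunk point7_0 (by omega) (by omega)
    by_cases h1 : q < 352
    · exact chunk point7_1 (by omega) (by omega)
    by_cases h2 : q < 528
    · exact chunk point7_2 (by omega) (by omega)
    by_cases h3 : q < 704
    · exact chunk point7_3 (by omega) (by omega)
    by_cases h4 : q < 880
    · exact chunk point7_4 (by omega) (by omega)
    by_cases h5 : q < 1056
    · exact chunk point7_5 (by omega) (by omega)
    by_cases h6 : q < 1232
    · exact chunk point7_6 (by omega) (by omega)
    exact chunk point7_7 (by omega) (by omega)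
  · by_cases h0 : q < 176
    · exact chunk point8_0 (by omega) (by omega)
    by_cases h1 : q < 352
    · exact chunk point8_1 (by omega) (by omega)
    by_cases h2 : q < 528
    · exact chunk point8_2 (by omega) (by omega)
    by_cases h3 : q < 704
    · exact chunk point8_3 (by omega) (by omega)
    by_cases h4 : q < 880
    · exact chunk point8_4 (by omega) (by omega)
    by_cases h5 : q < 1056
    · exact chunk point8_5 (by omega) (by omega)
    by_cases h6 : q < 1232
    · exact chunk point8_6 (by omega) (by omega)
    exact chunk point8_7 (by omega) (by omega)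

theorem reps_ok : ∀ i < xd.O.reps.length, xd.O.okRep i = true := by
  intro i hn
  rw [lengths.2.1] at hn
  by_cases h0 : i < 3
  · exact chunk rep0 (by omega) (by omega)
  by_cases h1 : i < 6
  · exact chunk rep1 (by omega) (by omega)
  by_cases h2 : i < 9
  · exact chunk rep2 (by omega) (by omega)
  by_cases h3 : i < 12
  · exact chunk rep3 (by omega) (by omega)
  by_cases h4 : i < 15
  · exact chunk rep4 (by omega) (by omega)
  by_cases h5 : i < 18
  · exact chunk rep5 (by omega) (by omega)
  by_cases h6 : i < 21
  · exact chunk rep6 (by omega) (by omega)
  by_cases h7 : i < 24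
  · exact chunk rep7 (by omega) (by omega)
  by_cases h8 : i < 27
  · exact chunk rep8 (by omega) (by omega)
  by_cases h9 : i < 30
  · exact chunk rep9 (by omega) (by omega)
  by_cases h10 : i < 33
  · exact chunk rep10 (by omega) (by omega)
  by_cases h11 : i < 36
  · exact chunk rep11 (by omega) (by omega)
  by_cases h12 : i < 39
  · exact chunk rep12 (by omega) (by omega)
  by_cases h13 : i < 42
  · exact chunk rep13 (by omega) (by omega)
  by_cases h14 : i < 45
  · exact chunk rep14 (by omega) (by omega)
  by_cases h15 : i < 48
  · exact chunk rep15 (by omega) (by omega)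
  by_cases h16 : i < 51
  · exact chunk rep16 (by omega) (by omega)
  by_cases h17 : i < 54
  · exact chunk rep17 (by omega) (by omega)
  by_cases h18 : i < 57
  · exact chunk rep18 (by omega) (by omega)
  by_cases h19 : i < 60
  · exact chunk rep19 (by omega) (by omega)
  by_cases h20 : i < 63
  · exact chunk rep20 (by omega) (by omega)
  by_cases h21 : i < 66
  · exact chunk rep21 (by omega) (by omega)
  by_cases h22 : i < 69
  · exact chunk rep22 (by omega) (by omega)
  by_cases h23 : i < 72
  · exact chunk rep23 (by omega) (by omega)
  by_cases h24 : i < 75
  · exact chunk rep24 (by omega) (by omega)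
  by_cases h25 : i < 78
  · exact chunk rep25 (by omega) (by omega)
  by_cases h26 : i < 81
  · exact chunk rep26 (by omega) (by omega)
  by_cases h27 : i < 84
  · exact chunk rep27 (by omega) (by omega)
  by_cases h28 : i < 87
  · exact chunk rep28 (by omega) (by omega)
  by_cases h29 : i < 90
  · exact chunk rep29 (by omega) (by omega)
  by_cases h30 : i < 93
  · exact chunk rep30 (by omega) (by omega)
  by_cases h31 : i < 96
  · exact chunk rep31 (by omega) (by omega)
  by_cases h32 : i < 99
  · exact chunk rep32 (by omega) (by omega)
  exact chunk rep33 (by omega) (by omega)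

theorem loops_ok : ∀ i < xd.O.reps.length, xd.okLoops i = true := by
  intro i hn
  rw [lengths.2.1] at hn
  by_cases h0 : i < 3
  · exact chunk loop0 (by omega) (by omega)
  by_cases h1 : i < 6
  · exact chunk loop1 (by omega) (by omega)
  by_cases h2 : i < 9
  · exact chunk loop2 (by omega) (by omega)
  by_cases h3 : i < 12
  · exact chunk loop3 (by omega) (by omega)
  by_cases h4 : i < 15
  · exact chunk loop4 (by omega) (by omega)
  by_cases h5 : i < 18
  · exact chunk loop5 (by omega) (by omega)
  by_cases h6 : i < 21
  · exact chunk loop6 (by omega) (by omega)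
  by_cases h7 : i < 24
  · exact chunk loop7 (by omega) (by omega)
  by_cases h8 : i < 27
  · exact chunk loop8 (by omega) (by omega)
  by_cases h9 : i < 30
  · exact chunk loop9 (by omega) (by omega)
  by_cases h10 : i < 33
  · exact chunk loop10 (by omega) (by omega)
  by_cases h11 : i < 36
  · exact chunk loop11 (by omega) (by omega)
  by_cases h12 : i < 39
  · exact chunk loop12 (by omega) (by omega)
  by_cases h13 : i < 42
  · exact chunk loop13 (by omega) (by omega)
  by_cases h14 : i < 45
  · exact chunk loop14 (by omega) (by omega)
  by_cases h15 : i < 48
  · exact chunk loop15 (by omega) (by omega)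
  by_cases h16 : i < 51
  · exact chunk loop16 (by omega) (by omega)
  by_cases h17 : i < 54
  · exact chunk loop17 (by omega) (by omega)
  by_cases h18 : i < 57
  · exact chunk loop18 (by omega) (by omega)
  by_cases h19 : i < 60
  · exact chunk loop19 (by omega) (by omega)
  by_cases h20 : i < 63
  · exact chunk loop20 (by omega) (by omega)
  by_cases h21 : i < 66
  · exact chunk loop21 (by omega) (by omega)
  by_cases h22 : i < 69
  · exact chunk loop22 (by omega) (by omega)
  by_cases h23 : i < 72
  · exact chunk loop23 (by omega) (by omega)
  by_cases h24 : i < 75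
  · exact chunk loop24 (by omega) (by omega)
  by_cases h25 : i < 78
  · exact chunk loop25 (by omega) (by omega)
  by_cases h26 : i < 81
  · exact chunk loop26 (by omega) (by omega)
  by_cases h27 : i < 84
  · exact chunk loop27 (by omega) (by omega)
  by_cases h28 : i < 87
  · exact chunk loop28 (by omega) (by omega)
  by_cases h29 : i < 90
  · exact chunk loop29 (by omega) (by omega)
  by_cases h30 : i < 93
  · exact chunk loop30 (by omega) (by omega)
  by_cases h31 : i < 96
  · exact chunk loop31 (by omega) (by omega)
  by_cases h32 : i < 99
  · exact chunk loop32 (by omega) (by omega)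
  exact chunk loop33 (by omega) (by omega)

theorem bases_ok : ∀ b < xd.nbase, xd.okBase b = true := by
  intro b hn
  rw [nbase_eq] at hn
  by_cases h0 : b < 64
  · exact chunk baseOK0 (by omega) (by omega)
  by_cases h1 : b < 128
  · exact chunk baseOK1 (by omega) (by omega)
  by_cases h2 : b < 192
  · exact chunk baseOK2 (by omega) (by omega)
  by_cases h3 : b < 256
  · exact chunk baseOK3 (by omega) (by omega)
  by_cases h4 : b < 320
  · exact chunk baseOK4 (by omega) (by omega)
  by_cases h5 : b < 384
  · exact chunk baseOK5 (by omega) (by omega)
  by_cases h6 : b < 448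
  · exact chunk baseOK6 (by omega) (by omega)
  by_cases h7 : b < 512
  · exact chunk baseOK7 (by omega) (by omega)
  by_cases h8 : b < 576
  · exact chunk baseOK8 (by omega) (by omega)
  by_cases h9 : b < 640
  · exact chunk baseOK9 (by omega) (by omega)
  by_cases h10 : b < 704
  · exact chunk baseOK10 (by omega) (by omega)
  by_cases h11 : b < 768
  · exact chunk baseOK11 (by omega) (by omega)
  by_cases h12 : b < 832
  · exact chunk baseOK12 (by omega) (by omega)
  by_cases h13 : b < 896
  · exact chunk baseOK13 (by omega) (by omega)
  by_cases h14 : b < 960
  · exact chunk baseOK14 (by omega) (by omega)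
  by_cases h15 : b < 1024
  · exact chunk baseOK15 (by omega) (by omega)
  by_cases h16 : b < 1088
  · exact chunk baseOK16 (by omega) (by omega)
  exact chunk baseOK17 (by omega) (by omega)

theorem cover_ok : ∀ c < 50 * xd.O.reps.length, xd.okCov c = true := by
  intro c hn
  rw [lengths.2.1] at hn
  by_cases h0 : c < 202
  · exact chunk cov0 (by omega) (by omega)
  by_cases h1 : c < 404
  · exact chunk cov1 (by omega) (by omega)
  by_cases h2 : c < 606
  · exact chunk cov2 (by omega) (by omega)
  by_cases h3 : c < 808
  · exact chunk cov3 (by omega) (by omega)
  by_cases h4 : c < 1010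
  · exact chunk cov4 (by omega) (by omega)
  by_cases h5 : c < 1212
  · exact chunk cov5 (by omega) (by omega)
  by_cases h6 : c < 1414
  · exact chunk cov6 (by omega) (by omega)
  by_cases h7 : c < 1616
  · exact chunk cov7 (by omega) (by omega)
  by_cases h8 : c < 1818
  · exact chunk cov8 (by omega) (by omega)
  by_cases h9 : c < 2020
  · exact chunk cov9 (by omega) (by omega)
  by_cases h10 : c < 2222
  · exact chunk cov10 (by omega) (by omega)
  by_cases h11 : c < 2424
  · exact chunk cov11 (by omega) (by omega)
  by_cases h12 : c < 2626
  · exact chunk cov12 (by omega) (by omega)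
  by_cases h13 : c < 2828
  · exact chunk cov13 (by omega) (by omega)
  by_cases h14 : c < 3030
  · exact chunk cov14 (by omega) (by omega)
  by_cases h15 : c < 3232
  · exact chunk cov15 (by omega) (by omega)
  by_cases h16 : c < 3434
  · exact chunk cov16 (by omega) (by omega)
  by_cases h17 : c < 3636
  · exact chunk cov17 (by omega) (by omega)
  by_cases h18 : c < 3838
  · exact chunk cov18 (by omega) (by omega)
  by_cases h19 : c < 4040
  · exact chunk cov19 (by omega) (by omega)
  by_cases h20 : c < 4242
  · exact chunk cov20 (by omega) (by omega)
  by_cases h21 : c < 4444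
  · exact chunk cov21 (by omega) (by omega)
  by_cases h22 : c < 4646
  · exact chunk cov22 (by omega) (by omega)
  by_cases h23 : c < 4848
  · exact chunk cov23 (by omega) (by omega)
  exact chunk cov24 (by omega) (by omega)

theorem facts_ok : ∀ n < xd.nfacts, xd.D.okFact n = true := by
  intro n hn
  rw [lengths.2.2] at hn
  by_cases h0 : n < 50
  · exact chunk fact0 (by omega) (by omega)
  by_cases h1 : n < 100
  · exact chunk fact1 (by omega) (by omega)
  exact chunk fact2 (by omega) (by omega)

theorem stabs : ∀ n, (xd.D.fact n).e = 0 → (xd.D.fact n).j = (xd.D.fact n).k := by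
  intro n he
  unfold DData.fact at he ⊢
  by_cases h : n < xd.D.facts.length
  · rw [List.getD_eq_getElem _ _ h] at he ⊢
    have := List.all_eq_true.1 stabsOK _ (List.getElem_mem h)
    simpa [he] using this
  · rw [List.getD_eq_default _ _ (by omega)] at he
    simp at he

/-- **Every check holds.** -/
theorem xok : XOK xd where
  omega := ⟨chains, points, reps_ok⟩
  groups := groupsOK
  loops := loops_ok
  base := bases_ok
  cover := cover_ok
  reach := fun j hj => allLo_spec reachOK (lengths.1 ▸ hj)
  facts := facts_ok
  stabs := stabs
  gfacts := fun k hk => allLo_spec gfactsOK (lengths.1 ▸ hk)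
  moves := fun i hi => allLo_spec movesOK (lengths.2.1 ▸ hi)
  sizes := sizesOK
  node0 := node0OK
  node1 := node1OK

end Cfsg.Agent.HN.Dat
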