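import Cfsg.Agent.Lib.HN.Omega
import Cfsg.Agent.Lib.HN.Deduce

/-!
The rules hold for the map on cosets, from checks at the orbit representatives.
-/

set_option autoImplicit false
set_option maxRecDepth 100000

namespace Cfsg.Agent.HN

noncomputable section

/-- A hint for a step: representative, membership code and element fixing `0`. -/
structure Hint where
  i : ℕ
  w : ℕ
  kap : ℕ

/-- Checked evaluation of a word in the letters and the map (`5`). -/
def OData.runH (O : OData) : List ℕ → List Hint → ℕ → List ℕ → Option (ℕ × List ℕ)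
  | [], hs, k, u => bif hs.isEmpty then some (k, u) else none
  | a :: W, hs, k, u =>
    bif Nat.blt a 5 then OData.runH O W hs k (u ++ [a])
    else match hs with
    | [] => none
    | H :: hs =>
      bif Nat.beq a 5 && Nat.blt H.i O.reps.length && Nat.beq (O.rep H.i).k k &&
          codeOK (O.node k).chain H.w && letOK 5 (unp H.kap) && Nat.beq (lact (unp H.kap) 0) 0 &&
          eqH u (prodW (O.node k).chain H.w ++ unp (O.rep H.i).h ++ unp H.kap) then
        OData.runH O W hs (O.rep H.i).j (unp (O.rep H.i).hp ++ unp H.kap)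
      else none

/-- A loop: evaluation returns to the coset it starts from. -/
def OData.okLoop (O : OData) (W : List ℕ) (hs : List Hint) (v k : ℕ) (h : List ℕ) : Bool :=
  match O.runH W hs k h with
  | some (k', u) => Nat.beq k' k && codeOK (O.node k).chain v && eqH u (prodW (O.node k).chain v ++ h)
  | none => false

variable {O : OData} (hO : OOK O)

/-- The action of an element from the left. -/
def OData.rho (O : OData) : H0 →* Equiv.Perm O.Pt where
  toFun b :=
    { toFun := fun p => ⟨p.1, b • p.2⟩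
      invFun := fun p => ⟨p.1, b⁻¹ • p.2⟩
      left_inv := fun p => congrArg (Sigma.mk p.1) (inv_smul_smul b p.2)
      right_inv := fun p => congrArg (Sigma.mk p.1) (smul_inv_smul b p.2) }
  map_one' := Equiv.ext fun p => congrArg (Sigma.mk p.1) (one_smul H0 p.2)
  map_mul' a b := Equiv.ext fun p => congrArg (Sigma.mk p.1) (mul_smul a b p.2)

theorem OData.rho_pt {k : ℕ} (hk : k < O.nodes.length) (b h : H0) :
    O.rho b⁻¹ (O.pt k hk h) = O.pt k hk (h * b) := by
  show (⟨⟨k, hk⟩, b⁻¹ • (QuotientGroup.mk h⁻¹ : H0 ⧸ O.sgrp k)⟩ : O.Pt) = ⟨⟨k, hk⟩, _⟩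
  rw [MulAction.Quotient.smul_mk, smul_eq_mul, mul_inv_rev]

/-- The function of an atom. -/
def OOK.atom (a : ℕ) (p : O.Pt) : O.Pt :=
  if a < 5 then O.rho (el [a])⁻¹ p else hO.step p

/-- The function of a word of atoms, the first applied first. -/
def OOK.act : List ℕ → O.Pt → O.Pt
  | [], p => p
  | a :: W, p => OOK.act W (hO.atom a p)

theorem step_hint {k : ℕ} (hk : k < O.nodes.length) {i w kap : ℕ} {u : List ℕ} (hi : i < O.reps.length)
    (hik : (O.rep i).k = k) (hw : codeOK (O.node k).chain w = true) (hl : letOK 5 (unp kap) = true)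
    (hf : lact (unp kap) 0 = 0)
    (he : eqH u (prodW (O.node k).chain w ++ unp (O.rep i).h ++ unp kap) = true) :
    hO.step (O.pt k hk (el u)) =
      O.pt (O.rep i).j (rep_spec hO hi).2.1 (el (unp (O.rep i).hp ++ unp kap)) := by
  subst hik
  rw [el_eq he, el_append, el_append, el_append]
  exact hO.step_pt hi (prodW_mem (hO.chain _ hk) hw)
    (mem_stab0.2 (Fin.ext (by rw [pi_el hl, hf]; simp [pi])))

theorem runH_spec : ∀ (W : List ℕ) (hs : List Hint) (k : ℕ) (hk : k < O.nodes.length) (u : List ℕ)
    (k' : ℕ) (u' : List ℕ), O.runH W hs k u = some (k', u') →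
      ∃ hk' : k' < O.nodes.length, hO.act W (O.pt k hk (el u)) = O.pt k' hk' (el u') := by
  intro W
  induction W with
  | nil =>
    intro hs k hk u k' u' h
    cases hs with
    | nil =>
      simp only [OData.runH, List.isEmpty_nil, cond_true, Option.some.injEq, Prod.mk.injEq] at h
      obtain ⟨rfl, rfl⟩ := h
      exact ⟨hk, rfl⟩
    | cons _ _ => simp [OData.runH] at h
  | cons a W ih =>
    intro hs k hk u k' u' h
    cases ha : Nat.blt a 5 with
    | true =>
      rw [OData.runH.eq_def] at h
      simp only [ha, cond_true] at h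
      rw [Nat.blt_eq] at ha
      obtain ⟨hk', e⟩ := ih hs k hk _ k' u' h
      refine ⟨hk', ?_⟩
      rw [OOK.act, OOK.atom, if_pos ha, OData.rho_pt, ← el_append]
      exact e
    | false =>
      cases hs with
      | nil => rw [OData.runH.eq_def] at h; simp [ha] at h
      | cons H hs =>
        rw [OData.runH.eq_def] at h
        simp only [ha, cond_false] at h
        cases hc : (Nat.beq a 5 && Nat.blt H.i O.reps.length && Nat.beq (O.rep H.i).k k &&
            codeOK (O.node k).chain H.w && letOK 5 (unp H.kap) && Nat.beq (lact (unp H.kap) 0) 0 &&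
            eqH u (prodW (O.node k).chain H.w ++ unp (O.rep H.i).h ++ unp H.kap)) with
        | false => simp only [hc, cond_false] at h; exact absurd h (by simp)
        | true =>
          simp only [hc, cond_true] at h
          simp only [Bool.and_eq_true, Nat.beq_eq, Nat.blt_eq] at hc
          obtain ⟨⟨⟨⟨⟨⟨ha', hi⟩, hik⟩, hw⟩, hl⟩, hf⟩, he⟩ := hc
          obtain ⟨hk', e⟩ := ih hs _ (rep_spec hO hi).2.1 _ k' u' h
          refine ⟨hk', ?_⟩
          rw [OOK.act, OOK.atom, if_neg (by omega), step_hint hO hk hi hik hw hl hf he]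
          exact e

theorem okLoop_spec {W : List ℕ} {hs : List Hint} {v k : ℕ} {h : List ℕ} (hk : k < O.nodes.length)
    (hok : O.okLoop W hs v k h = true) : hO.act W (O.pt k hk (el h)) = O.pt k hk (el h) := by
  unfold OData.okLoop at hok
  split at hok
  · rename_i k' u hr
    simp only [Bool.and_eq_true, Nat.beq_eq] at hok
    obtain ⟨⟨rfl, hv⟩, he⟩ := hok
    obtain ⟨_, e⟩ := runH_spec hO W hs _ hk h _ u hr
    rw [e, el_eq he, el_append]
    exact OData.pt_mul_left _ (prodW_mem (hO.chain _ hk) hv)
  · exact absurd hok Bool.false_ne_true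

theorem step_rho {b : H0} (hb : b ∈ stab0) (p : O.Pt) :
    hO.step (O.rho b⁻¹ p) = O.rho b⁻¹ (hO.step p) := by
  obtain ⟨k, hk, a, rfl⟩ := OData.pt_surj p
  obtain ⟨j, hj, c, e₁, e₂⟩ := hO.step_comm hk a hb
  rw [OData.rho_pt, e₁, e₂, OData.rho_pt]

theorem atom_comm {a : ℕ} {b c : H0}
    (h : if a < 5 then b * el [a] = el [a] * c else b ∈ stab0 ∧ c = b) (p : O.Pt) :
    hO.atom a (O.rho b⁻¹ p) = O.rho c⁻¹ (hO.atom a p) := by
  unfold OOK.atom
  by_cases ha : a < 5
  · rw [if_pos ha] at h
    rw [if_pos ha, if_pos ha, ← Equiv.Perm.mul_apply, ← Equiv.Perm.mul_apply, ← map_mul, ← map_mul,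
      ← mul_inv_rev, ← mul_inv_rev, h]
  · rw [if_neg ha] at h
    rw [if_neg ha, if_neg ha, h.2]
    exact step_rho hO h.1 p

/-- A loop that commutes with `b` is a loop after `b`. -/
theorem loop_mul {W : List ℕ} {k : ℕ} (hk : k < O.nodes.length) {h : H0}
    (hfix : hO.act W (O.pt k hk h) = O.pt k hk h) {b : H0}
    (hcomm : ∀ p, hO.act W (O.rho b⁻¹ p) = O.rho b⁻¹ (hO.act W p)) :
    hO.act W (O.pt k hk (h * b)) = O.pt k hk (h * b) := by
  rw [← OData.rho_pt, hcomm, hfix]

end

end Cfsg.Agent.HN
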