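import Cfsg.Agent.Lib.HN.Elem
import Mathlib.GroupTheory.GroupAction.Quotient
import Mathlib.Algebra.BigOperators.Group.List.Basic

/-!
Sets of cosets of several subgroups of the group of order 177408000, and a map on them given on the
representatives of the orbits of the stabiliser of the point `0`.
-/

set_option autoImplicit false
set_option maxRecDepth 100000

namespace Cfsg.Agent.HN

noncomputable section

/-- A node: its subgroup and the forest of that subgroup on the points. -/
structure NodeD where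
  chain : List SLev
  forest : Trie

/-- An orbit representative: the node, the word, the image, and the stabiliser of the point with witnesses. -/
structure RepD where
  k : ℕ
  h : ℕ
  j : ℕ
  hp : ℕ
  len : ℕ
  tau : List SLev
  tin : List ℕ
  tout : List ℕ

/-- All nodes and representatives. -/
structure OData where
  nodes : List NodeD
  reps : List RepD

variable (O : OData)

/-- Node `k`. -/
def OData.node (k : ℕ) : NodeD := O.nodes.getD k ⟨[], .leaf 0⟩

/-- Representative `i`. -/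
def OData.rep (i : ℕ) : RepD := O.reps.getD i ⟨0, 0, 0, 0, 0, [], [], []⟩

/-- The orbit of a point. -/
def OData.root (k q : ℕ) : ℕ := fld ((O.node k).forest.get q) 2

/-- The number of points in the orbit of a representative. -/
def OData.orbLen (k i : ℕ) : ℕ :=
  Nat.rec 0 (fun q r => Nat.add r (Bool.rec 0 1 (Nat.beq (O.root k q) i))) 1408

/-- The checks on one point. -/
def OData.okPoint (k q : ℕ) : Bool :=
  let N := O.node k
  let v := N.forest.get q
  Nat.blt (fld v 2) O.reps.length && Nat.beq (O.rep (fld v 2)).k k &&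
    (bif Nat.beq (fld v 3) 0 then Nat.beq (lact (unp (O.rep (fld v 2)).h) 0) q
    else Nat.blt (fld v 0) 1408 && Nat.blt (fld (N.forest.get (fld v 0)) 3) (fld v 3) &&
      Nat.beq (O.root k (fld v 0)) (fld v 2) && Nat.blt (fld v 1) (topGens N.chain).length &&
      Nat.beq (lact (unp ((topGens N.chain).getD (fld v 1) 0)) (fld v 0)) q) &&
    (topGens N.chain).all fun g => letOK 5 (unp g) && Nat.beq (O.root k (lact (unp g) q)) (fld v 2)

/-- The checks on one representative. -/
def OData.okRep (i : ℕ) : Bool :=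
  let R := O.rep i
  let S := (O.node R.k).chain
  let h := unp R.h
  let hp := unp R.hp
  Nat.blt R.k O.nodes.length && Nat.blt R.j O.nodes.length && letOK 5 h && letOK 5 hp &&
    Nat.beq (O.root R.k (lact h 0)) i && Nat.beq (O.orbLen R.k i) R.len &&
    schainOK R.tau && Nat.beq (Nat.mul (schainSize R.tau) R.len) (schainSize S) &&
    Nat.beq R.tin.length (topGens R.tau).length && Nat.beq R.tout.length (topGens R.tau).length &&
    allLo (fun g =>
      let tau := unp ((topGens R.tau).getD g 0)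
      letOK 5 tau && Nat.beq (lact tau (lact h 0)) (lact h 0) &&
        codeOK S (R.tin.getD g 0) && eqH tau (prodW S (R.tin.getD g 0)) &&
        codeOK (O.node R.j).chain (R.tout.getD g 0) &&
        eqH (hp ++ winv iv5 h ++ tau ++ h ++ winv iv5 hp) (prodW (O.node R.j).chain (R.tout.getD g 0)))
      (topGens R.tau).length

/-- Everything that is checked. -/
structure OOK : Prop where
  chain : ∀ k < O.nodes.length, schainOK (O.node k).chain = true
  point : ∀ k < O.nodes.length, ∀ q < 1408, O.okPoint k q = true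
  rep : ∀ i < O.reps.length, O.okRep i = true

/-- The subgroup of a node. -/
def OData.sgrp (k : ℕ) : Subgroup H0 := grp (O.node k).chain

/-- The cosets of all the nodes. -/
abbrev OData.Pt : Type := Σ k : Fin O.nodes.length, H0 ⧸ O.sgrp k

/-- The coset of `h` at node `k`. -/
def OData.pt (k : ℕ) (hk : k < O.nodes.length) (h : H0) : O.Pt :=
  ⟨⟨k, hk⟩, QuotientGroup.mk h⁻¹⟩

variable {O}

theorem OData.pt_eq {k : ℕ} (hk : k < O.nodes.length) {h h' : H0} (hs : h * h'⁻¹ ∈ O.sgrp k) :
    O.pt k hk h = O.pt k hk h' := by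
  simp only [OData.pt, Sigma.mk.injEq, heq_eq_eq, true_and]
  rw [QuotientGroup.eq, inv_inv]
  exact hs

theorem OData.pt_mul_left {k : ℕ} (hk : k < O.nodes.length) {s h : H0} (hs : s ∈ O.sgrp k) :
    O.pt k hk (s * h) = O.pt k hk h := OData.pt_eq hk (by simpa using hs)

theorem OData.pt_surj (p : O.Pt) : ∃ k, ∃ hk : k < O.nodes.length, ∃ h, p = O.pt k hk h := by
  obtain ⟨⟨k, hk⟩, c⟩ := p
  obtain ⟨a, rfl⟩ := QuotientGroup.mk_surjective c
  exact ⟨k, hk, a⁻¹, by simp [OData.pt]⟩

theorem OData.pt_mem {k : ℕ} (hk : k < O.nodes.length) {h h' : H0}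
    (e : O.pt k hk h = O.pt k hk h') : h * h'⁻¹ ∈ O.sgrp k := by
  simp only [OData.pt, Sigma.mk.injEq, heq_eq_eq, true_and] at e
  rw [QuotientGroup.eq, inv_inv] at e
  exact e

theorem OData.card_pt (hO : OOK O) :
    Nat.card O.Pt = ∑ k : Fin O.nodes.length, 177408000 / schainSize (O.node k).chain := by
  rw [Nat.card_sigma]
  refine Finset.sum_congr rfl fun k _ => ?_
  have h := Subgroup.card_eq_card_quotient_mul_card_subgroup (O.sgrp k)
  have hc : Nat.card (O.sgrp k) = schainSize (O.node k).chain := (schain_exact (hO.chain k k.2)).2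
  rw [card_H0, hc] at h
  rw [h, Nat.mul_div_cancel _ (hc ▸ Nat.card_pos)]

/-- The stabiliser of the point `0`. -/
def stab0 : Subgroup H0 :=
  (MulAction.stabilizer (Equiv.Perm (Fin big.n)) (pi 1)).comap Cfsg.Agent.HN.rep

theorem mem_stab0 {a : H0} : a ∈ stab0 ↔ pi a = pi 1 := by
  rw [stab0, Subgroup.mem_comap, MulAction.mem_stabilizer_iff]
  show Cfsg.Agent.HN.rep a (pi 1) = pi 1 ↔ _
  rw [← pi_mul, mul_one]

theorem pi_eq_iff {a b : H0} : pi a = pi b ↔ a⁻¹ * b ∈ stab0 := by
  rw [mem_stab0, pi_mul]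
  constructor
  · intro e
    rw [← e, ← pi_mul, inv_mul_cancel]
  · intro e
    have h := congrArg (Cfsg.Agent.HN.rep a) e
    rw [← Equiv.Perm.mul_apply, ← map_mul, mul_inv_cancel, map_one, Equiv.Perm.one_apply, ← pi_mul,
      mul_one] at h
    exact h.symm

theorem pi_lt (a : H0) : (pi a).1 < 1408 := (pi a).2

theorem big_n : big.n = 1408 := rfl

variable (hO : OOK O)

include hO

theorem point_spec {k q : ℕ} (hk : k < O.nodes.length) (hq : q < 1408) :
    O.root k q < O.reps.length ∧ (O.rep (O.root k q)).k = k ∧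
      ∀ g ∈ topGens (O.node k).chain, O.root k (lact (unp g) q) = O.root k q := by
  have h := hO.point k hk q hq
  simp only [OData.okPoint, Bool.and_eq_true, Nat.blt_eq, Nat.beq_eq, List.all_eq_true] at h
  exact ⟨h.1.1.1, h.1.1.2, fun g hg => (h.2 g hg).2⟩

theorem gen_letOK {k : ℕ} (hk : k < O.nodes.length) :
    ∀ g ∈ topGens (O.node k).chain, letOK 5 (unp g) = true := by
  intro g hg
  have h := hO.point k hk 0 (by norm_num)
  simp only [OData.okPoint, Bool.and_eq_true, Nat.blt_eq, Nat.beq_eq, List.all_eq_true] at h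
  exact (h.2 g hg).1

theorem rep_spec {i : ℕ} (hi : i < O.reps.length) :
    (O.rep i).k < O.nodes.length ∧ (O.rep i).j < O.nodes.length ∧ letOK 5 (unp (O.rep i).h) = true ∧
      letOK 5 (unp (O.rep i).hp) = true ∧ O.root (O.rep i).k (pi (el (unp (O.rep i).h))).1 = i := by
  have h := hO.rep i hi
  simp only [OData.okRep, Bool.and_eq_true, Nat.blt_eq, Nat.beq_eq] at h
  obtain ⟨⟨⟨⟨⟨⟨⟨⟨⟨⟨h1, h2⟩, h3⟩, h4⟩, h5⟩, -⟩, -⟩, -⟩, -⟩, -⟩, -⟩ := h
  exact ⟨h1, h2, h3, h4, by rw [pi_el h3]; exact h5⟩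

theorem root_invariant {k : ℕ} (hk : k < O.nodes.length) {s : H0} (hs : s ∈ O.sgrp k) (a : H0) :
    O.root k (pi (s * a)).1 = O.root k (pi a).1 := by
  revert a
  induction hs using Subgroup.closure_induction with
  | mem s hs =>
    intro a
    obtain ⟨g, hg, rfl⟩ := hs
    rw [pi_mul, rep_el_apply (gen_letOK hO hk g hg)]
    exact (point_spec hO hk (pi_lt a)).2.2 g hg
  | one => simp
  | mul s u _ _ hs hu => intro a; rw [mul_assoc, hs, hu]
  | inv s _ hs => intro a; rw [← hs, mul_inv_cancel_left]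

theorem orbit_reach {k : ℕ} (hk : k < O.nodes.length) :
    ∀ d : ℕ, ∀ q : Fin big.n, fld ((O.node k).forest.get q.1) 3 = d →
      ∃ s ∈ O.sgrp k, pi (s * el (unp (O.rep (O.root k q.1)).h)) = q := by
  intro d
  induction d using Nat.strongRecOn with
  | _ d ih =>
    intro q hd
    have h := hO.point k hk q.1 q.2
    simp only [OData.okPoint, Bool.and_eq_true, Nat.blt_eq, Nat.beq_eq] at h
    obtain ⟨⟨⟨hr, -⟩, hb⟩, -⟩ := h
    have hlet := (rep_spec hO hr).2.2.1
    cases h0 : Nat.beq (fld ((O.node k).forest.get q.1) 3) 0 with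
    | true =>
      rw [h0, cond_true, Nat.beq_eq] at hb
      exact ⟨1, one_mem _, Fin.ext (by rw [one_mul]; exact (pi_el hlet).trans hb)⟩
    | false =>
      rw [h0, cond_false] at hb
      simp only [Bool.and_eq_true, Nat.blt_eq, Nat.beq_eq] at hb
      obtain ⟨⟨⟨⟨hp, hrk⟩, hroot⟩, hg⟩, hact⟩ := hb
      set g := (topGens (O.node k).chain).getD (fld ((O.node k).forest.get q.1) 1) 0 with hgd
      obtain ⟨s, hs, e⟩ := ih _ (hd ▸ hrk) ⟨_, hp⟩ rfl
      have hgm : g ∈ topGens (O.node k).chain := by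
        rw [hgd, List.getD_eq_getElem _ _ hg]; exact List.getElem_mem hg
      refine ⟨el (unp g) * s, mul_mem (Subgroup.subset_closure ⟨g, hgm, rfl⟩) hs, Fin.ext ?_⟩
      have e' : pi (s * el (unp (O.rep (O.root k q.1)).h)) = (⟨_, hp⟩ : Fin big.n) := by
        rw [← e, show O.root k q.1 = O.root k (fld ((O.node k).forest.get q.1) 0) from hroot.symm]
      rw [mul_assoc, pi_mul, e', rep_el_apply (gen_letOK hO hk g hgm)]
      exact hact

/-- **Every element is `s * h i * κ` for its representative `i`.** -/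
theorem decomp {k : ℕ} (hk : k < O.nodes.length) (a : H0) :
    ∃ s ∈ O.sgrp k, ∃ b ∈ stab0, a = s * el (unp (O.rep (O.root k (pi a).1)).h) * b := by
  obtain ⟨s, hs, e⟩ := orbit_reach hO hk _ (pi a) rfl
  exact ⟨s, hs, _, pi_eq_iff.1 e, by group⟩

theorem orbLen_le {k i : ℕ} (hk : k < O.nodes.length) (hi : i < O.reps.length) (hki : (O.rep i).k = k) :
    O.orbLen k i ≤
      Nat.card (MulAction.orbit ((O.sgrp k).map Cfsg.Agent.HN.rep) (pi (el (unp (O.rep i).h)))) := by
  classical
  have hcount : ∀ n, (Nat.rec (motive := fun _ => ℕ) 0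
      (fun q r => Nat.add r (Bool.rec 0 1 (Nat.beq (O.root k q) i))) n) =
        ((Finset.range n).filter fun q => O.root k q = i).card := by
    intro n
    induction n with
    | zero => simp
    | succ n ih =>
      show Nat.add _ _ = _
      rw [ih, Finset.range_add_one, Finset.filter_insert]
      cases hb : Nat.beq (O.root k n) i
      · have : ¬ O.root k n = i := fun e => by rw [e] at hb; simp at hb
        rw [if_neg this]; rfl
      · rw [if_pos (Nat.eq_of_beq_eq_true hb), Finset.card_insert_of_notMem (by simp)]; rfl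
  rw [OData.orbLen, hcount, ← Nat.card_eq_finsetCard]
  have : ∀ q : ((Finset.range 1408).filter fun q => O.root k q = i),
      ∃ o : MulAction.orbit ((O.sgrp k).map Cfsg.Agent.HN.rep) (pi (el (unp (O.rep i).h))),
        o.1.1 = q.1 := by
    rintro ⟨q, hq⟩
    rw [Finset.mem_filter, Finset.mem_range] at hq
    have hqn : q < big.n := lt_of_lt_of_eq hq.1 big_n.symm
    obtain ⟨s, hs, e⟩ := orbit_reach hO hk (fld ((O.node k).forest.get q) 3) ⟨q, hqn⟩ rfl
    rw [hq.2] at e
    refine ⟨⟨⟨q, hqn⟩, ⟨⟨Cfsg.Agent.HN.rep s, Subgroup.mem_map_of_mem _ hs⟩, ?_⟩⟩, rfl⟩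
    show Cfsg.Agent.HN.rep s (pi _) = _
    rw [← pi_mul]
    exact e
  choose o ho using this
  exact Nat.card_le_card_of_injective o fun a b e => Subtype.ext (by rw [← ho a, ← ho b, e])

/-- The stabiliser of the point of a representative is the checked subgroup. -/
theorem stab_le_tau {i : ℕ} (hi : i < O.reps.length) {s : H0} (hs : s ∈ O.sgrp (O.rep i).k)
    (hfix : pi (s * el (unp (O.rep i).h)) = pi (el (unp (O.rep i).h))) : s ∈ grp (O.rep i).tau := by
  obtain ⟨hk, -, hlet, -, -⟩ := rep_spec hO hi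
  have h := hO.rep i hi
  simp only [OData.okRep, Bool.and_eq_true, Nat.blt_eq, Nat.beq_eq] at h
  obtain ⟨⟨⟨⟨⟨⟨-, hlen⟩, htau⟩, hsize⟩, -⟩, -⟩, hall⟩ := h
  set k := (O.rep i).k
  set p := pi (el (unp (O.rep i).h)) with hp
  set F := O.sgrp k ⊓ (MulAction.stabilizer (Equiv.Perm (Fin big.n)) p).comap Cfsg.Agent.HN.rep
  have hle : grp (O.rep i).tau ≤ F := by
    rw [grp, Subgroup.closure_le]
    rintro a ⟨g, hg, rfl⟩
    obtain ⟨n, hn, rfl⟩ := List.mem_iff_getElem.1 hg
    have := allLo_spec hall hn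
    simp only [Bool.and_eq_true, Nat.beq_eq, List.getD_eq_getElem _ _ hn] at this
    obtain ⟨⟨⟨⟨⟨hl, hf⟩, hc⟩, he⟩, -⟩, -⟩ := this
    refine ⟨?_, Fin.ext ?_⟩
    · rw [SetLike.mem_coe, el_eq he]; exact prodW_mem (hO.chain k hk) hc
    · show ((Cfsg.Agent.HN.rep (el _) p : Fin big.n) : ℕ) = _
      rw [rep_el_apply hl, hp, pi_el hlet]
      exact hf
  have hcardF : Nat.card F * (O.rep i).len ≤ Nat.card (O.sgrp k) := by
    refine le_trans (Nat.mul_le_mul_left _ (hlen ▸ orbLen_le hO hk hi rfl)) ?_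
    have hinj : Function.Injective Cfsg.Agent.HN.rep := rep_injective
    have hF : Nat.card F =
        Nat.card (MulAction.stabilizer ((O.sgrp k).map Cfsg.Agent.HN.rep) p) := by
      refine Nat.card_congr (Equiv.ofBijective (fun a => ⟨⟨_, Subgroup.mem_map_of_mem _ a.2.1⟩, a.2.2⟩)
        ⟨fun a b e => Subtype.ext (hinj (congrArg (fun x => x.1.1) e)), ?_⟩)
      rintro ⟨⟨_, ⟨a, ha, rfl⟩⟩, hst⟩
      exact ⟨⟨a, ha, hst⟩, rfl⟩
    have hS : Nat.card (O.sgrp k) = Nat.card ((O.sgrp k).map Cfsg.Agent.HN.rep) :=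
      Nat.card_congr (Subgroup.equivMapOfInjective _ _ hinj).toEquiv
    rw [hF, hS, mul_comm, ← Nat.card_prod]
    exact le_of_eq (Nat.card_congr (MulAction.orbitProdStabilizerEquivGroup _ p))
  have hcard : Nat.card (O.sgrp k) = schainSize (O.node k).chain := (schain_exact (hO.chain k hk)).2
  have htcard : Nat.card (grp (O.rep i).tau) = schainSize (O.rep i).tau := (schain_exact htau).2
  have hpos : 0 < (O.rep i).len := by
    by_contra h0
    have h0 : (O.rep i).len = 0 := by omega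
    rw [h0, ← hcard] at hsize
    exact absurd hsize (Nat.ne_of_lt (by simp [Nat.card_pos]))
  have heq : grp (O.rep i).tau = F := by
    refine Subgroup.eq_of_le_of_card_ge hle (Nat.le_of_mul_le_mul_right ?_ hpos)
    rw [htcard]
    exact hcardF.trans_eq (hcard.trans hsize.symm)
  rw [heq]
  exact ⟨hs, by show Cfsg.Agent.HN.rep s p = p; rw [hp, ← pi_mul]; exact hfix⟩

theorem tau_out {i : ℕ} (hi : i < O.reps.length) {s : H0} (hs : s ∈ grp (O.rep i).tau) :
    el (unp (O.rep i).hp) * (el (unp (O.rep i).h))⁻¹ * s * el (unp (O.rep i).h) *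
      (el (unp (O.rep i).hp))⁻¹ ∈ O.sgrp (O.rep i).j := by
  have hj := (rep_spec hO hi).2.1
  have h := hO.rep i hi
  simp only [OData.okRep, Bool.and_eq_true, Nat.blt_eq, Nat.beq_eq] at h
  have hall := h.2
  set c := el (unp (O.rep i).hp) * (el (unp (O.rep i).h))⁻¹ with hc
  have hsub : grp (O.rep i).tau ≤ (O.sgrp (O.rep i).j).comap (MulAut.conj c).toMonoidHom := by
    rw [grp, Subgroup.closure_le]
    rintro a ⟨g, hg, rfl⟩
    obtain ⟨n, hn, rfl⟩ := List.mem_iff_getElem.1 hg
    have := allLo_spec hall hn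
    simp only [Bool.and_eq_true, Nat.beq_eq, List.getD_eq_getElem _ _ hn] at this
    obtain ⟨⟨-, hcd⟩, he⟩ := this
    have e := el_eq he
    simp only [el_append, el_winv] at e
    show c * el _ * c⁻¹ ∈ O.sgrp _
    have : c * el (unp (topGens (O.rep i).tau)[n]) * c⁻¹ =
        el (prodW (O.node (O.rep i).j).chain ((O.rep i).tout.getD n 0)) := by
      rw [← e, hc]; group
    rw [this]
    exact prodW_mem (hO.chain _ hj) hcd
  have := hsub hs
  change c * s * c⁻¹ ∈ O.sgrp _ at this
  convert this using 1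
  rw [hc]; group

omit hO

/-- The representative of the orbit of `a` at node `k`. -/
def OData.idx (O : OData) (k : ℕ) (a : H0) : ℕ := O.root k (pi a).1

/-- The map on cosets. -/
def OOK.step (hO : OOK O) (p : O.Pt) : O.Pt :=
  have hi := (point_spec hO p.1.2 (pi_lt p.2.out⁻¹)).1
  O.pt (O.rep (O.idx p.1 p.2.out⁻¹)).j (rep_spec hO hi).2.1
    (el (unp (O.rep (O.idx p.1 p.2.out⁻¹)).hp) *
      Classical.choose (Classical.choose_spec (decomp hO p.1.2 p.2.out⁻¹)).2)

/-- **The map at `s * h i * κ`.** -/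
theorem OOK.step_pt (hO : OOK O) {i : ℕ} (hi : i < O.reps.length) {s b : H0}
    (hs : s ∈ O.sgrp (O.rep i).k) (hb : b ∈ stab0) :
    hO.step (O.pt (O.rep i).k (rep_spec hO hi).1 (s * el (unp (O.rep i).h) * b)) =
      O.pt (O.rep i).j (rep_spec hO hi).2.1 (el (unp (O.rep i).hp) * b) := by
  obtain ⟨hk, hj, -, -, hroot⟩ := rep_spec hO hi
  set a := s * el (unp (O.rep i).h) * b with ha
  set p := O.pt (O.rep i).k hk a with hp
  have hout : (p.2.out⁻¹ : H0) * a⁻¹ ∈ O.sgrp (O.rep i).k := by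
    refine OData.pt_mem hk ?_
    have : O.pt (O.rep i).k hk p.2.out⁻¹ = p := by
      show (⟨_, _⟩ : O.Pt) = _
      rw [inv_inv]
      exact congrArg (Sigma.mk _) (QuotientGroup.out_eq' p.2)
    rw [this]
  set a' := p.2.out⁻¹ with ha'
  have e : a' = (a' * a⁻¹ * s) * el (unp (O.rep i).h) * b := by rw [ha]; group
  have hs' : a' * a⁻¹ * s ∈ O.sgrp (O.rep i).k := mul_mem hout hs
  have hidx : O.idx (O.rep i).k a' = i := by
    rw [OData.idx, e, mul_assoc, root_invariant hO hk hs']
    have : pi (el (unp (O.rep i).h) * b) = pi (el (unp (O.rep i).h)) := by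
      rw [pi_mul, mem_stab0.1 hb, ← pi_mul, mul_one]
    rw [this, hroot]
  have hd := Classical.choose_spec (decomp hO hk a')
  have hd2 := Classical.choose_spec hd.2
  set s₁ := Classical.choose (decomp hO hk a')
  set b₁ := Classical.choose hd.2
  show O.pt (O.rep (O.idx (O.rep i).k a')).j _ (el (unp (O.rep (O.idx (O.rep i).k a')).hp) * b₁) = _
  have hw : a' = s₁ * el (unp (O.rep i).h) * b₁ := by
    have := hd2.2
    change a' = s₁ * el (unp (O.rep (O.idx (O.rep i).k a')).h) * b₁ at this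
    rwa [hidx] at this
  simp only [hidx]
  refine OData.pt_eq hj ?_
  have htau : s₁⁻¹ * (a' * a⁻¹ * s) ∈ grp (O.rep i).tau := by
    refine stab_le_tau hO hi (mul_mem (inv_mem hd.1) hs') ?_
    have h1 : s₁⁻¹ * (a' * a⁻¹ * s) * el (unp (O.rep i).h) =
        el (unp (O.rep i).h) * (b₁ * b⁻¹) := by
      have e1 : (a' * a⁻¹ * s) * el (unp (O.rep i).h) = a' * b⁻¹ := by rw [ha]; group
      rw [mul_assoc, e1, hw]; group
    rw [h1, pi_mul, mem_stab0.1 (mul_mem hd2.1 (inv_mem hb)), ← pi_mul, mul_one]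
  have := tau_out hO hi htau
  convert this using 1
  have e1 : (a' * a⁻¹ * s) * el (unp (O.rep i).h) = a' * b⁻¹ := by rw [ha]; group
  calc el (unp (O.rep i).hp) * b₁ * (el (unp (O.rep i).hp) * b)⁻¹
      = el (unp (O.rep i).hp) * (el (unp (O.rep i).h))⁻¹ * s₁⁻¹ *
          ((s₁ * el (unp (O.rep i).h) * b₁) * b⁻¹) * (el (unp (O.rep i).hp))⁻¹ := by group
    _ = el (unp (O.rep i).hp) * (el (unp (O.rep i).h))⁻¹ * s₁⁻¹ *
          ((a' * a⁻¹ * s) * el (unp (O.rep i).h)) * (el (unp (O.rep i).hp))⁻¹ := by rw [← hw, e1]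
    _ = _ := by group

/-- The map commutes with the stabiliser of `0`. -/
theorem OOK.step_comm (hO : OOK O) {k : ℕ} (hk : k < O.nodes.length) (a : H0) {b : H0} (hb : b ∈ stab0) :
    ∃ j, ∃ hj : j < O.nodes.length, ∃ c, hO.step (O.pt k hk a) = O.pt j hj c ∧
      hO.step (O.pt k hk (a * b)) = O.pt j hj (c * b) := by
  obtain ⟨s, hs, b₀, hb₀, e⟩ := decomp hO hk a
  obtain ⟨hi, hik, -⟩ := point_spec hO hk (pi_lt a)
  obtain ⟨i, hidef⟩ : ∃ i, i = O.root k (pi a).1 := ⟨_, rfl⟩
  rw [← hidef] at e hi hik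
  subst hik
  refine ⟨_, (rep_spec hO hi).2.1, el (unp (O.rep i).hp) * b₀, ?_, ?_⟩
  · rw [e]; exact hO.step_pt hi hs hb₀
  · rw [e, mul_assoc _ b₀ b, mul_assoc _ b₀ b]
    exact hO.step_pt hi hs (mul_mem hb₀ hb)

end

end Cfsg.Agent.HN
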