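import Cfsg.Agent.Lib.HN.Word
import Mathlib.GroupTheory.GroupAction.Quotient
import Mathlib.Algebra.Group.Action.End
import Mathlib.SetTheory.Cardinal.Finite
import Mathlib.Data.Fintype.Perm
import Mathlib.Order.Interval.Finset.Nat
import Mathlib.Tactic.Group

/-!
Words acting on points through packed permutations, and lower bounds from chains of orbits.
-/

set_option autoImplicit false

namespace Cfsg.Agent.HN

/-- Entry `q` of a permutation packed with 16 bits to a point. -/
def ap (v q : ℕ) : ℕ := Nat.land (Nat.shiftRight v (Nat.mul 16 q)) 65535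

/-- Packed permutations for numbered letters, on `n` points. -/
structure PModel where
  n : ℕ
  k : ℕ
  iv : ℕ → ℕ
  perm : ℕ → ℕ

variable (M : PModel)

/-- A word on points, first letter first. -/
noncomputable def PModel.actW (w : List ℕ) (q : ℕ) : ℕ :=
  List.rec (fun q => q) (fun l _ r q => r (ap (M.perm l) q)) w q

/-- The letters below `k` are permutations of the points, inverse in pairs. -/
noncomputable def PModel.ok : Bool :=
  allLo (fun l => Nat.blt (M.iv l) M.k && allLo (fun q => Nat.blt (ap (M.perm l) q) M.n &&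
    Nat.beq (ap (M.perm (M.iv l)) (ap (M.perm l) q)) q &&
    Nat.beq (ap (M.perm l) (ap (M.perm (M.iv l)) q)) q) M.n) M.k

/-- The letters of a word are below `k`. -/
def letOK (k : ℕ) (w : List ℕ) : Bool := w.all fun l => Nat.blt l k

theorem letOK_spec {k : ℕ} {w : List ℕ} (h : letOK k w = true) : ∀ l ∈ w, l < k := by
  simpa [letOK, Nat.blt_eq] using h

/-- The words fix every point. -/
noncomputable def PModel.fixAll (ws : List (List ℕ)) : Bool :=
  ws.all fun w => letOK M.k w && allLo (fun q => Nat.beq (M.actW w q) q) M.n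

/-- Two words act equally on the listed points. -/
noncomputable def PModel.eqOn (base : List ℕ) (u v : List ℕ) : Bool :=
  letOK M.k u && letOK M.k v && base.all fun q => Nat.blt q M.n && Nat.beq (M.actW u q) (M.actW v q)

/-- The permutation of a letter: its inverse sends a point to the image under the letter. -/
noncomputable def PModel.sig (h : M.ok = true) (l : ℕ) : Equiv.Perm (Fin M.n) :=
  if hl : l < M.k then
    have key : ∀ q < M.n, ap (M.perm l) q < M.n ∧ ap (M.perm (M.iv l)) (ap (M.perm l) q) = q ∧
        ap (M.perm l) (ap (M.perm (M.iv l)) q) = q := fun q hq => by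
      have := allLo_spec h hl
      simp only [Bool.and_eq_true, Nat.blt_eq] at this
      have := allLo_spec this.2 hq
      simp only [Bool.and_eq_true, Nat.blt_eq, Nat.beq_eq] at this
      exact ⟨this.1.1, this.1.2, this.2⟩
    have keyi : ∀ q < M.n, ap (M.perm (M.iv l)) q < M.n := fun q hq => by
      have := allLo_spec h hl
      simp only [Bool.and_eq_true, Nat.blt_eq] at this
      have := allLo_spec h this.1
      simp only [Bool.and_eq_true, Nat.blt_eq] at this
      have := allLo_spec this.2 hq
      simp only [Bool.and_eq_true, Nat.blt_eq] at this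
      exact this.1.1
    { toFun := fun q => ⟨ap (M.perm (M.iv l)) q.1, keyi q.1 q.2⟩
      invFun := fun q => ⟨ap (M.perm l) q.1, (key q.1 q.2).1⟩
      left_inv := fun q => Fin.ext (key q.1 q.2).2.2
      right_inv := fun q => Fin.ext (key q.1 q.2).2.1 }
  else 1

variable {M}

theorem sig_inv_apply (h : M.ok = true) {l : ℕ} (hl : l < M.k) (q : Fin M.n) :
    (((M.sig h l)⁻¹ q : Fin M.n) : ℕ) = ap (M.perm l) q.1 := by
  rw [PModel.sig, dif_pos hl]; rfl

theorem wv_sig_inv_apply (h : M.ok = true) : ∀ (w : List ℕ), (∀ l ∈ w, l < M.k) → ∀ q : Fin M.n,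
    (((wv (M.sig h) w)⁻¹ q : Fin M.n) : ℕ) = M.actW w q.1 := by
  intro w
  induction w with
  | nil => intro _ q; simp [wv, PModel.actW]
  | cons l w ih =>
    intro hw q
    rw [wv_cons, mul_inv_rev, Equiv.Perm.mul_apply,
      ih (fun m hm => hw m (List.mem_cons_of_mem _ hm)), sig_inv_apply h (hw l List.mem_cons_self)]
    rfl

theorem wv_sig_eq_one (h : M.ok = true) {ws : List (List ℕ)} (hf : M.fixAll ws = true) {w : List ℕ}
    (hw : w ∈ ws) : wv (M.sig h) w = 1 := by
  simp only [PModel.fixAll, List.all_eq_true, Bool.and_eq_true] at hf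
  obtain ⟨h1, h2⟩ := hf w hw
  apply inv_injective
  refine Equiv.ext fun q => Fin.ext ?_
  rw [wv_sig_inv_apply h w (letOK_spec h1), inv_one, Equiv.Perm.one_apply]
  exact Nat.eq_of_beq_eq_true (allLo_spec h2 q.2)

theorem sig_inv (h : M.ok = true) {l : ℕ} (hl : l < M.k) : M.sig h (M.iv l) = (M.sig h l)⁻¹ := by
  have hiv : M.iv l < M.k := by
    have := allLo_spec h hl
    simp only [Bool.and_eq_true, Nat.blt_eq] at this
    exact this.1
  apply inv_injective
  rw [inv_inv]
  refine Equiv.ext fun q => Fin.ext ?_
  rw [sig_inv_apply h hiv, PModel.sig, dif_pos hl]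
  rfl

/-! ### Chains of orbits -/

/-- A level: a point, words fixing the earlier points, and a tree of images of the point. -/
structure Level where
  pt : ℕ
  gens : List (List ℕ)
  tree : Trie
  len : ℕ

/-- The image reached at tree entry `i`: entry `i` stores the point, its parent and the generator. -/
noncomputable def Level.okEntry (M : PModel) (L : Level) (i : ℕ) : Bool :=
  let v := L.tree.get i
  bif Nat.beq i 0 then Nat.beq (fld v 0) L.pt
  else Nat.blt (fld v 1) i && Nat.blt (fld v 2) L.gens.length &&
    Nat.beq (M.actW (L.gens.getD (fld v 2) []) (fld (L.tree.get (fld v 1)) 0)) (fld v 0)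

/-- The set of points in the tree, as a bit set. -/
noncomputable def Level.bits (L : Level) : ℕ :=
  Nat.rec 0 (fun i r => Nat.lor r (Nat.shiftLeft 1 (fld (L.tree.get i) 0))) L.len

/-- The number of ones among the lowest `n` bits. -/
noncomputable def popc (v n : ℕ) : ℕ :=
  Nat.rec (fun _ => 0) (fun _ r v => Nat.add (Nat.land v 1) (r (Nat.shiftRight v 1))) n v

/-- The checks on a chain below the points `prev`. -/
noncomputable def chainOK (M : PModel) : List ℕ → List Level → Bool :=
  fun prev Ls => List.rec (fun _ => true)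
    (fun L _ r prev =>
      Nat.blt L.pt M.n && !(Nat.beq L.len 0) &&
      (L.gens.all fun w => letOK M.k w && prev.all fun q => Nat.beq (M.actW w q) q) &&
      allLo (fun i => L.okEntry M i) L.len && Nat.beq (popc L.bits M.n) L.len &&
      r (L.pt :: prev)) Ls prev

/-- The product of the orbit lengths. -/
def chainSize : List Level → ℕ
  | [] => 1
  | L :: Ls => L.len * chainSize Ls

theorem shiftLeft_one_testBit {p i : ℕ} : (Nat.shiftLeft 1 p).testBit i = decide (p = i) := by
  show (1 <<< p).testBit i = _
  rw [Nat.one_shiftLeft, Nat.testBit_two_pow]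

theorem bits_spec (L : Level) : ∀ n i, (Nat.rec (motive := fun _ => ℕ) 0
    (fun i r => Nat.lor r (Nat.shiftLeft 1 (fld (L.tree.get i) 0))) n).testBit i = true →
    ∃ j < n, fld (L.tree.get j) 0 = i := by
  intro n
  induction n with
  | zero => intro i h; simp at h
  | succ n ih =>
    intro i h
    change (Nat.lor _ _).testBit i = true at h
    rw [show ∀ a b : ℕ, Nat.lor a b = a ||| b from fun _ _ => rfl, Nat.testBit_or, Bool.or_eq_true,
      shiftLeft_one_testBit, decide_eq_true_eq] at h
    rcases h with h | h
    · obtain ⟨j, hj, e⟩ := ih i h; exact ⟨j, hj.trans n.lt_succ_self, e⟩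
    · exact ⟨n, n.lt_succ_self, h⟩

theorem popc_le (n : ℕ) : ∀ v, popc v n ≤ ((Finset.range n).filter fun i => v.testBit i = true).card := by
  induction n with
  | zero => intro v; simp [popc]
  | succ n ih =>
    intro v
    change Nat.land v 1 + popc (Nat.shiftRight v 1) n ≤ _
    have h1 := ih (v >>> 1)
    rw [show Finset.range (n + 1) = insert 0 (Finset.Ico (0 + 1) (n + 1)) by
      ext i; simp; omega, Finset.filter_insert]
    have e : ((Finset.range n).filter fun i => (v >>> 1).testBit i = true).card =
        ((Finset.Ico (0 + 1) (n + 1)).filter fun i => v.testBit i = true).card := by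
      refine Finset.card_nbij' (fun i => i + 1) (fun i => i - 1) ?_ ?_ ?_ ?_
      · intro i hi
        simp only [Finset.coe_filter, Finset.mem_range, Set.mem_ofPred_eq, Nat.testBit_shiftRight] at hi
        simp [Finset.mem_Ico, Nat.add_comm i 1, hi.2]; omega
      · intro i hi
        simp only [Finset.coe_filter, Finset.mem_Ico, Set.mem_ofPred_eq] at hi
        simp only [Finset.coe_filter, Finset.mem_range, Set.mem_ofPred_eq, Nat.testBit_shiftRight]
        exact ⟨by omega, by rw [show 1 + (i - 1) = i by omega]; exact hi.2⟩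
      · intro i _; simp
      · intro i hi
        simp only [Finset.coe_filter, Finset.mem_Ico, Set.mem_ofPred_eq] at hi
        show i - 1 + 1 = i
        omega
    have h2 : Nat.land v 1 = if v.testBit 0 = true then 1 else 0 := by
      show v &&& 1 = _
      rw [Nat.and_one_is_mod, Nat.testBit_zero]
      rcases Nat.mod_two_eq_zero_or_one v with h | h <;> simp [h]
    rw [h2]
    split
    · rw [Finset.card_insert_of_notMem (by simp)]
      rw [← e]; exact Nat.add_comm _ _ ▸ Nat.add_le_add_right h1 1
    · rw [← e]; simpa using h1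

theorem fix_of_check {h : M.ok = true} {w : List ℕ} (hw : letOK M.k w = true) {q : Fin M.n}
    (hq : M.actW w q.1 = q.1) : wv (M.sig h) w q = q := by
  have : (wv (M.sig h) w)⁻¹ q = q := Fin.ext (by rw [wv_sig_inv_apply h w (letOK_spec hw)]; exact hq)
  rw [Equiv.Perm.inv_eq_iff_eq] at this
  exact this.symm

/-- The permutations fixing the points of a chain. -/
def fixPts (M : PModel) (Ls : List Level) : Subgroup (Equiv.Perm (Fin M.n)) where
  carrier := {g | ∀ q : Fin M.n, q.1 ∈ Ls.map Level.pt → g q = q}
  one_mem' := fun _ _ => rfl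
  mul_mem' := fun {a b} ha hb q hq => by rw [Equiv.Perm.mul_apply, hb q hq, ha q hq]
  inv_mem' := fun {a} ha q hq => by
    rw [Equiv.Perm.inv_eq_iff_eq]; exact (ha q hq).symm

/-- A checked chain bounds the order of a subgroup from below. -/
theorem chain_le' (h : M.ok = true) : ∀ (Ls : List Level) (prev : List ℕ), chainOK M prev Ls = true →
    ∀ (K : Subgroup (Equiv.Perm (Fin M.n))),
      (∀ w : List ℕ, (∀ l ∈ w, l < M.k) → (∀ q ∈ prev, M.actW w q = q) → wv (M.sig h) w ∈ K) →
        chainSize Ls * Nat.card (K ⊓ fixPts M Ls : Subgroup _) ≤ Nat.card K := by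
  intro Ls
  induction Ls with
  | nil =>
    intro _ _ K _
    rw [chainSize, one_mul]
    exact Nat.card_le_card_of_injective _ (Subgroup.inclusion_injective inf_le_left)
  | cons L Ls ih =>
    intro prev hc K hK
    change (_ && chainOK M (L.pt :: prev) Ls) = true at hc
    simp only [Bool.and_eq_true, Nat.blt_eq, Bool.not_eq_true', Nat.beq_eq, List.all_eq_true] at hc
    obtain ⟨⟨⟨⟨⟨hpt, -⟩, hg⟩, htree⟩, hpop⟩, hrest⟩ := hc
    let p : Fin M.n := ⟨L.pt, hpt⟩
    have key : ∀ i, i < L.len → ∃ g ∈ K, (g⁻¹ p : Fin M.n).1 = fld (L.tree.get i) 0 := by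
      intro i
      induction i using Nat.strongRecOn with
      | _ i ihi =>
        intro hi
        have hh := allLo_spec htree hi
        unfold Level.okEntry at hh
        simp only at hh
        cases h0 : Nat.beq i 0 with
        | true =>
          rw [h0, cond_true, Nat.beq_eq] at hh
          exact ⟨1, one_mem _, by simp [p, hh]⟩
        | false =>
          rw [h0, cond_false] at hh
          simp only [Bool.and_eq_true, Nat.blt_eq, Nat.beq_eq] at hh
          obtain ⟨⟨hp, hgi⟩, hact⟩ := hh
          obtain ⟨g, hg', eg⟩ := ihi _ hp (hp.trans hi)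
          set w := L.gens.getD (fld (L.tree.get i) 2) [] with hw
          have hwm : w ∈ L.gens := by
            rw [hw, List.getD_eq_getElem?_getD, List.getElem?_eq_getElem hgi]; exact List.getElem_mem hgi
          obtain ⟨hl, hfix⟩ := hg w hwm
          refine ⟨g * wv (M.sig h) w, mul_mem hg' (hK w (letOK_spec hl) fun q hq => hfix q hq), ?_⟩
          rw [mul_inv_rev, Equiv.Perm.mul_apply, wv_sig_inv_apply h w (letOK_spec hl), eg, hact]
    have horb : L.len ≤ Nat.card (MulAction.orbit K p) := by
      classical
      have hle := (popc_le M.n L.bits).trans' hpop.ge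
      refine hle.trans ?_
      rw [← Nat.card_eq_finsetCard]
      have hsub : ∀ i : ((Finset.range M.n).filter fun i => L.bits.testBit i = true),
          ∃ o : MulAction.orbit K p, o.1.1 = i.1 := by
        rintro ⟨i, hi⟩
        rw [Finset.mem_filter] at hi
        obtain ⟨j, hj, e⟩ := bits_spec L L.len i hi.2
        obtain ⟨g, hg', eg⟩ := key j hj
        exact ⟨⟨g⁻¹ p, ⟨⟨g, hg'⟩⁻¹, rfl⟩⟩, eg.trans e⟩
      choose o ho using hsub
      refine Nat.card_le_card_of_injective o fun a b e => Subtype.ext ?_
      rw [← ho a, ← ho b, e]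
    let K' : Subgroup (Equiv.Perm (Fin M.n)) := K ⊓ MulAction.stabilizer (Equiv.Perm (Fin M.n)) p
    have hrec : chainSize Ls * Nat.card (K' ⊓ fixPts M Ls : Subgroup _) ≤ Nat.card K' := ih (L.pt :: prev) hrest K' fun w hw hq =>
      ⟨hK w hw fun q hq' => hq q (List.mem_cons_of_mem _ hq'),
        fix_of_check (List.all_eq_true.2 fun l hl => by simpa [Nat.blt_eq] using hw l hl)
          (hq L.pt List.mem_cons_self)⟩
    have hst : Nat.card K' = Nat.card (MulAction.stabilizer K p) := by
      refine Nat.card_congr
        { toFun := fun g => ⟨⟨g.1, g.2.1⟩, g.2.2⟩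
          invFun := fun g => ⟨g.1.1, g.1.2, g.2⟩
          left_inv := fun _ => rfl
          right_inv := fun _ => rfl }
    have hfix : (K ⊓ fixPts M (L :: Ls) : Subgroup _) = K' ⊓ fixPts M Ls := by
      ext g
      constructor
      · rintro ⟨h1, h2⟩
        exact ⟨⟨h1, h2 p (by simp [p])⟩, fun q hq => h2 q (by simp [hq])⟩
      · rintro ⟨⟨h1, h2⟩, h3⟩
        refine ⟨h1, fun q hq => ?_⟩
        rw [List.map_cons, List.mem_cons] at hq
        rcases hq with hq | hq
        · rw [show q = p from Fin.ext hq]; exact h2
        · exact h3 q hq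
    rw [hfix, chainSize]
    calc L.len * chainSize Ls * Nat.card (K' ⊓ fixPts M Ls : Subgroup _)
        ≤ Nat.card (MulAction.orbit K p) * Nat.card (MulAction.stabilizer K p) := by
          rw [mul_assoc]; exact Nat.mul_le_mul horb (hst ▸ hrec)
      _ = Nat.card K := by
          rw [← Nat.card_prod]
          exact Nat.card_congr (MulAction.orbitProdStabilizerEquivGroup K p)

/-- **A checked chain bounds the order of a subgroup from below.** -/
theorem chain_le (h : M.ok = true) (Ls : List Level) (prev : List ℕ) (hc : chainOK M prev Ls = true)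
    (K : Subgroup (Equiv.Perm (Fin M.n)))
    (hK : ∀ w : List ℕ, (∀ l ∈ w, l < M.k) → (∀ q ∈ prev, M.actW w q = q) → wv (M.sig h) w ∈ K) :
    chainSize Ls ≤ Nat.card K :=
  (Nat.le_mul_of_pos_right _ Nat.card_pos).trans (chain_le' h Ls prev hc K hK)

end Cfsg.Agent.HN
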