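import Cfsg.Agent.Lib.HN.TC

/-! relations of two elements -/

set_option autoImplicit false
set_option maxRecDepth 100000
set_option maxHeartbeats 4000000
set_option Elab.async false

namespace Cfsg.Agent.HN.SubRel

noncomputable section

/-- the tree -/
def nodes : Trie :=
  (.node (.node (.node (.node (.node (.node (.node (.leaf 0x0) (.leaf 0x3f)) (.node (.leaf 0x10001f) (.leaf 0))) (.node (.node (.leaf 0xf) (.leaf 0x4f)) (.node (.leaf 0x2f) (.leaf 0)))) (.node (.node (.node (.leaf 0x200007) (.leaf 0x47)) (.node (.leaf 0x100027) (.leaf 0))) (.node (.node (.leaf 0x17) (.leaf 0)) (.node (.leaf 0x100037) (.leaf 0))))) (.node (.node (.node (.node (.leaf 0x100003) (.leaf 0x43)) (.node (.leaf 0x100023) (.leaf 0))) (.node (.node (.leaf 0x100013) (.leaf 0)) (.node (.leaf 0x100033) (.leaf 0)))) (.node (.node (.node (.leaf 0xb) (.leaf 0x4b)) (.node (.leaf 0x20002b) (.leaf 0))) (.node (.node (.leaf 0x1b) (.leaf 0)) (.node (.leaf 0x3b) (.leaf 0)))))) (.node (.node (.node (.node (.node (.leaf 0x100001) (.leaf 0x100041)) (.node (.leaf 0x21) (.leaf 0))) (.node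 (.node (.leaf 0x11) (.leaf 0)) (.node (.leaf 0x0) (.leaf 0)))) (.node (.node (.node (.leaf 0x200009) (.leaf 0x49)) (.node (.leaf 0x200029) (.leaf 0))) (.node (.node (.leaf 0x200019) (.leaf 0)) (.node (.leaf 0x100039) (.leaf 0))))) (.node (.node (.node (.node (.leaf 0x5) (.leaf 0x100045)) (.node (.leaf 0x25) (.leaf 0))) (.node (.node (.leaf 0x15) (.leaf 0)) (.node (.leaf 0x100035) (.leaf 0)))) (.node (.node (.node (.leaf 0x10000d) (.leaf 0x4d)) (.node (.leaf 0x10002d) (.leaf 0))) (.node (.node (.leaf 0x1d) (.leaf 0)) (.node (.leaf 0x10003d) (.leaf 0))))))) (.node (.node (.node (.node (.node (.node (.leaf 0x100000) (.leaf 0x100040)) (.node (.leaf 0x100020) (.leaf 0))) (.node (.node (.leaf 0x100010) (.leaf 0x100018)) (.node (.leaf 0x100030) (.leaf 0)))) (.node (.node (.node (.leaf 0x200008) (.leaf 0x100048)) (.node (.leaf 0x28) (.leaf 0))) (.node (.node (.leaf 0x200018) (.leaf 0)) (.node (.leaf 0x38) (.leaf 0))))) (.node (.node (.node (.node (.leaf 0x100004) (.leaf 0x100029)) (.node (.leaf 0x100024) (.leaf 0))) (.node (.node (.leaf 0x100014) (.leaf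 0)) (.node (.leaf 0x34) (.leaf 0)))) (.node (.node (.node (.leaf 0x10000c) (.leaf 0x10004c)) (.node (.leaf 0x2c) (.leaf 0))) (.node (.node (.leaf 0x10001c) (.leaf 0)) (.node (.leaf 0x10003c) (.leaf 0)))))) (.node (.node (.node (.node (.node (.leaf 0x100002) (.leaf 0x20001f)) (.node (.leaf 0x100022) (.leaf 0))) (.node (.node (.leaf 0x100012) (.leaf 0)) (.node (.leaf 0x100032) (.leaf 0)))) (.node (.node (.node (.leaf 0x20000a) (.leaf 0x10004a)) (.node (.leaf 0x20002a) (.leaf 0))) (.node (.node (.leaf 0x20001a) (.leaf 0)) (.node (.leaf 0x10003a) (.leaf 0))))) (.node (.node (.node (.node (.leaf 0x200006) (.leaf 0x100042)) (.node (.leaf 0x100026) (.leaf 0))) (.node (.node (.leaf 0x100016) (.leaf 0)) (.node (.leaf 0x100036) (.leaf 0)))) (.node (.node (.node (.leaf 0x10000e) (.leaf 0x10004e)) (.node (.leaf 0x10002e) (.leaf 0))) (.node (.node (.leaf 0x2) (.leaf 0)) (.node (.leaf 0x10003e) (.leaf 0))))))))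

/-- the facts -/
def facts : Trie :=
  (.node (.node (.node (.node (.node (.node (.node (.leaf 0x1000000000200000) (.leaf 0x3f0003e0000200000)) (.node (.leaf 0x1f000020000100000) (.leaf 0xbd0008c0008a000400000500007000090000d000180001b0001d0001f00021000230002500027000290002b0002d0002f0003100033000be00016000010000000003000040001800050000510000200002))) (.node (.node (.leaf 0xf0000e0000200000) (.leaf 0x9e0000f0000000002000000000000000000000002e000070000000001)) (.node (.leaf 0x2f0002e0000200000) (.leaf 0)))) (.node (.node (.node (.leaf 0x8000070000300000) (.leaf 0x46000450000200000)) (.node (.leaf 0x27000260000200000) (.leaf 0x42000ca000000000200000000000000000000000200001d0000200001))) (.node (.node (.leaf 0x17000160000200000) (.leaf 0x4b0004a0000200000)) (.node (.leaf 0x37000360000200000) (.leaf 0))))) (.node (.node (.node (.node (.leaf 0x5000040000200000) (.leaf 0x7000090000b00067000690006b0006d0006f00071000730007500077000790007b0007d0007f0008100083000850008600013000010000000002000020004100003000420000100002)) (.node (.leaf 0x23000220000200000)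 (.leaf 0x8b000c60000000002000000000000000000000001f0001c0000200001))) (.node (.node (.leaf 0x13000120000200000) (.leaf 0x47000420000200000)) (.node (.leaf 0x33000320000200000) (.leaf 0)))) (.node (.node (.node (.leaf 0xf0001100013000150001600004000010000100000000000000a000060000b0000300002) (.leaf 0x960000a00000000020000000000000000000000030000050000000001)) (.node (.leaf 0x2b0002a0000300000) (.leaf 0))) (.node (.node (.leaf 0x1b0001a0000300000) (.leaf 0x4f0004e0000200000)) (.node (.leaf 0x3b0003a0000200000) (.leaf 0)))))) (.node (.node (.node (.node (.node (.leaf 0x3000020000200000) (.leaf 0x41000400000200000)) (.node (.leaf 0x21000200000200000) (.leaf 0x8d000c2000000000200000000000000000000000430001b0000100001))) (.node (.node (.leaf 0x11000100000200000) (.leaf 0xa2000110000000002000000000000000000000002d000080000000001)) (.node (.leaf 0x31000300000200000) (.leaf 0)))) (.node (.node (.node (.leaf 0xa000090000300000) (.leaf 0x10000300041000430004500047000490004b0004d0004f0005100053000550008f0006400062000600005e0005c00092000900000e000070000000005000020004500000000310000000002))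 (.node (.leaf 0x29000280000100000) (.leaf 0))) (.node (.node (.leaf 0x19000180000300000) (.leaf 0x4d0004c0000200000)) (.node (.leaf 0x39000380000100000) (.leaf 0))))) (.node (.node (.node (.node (.leaf 0x6000050000100000) (.leaf 0x44000430000100000)) (.node (.leaf 0x25000240000200000) (.leaf 0x41000ca000000000200000000000000000000000020001d0000100001))) (.node (.node (.leaf 0x15000140000200000) (.leaf 0x49000480000200000)) (.node (.leaf 0x35000340000100000) (.leaf 0)))) (.node (.node (.node (.leaf 0xd0000c0000200000) (.leaf 0x9a0000d0000000002000000000000000000000002f000060000000001)) (.node (.leaf 0x2d0002c0000100000) (.leaf 0))) (.node (.node (.leaf 0x1d0001c0000200000) (.leaf 0x8c0008a000400000500088000a9000ab000ad000af000b1000b3000b5000b7000b9000ba0000e000010000000000000030004f00044000500000200002)) (.node (.leaf 0x3d0003c0000200000) (.leaf 0))))))) (.node (.node (.node (.node (.node (.node (.leaf 0x2000010000200000) (.leaf 0x400003f0000100000)) (.node (.leaf 0x200001f0000200000) (.leaf 0xbc000c0000380003600034000bf000020000400001000000000000051000440001b0000000002)))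 (.node (.node (.leaf 0x100000f0000100000) (.leaf 0x5f000a00000000002000000000000000000000002d000070000300001)) (.node (.leaf 0x300002f0000100000) (.leaf 0)))) (.node (.node (.node (.leaf 0x9000080000300000) (.leaf 0x5a00058000560008f000900000400001000000000000000000450002c000460000200002)) (.node (.leaf 0x28000270000200000) (.leaf 0x3f000cf0000000002000000000000000000000001d000020000100001))) (.node (.node (.leaf 0x18000170000100000) (.leaf 0x4c0004b0000100000)) (.node (.leaf 0x38000370000200000) (.leaf 0))))) (.node (.node (.node (.node (.leaf 0x10000300005000070000800004000010000000000000000000400000000050000200002) (.leaf 0x430001f0000300000)) (.node (.leaf 0x24000230000200000) (.leaf 0xc80003d0000000002000000000000000000000001f0001d0000000001))) (.node (.node (.leaf 0x14000130000200000) (.leaf 0x48000470000100000)) (.node (.leaf 0x34000330000200000) (.leaf 0)))) (.node (.node (.node (.leaf 0xc0000b0000100000) (.leaf 0x63000980000000002000000000000000000000002f000050000100001)) (.node (.leaf 0x2c0002b0000300000) (.leaf 0))) (.node (.node (.leaf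 0x1c0001b0000100000) (.leaf 0x500004f0000100000)) (.node (.leaf 0x3c0003b0000100000) (.leaf 0)))))) (.node (.node (.node (.node (.node (.leaf 0x4000030000200000) (.leaf 0x42000410000200000)) (.node (.leaf 0x22000210000100000) (.leaf 0xc40003b000000000200000000000000000000000430001c0000000001))) (.node (.node (.leaf 0x12000110000100000) (.leaf 0x5d000a40000000002000000000000000000000002c000080000100001)) (.node (.leaf 0x32000000000100000) (.leaf 0)))) (.node (.node (.node (.leaf 0xb0000a0000300000) (.leaf 0x650009500000000020000000000000000000000030000000000300001)) (.node (.leaf 0x2a000290000300000) (.leaf 0))) (.node (.node (.leaf 0x1a000190000300000) (.leaf 0x4e0004d0000100000)) (.node (.leaf 0x3a000390000200000) (.leaf 0))))) (.node (.node (.node (.node (.leaf 0x7000060000300000) (.leaf 0x45000290000200000)) (.node (.leaf 0x26000250000100000) (.leaf 0xcc0003f000000000200000000000000000000000020001e0000000001))) (.node (.node (.leaf 0x16000150000100000) (.leaf 0x4a000490000100000)) (.node (.leaf 0x36000350000200000) (.leaf 0)))) (.node (.node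 (.node (.leaf 0xe0000d0000200000) (.leaf 0x610009c0000000002000000000000000000000002e000060000300001)) (.node (.leaf 0x2e0002d0000200000) (.leaf 0))) (.node (.node (.leaf 0x1e0001d0000100000) (.leaf 0x51000180000200000)) (.node (.leaf 0x3e0003d0000200000) (.leaf 0))))))))

/-- the final cosets -/
def fin : Trie :=
  (.node (.leaf 0x0) (.leaf 0))

/-- the inverse of a letter -/
def ivl (l : ℕ) : ℕ := ([0, 2, 1] : List ℕ).getD l l

/-- the certificate -/
def cert : TC.Cert :=
  ⟨3, ivl, nodes, facts, [[1, 1, 1, 1, 1, 1], [0, 2, 0, 1, 0, 2, 0, 1, 0, 2, 0, 1], [0, 1, 1, 0, 1, 1, 1, 0, 1, 1, 0, 1, 1, 1, 0, 1, 1, 0, 1, 1, 1], [0, 1, 0, 1, 0, 1, 0, 1, 0, 1, 0, 1, 0, 1, 0, 1], [0, 1, 0, 1, 1, 1, 0, 1, 0, 1, 1, 1, 0, 1, 0, 1, 1, 1, 0, 1, 0, 1, 1, 1], [0, 0]], [], fin, 0⟩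

/-- the number of facts -/
def numFacts : ℕ := 106

/-- the path of target 0 -/
def path0 : List ℕ := [0, 2, 4, 6, 8, 10]

/-- the path of target 1 -/
def path1 : List ℕ := [11, 12, 14, 16, 18, 20, 22, 24, 13, 10]

/-- the path of target 2 -/
def path2 : List ℕ := [11, 12, 25, 26, 28, 30, 32, 34, 36, 38, 40, 42, 44, 46, 48, 50, 52, 54, 56, 58, 60, 211, 3, 1]

/-- the path of target 3 -/
def path3 : List ℕ := [0, 2, 210, 208, 68, 70, 72, 74, 76, 78, 80, 82, 84, 86, 88, 90, 167, 17, 15, 13, 10]

end

end Cfsg.Agent.HN.SubRel
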