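import Cfsg.Agent.Lib.HN.Word
import Mathlib.SetTheory.Cardinal.Finite
import Mathlib.GroupTheory.Index
import Mathlib.Tactic.Group
import Mathlib.Data.List.GetD

/-!
Certificates of coset enumerations, in any group whose elements satisfy the relators.

Nodes have representatives read from a tree; a fact says that `ρ a * w = s * ρ b` for some `s` in the
subgroup, where `w` is a letter or empty.  A fact is a tree edge, a path of earlier facts, or a relator
(or subgroup word) closed by two paths of earlier facts.
-/

set_option autoImplicit false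

namespace Cfsg.Agent.HN.TC

/-- A certificate: letters, inversion, tree, facts, relators, subgroup words and final cosets. -/
structure Cert where
  k : ℕ
  iv : ℕ → ℕ
  nodes : Trie
  facts : Trie
  rels : List (List ℕ)
  subs : List (List ℕ)
  fin : Trie
  nfin : ℕ

variable (C : Cert)

/-- The word of a fact's label. -/
def labW (e : ℕ) : List ℕ := Bool.rec [Nat.sub e 1] [] (Nat.beq e 0)

/-- The data of a step along a fact or against it: start, end and word. -/
noncomputable def refData (r : ℕ) : ℕ × ℕ × List ℕ :=
  let v := C.facts.get (Nat.shiftRight r 1)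
  Bool.rec (fld v 3, fld v 2, winv C.iv (labW (fld v 1))) (fld v 2, fld v 3, labW (fld v 1))
    (Nat.beq (Nat.land r 1) 0)

/-- Follow a path of references to earlier facts. -/
noncomputable def walk (n : ℕ) : List ℕ → ℕ → List ℕ → Option (ℕ × List ℕ) :=
  List.rec (fun cur W => some (cur, W))
    (fun r _ rest cur W =>
      let d := refData C r
      Bool.rec none (rest d.2.1 (W ++ d.2.2))
        (Nat.blt (Nat.shiftRight r 1) n && Nat.beq d.1 cur))

/-- The relator or subgroup word used by a closing fact. -/
def scanWord (v : ℕ) : List ℕ :=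
  let f := fld v 7
  let r := C.rels.getD (fld v 5) []
  let r' : List ℕ := bif Nat.beq (Nat.land f 1) 1 then winv C.iv r else r
  bif Nat.ble 2 f then C.subs.getD (fld v 5) [] else r'.drop (fld v 6) ++ r'.take (fld v 6)

/-- Check fact `n`. -/
noncomputable def okFact (n : ℕ) : Bool :=
  let v := C.facts.get n
  let a := fld v 2
  let b := fld v 3
  bif Nat.beq (fld v 0) 0 then
    Nat.blt a b && !(Nat.beq (fld v 1) 0) && Nat.beq (fld (C.nodes.get b) 0) a &&
      Nat.beq (fld (C.nodes.get b) 1) (Nat.sub (fld v 1) 1)
  else bif Nat.beq (fld v 0) 1 then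
    match walk C n (flds v (fld v 8) 10) a [] with
    | some (e, W) => Nat.beq e b && sameW C.iv W (labW (fld v 1))
    | none => false
  else
    match walk C n (flds v (fld v 8) 10) (fld v 4) [],
        walk C n (flds v (fld v 9) (Nat.add 10 (fld v 8))) (fld v 4) [] with
    | some (e₁, W₁), some (e₂, W₂) =>
      (Nat.blt (fld v 7) 2 || Nat.beq (fld v 4) 0) && Nat.beq e₁ a && Nat.beq e₂ b &&
        sameW C.iv (W₁ ++ labW (fld v 1) ++ winv C.iv W₂) (scanWord C v)
    | _, _ => false

/-- Check `len` facts from `base` on. -/
noncomputable def okRange (base len : ℕ) : Bool := allLo (fun i => okFact C (Nat.add base i)) len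

/-- Check the final cosets against the first `N` facts. -/
noncomputable def okFin (N : ℕ) : Bool :=
  !(Nat.beq C.nfin 0) && Nat.beq (fld (C.fin.get 0) 0) 0 && allLo (fun l => Nat.blt (C.iv l) C.k) C.k &&
    allLo (fun j => allLo (fun l =>
      let u := C.fin.get j
      let r := fld u (Nat.add 1 (Nat.mul 2 l))
      let q := fld u (Nat.add 2 (Nat.mul 2 l))
      let d := refData C r
      Nat.blt (Nat.shiftRight r 1) N && Nat.blt q C.nfin && eqW d.2.2 [l] &&
        Nat.beq d.1 (fld u 0) && Nat.beq d.2.1 (fld (C.fin.get q) 0)) C.k) C.nfin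

/-- Check that a path from the first node back to it reads the word `w`. -/
noncomputable def okTrace (N : ℕ) (w refs : List ℕ) : Bool :=
  match walk C N refs 0 [] with
  | some (e, W) => Nat.beq e 0 && sameW C.iv W w
  | none => false

section sound

variable {G : Type*} [Group G] (g : ℕ → G)

/-- The representative of a node. -/
noncomputable def rho : ℕ → G
  | b =>
    if h : fld (C.nodes.get b) 0 < b then rho (fld (C.nodes.get b) 0) * g (fld (C.nodes.get b) 1)
    else 1
  termination_by b => b

theorem rho_zero : rho C g 0 = 1 := by rw [rho, dif_neg (Nat.not_lt_zero _)]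

/-- What the certificate needs of the group. -/
structure Rules (S : Subgroup G) : Prop where
  inv : ∀ l, g (C.iv l) = (g l)⁻¹
  rel : ∀ r ∈ C.rels, wv g r = 1
  sub : ∀ s ∈ C.subs, wv g s ∈ S

/-- A step `a —W→ b` is good. -/
def Good (S : Subgroup G) (a : ℕ) (W : List ℕ) (b : ℕ) : Prop :=
  rho C g a * wv g W * (rho C g b)⁻¹ ∈ S

/-- Fact `n` is good. -/
def GoodFact (S : Subgroup G) (n : ℕ) : Prop :=
  Good C g S (fld (C.facts.get n) 2) (labW (fld (C.facts.get n) 1)) (fld (C.facts.get n) 3)

variable {C g} {S : Subgroup G}

theorem Good.trans {a b c : ℕ} {U V : List ℕ} (h₁ : Good C g S a U b) (h₂ : Good C g S b V c) :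
    Good C g S a (U ++ V) c := by
  unfold Good at *
  rw [wv_append]
  convert mul_mem h₁ h₂ using 1
  group

theorem good_nil (a : ℕ) : Good C g S a [] a := by simp [Good, wv_nil]

variable (R : Rules C g S)

include R

theorem Good.symm {a b : ℕ} {U : List ℕ} (h : Good C g S a U b) : Good C g S b (winv C.iv U) a := by
  unfold Good at *
  rw [wv_winv g R.inv]
  convert inv_mem h using 1
  group

theorem refData_good {r : ℕ} (h : GoodFact C g S (Nat.shiftRight r 1)) :
    Good C g S (refData C r).1 (refData C r).2.2 (refData C r).2.1 := by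
  unfold refData
  cases Nat.beq (Nat.land r 1) 0
  · exact Good.symm R h
  · exact h

theorem walk_good {n : ℕ} (hn : ∀ m < n, GoodFact C g S m) :
    ∀ (refs : List ℕ) (cur : ℕ) (W : List ℕ) (a e : ℕ) (W' : List ℕ), Good C g S a W cur →
      walk C n refs cur W = some (e, W') → Good C g S a W' e := by
  intro refs
  induction refs with
  | nil => intro cur W a e W' h he; simp [walk] at he; obtain ⟨rfl, rfl⟩ := he; exact h
  | cons r refs ih =>
    intro cur W a e W' h he
    change Bool.rec none (walk C n refs (refData C r).2.1 (W ++ (refData C r).2.2))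
      (Nat.blt (Nat.shiftRight r 1) n && Nat.beq (refData C r).1 cur) = some (e, W') at he
    cases hc : Nat.blt (Nat.shiftRight r 1) n && Nat.beq (refData C r).1 cur with
    | false => rw [hc] at he; exact absurd he (by simp)
    | true =>
      rw [hc] at he
      simp only [Bool.and_eq_true, Nat.blt_eq] at hc
      refine ih _ _ a e W' (h.trans ?_) he
      have := refData_good R (hn _ hc.1)
      rwa [Nat.eq_of_beq_eq_true hc.2] at this

theorem walk_good' {n : ℕ} (hn : ∀ m < n, GoodFact C g S m) {refs : List ℕ} {a e : ℕ} {W : List ℕ}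
    (he : walk C n refs a [] = some (e, W)) : Good C g S a W e :=
  walk_good R hn refs a [] a e W (good_nil a) he

theorem okFact_good {n : ℕ} (hn : ∀ m < n, GoodFact C g S m) (h : okFact C n = true) :
    GoodFact C g S n := by
  unfold okFact at h
  simp only at h
  set v := C.facts.get n with hv
  unfold GoodFact Good
  rw [← hv]
  cases h0 : Nat.beq (fld v 0) 0 with
  | true =>
    rw [h0, cond_true] at h
    simp only [Bool.and_eq_true, Nat.blt_eq, Bool.not_eq_true', Nat.beq_eq] at h
    obtain ⟨⟨⟨hab, hl⟩, hp⟩, hlet⟩ := h
    have hl' : ¬ fld v 1 = 0 := by simpa [← Nat.beq_eq] using hl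
    have : labW (fld v 1) = [fld v 1 - 1] := by
      have : Nat.beq (fld v 1) 0 = false := hl
      unfold labW; rw [this]; rfl
    rw [this, wv_singleton]
    conv => enter [2, 2]; rw [rho, dif_pos (hp.symm ▸ hab)]
    rw [hp, hlet]
    simp
  | false =>
    rw [h0, cond_false] at h
    cases h1 : Nat.beq (fld v 0) 1 with
    | true =>
      rw [h1, cond_true] at h
      revert h
      cases hw : walk C n (flds v (fld v 8) 10) (fld v 2) [] with
      | none => simp
      | some p =>
        obtain ⟨e, W⟩ := p
        simp only [Bool.and_eq_true, Nat.beq_eq]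
        rintro ⟨rfl, hs⟩
        have := walk_good' R hn hw
        unfold Good at this
        rwa [wv_of_sameW g R.inv hs] at this
    | false =>
      rw [h1, cond_false] at h
      revert h
      cases hw₁ : walk C n (flds v (fld v 8) 10) (fld v 4) [] with
      | none => simp
      | some p₁ =>
        cases hw₂ : walk C n (flds v (fld v 9) (Nat.add 10 (fld v 8))) (fld v 4) [] with
        | none => simp
        | some p₂ =>
          obtain ⟨e₁, W₁⟩ := p₁
          obtain ⟨e₂, W₂⟩ := p₂
          simp only [Bool.and_eq_true, Nat.beq_eq, Bool.or_eq_true, Nat.blt_eq]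
          rintro ⟨⟨⟨hz, rfl⟩, rfl⟩, hs⟩
          have A := walk_good' R hn hw₁
          have B := walk_good' R hn hw₂
          have hs := wv_of_sameW g R.inv hs
          rw [wv_append, wv_append, wv_winv g R.inv] at hs
          have hl : wv g (labW (fld v 1)) = (wv g W₁)⁻¹ * wv g (scanWord C v) * wv g W₂ := by
            rw [← hs]; group
          rw [hl]
          unfold Good at A B
          have hmem : rho C g (fld v 4) * wv g (scanWord C v) * (rho C g (fld v 4))⁻¹ ∈ S := by
            unfold scanWord
            simp only
            cases hf : Nat.ble 2 (fld v 7) with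
            | true =>
              have h0 : fld v 4 = 0 := by
                rcases hz with hz | hz
                · rw [Nat.ble_eq] at hf; omega
                · exact hz
              show rho C g (fld v 4) * wv g (C.subs.getD (fld v 5) []) * (rho C g (fld v 4))⁻¹ ∈ S
              rw [h0, rho_zero]
              simp only [one_mul, inv_one, mul_one]
              rcases lt_or_ge (fld v 5) C.subs.length with hlt | hge
              · rw [List.getD_eq_getElem _ _ hlt]; exact R.sub _ (List.getElem_mem hlt)
              · rw [List.getD_eq_default _ _ hge]; exact one_mem _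
            | false =>
              have hr : wv g (C.rels.getD (fld v 5) []) = 1 := by
                rcases lt_or_ge (fld v 5) C.rels.length with hlt | hge
                · rw [List.getD_eq_getElem _ _ hlt]; exact R.rel _ (List.getElem_mem hlt)
                · rw [List.getD_eq_default _ _ hge]; rfl
              cases Nat.beq (Nat.land (fld v 7) 1) 1 with
              | false =>
                show rho C g (fld v 4) * wv g (List.drop _ _ ++ List.take _ _) * _ ∈ S
                simp only [cond_false]
                rw [wv_drop_append_take g hr]; simp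
              | true =>
                show rho C g (fld v 4) * wv g (List.drop _ _ ++ List.take _ _) * _ ∈ S
                simp only [cond_true]
                rw [wv_drop_append_take g (by rw [wv_winv g R.inv, hr, inv_one])]; simp
          convert mul_mem (mul_mem (inv_mem A) hmem) B using 1
          group

/-- **All facts checked in order are good.** -/
theorem all_good {N : ℕ} (h : ∀ n < N, okFact C n = true) : ∀ n < N, GoodFact C g S n := by
  intro n
  induction n using Nat.strongRecOn with
  | _ n ih => intro hn; exact okFact_good R (fun m hm => ih m hm (by omega)) (h n hn)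

theorem trace_mem {N : ℕ} (h : ∀ n < N, GoodFact C g S n) {w refs : List ℕ}
    (ht : okTrace C N w refs = true) : wv g w ∈ S := by
  unfold okTrace at ht
  revert ht
  cases hw : walk C N refs 0 [] with
  | none => simp
  | some p =>
    obtain ⟨e, W⟩ := p
    simp only [Bool.and_eq_true, Nat.beq_eq]
    rintro ⟨rfl, hs⟩
    have := walk_good' R h hw
    rwa [Good, rho_zero, wv_of_sameW g R.inv hs, one_mul, inv_one, mul_one] at this

/-- **The final cosets cover the generated subgroup.** -/
theorem cover {N : ℕ} (h : ∀ n < N, GoodFact C g S n) (hf : okFin C N = true) :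
    ∀ x ∈ Subgroup.closure (g '' {l | l < C.k}),
      ∃ j < C.nfin, x * (rho C g (fld (C.fin.get j) 0))⁻¹ ∈ S := by
  simp only [okFin, Bool.and_eq_true, Bool.not_eq_true'] at hf
  obtain ⟨⟨⟨hne, h00⟩, hiv⟩, hall⟩ := hf
  have h00 := Nat.eq_of_beq_eq_true h00
  have hpos : 0 < C.nfin := Nat.pos_of_ne_zero fun e => by simp [e] at hne
  set K := Subgroup.closure (g '' {l | l < C.k})
  let U : Set G := {x | ∃ j < C.nfin, x * (rho C g (fld (C.fin.get j) 0))⁻¹ ∈ S}
  have hone : (1 : G) ∈ U := ⟨0, hpos, by rw [h00, rho_zero]; simp⟩
  have hstep : ∀ x ∈ U, ∀ l < C.k, x * g l ∈ U := by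
    rintro x ⟨j, hj, hx⟩ l hl
    have := allLo_spec (allLo_spec hall hj) hl
    simp only [Bool.and_eq_true, Nat.blt_eq, Nat.beq_eq] at this
    obtain ⟨⟨⟨⟨hm, hq⟩, hlab⟩, ha⟩, hb⟩ := this
    refine ⟨_, hq, ?_⟩
    have hg := refData_good R (h _ hm)
    rw [Good, ha, hb, eq_of_eqW hlab, wv_singleton] at hg
    convert mul_mem hx hg using 1
    group
  intro x hx
  induction hx using Subgroup.closure_induction_right with
  | one => exact hone
  | mul_right x _ y hy ih => obtain ⟨l, hl, rfl⟩ := hy; exact hstep x ih l hl
  | mul_inv_cancel x _ y hy ih =>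
    obtain ⟨l, hl, rfl⟩ := hy
    have := allLo_spec hiv hl
    rw [Nat.blt_eq] at this
    rw [← R.inv]
    exact hstep x ih _ this

/-- **The generated subgroup has at most `nfin * m` elements.** -/
theorem card_le {N : ℕ} (h : ∀ n < N, GoodFact C g S n) (hf : okFin C N = true) [Finite S] {m : ℕ}
    (hm : Nat.card S ≤ m) :
    Finite (Subgroup.closure (g '' {l | l < C.k})) ∧
      Nat.card (Subgroup.closure (g '' {l | l < C.k})) ≤ C.nfin * m := by
  classical
  have hc := cover R h hf
  choose j hj hs using hc
  let f : Subgroup.closure (g '' {l | l < C.k}) → Fin C.nfin × S := fun x =>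
    (⟨j x.1 x.2, hj x.1 x.2⟩, ⟨_, hs x.1 x.2⟩)
  have hf : Function.Injective f := by
    intro x y he
    obtain ⟨h1, h2⟩ := Prod.ext_iff.1 he
    have h1 : j x.1 x.2 = j y.1 y.2 := congrArg Fin.val h1
    have h2 : x.1 * (rho C g (fld (C.fin.get (j x.1 x.2)) 0))⁻¹ =
        y.1 * (rho C g (fld (C.fin.get (j y.1 y.2)) 0))⁻¹ := congrArg Subtype.val h2
    rw [h1] at h2
    exact Subtype.ext (mul_right_cancel h2)
  refine ⟨Finite.of_injective f hf, (Nat.card_le_card_of_injective f hf).trans ?_⟩
  rw [Nat.card_prod, Nat.card_fin]
  exact Nat.mul_le_mul_left _ hm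

end sound

end Cfsg.Agent.HN.TC
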