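import Cfsg.Agent.Lib.HN.Checks

/-! In every group with the rules the cosets cover everything, so the index is at most 1539000. -/

set_option autoImplicit false
set_option maxRecDepth 100000

namespace Cfsg.Agent.HN

noncomputable section

variable {X : XData} (hX : XOK X) {G : Type*} [Group G] {ψ : H0 →* G} {t : G} (R : GRules ψ t)

/-- The representative of node `k`. -/
abbrev XData.node (X : XData) (ψ : H0 →* G) (t : G) (k : ℕ) : G := nodeX X.D ψ t k

/-- The union of the double cosets. -/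
def XData.union (X : XData) (ψ : H0 →* G) (t : G) : Set G :=
  {g | ∃ k, k < X.O.nodes.length ∧ ∃ a b : H0, g = ψ a * X.node ψ t k * ψ b}

include hX R

theorem fixComm : FixComm ψ t := by
  intro a ha
  have ha' : a ∈ grp X.kchain := by rw [← stab0_eq hX, mem_stab0]; exact ha
  have hsub : grp X.kchain ≤ (Subgroup.centralizer {t}).comap ψ := by
    rw [grp, Subgroup.closure_le]
    obtain ⟨hg, e3, e130⟩ := kgens hX
    rintro b ⟨g, hgm, rfl⟩
    rw [SetLike.mem_coe, Subgroup.mem_comap, Subgroup.mem_centralizer_singleton_iff]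
    rw [hg] at hgm
    simp only [List.mem_cons, List.not_mem_nil, or_false] at hgm
    rcases hgm with rfl | rfl
    · rw [e3, el_x.2.2.1]
      exact R.commy.eq.symm
    · rw [e130, show el [1, 2, 0] = hx⁻¹ * hy * hx by simp [el, wv, g5, mul_assoc], map_mul, map_mul, map_inv]
      have h2 : Commute (t ^ 2) (ψ hy) := R.commy.pow_left 2
      have e := R.x_pow 1
      rw [pow_one, mul_one] at e
      calc (ψ hx)⁻¹ * ψ hy * ψ hx * t = (ψ hx)⁻¹ * (ψ hy * (ψ hx * t)) := by group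
        _ = (ψ hx)⁻¹ * (ψ hy * t ^ 2 * ψ hx) := by rw [e, ← mul_assoc (ψ hy)]
        _ = (ψ hx)⁻¹ * (t ^ 2 * ψ hx) * ((ψ hx)⁻¹ * ψ hy * ψ hx) := by rw [← h2.eq]; group
        _ = _ := by rw [← e]; group
  exact (Subgroup.mem_centralizer_singleton_iff.1 (hsub ha')).symm

theorem facts_hold : ∀ n < X.nfacts, Holds X.D ψ t n :=
  all_hold R (fixComm hX R) hX.stabs hX.facts

theorem stab_push {k : ℕ} (hk : k < X.O.nodes.length) {s : H0} (hs : s ∈ X.O.sgrp k) :
    ∃ a : H0, X.node ψ t k * ψ s = ψ a * X.node ψ t k := by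
  have hg := hX.gfacts k hk
  simp only [XData.okGFacts, Bool.and_eq_true, Nat.beq_eq] at hg
  obtain ⟨-, hall⟩ := hg
  induction hs using Subgroup.closure_induction with
  | mem s hs =>
    obtain ⟨g, hgm, rfl⟩ := hs
    obtain ⟨n, hn, rfl⟩ := List.mem_iff_getElem.1 hgm
    have h := allLo_spec hall hn
    simp only [Bool.and_eq_true, Nat.blt_eq, Nat.beq_eq] at h
    obtain ⟨⟨⟨⟨hf, he⟩, hfk⟩, hfj⟩, heq⟩ := h
    have hh := holds_stab (facts_hold hX R _ hf) he
    rw [hfk, hfj, el_eq heq, List.getD_eq_getElem _ _ hn] at hh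
    exact ⟨_, hh⟩
  | one => exact ⟨1, by simp⟩
  | mul s u _ _ hs hu =>
    obtain ⟨a, ea⟩ := hs
    obtain ⟨c, ec⟩ := hu
    exact ⟨a * c, by rw [map_mul, ← mul_assoc, ea, mul_assoc, ec, map_mul, mul_assoc]⟩
  | inv s _ hs =>
    obtain ⟨a, ea⟩ := hs
    exact ⟨a⁻¹, by rw [map_inv, map_inv, eq_inv_mul_iff_mul_eq, ← mul_assoc, ← ea, mul_inv_cancel_right]⟩

/-- **The step at representative `i` in the group.** -/
theorem edge {i : ℕ} (hi : i < X.O.reps.length) :
    ∃ a : H0, X.node ψ t (X.O.rep i).k * ψ (el (unp (X.O.rep i).h)) * t =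
      ψ a * X.node ψ t (X.O.rep i).j * ψ (el (unp (X.O.rep i).hp)) := by
  have h := hX.moves i hi
  unfold XData.okMove at h
  simp only at h
  split at h
  · rename_i e f sig m k0 _
    simp only [Bool.and_eq_true, Nat.beq_eq] at h
    obtain ⟨rfl, h⟩ := h
    split at h
    · rename_i st hst
      simp only [Bool.and_eq_true, Nat.beq_eq] at h
      obtain ⟨hj, he⟩ := h
      have hi' := mv_spec R (fixComm hX R) hX.stabs (facts_hold hX R)
        (start_inv R (fixComm hX R) hX.stabs (X.O.rep i).k (X.O.rep i).h) hst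
      have hW : st.W = [11] := by
        simp only [DData.mv] at hst
        cases hc : (Nat.blt f X.nfacts && Nat.blt 0 (X.D.fact f).e && Nat.beq (X.D.fact f).k (X.O.rep i).k &&
            (sig.all fun r => Nat.blt (Nat.shiftRight r 1) X.nfacts &&
              Nat.beq (X.D.fact (Nat.shiftRight r 1)).e 0 &&
              Nat.beq (X.D.fact (Nat.shiftRight r 1)).k (X.O.rep i).k) &&
            Nat.beq (Nat.mod (Nat.mul 1 (Nat.pow 2 m)) 5) (Nat.mod (X.D.fact f).e 5) &&
            letOK 5 (unp k0) && Nat.beq (lact (unp k0) 0) 0 &&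
            eqH (unp (X.O.rep i).h) (sig.flatMap X.D.sW ++ unp (X.D.fact f).h ++ xpow m ++ unp k0))
        · rw [hc, cond_false] at hst; exact absurd hst (by simp)
        · rw [hc, cond_true, Option.some.injEq] at hst; rw [← hst]; rfl
      unfold DData.Inv at hi'
      rw [hW, el_eq he, hj, wv_singleton, atomVal, if_neg (by norm_num), show 11 - 10 = 1 from rfl,
        pow_one] at hi'
      exact ⟨_, hi'⟩
    · exact absurd h Bool.false_ne_true
  · exact absurd h Bool.false_ne_true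

theorem union_t {g : G} (hg : g ∈ X.union ψ t) : g * t ∈ X.union ψ t := by
  obtain ⟨k, hk, a, b, rfl⟩ := hg
  obtain ⟨s, hs, c, hc, e⟩ := decomp hX.omega hk b
  obtain ⟨hi, hik, -⟩ := point_spec hX.omega hk (pi_lt b)
  obtain ⟨i, hidef⟩ : ∃ i, i = X.O.root k (pi b).1 := ⟨_, rfl⟩
  rw [← hidef] at e hi hik
  subst hik
  obtain ⟨a', ea⟩ := edge hX R hi
  obtain ⟨a'', ea'⟩ := stab_push hX R hk hs
  have hcomm : ψ c * t = t * ψ c := (fixComm hX R c (mem_stab0.1 hc)).eq.symm
  refine ⟨_, (rep_spec hX.omega hi).2.1, a * a'' * a', el (unp (X.O.rep i).hp) * c, ?_⟩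
  rw [e, map_mul, map_mul, map_mul, map_mul, map_mul]
  calc ψ a * X.node ψ t (X.O.rep i).k * (ψ s * ψ (el (unp (X.O.rep i).h)) * ψ c) * t
      = ψ a * (X.node ψ t (X.O.rep i).k * ψ s) * ψ (el (unp (X.O.rep i).h)) * (ψ c * t) := by group
    _ = ψ a * ψ a'' * (X.node ψ t (X.O.rep i).k * ψ (el (unp (X.O.rep i).h)) * t) * ψ c := by
        rw [ea', hcomm]; group
    _ = _ := by rw [ea]; group

variable (htop : Subgroup.closure (Set.range ψ ∪ {t}) = ⊤)

include htop

theorem union_univ (g : G) : g ∈ X.union ψ t := by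
  have h1 : (1 : G) ∈ X.union ψ t := ⟨0, hX.node0.1, 1, 1, by simp [XData.node, nodeX_zero]⟩
  have hpsi : ∀ g ∈ X.union ψ t, ∀ c : H0, g * ψ c ∈ X.union ψ t := by
    rintro _ ⟨k, hk, a, b, rfl⟩ c
    exact ⟨k, hk, a, b * c, by rw [map_mul, mul_assoc]⟩
  have ht4 : ∀ n : ℕ, ∀ g ∈ X.union ψ t, g * t ^ n ∈ X.union ψ t := by
    intro n
    induction n with
    | zero => intro g hg; simpa using hg
    | succ n ih => intro g hg; rw [pow_succ, ← mul_assoc]; exact union_t hX R (ih g hg)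
  have hg : g ∈ Subgroup.closure (Set.range ψ ∪ {t}) := htop ▸ Subgroup.mem_top g
  induction hg using Subgroup.closure_induction_right with
  | one => exact h1
  | mul_right x _ y hy ih =>
    rcases hy with ⟨c, rfl⟩ | hy
    · exact hpsi x ih c
    · rw [Set.mem_singleton_iff.1 hy]; exact union_t hX R ih
  | mul_inv_cancel x _ y hy ih =>
    rcases hy with ⟨c, rfl⟩ | hy
    · rw [← map_inv]; exact hpsi x ih _
    · rw [Set.mem_singleton_iff.1 hy, ← R.pow4]; exact ht4 4 x ih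

theorem cover_surj : Function.Surjective fun p : X.O.Pt =>
    (QuotientGroup.mk (ψ p.2.out * (X.node ψ t p.1)⁻¹) : G ⧸ ψ.range) := by
  intro c
  obtain ⟨g, rfl⟩ := QuotientGroup.mk_surjective c
  obtain ⟨k, hk, a, b, e⟩ := union_univ hX R htop g⁻¹
  refine ⟨X.O.pt k hk b, ?_⟩
  obtain ⟨⟨s, hs⟩, hout⟩ := QuotientGroup.mk_out_eq_mul (X.O.sgrp k) b⁻¹
  obtain ⟨a', ea⟩ := stab_push hX R hk hs
  show QuotientGroup.mk (ψ ((QuotientGroup.mk b⁻¹ : H0 ⧸ X.O.sgrp k).out) * (X.node ψ t k)⁻¹) = _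
  rw [hout, QuotientGroup.eq]
  have hg : g = (ψ a * X.node ψ t k * ψ b)⁻¹ := by rw [← e, inv_inv]
  have h' : ψ s * (X.node ψ t k)⁻¹ = (X.node ψ t k)⁻¹ * ψ a' := by
    rw [eq_inv_mul_iff_mul_eq, ← mul_assoc, ea, mul_inv_cancel_right]
  refine ⟨a'⁻¹ * a⁻¹, ?_⟩
  rw [hg, map_mul, map_mul, map_inv, map_inv, map_inv, mul_assoc (ψ b)⁻¹ (ψ s), h']
  group

/-- **The index is finite and at most 1539000.** -/
theorem index_le : ψ.range.index ≠ 0 ∧ ψ.range.index ≤ 1539000 := by
  have hsurj := cover_surj hX R htop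
  have : Finite (G ⧸ ψ.range) := Finite.of_surjective _ hsurj
  refine ⟨Nat.card_pos.ne', ?_⟩
  rw [← hX.sizes, ← OData.card_pt hX.omega]
  exact Nat.card_le_card_of_surjective _ hsurj

end

end Cfsg.Agent.HN
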