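import Mathlib.Algebra.BigOperators.Group.List.Basic
import Mathlib.Algebra.Group.Subgroup.Basic

/-!
Words in numbered letters with a formal inversion of letters, packed tables, and free reduction.
-/

set_option autoImplicit false

namespace Cfsg.Agent.HN

/-- A binary trie of numbers, the index read from its lowest bit. -/
inductive Trie where
  | leaf (v : ℕ)
  | node (l r : Trie)

/-- Entry `i` of a trie. -/
noncomputable def Trie.get (t : Trie) : ℕ → ℕ :=
  Trie.rec (fun v _ => v)
    (fun _ _ l r i => Bool.rec (r (Nat.shiftRight i 1)) (l (Nat.shiftRight i 1)) (Nat.beq (Nat.land i 1) 0)) t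

/-- `f i` for all `i < n`. -/
noncomputable def allLo (f : ℕ → Bool) (n : ℕ) : Bool :=
  Nat.rec true (fun i r => Bool.rec false r (f i)) n

theorem allLo_spec {f : ℕ → Bool} :
    ∀ {n : ℕ}, allLo f n = true → ∀ {i : ℕ}, i < n → f i = true := by
  intro n
  induction n with
  | zero => intro _ i hi; omega
  | succ n ih =>
    intro h i hi
    change Bool.rec false (allLo f n) (f n) = true at h
    cases hf : f n with
    | false => rw [hf] at h; exact Bool.noConfusion h
    | true =>
      rw [hf] at h
      rcases Nat.lt_succ_iff_lt_or_eq.1 hi with h1 | h1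
      · exact ih h h1
      · exact h1 ▸ hf

/-- Field `i` of a packed record, fields having 20 bits. -/
def fld (v i : ℕ) : ℕ := Nat.land (Nat.shiftRight v (Nat.mul 20 i)) 1048575

/-- The `n` fields from field `i` on. -/
noncomputable def flds (v : ℕ) (n : ℕ) : ℕ → List ℕ :=
  Nat.rec (fun _ => []) (fun _ r i => fld v i :: r (i + 1)) n

section eval

variable {G : Type*} [Group G] (g : ℕ → G)

/-- The value of a word. -/
def wv : List ℕ → G
  | [] => 1
  | l :: w => g l * wv w

theorem wv_nil : wv g [] = 1 := rfl

theorem wv_cons (l : ℕ) (w : List ℕ) : wv g (l :: w) = g l * wv g w := rfl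

theorem wv_append (u v : List ℕ) : wv g (u ++ v) = wv g u * wv g v := by
  induction u with
  | nil => simp [wv]
  | cons l u ih => simp [wv, ih, mul_assoc]

theorem wv_singleton (l : ℕ) : wv g [l] = g l := by simp [wv]

theorem wv_mem {S : Subgroup G} {w : List ℕ} (h : ∀ l ∈ w, g l ∈ S) : wv g w ∈ S := by
  induction w with
  | nil => exact one_mem _
  | cons l w ih =>
    exact mul_mem (h l List.mem_cons_self) (ih fun m hm => h m (List.mem_cons_of_mem _ hm))

theorem map_wv {M : Type*} [Group M] (φ : G →* M) (w : List ℕ) :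
    φ (wv g w) = wv (fun l => φ (g l)) w := by
  induction w with
  | nil => exact map_one φ
  | cons l w ih => rw [wv, wv, map_mul, ih]

theorem wv_congr {g' : ℕ → G} {w : List ℕ} (h : ∀ l ∈ w, g l = g' l) : wv g w = wv g' w := by
  induction w with
  | nil => rfl
  | cons l w ih => rw [wv, wv, h l List.mem_cons_self, ih fun m hm => h m (List.mem_cons_of_mem _ hm)]

variable (iv : ℕ → ℕ)

/-- The inverse word. -/
def winv (w : List ℕ) : List ℕ := (w.map iv).reverse

variable {iv}

theorem wv_winv (h : ∀ l, g (iv l) = (g l)⁻¹) (w : List ℕ) : wv g (winv iv w) = (wv g w)⁻¹ := by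
  induction w with
  | nil => simp [winv, wv]
  | cons l w ih =>
    have : winv iv (l :: w) = winv iv w ++ [iv l] := by simp [winv]
    rw [this, wv_append, ih, wv_singleton, h, wv_cons, mul_inv_rev]

variable (iv)

/-- Put a letter in front, cancelling it against an inverse. -/
def push (l : ℕ) : List ℕ → List ℕ
  | [] => [l]
  | m :: w => if Nat.beq (iv l) m then w else l :: m :: w

/-- Free reduction. -/
def fred : List ℕ → List ℕ
  | [] => []
  | l :: w => push iv l (fred w)

variable {iv}

theorem wv_push (h : ∀ l, g (iv l) = (g l)⁻¹) (l : ℕ) (w : List ℕ) :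
    wv g (push iv l w) = g l * wv g w := by
  cases w with
  | nil => rfl
  | cons m w =>
    rw [push]
    split
    · rename_i hb
      rw [wv_cons, ← Nat.eq_of_beq_eq_true hb, h, mul_inv_cancel_left]
    · rfl

theorem wv_fred (h : ∀ l, g (iv l) = (g l)⁻¹) (w : List ℕ) : wv g (fred iv w) = wv g w := by
  induction w with
  | nil => rfl
  | cons l w ih => rw [fred, wv_push g h, ih, wv_cons]

/-- Equality of lists of numbers, as a Boolean. -/
def eqW : List ℕ → List ℕ → Bool
  | [], [] => true
  | a :: u, b :: v => Nat.beq a b && eqW u v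
  | _, _ => false

theorem eq_of_eqW : ∀ {u v : List ℕ}, eqW u v = true → u = v
  | [], [], _ => rfl
  | [], _ :: _, h => by simp [eqW] at h
  | _ :: _, [], h => by simp [eqW] at h
  | a :: u, b :: v, h => by
    simp only [eqW, Bool.and_eq_true] at h
    rw [Nat.eq_of_beq_eq_true h.1, eq_of_eqW h.2]

/-- Two words with equal free reductions. -/
def sameW (iv : ℕ → ℕ) (u v : List ℕ) : Bool := eqW (fred iv u) (fred iv v)

theorem wv_of_sameW (h : ∀ l, g (iv l) = (g l)⁻¹) {u v : List ℕ} (he : sameW iv u v = true) :
    wv g u = wv g v := by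
  rw [← wv_fred g h u, eq_of_eqW he, wv_fred g h v]

theorem wv_drop_append_take {r : List ℕ} (h : wv g r = 1) (k : ℕ) :
    wv g (r.drop k ++ r.take k) = 1 := by
  rw [← List.take_append_drop k r, wv_append] at h
  rw [wv_append]
  exact mul_eq_one_comm.1 h

end eval

end Cfsg.Agent.HN
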